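import Cfsg.Agent.Lib.SmallGroups.Order168

/-!
All simple groups of order 168 are isomorphic: each is carried to one group of permutations of eight points.
-/

set_option autoImplicit false

namespace CfsgLib.Sporadic.SimpleIso168

open Subgroup CfsgLib.SmallGroups.SimpleTools CfsgLib.SmallGroups.Order168

/-- A cycle of length seven. -/
def X₀ : Equiv.Perm (Fin 8) :=
  ⟨![1, 2, 3, 4, 5, 6, 0, 7], ![6, 0, 1, 2, 3, 4, 5, 7], by decide, by decide⟩

/-- An element of order three normalising the cycle. -/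
def Y₀ : Equiv.Perm (Fin 8) :=
  ⟨![0, 2, 4, 6, 1, 3, 5, 7], ![0, 4, 1, 5, 2, 6, 3, 7], by decide, by decide⟩

/-- An involution inverting it. -/
def T₀ : Equiv.Perm (Fin 8) :=
  ⟨![7, 3, 5, 1, 6, 2, 4, 0], ![7, 3, 5, 1, 6, 2, 4, 0], by decide, by decide⟩

/-- The model. -/
def K : Subgroup (Equiv.Perm (Fin 8)) := Subgroup.closure {X₀, Y₀, T₀}

theorem invol_cases (T : Equiv.Perm (Fin 8)) (hT : ∀ i, T (T i) = i) (hf : ∀ i, T i ≠ i) (h7 : T 7 = 0)
    (hY : ∀ i, T (Y₀ i) = Y₀⁻¹ (T i)) : ∃ k < 3, T = Y₀ ^ k * T₀ * (Y₀ ^ k)⁻¹ := by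
  have h0 : T 0 = 7 := by rw [← h7, hT]
  have e2 : T 2 = Y₀⁻¹ (T 1) := by rw [← hY]; rfl
  have e4 : T 4 = Y₀⁻¹ (T 2) := by rw [← hY]; rfl
  have hdec : ∀ a b c : Fin 8, b = Y₀⁻¹ a → c = Y₀⁻¹ b → a ≠ 1 → b ≠ 2 → c ≠ 4 →
      (a = 2 → b = 1) → (a = 4 → c = 1) →
      (b = 4 → c = 2) → a ≠ 0 → a ≠ 7 → ∃ k < 3, ∀ i : Fin 8,
        (Y₀ ^ k * T₀ * (Y₀ ^ k)⁻¹) i = ![(7 : Fin 8), a, b, if a = 3 then 1 else if b = 3 then 2 else 4,
          c, if a = 5 then 1 else if b = 5 then 2 else 4, if a = 6 then 1 else if b = 6 then 2 else 4, 0] i := by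
    decide +kernel
  have hi2 : T 1 = 2 → T 2 = 1 := fun e => by rw [← e, hT]
  have hi4 : T 1 = 4 → T 4 = 1 := fun e => by rw [← e, hT]
  have hi24 : T 2 = 4 → T 4 = 2 := fun e => by rw [← e, hT]
  have ha0 : T 1 ≠ 0 := fun e => absurd (T.injective (e.trans h7.symm)) (by decide)
  have ha7 : T 1 ≠ 7 := fun e => absurd (T.injective (e.trans h0.symm)) (by decide)
  obtain ⟨k, hk, h⟩ := hdec _ _ _ e2 e4 (hf 1) (hf 2) (hf 4) hi2 hi4 hi24 ha0 ha7
  refine ⟨k, hk, Equiv.ext fun i => ?_⟩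
  rw [h]
  have cov : ∀ j : Fin 8, j = 3 ∨ j = 5 ∨ j = 6 → T j = if T 1 = j then 1 else if T 2 = j then 2 else 4 := by
    intro j hj
    have hmem : T 1 = j ∨ T 2 = j ∨ T 4 = j := by
      have : ∀ a j : Fin 8, a ≠ 0 → a ≠ 7 → a ≠ 1 → Y₀⁻¹ a ≠ 2 → Y₀⁻¹ (Y₀⁻¹ a) ≠ 4 → (a = 2 → Y₀⁻¹ a = 1) → (a = 4 → Y₀⁻¹ (Y₀⁻¹ a) = 1) →
          (j = 3 ∨ j = 5 ∨ j = 6) → a = j ∨ Y₀⁻¹ a = j ∨ Y₀⁻¹ (Y₀⁻¹ a) = j := by decide +kernel
      rcases this (T 1) j ha0 ha7 (hf 1) (e2 ▸ hf 2) (e2 ▸ e4 ▸ hf 4) (fun e => e2 ▸ hi2 e) (fun e => e2 ▸ e4 ▸ hi4 e) hj with e | e | e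
      · exact Or.inl e
      · exact Or.inr (Or.inl (e2.trans e))
      · exact Or.inr (Or.inr ((e4.trans (by rw [e2])).trans e))
    by_cases h1 : T 1 = j
    · rw [if_pos h1, ← h1, hT]
    rw [if_neg h1]
    by_cases h2 : T 2 = j
    · rw [if_pos h2, ← h2, hT]
    rw [if_neg h2, ← (hmem.resolve_left h1).resolve_left h2, hT]
  fin_cases i
  · exact h0
  · rfl
  · rfl
  · exact cov 3 (Or.inl rfl)
  · rfl
  · exact cov 5 (Or.inr (Or.inl rfl))
  · exact cov 6 (Or.inr (Or.inr rfl))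
  · exact h7

variable {G : Type*} [Group G] [Finite G] [IsSimpleGroup G]

theorem exists_model (h : Nat.card G = 168) : Nonempty (G ≃* K) := by
  classical
  haveI : Fact (Nat.Prime 7) := ⟨by norm_num⟩
  haveI : Fact (Nat.Prime 3) := ⟨Nat.prime_three⟩
  haveI : Fact (Nat.Prime 2) := ⟨Nat.prime_two⟩
  obtain ⟨P⟩ : Nonempty (Sylow 7 G) := inferInstance
  obtain ⟨⟨x, hxP⟩, hx⟩ := exists_prime_orderOf_dvd_card' (G := (P : Subgroup G)) 7
    (dvd_of_eq (card_seven h P).symm)
  rw [← Subgroup.orderOf_coe] at hx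
  change orderOf x = 7 at hx
  have hx7 : x ^ 7 = 1 := by rw [← hx, pow_orderOf_eq_one]
  have hxmod : ∀ n : ℕ, x ^ n = x ^ (n % 7) := fun n => by rw [← hx, pow_mod_orderOf]
  have hxP' : zpowers x = P :=
    Subgroup.eq_of_le_of_card_ge (by rw [zpowers_le]; exact hxP) (by rw [card_seven h P, Nat.card_zpowers, hx])
  -- an element of order three in the normaliser
  obtain ⟨⟨y₀, hy₀N⟩, hy₀⟩ := exists_prime_orderOf_dvd_card'
    (G := normalizer ((P : Subgroup G) : Set G)) 3 (by rw [card_normalizer_seven h P]; norm_num)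
  rw [← Subgroup.orderOf_coe] at hy₀
  change orderOf y₀ = 3 at hy₀
  have hpow : ∀ y : G, orderOf y = 3 → y ∈ normalizer ((P : Subgroup G) : Set G) →
      ∃ k < 7, y * x * y⁻¹ = x ^ k ∧ (k = 2 ∨ k = 4) := by
    intro y hy hyN
    have hmem : y * x * y⁻¹ ∈ zpowers x := hxP' ▸ (mem_normalizer_iff.1 hyN x).1 hxP
    rw [← mem_powers_iff_mem_zpowers, mem_powers_iff_mem_range_orderOf, hx] at hmem
    obtain ⟨k, hk, e⟩ := Finset.mem_image.1 hmem
    rw [Finset.mem_range] at hk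
    refine ⟨k, hk, e.symm, ?_⟩
    have h1 : ∀ n : ℕ, y ^ n * x * (y ^ n)⁻¹ = x ^ (k ^ n) := by
      intro n
      induction n with
      | zero => simp
      | succ n ih =>
        rw [pow_succ', mul_inv_rev, show y * y ^ n * x * ((y ^ n)⁻¹ * y⁻¹) = y * (y ^ n * x * (y ^ n)⁻¹) * y⁻¹ by
          simp only [mul_assoc], ih, ← conj_pow, ← e, ← pow_mul, pow_succ']
    have h3 := h1 3
    rw [← hy, pow_orderOf_eq_one, one_mul, inv_one, mul_one, hy] at h3
    conv_lhs at h3 => rw [← pow_one x]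
    rw [pow_eq_pow_iff_modEq, hx] at h3
    have hk1 : k ≠ 1 := by
      rintro rfl
      rw [pow_one] at e
      have hyC : y ∈ centralizer ({x} : Set G) :=
        mem_centralizer_singleton_iff.2 (mul_inv_eq_iff_eq_mul.1 e.symm)
      have := Subgroup.orderOf_dvd_natCard _ hyC
      rw [hy, card_centralizer_seven h hx] at this
      norm_num at this
    have key : ∀ m < 7, m ≠ 1 → 1 ≡ m ^ 3 [MOD 7] → m = 2 ∨ m = 4 := by
      unfold Nat.ModEq; decide
    exact key k hk hk1 h3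
  obtain ⟨y, hy, hyN, hyx⟩ : ∃ y : G, orderOf y = 3 ∧ y ∈ normalizer ((P : Subgroup G) : Set G) ∧
      y * x * y⁻¹ = x ^ 2 := by
    obtain ⟨k, -, e, rfl | rfl⟩ := hpow y₀ hy₀ hy₀N
    · exact ⟨y₀, hy₀, hy₀N, e⟩
    · refine ⟨y₀ * y₀, ?_, mul_mem hy₀N hy₀N, ?_⟩
      · rw [← pow_two, orderOf_pow' _ (by norm_num), hy₀]; rfl
      · rw [mul_inv_rev, show y₀ * y₀ * x * (y₀⁻¹ * y₀⁻¹) = y₀ * (y₀ * x * y₀⁻¹) * y₀⁻¹ by simp only [mul_assoc],
          e, ← conj_pow, e, ← pow_mul, pow_eq_pow_iff_modEq, hx]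
        decide
  have hstab : ∀ (g : G) (R : Sylow 7 G), g • R = R ↔ g ∈ normalizer ((R : Subgroup G) : Set G) :=
    fun g R => Sylow.smul_eq_iff_mem_normalizer
  have hxR : ∀ R : Sylow 7 G, x • R = R → R = P := by
    intro R hR
    rw [hstab] at hR
    have h2 := IsPGroup.inf_normalizer_sylow (IsPGroup.of_card (n := 1) (by rw [Nat.card_zpowers, hx, pow_one]) :
      IsPGroup 7 ↥(zpowers x)) R
    have hxin : x ∈ zpowers x ⊓ normalizer (R : Set G) := ⟨mem_zpowers x, hR⟩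
    rw [h2] at hxin
    refine Sylow.ext (Subgroup.eq_of_le_of_card_ge ?_ ?_).symm
    · rw [← hxP', zpowers_le]; exact hxin.2
    · rw [card_seven h R, card_seven h P]
  obtain ⟨Q₀, hQ₀⟩ : ∃ Q : Sylow 7 G, Q ≠ P := by
    by_contra! hall
    have : Subsingleton (Sylow 7 G) := ⟨fun a b => (hall a).trans (hall b).symm⟩
    have h8 := card_sylow_seven (G := G) h
    have := Finite.card_le_one_iff_subsingleton.2 this
    omega
  have hxPP : x • P = P := (hstab x P).2 (Subgroup.le_normalizer hxP)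
  have hyPP : y • P = P := (hstab y P).2 hyN
  have inj_orbit : ∀ R : Sylow 7 G, R ≠ P → ∀ i < 7, ∀ j < 7, x ^ i • R = x ^ j • R → i = j := by
    intro R hR i hi j hj e
    rw [← inv_smul_eq_iff, smul_smul] at e
    by_contra hne
    have hgen : x ∈ zpowers ((x ^ j)⁻¹ * x ^ i) := by
      have hm : (x ^ j)⁻¹ * x ^ i ∈ zpowers x := mul_mem (inv_mem (pow_mem (mem_zpowers x) j)) (pow_mem (mem_zpowers x) i)
      have hne1 : (x ^ j)⁻¹ * x ^ i ≠ 1 := fun e1 => hne (pow_injOn_Iio_orderOf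
        (show i ∈ Set.Iio (orderOf x) by rw [hx]; exact hi) (show j ∈ Set.Iio (orderOf x) by rw [hx]; exact hj)
        (inv_mul_eq_one.1 e1).symm)
      have hle : zpowers ((x ^ j)⁻¹ * x ^ i) ≤ zpowers x := zpowers_le.2 hm
      have := Subgroup.card_dvd_of_le hle
      rw [Nat.card_zpowers, Nat.card_zpowers, hx] at this
      rcases (Nat.dvd_prime (by norm_num : Nat.Prime 7)).1 this with h1 | h1
      · exact absurd (orderOf_eq_one_iff.1 h1) hne1
      · rw [Subgroup.eq_of_le_of_card_ge hle (by rw [Nat.card_zpowers, Nat.card_zpowers, hx, h1])]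
        exact mem_zpowers x
    have hfix : zpowers ((x ^ j)⁻¹ * x ^ i) ≤ MulAction.stabilizer G R := zpowers_le.2 e
    exact hR (hxR R (hfix hgen))
  have card8 : Nat.card (Sylow 7 G) = 8 := card_sylow_seven h
  let f : Sylow 7 G → Fin 8 → Sylow 7 G := fun R i => if (i : ℕ) = 7 then P else x ^ (i : ℕ) • R
  have fbij : ∀ R : Sylow 7 G, R ≠ P → Function.Bijective (f R) := by
    intro R hR
    refine (Nat.bijective_iff_injective_and_card _).2 ⟨fun i j e => ?_, by rw [Nat.card_fin, card8]⟩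
    have hne : ∀ n : ℕ, x ^ n • R ≠ P := fun n e' => hR (by
      rw [eq_inv_smul_iff.2 e']
      exact (hstab _ P).2 (inv_mem (pow_mem (Subgroup.le_normalizer hxP) n)))
    simp only [f] at e
    split_ifs at e with h1 h2 h2
    · exact Fin.ext (h1.trans h2.symm)
    · exact absurd e.symm (hne _)
    · exact absurd e (hne _)
    · exact Fin.ext (inj_orbit R hR _ (by omega) _ (by omega) e)
  have hconj : ∀ n : ℕ, y * x ^ n = x ^ (2 * n) * y := by
    intro n
    rw [pow_mul, ← hyx, conj_pow]; group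
  obtain ⟨Q, hQ, hyQ⟩ : ∃ Q : Sylow 7 G, Q ≠ P ∧ y • Q = Q := by
    obtain ⟨j, hj⟩ := (fbij Q₀ hQ₀).2 (y • Q₀)
    simp only [f] at hj
    split_ifs at hj with h7
    · exact absurd ((eq_inv_smul_iff.2 hj.symm).trans (inv_smul_eq_iff.2 hyPP.symm)) hQ₀
    · refine ⟨x ^ (7 - (j : ℕ)) • Q₀, fun e => hQ₀ ?_, ?_⟩
      · rw [eq_inv_smul_iff.2 e]
        exact (hstab _ P).2 (inv_mem (pow_mem (Subgroup.le_normalizer hxP) _))
      · rw [smul_smul, hconj, mul_smul, ← hj, smul_smul, ← pow_add]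
        congr 1
        rw [pow_eq_pow_iff_modEq, hx]
        have := j.2
        generalize (j : ℕ) = m at *
        interval_cases m <;> first | decide | omega
  let e : Fin 8 ≃ Sylow 7 G := Equiv.ofBijective (f Q) (fbij Q hQ)
  let φ : G →* Equiv.Perm (Fin 8) := e.symm.permCongrHom.toMonoidHom.comp (MulAction.toPermHom G (Sylow 7 G))
  have φdef : ∀ g i, e (φ g i) = g • e i := fun g i => e.apply_symm_apply _
  have hφ : Function.Injective φ := by
    rw [← MonoidHom.ker_eq_bot_iff]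
    rcases (inferInstance : φ.ker.Normal).eq_bot_or_eq_top with hk | hk
    · exact hk
    · exfalso
      refine hQ (hxR Q ?_)
      have h1 : φ x = 1 := MonoidHom.mem_ker.1 (hk ▸ mem_top x)
      have h2 := φdef x 0
      rw [h1] at h2
      simpa [e, f] using h2.symm
  have hX : φ x = X₀ := Equiv.ext fun i => e.injective (by
    rw [φdef]
    show x • f Q i = f Q (X₀ i)
    fin_cases i <;> simp [f, X₀, hxPP, smul_smul, ← pow_succ', ← pow_two, hx7])
  have hY : φ y = Y₀ := Equiv.ext fun i => e.injective (by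
    rw [φdef]
    show y • f Q i = f Q (Y₀ i)
    have hyxQ : ∀ n : ℕ, y • x ^ n • Q = x ^ (2 * n % 7) • Q := fun n => by
      rw [smul_smul, hconj, mul_smul, hyQ, hxmod]
    have hyxQ1 : y • x • Q = x ^ 2 • Q := by simpa using hyxQ 1
    fin_cases i <;> simp [f, Y₀, hyPP, hyQ, hyxQ, hyxQ1])
  -- an involution inverting `y`
  obtain ⟨S, hS⟩ : ∃ S : Sylow 3 G, zpowers y ≤ S := (IsPGroup.of_card (n := 1)
    (by rw [Nat.card_zpowers, hy, pow_one]) : IsPGroup 3 ↥(zpowers y)).exists_le_sylow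
  have hS' : zpowers y = S := Subgroup.eq_of_le_of_card_ge hS (by rw [card_three h S, Nat.card_zpowers, hy])
  obtain ⟨⟨t, htN⟩, ht⟩ := exists_prime_orderOf_dvd_card'
    (G := normalizer ((S : Subgroup G) : Set G)) 2 (by rw [card_normalizer_three h S]; norm_num)
  rw [← Subgroup.orderOf_coe] at ht
  change orderOf t = 2 at ht
  have htt : t * t = 1 := by rw [← pow_two, ← ht, pow_orderOf_eq_one]
  have hty : t * y * t⁻¹ = y⁻¹ := by
    have hmem : t * y * t⁻¹ ∈ zpowers y := hS' ▸ (mem_normalizer_iff.1 htN y).1 (hS (mem_zpowers y))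
    rw [← mem_powers_iff_mem_zpowers, mem_powers_iff_mem_range_orderOf, hy] at hmem
    obtain ⟨k, hk, ek⟩ := Finset.mem_image.1 hmem
    rw [Finset.mem_range] at hk
    interval_cases k
    · exfalso
      rw [pow_zero, eq_comm, mul_inv_eq_one] at ek
      have : y = 1 := mul_left_cancel (ek.trans (mul_one t).symm)
      rw [this, orderOf_one] at hy
      norm_num at hy
    · exfalso
      rw [pow_one, eq_comm, mul_inv_eq_iff_eq_mul] at ek
      exact not_commute_three h hy ht ek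
    · rw [← ek]
      exact eq_inv_of_mul_eq_one_left (by rw [← pow_succ, show 2 + 1 = orderOf y from hy.symm, pow_orderOf_eq_one])
  have hfree : ∀ R : Sylow 7 G, t • R ≠ R := fun R e' => by
    have := Subgroup.orderOf_dvd_natCard _ ((hstab t R).1 e')
    rw [ht, card_normalizer_seven h R] at this
    norm_num at this
  have hty' : y⁻¹ * t = t * y := by rw [← hty]; group
  have hfix2 : ∀ R : Sylow 7 G, y • R = R → R = P ∨ R = Q := by
    intro R hR
    obtain ⟨i, rfl⟩ := (fbij Q hQ).2 R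
    have h1 : Y₀ i = i := by
      rw [← hY]; exact e.injective ((φdef y i).trans hR)
    have : ∀ i : Fin 8, Y₀ i = i → i = 7 ∨ i = 0 := by decide +kernel
    rcases this i h1 with rfl | rfl
    · exact Or.inl (by simp [f])
    · exact Or.inr (by simp [f])
  have htP : t • P = Q := by
    refine (hfix2 _ ?_).resolve_left (hfree P)
    rw [smul_smul, show y * t = t * y⁻¹ by rw [eq_mul_inv_iff_mul_eq, mul_assoc, ← hty', mul_inv_cancel_left],
      mul_smul, inv_smul_eq_iff.2 hyPP.symm]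
  obtain ⟨k, -, hk⟩ := invol_cases (φ t) (fun i => by
      rw [← Equiv.Perm.mul_apply, ← map_mul, htt, map_one]; rfl)
    (fun i hi => hfree (e i) (by rw [← φdef, hi]))
    (e.injective (by rw [φdef]; simpa [e, f] using htP))
    (fun i => by rw [← hY, ← map_inv, ← Equiv.Perm.mul_apply, ← Equiv.Perm.mul_apply, ← map_mul, ← map_mul, hty'])
  have hgen : closure {x, y, t} = (⊤ : Subgroup G) := by
    by_contra hne
    have h7 := seven_le_index h hne
    have hdvd : ∀ g ∈ ({x, y, t} : Set G), orderOf g ∣ Nat.card (closure ({x, y, t} : Set G)) :=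
      fun g hg => Subgroup.orderOf_dvd_natCard _ (subset_closure hg)
    have h42 : 42 ∣ Nat.card (closure ({x, y, t} : Set G)) := by
      have a := hdvd x (by simp); have b := hdvd y (by simp); have c := hdvd t (by simp)
      rw [hx] at a; rw [hy] at b; rw [ht] at c
      omega
    have hmul := (closure ({x, y, t} : Set G)).index_mul_card
    rw [h] at hmul
    have := Nat.le_of_dvd Nat.card_pos h42
    nlinarith
  have hrange : φ.range = K := by
    rw [MonoidHom.range_eq_map, ← hgen, MonoidHom.map_closure, Set.image_insert_eq, Set.image_pair, hX, hY,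
      hk, K]
    apply le_antisymm <;> rw [Subgroup.closure_le]
    · rintro g (rfl | rfl | rfl)
      · exact subset_closure (by simp)
      · exact subset_closure (by simp)
      · exact mul_mem (mul_mem (pow_mem (subset_closure (by simp)) k) (subset_closure (by simp)))
          (inv_mem (pow_mem (subset_closure (by simp)) k))
    · rintro g (rfl | rfl | rfl)
      · exact subset_closure (by simp)
      · exact subset_closure (by simp)
      · have hm : ∀ n : ℕ, Y₀ ^ n ∈ closure ({X₀, Y₀, Y₀ ^ k * T₀ * (Y₀ ^ k)⁻¹} : Set (Equiv.Perm (Fin 8))) :=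
          fun n => pow_mem (subset_closure (by simp)) n
        have := mul_mem (mul_mem (inv_mem (hm k))
          (subset_closure (show Y₀ ^ k * T₀ * (Y₀ ^ k)⁻¹ ∈ ({X₀, Y₀, Y₀ ^ k * T₀ * (Y₀ ^ k)⁻¹} : Set _) by simp)))
          (hm k)
        simpa [mul_assoc] using this
  exact ⟨(MonoidHom.ofInjective hφ).trans (MulEquiv.subgroupCongr hrange)⟩

/-- Any two simple groups of order 168 are isomorphic. -/
theorem unique {H : Type*} [Group H] [Finite H] [IsSimpleGroup H] (h : Nat.card G = 168)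
    (h' : Nat.card H = 168) : Nonempty (G ≃* H) := by
  obtain ⟨a⟩ := exists_model h
  obtain ⟨b⟩ := exists_model h'
  exact ⟨a.trans b.symm⟩

end CfsgLib.Sporadic.SimpleIso168
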