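import Cfsg.Agent.Lib.SmallGroups.SimpleTools

/-!
All simple groups of order 360 are isomorphic: each is carried to one group of permutations of ten points,
the conjugates of a Sylow 3-subgroup.
-/

set_option autoImplicit false
set_option maxRecDepth 20000

namespace CfsgLib.Sporadic.SimpleIso360

open Subgroup CfsgLib.SmallGroups.SimpleTools

/-- A translation. -/
def X₀ : Equiv.Perm (Fin 10) :=
  ⟨![1, 2, 0, 4, 5, 3, 7, 8, 6, 9], ![2, 0, 1, 5, 3, 4, 8, 6, 7, 9], by decide, by decide⟩

/-- The other translation. -/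
def Y₀ : Equiv.Perm (Fin 10) :=
  ⟨![3, 4, 5, 6, 7, 8, 0, 1, 2, 9], ![6, 7, 8, 0, 1, 2, 3, 4, 5, 9], by decide, by decide⟩

/-- Multiplication by a square root of minus one. -/
def C₀ : Equiv.Perm (Fin 10) :=
  ⟨![0, 3, 6, 2, 5, 8, 1, 4, 7, 9], ![0, 6, 3, 1, 7, 4, 2, 8, 5, 9], by decide, by decide⟩

/-- An involution exchanging the fixed point with the origin. -/
def T₀ : Equiv.Perm (Fin 10) :=
  ⟨![9, 1, 2, 6, 5, 4, 3, 8, 7, 0], ![9, 1, 2, 6, 5, 4, 3, 8, 7, 0], by decide, by decide⟩

/-- The model. -/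
def K : Subgroup (Equiv.Perm (Fin 10)) := Subgroup.closure {X₀, Y₀, C₀, T₀}

/-- Words separating the model from other candidates. -/
def words : List (List ℕ) :=
  [[1, 0, 1, 1, 0, 1, 0], [0, 0], [2, 0, 2, 0, 2, 0], [1, 0, 1, 0, 1, 0], [1, 0, 2, 0, 1, 1, 0],
    [1, 0, 2, 2, 0, 1, 0], [1, 0, 2, 0, 2, 0, 1, 0], [1, 0, 2, 1, 0, 1, 1, 0], [2, 0, 2, 2, 1, 1, 0, 1, 0],
    [2, 0, 2, 1, 0, 1, 1, 0], [2, 0, 2, 1, 1, 0, 2, 0], [2, 0, 2, 2, 1, 0, 1, 0], [1, 0, 2, 1, 0, 2, 0],
    [2, 2, 0, 2, 1, 0, 2, 0], [2, 0, 2, 1, 0, 2, 0], [1, 0, 2, 2, 1, 0, 1, 0], [2, 0, 1, 3, 1, 0, 1, 0],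
    [1, 1, 0, 2, 0, 1, 0], [1, 0, 2, 0, 1, 0], [2, 2, 0, 2, 1, 1, 0, 1, 0], [2, 0, 2, 1, 1, 0, 1, 0],
    [1, 0, 2, 1, 1, 0, 1, 0], [2, 0, 2, 1, 0, 2, 2, 0], [1, 1, 0, 2, 1, 0, 1, 0], [1, 0, 2, 1, 0, 1, 0],
    [2, 2, 0, 2, 1, 0, 1, 0], [2, 0, 2, 1, 0, 1, 0]]

/-- The value of a word, the letter zero standing for `T`. -/
def evalW (T : Fin 10 → Fin 10) (w : List ℕ) (i : Fin 10) : Fin 10 :=
  w.foldr (fun k j => if k = 0 then T j else if k = 1 then X₀ j else if k = 2 then Y₀ j else C₀ j) i

/-- The candidate with given values at two points, twisting the cycle as `e` says. -/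
def cand (e : Bool) (a b : Fin 10) : Fin 10 → Fin 10 :=
  let f : Fin 10 → Fin 10 := if e then C₀.symm else C₀
  ![9, a, f (f a), f a, b, f b, f (f (f a)), f (f (f b)), f (f b), 0]

theorem cand_cases : ∀ (e : Bool) (a b : Fin 10), (List.finRange 10).map (cand e a b) |>.Nodup →
    (∀ w ∈ words, evalW (cand e a b) w 9 = 9 → evalW (cand e a b) w 0 = 0 →
      ∃ k < 4, ∀ i, evalW (cand e a b) w i = (C₀ ^ k) i) →
    ∃ k < 4, ∀ i, cand e a b i = (C₀ ^ k * T₀) i := by
  decide +kernel

theorem t_cases (T : Equiv.Perm (Fin 10)) (h9 : T 9 = 0) (h0 : T 0 = 9)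
    (hC : (∀ i, T (C₀ i) = C₀ (T i)) ∨ ∀ i, T (C₀ i) = C₀.symm (T i))
    (hw : ∀ w ∈ words, evalW T w 9 = 9 → evalW T w 0 = 0 → ∃ k < 4, ∀ i, evalW T w i = (C₀ ^ k) i) :
    ∃ k < 4, T = C₀ ^ k * T₀ := by
  have hc1 : C₀ 1 = 3 ∧ C₀ 3 = 2 ∧ C₀ 2 = 6 ∧ C₀ 4 = 5 ∧ C₀ 5 = 8 ∧ C₀ 8 = 7 := by decide +kernel
  obtain ⟨a1, a3, a2, a4, a5, a8⟩ := hc1
  have main : ∀ (e : Bool) (f : Fin 10 → Fin 10), (∀ j, (if e then C₀.symm else C₀ : Fin 10 → Fin 10) j = f j) →
      (∀ i, T (C₀ i) = f (T i)) → ∃ k < 4, T = C₀ ^ k * T₀ := by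
    intro e f hf hT
    have hcand : (T : Fin 10 → Fin 10) = cand e (T 1) (T 4) := by
      funext i
      have t3 : T 3 = f (T 1) := by rw [← hT, a1]
      have t2 : T 2 = f (f (T 1)) := by rw [← t3, ← hT, a3]
      have t6 : T 6 = f (f (f (T 1))) := by rw [← t2, ← hT, a2]
      have t5 : T 5 = f (T 4) := by rw [← hT, a4]
      have t8 : T 8 = f (f (T 4)) := by rw [← t5, ← hT, a5]
      have t7 : T 7 = f (f (f (T 4))) := by rw [← t8, ← hT, a8]
      have hfe : (if e then C₀.symm else C₀ : Fin 10 → Fin 10) = f := funext hf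
      have hswap : ∀ j, cand e (T 1) (T 4) j =
          ![(9 : Fin 10), T 1, f (f (T 1)), f (T 1), T 4, f (T 4), f (f (f (T 1))), f (f (f (T 4))), f (f (T 4)), 0] j := by
        intro j; simp only [cand, hfe]
      rw [hswap]
      fin_cases i
      exacts [h0, rfl, t2, t3, rfl, t5, t6, t7, t8, h9]
    obtain ⟨k, hk, h⟩ := cand_cases e (T 1) (T 4)
      (by rw [← hcand]; exact (List.nodup_finRange 10).map T.injective)
      (by rw [← hcand]; exact hw)
    exact ⟨k, hk, Equiv.ext fun i => (congrFun hcand i).trans (h i)⟩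
  rcases hC with h | h
  · exact main false _ (fun _ => rfl) h
  · exact main true _ (fun _ => rfl) h

variable {G : Type*} [Group G] [Finite G] [IsSimpleGroup G]

theorem not_comm (h : Nat.card G = 360) : ¬ IsMulCommutative G := not_comm_of_card (by rw [h]; norm_num)

theorem six_le_index (h : Nat.card G = 360) {H : Subgroup G} (hH : H ≠ ⊤) : 6 ≤ H.index := by
  by_contra hlt
  have h2 := two_mul_card_dvd_factorial (not_comm h) H hH
  rw [h] at h2
  have h3 := h2.trans (Nat.factorial_dvd_factorial (show H.index ≤ 5 by omega))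
  norm_num [Nat.factorial] at h3

theorem card_three (h : Nat.card G = 360) [Fact (Nat.Prime 3)] (P : Sylow 3 G) : Nat.card (P : Subgroup G) = 9 :=
  card_sylow_subgroup (k := 2) (m := 40) (by rw [h]; norm_num) (by norm_num) P

theorem comm_three (h : Nat.card G = 360) [Fact (Nat.Prime 3)] (P : Sylow 3 G) {a b : G}
    (ha : a ∈ (P : Subgroup G)) (hb : b ∈ (P : Subgroup G)) : a * b = b * a := by
  have : IsMulCommutative ↥(P : Subgroup G) :=
    IsPGroup.isMulCommutative_of_card_eq_prime_sq (p := 3) (by rw [card_three h P]; norm_num)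
  exact congrArg Subtype.val (this.is_comm.comm (⟨a, ha⟩ : (P : Subgroup G)) ⟨b, hb⟩)

theorem card_sylow_three (h : Nat.card G = 360) [Fact (Nat.Prime 3)] : Nat.card (Sylow 3 G) = 10 := by
  have hm := card_sylow_mem (G := G) (p := 3) (k := 2) (m := 40) (by rw [h]; norm_num) (by norm_num)
  rw [show (Nat.divisors 40).filter (fun n => n % 3 = 1) = {1, 4, 10, 40} by decide] at hm
  simp only [Finset.mem_insert, Finset.mem_singleton] at hm
  obtain ⟨P⟩ : Nonempty (Sylow 3 G) := inferInstance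
  have hmul := card_normalizer_mul P
  rw [h] at hmul
  have hd : 3 ∣ Nat.card G := by rw [h]; norm_num
  rcases hm with e | e | e | e
  · exact absurd e (card_sylow_ne_one (not_comm h) hd)
  · exfalso
    have h6 := six_le_index h (normalizer_ne_top (not_comm h) hd P)
    have hi : Nat.card (Sylow 3 G) = (normalizer ((P : Subgroup G) : Set G)).index :=
      P.card_eq_index_normalizer
    omega
  · exact e
  · exfalso
    rw [e] at hmul
    have hNP : (P : Subgroup G) = normalizer ((P : Subgroup G) : Set G) :=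
      Subgroup.eq_of_le_of_card_ge Subgroup.le_normalizer (by rw [card_three h P]; omega)
    refine not_normalizer_le (not_comm h) hd P ?_
    rw [← hNP]
    exact fun x hx => mem_centralizer_iff.2 fun y hy => comm_three h P hy hx

theorem card_normalizer_three (h : Nat.card G = 360) [Fact (Nat.Prime 3)] (P : Sylow 3 G) :
    Nat.card (normalizer ((P : Subgroup G) : Set G)) = 36 := by
  have h2 := card_normalizer_mul P
  rw [card_sylow_three h, h] at h2
  omega

theorem small_cases (n : ℕ) (hn : n ≤ 6) (m : ℕ) (hm : m ≤ 6) (hd : n * (9 * m) ∣ 360) (h3 : n % 3 = 1 % 3) (h60 : n * (9 * m) ≤ 60)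
    (h1 : ¬ n ≤ 1) : n = 4 ∧ m = 1 := by
  interval_cases n <;> interval_cases m <;> revert hd h3 h60 <;> decide

theorem inter_trivial (h : Nat.card G = 360) [Fact (Nat.Prime 3)] (P R : Sylow 3 G) (hPR : P ≠ R) {x : G}
    (hxP : x ∈ (P : Subgroup G)) (hxR : x ∈ (R : Subgroup G)) : x = 1 := by
  by_contra hx1
  set C := centralizer ({x} : Set G) with hC
  have hPC : (P : Subgroup G) ≤ C := fun a ha => mem_centralizer_singleton_iff.2 (comm_three h P ha hxP)
  have hRC : (R : Subgroup G) ≤ C := fun a ha => mem_centralizer_singleton_iff.2 (comm_three h R ha hxR)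
  have hCtop : C ≠ ⊤ := fun e => hx1 (by
    have hz : x ∈ center G := mem_center_iff.2 fun g =>
      mem_centralizer_singleton_iff.1 (show g ∈ C from e ▸ mem_top g)
    rwa [center_eq_bot (not_comm h), mem_bot] at hz)
  have hidx := six_le_index h hCtop
  have hmul := C.index_mul_card
  rw [h] at hmul
  have h9 : 9 ∣ Nat.card C := card_three h P ▸ Subgroup.card_dvd_of_le hPC
  have hP' : ¬ Subsingleton (Sylow 3 C) := by
    intro hs
    refine hPR (Sylow.ext ?_)
    have e : P.subtype hPC = R.subtype hRC := Subsingleton.elim _ _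
    have e2 := congrArg (fun S : Sylow 3 C => (S : Subgroup C)) e
    simp only [Sylow.coe_subtype] at e2
    rw [Subgroup.subgroupOf_inj, inf_eq_left.2 hPC, inf_eq_left.2 hRC] at e2
    exact e2
  rw [← Finite.card_le_one_iff_subsingleton] at hP'
  set S := P.subtype hPC
  have hS : Nat.card (S : Subgroup C) = 9 := by
    rw [Sylow.coe_subtype, Nat.card_congr (Subgroup.subgroupOfEquivOfLe hPC).toEquiv, card_three h P]
  have hSmul := card_normalizer_mul S
  have hn3 := card_sylow_modEq_one 3 C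
  have hN9 : 9 ∣ Nat.card (normalizer ((S : Subgroup C) : Set C)) := hS ▸ Subgroup.card_dvd_of_le Subgroup.le_normalizer
  obtain ⟨hC36, hn4, hN⟩ : Nat.card C = 36 ∧ Nat.card (Sylow 3 C) = 4 ∧
      Nat.card (normalizer ((S : Subgroup C) : Set C)) = 9 := by
    have hc60 : Nat.card C ≤ 60 := by nlinarith
    have hdC : Nat.card C ∣ 360 := ⟨C.index, by rw [mul_comm, hmul]⟩
    rw [Nat.ModEq] at hn3
    obtain ⟨m, hm⟩ := hN9
    rw [hm] at hSmul ⊢
    generalize Nat.card (Sylow 3 C) = n at *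
    generalize Nat.card C = c at *
    have : n * m ≤ 6 := by nlinarith
    have hm0 : m ≠ 0 := by rintro rfl; simp at hSmul; subst hSmul; simp at hmul
    have hn6 : n ≤ 6 := le_trans (Nat.le_mul_of_pos_right n (Nat.pos_of_ne_zero hm0)) this
    have hm6 : m ≤ 6 := le_trans (Nat.le_mul_of_pos_left m (by omega)) this
    subst hSmul
    obtain ⟨rfl, rfl⟩ := small_cases n hn6 m hm6 hdC hn3 hc60 hP'
    omega
  -- the normal complement
  have hle : normalizer ((S : Subgroup C) : Set C) ≤ centralizer ((S : Subgroup C) : Set C) := by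
    have hNS : (S : Subgroup C) = normalizer ((S : Subgroup C) : Set C) :=
      Subgroup.eq_of_le_of_card_ge Subgroup.le_normalizer (by rw [hS, hN])
    rw [← hNS]
    intro a ha
    rw [Sylow.coe_subtype, mem_subgroupOf] at ha
    refine mem_centralizer_iff.2 fun b hb => Subtype.ext ?_
    rw [SetLike.mem_coe, Sylow.coe_subtype, mem_subgroupOf] at hb
    exact comm_three h P hb ha
  have hcomp := MonoidHom.ker_transferSylow_isComplement' S hle
  set V₀ := (MonoidHom.transferSylow S hle).ker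
  have hVn : V₀.Normal := MonoidHom.normal_ker _
  have hV₀ : Nat.card V₀ = 4 := by
    have := hcomp.card_mul
    rw [hS, hC36] at this
    omega
  let V : Subgroup G := V₀.map C.subtype
  have hV : Nat.card V = 4 := by rw [Subgroup.card_map_of_injective C.subtype_injective, hV₀]
  have hCN : C ≤ normalizer (V : Set G) := by
    intro g hg
    rw [mem_normalizer_iff]
    intro v
    constructor
    · intro hv
      obtain ⟨w, hw, rfl⟩ := Subgroup.mem_map.1 hv
      exact Subgroup.mem_map.2 ⟨_, hVn.conj_mem w hw ⟨g, hg⟩, by simp⟩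
    · intro hv
      obtain ⟨w, hw, e⟩ := Subgroup.mem_map.1 hv
      refine Subgroup.mem_map.2 ⟨_, hVn.conj_mem w hw (⟨g, hg⟩⁻¹), ?_⟩
      rw [Subgroup.coe_subtype] at e ⊢
      simp only [Subgroup.coe_mul, InvMemClass.coe_inv, inv_inv]
      rw [e]; group
  haveI : Fact (Nat.Prime 2) := ⟨Nat.prime_two⟩
  obtain ⟨T, hT⟩ := (IsPGroup.of_card (n := 2) (by rw [hV]; norm_num) : IsPGroup 2 V).exists_le_sylow
  have hTc : Nat.card (T : Subgroup G) = 8 :=
    card_sylow_subgroup (k := 3) (m := 45) (by rw [h]; norm_num) (by norm_num) T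
  have hTN : (T : Subgroup G) ≤ normalizer (V : Set G) := by
    have hidx2 : (V.subgroupOf T).index = 2 := by
      have := (V.subgroupOf (T : Subgroup G)).index_mul_card
      rw [Nat.card_congr (Subgroup.subgroupOfEquivOfLe hT).toEquiv, hV, hTc] at this
      omega
    haveI := Subgroup.normal_of_index_eq_two hidx2
    intro g hg
    rw [mem_normalizer_iff]
    intro v
    constructor
    · intro hv
      exact (inferInstance : (V.subgroupOf (T : Subgroup G)).Normal).conj_mem ⟨v, hT hv⟩ hv ⟨g, hg⟩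
    · intro hv
      have := (inferInstance : (V.subgroupOf (T : Subgroup G)).Normal).conj_mem ⟨g * v * g⁻¹, hT hv⟩ hv
        ⟨g⁻¹, inv_mem hg⟩
      simpa [mem_subgroupOf, mul_assoc] using this
  have hVtop : normalizer (V : Set G) ≠ ⊤ := by
    intro e
    rcases (normalizer_eq_top_iff.1 e).eq_bot_or_eq_top with e' | e'
    · rw [e', Subgroup.card_bot] at hV; norm_num at hV
    · rw [e', Subgroup.card_top, h] at hV; norm_num at hV
  have h6 := six_le_index h hVtop
  have hm := (normalizer (V : Set G)).index_mul_card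
  rw [h] at hm
  have d1 : 36 ∣ Nat.card (normalizer (V : Set G)) := hC36 ▸ Subgroup.card_dvd_of_le hCN
  have d2 : 8 ∣ Nat.card (normalizer (V : Set G)) := hTc ▸ Subgroup.card_dvd_of_le hTN
  have h72 : 72 ∣ Nat.card (normalizer (V : Set G)) := by
    have := Nat.lcm_dvd d1 d2; norm_num [Nat.lcm] at this; exact this
  have := Nat.le_of_dvd Nat.card_pos h72
  nlinarith

theorem sign_eq_one (h : Nat.card G = 360) {n : ℕ} (φ : G →* Equiv.Perm (Fin n)) (g : G) :
    Equiv.Perm.sign (φ g) = 1 := by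
  rcases (inferInstance : (Equiv.Perm.sign.comp φ).ker.Normal).eq_bot_or_eq_top with hk | hk
  · exfalso
    refine not_comm h ⟨⟨fun a b => ?_⟩⟩
    refine (MonoidHom.ker_eq_bot_iff _).mp hk ?_
    rw [map_mul, map_mul, mul_comm]
  · exact MonoidHom.mem_ker.1 (show g ∈ (Equiv.Perm.sign.comp φ).ker from hk ▸ mem_top g)

/-- An involution with four fixed points among ten is odd. -/
theorem sign_four_fixed {σ : Equiv.Perm (Fin 10)} (h2 : ∀ i, σ (σ i) = i)
    (hfix : (Finset.univ.filter fun i => σ i = i).card = 4) : Equiv.Perm.sign σ = -1 := by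
  have hs : σ.support.card = 6 := by
    have : σ.support = (Finset.univ.filter fun i => σ i = i)ᶜ := by ext i; simp
    rw [this, Finset.card_compl, hfix, Fintype.card_fin]
  have hsq : σ ^ 2 = 1 := Equiv.ext fun i => by rw [pow_two, Equiv.Perm.mul_apply, h2]; rfl
  have hct : ∀ n ∈ σ.cycleType, n = 2 := fun n hn => by
    have hd : n ∣ 2 := (Equiv.Perm.dvd_of_mem_cycleType hn).trans (orderOf_dvd_of_pow_eq_one hsq)
    have h2n := Equiv.Perm.two_le_of_mem_cycleType hn
    have := Nat.le_of_dvd two_pos hd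
    omega
  have hrep : σ.cycleType = Multiset.replicate σ.cycleType.card 2 := Multiset.eq_replicate_card.2 hct
  have hsum := σ.sum_cycleType
  rw [hrep, Multiset.sum_replicate, smul_eq_mul, hs] at hsum
  rw [Equiv.Perm.sign_of_cycleType, hrep, Multiset.sum_replicate, Multiset.card_replicate, smul_eq_mul,
    show σ.cycleType.card = 3 by omega]
  decide

set_option maxHeartbeats 1000000 in
theorem exists_model (h : Nat.card G = 360) : Nonempty (G ≃* K) := by
  classical
  haveI : Fact (Nat.Prime 3) := ⟨Nat.prime_three⟩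
  haveI : Fact (Nat.Prime 2) := ⟨Nat.prime_two⟩
  have hG := not_comm h
  have card10 := card_sylow_three (G := G) h
  obtain ⟨P⟩ : Nonempty (Sylow 3 G) := inferInstance
  obtain ⟨Q, hQ⟩ : ∃ Q : Sylow 3 G, Q ≠ P := by
    by_contra! hall
    have : Subsingleton (Sylow 3 G) := ⟨fun a b => (hall a).trans (hall b).symm⟩
    have := Finite.card_le_one_iff_subsingleton.2 this
    omega
  have hstab : ∀ (g : G) (R : Sylow 3 G), g • R = R ↔ g ∈ normalizer ((R : Subgroup G) : Set G) :=
    fun g R => Sylow.smul_eq_iff_mem_normalizer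
  have fixR : ∀ (S R : Sylow 3 G) (x : G), x ∈ (S : Subgroup G) → x ≠ 1 → x • R = R → R = S := by
    intro S R x hx hx1 hR
    by_contra hne
    rw [hstab] at hR
    have h2 := IsPGroup.inf_normalizer_sylow (S.isPGroup') R
    have hxin : x ∈ (S : Subgroup G) ⊓ normalizer (R : Set G) := ⟨hx, hR⟩
    rw [h2] at hxin
    exact hx1 (inter_trivial h S R (fun e => hne e.symm) hx hxin.2)
  have orb : ∀ (S R : Sylow 3 G), R ≠ S →
      Function.Injective (fun a : (S : Subgroup G) => (a : G) • R) ∧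
      ∀ R', R' ≠ S → ∃ a ∈ (S : Subgroup G), a • R = R' := by
    intro S R hR
    have hinj : Function.Injective (fun a : (S : Subgroup G) => (a : G) • R) := by
      intro a b e
      have e' : ((b : G)⁻¹ * a) • R = R := by rw [mul_smul, inv_smul_eq_iff]; exact e
      by_contra hne
      exact hR (fixR S R _ (mul_mem (inv_mem b.2) a.2) (fun e1 => hne (Subtype.ext (inv_mul_eq_one.1 e1).symm)) e')
    refine ⟨hinj, fun R' hR' => ?_⟩
    have hne : ∀ a : (S : Subgroup G), (a : G) • R ≠ S := fun a e => hR (by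
      have h' : (a : G) • S = S := (hstab _ S).2 (Subgroup.le_normalizer a.2)
      exact MulAction.injective (a : G) (e.trans h'.symm))
    let F : ↥(S : Subgroup G) → {T : Sylow 3 G // T ≠ S} := fun a => ⟨(a : G) • R, hne a⟩
    have hF : Function.Bijective F := by
      refine (Nat.bijective_iff_injective_and_card F).2 ⟨fun a b e => hinj (congrArg Subtype.val e), ?_⟩
      rw [card_three h S]
      have : Nat.card {T : Sylow 3 G // T ≠ S} = 9 := by
        haveI : Fintype (Sylow 3 G) := Fintype.ofFinite _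
        rw [Nat.card_eq_fintype_card, Fintype.card_subtype_compl, Fintype.card_subtype_eq,
          ← Nat.card_eq_fintype_card, card10]
      omega
    obtain ⟨a, ha⟩ := hF.2 ⟨R', hR'⟩
    exact ⟨a, a.2, congrArg Subtype.val ha⟩
  -- the stabiliser of the two points
  let C : Subgroup G := MulAction.stabilizer G P ⊓ MulAction.stabilizer G Q
  have hCN : MulAction.stabilizer G P = normalizer ((P : Subgroup G) : Set G) := by
    ext g; exact hstab g P
  have hC : Nat.card C = 4 := by
    let N := MulAction.stabilizer G P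
    have horb : MulAction.orbit N Q = {R | R ≠ P} := by
      ext R
      constructor
      · rintro ⟨⟨g, hg⟩, rfl⟩ e
        exact hQ (MulAction.injective g (e.trans (MulAction.mem_stabilizer_iff.1 hg).symm))
      · intro hR
        obtain ⟨a, ha, e⟩ := (orb P Q hQ).2 R hR
        exact ⟨⟨a, (hstab a P).2 (Subgroup.le_normalizer ha)⟩, e⟩
    have hst : MulAction.stabilizer N Q = C.subgroupOf N := by
      rw [Subgroup.inf_subgroupOf_left]; rfl
    have h1 := (MulAction.stabilizer N Q).index_mul_card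
    rw [MulAction.index_stabilizer, horb, hst,
      Nat.card_congr (Subgroup.subgroupOfEquivOfLe (inf_le_left : C ≤ N)).toEquiv] at h1
    have h9 : ({R | R ≠ P} : Set (Sylow 3 G)).ncard = 9 := by
      rw [← Nat.card_coe_set_eq]
      haveI : Fintype (Sylow 3 G) := Fintype.ofFinite _
      show Nat.card {T : Sylow 3 G // T ≠ P} = 9
      rw [Nat.card_eq_fintype_card, Fintype.card_subtype_compl, Fintype.card_subtype_eq,
        ← Nat.card_eq_fintype_card, card10]
    rw [h9] at h1
    change 9 * Nat.card C = Nat.card N at h1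
    have hN : Nat.card N = 36 := by rw [← card_normalizer_three h P, ← hCN]
    omega
  have hconjmem : ∀ c ∈ C, ∀ a ∈ (P : Subgroup G), c * a * c⁻¹ ∈ (P : Subgroup G) := fun c hc a ha =>
    (mem_normalizer_iff.1 (hCN ▸ hc.1 : c ∈ normalizer ((P : Subgroup G) : Set G)) a).1 ha
  have hconjpt : ∀ c ∈ C, ∀ a : G, c • a • Q = (c * a * c⁻¹) • Q := fun c hc a => by
    rw [mul_smul, mul_smul, show c⁻¹ • Q = Q by rw [inv_smul_eq_iff]; exact hc.2.symm]
  let toFun10 : Fin 10 ≃ Sylow 3 G := (Finite.equivFinOfCardEq card10).symm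
  have faithful : ∀ g : G, (∀ R : Sylow 3 G, g • R = R) → g = 1 := by
    intro g hg
    have hk : (MulAction.toPermHom G (Sylow 3 G)).ker ≠ ⊤ := by
      intro htop
      obtain ⟨a, ha, ha'⟩ := (P : Subgroup G).bot_or_exists_ne_one.resolve_left (fun e => by
        have := card_three h P; rw [e, Subgroup.card_bot] at this; norm_num at this)
      exact hQ (fixR P Q a ha ha' (congrArg (fun σ : Equiv.Perm (Sylow 3 G) => σ Q)
        (MonoidHom.mem_ker.1 (htop ▸ mem_top a))))
    have hbot := ((inferInstance : (MulAction.toPermHom G (Sylow 3 G)).ker.Normal).eq_bot_or_eq_top).resolve_right hk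
    have : g ∈ (MulAction.toPermHom G (Sylow 3 G)).ker := MonoidHom.mem_ker.2 (Equiv.ext hg)
    rwa [hbot, mem_bot] at this
  have centr : ∀ c ∈ C, (∀ a ∈ (P : Subgroup G), c * a * c⁻¹ = a) → c = 1 := by
    intro c hc hall
    refine faithful c fun R => ?_
    by_cases hR : R = P
    · rw [hR]; exact hc.1
    · obtain ⟨a, ha, rfl⟩ := (orb P Q hQ).2 R hR
      rw [hconjpt c hc, hall a ha]
  let ψ : G →* Equiv.Perm (Fin 10) :=
    toFun10.symm.permCongrHom.toMonoidHom.comp (MulAction.toPermHom G (Sylow 3 G))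
  have ψdef : ∀ g i, toFun10 (ψ g i) = g • toFun10 i := fun g i => toFun10.apply_symm_apply _
  have invol_inverts : ∀ z ∈ C, z * z = 1 → z ≠ 1 → ∀ a ∈ (P : Subgroup G), z * a * z⁻¹ = a⁻¹ := by
    intro z hz hzz hz1 a ha
    have hzinv : z⁻¹ = z := inv_eq_of_mul_eq_one_right hzz
    let F : Subgroup G := (P : Subgroup G) ⊓ centralizer ({z} : Set G)
    have hF1 : Nat.card F = 1 := by
      have hdvd : Nat.card F ∣ 3 ^ 2 := by
        have := Subgroup.card_dvd_of_le (inf_le_left : F ≤ (P : Subgroup G))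
        rwa [card_three h P] at this
      obtain ⟨k, hk, e⟩ := (Nat.dvd_prime_pow Nat.prime_three).1 hdvd
      have hk1 : k ≠ 2 := by
        rintro rfl
        have hFP : F = (P : Subgroup G) := Subgroup.eq_of_le_of_card_ge inf_le_left (by rw [e, card_three h P]; norm_num)
        refine hz1 (centr z hz fun b hb => ?_)
        have hb' : b ∈ F := hFP ▸ hb
        rw [← mem_centralizer_singleton_iff.1 hb'.2, mul_inv_cancel_right]
      have hk2 : k ≠ 1 := by
        rintro rfl
        have hsign := sign_eq_one h ψ z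
        have hfix : (Finset.univ.filter fun i => ψ z i = i).card = 4 := by
          have hset : {R : Sylow 3 G | z • R = R} = {P} ∪ (fun b : F => (b : G) • Q) '' Set.univ := by
            ext R
            simp only [Set.mem_ofPred_eq, Set.mem_union, Set.mem_singleton_iff, Set.image_univ, Set.mem_range]
            constructor
            · intro hR
              by_cases hRP : R = P
              · exact Or.inl hRP
              · obtain ⟨b, hb, rfl⟩ := (orb P Q hQ).2 R hRP
                rw [hconjpt z hz] at hR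
                have := congrArg Subtype.val ((orb P Q hQ).1
                  (a₁ := (⟨z * b * z⁻¹, hconjmem z hz b hb⟩ : (P : Subgroup G))) (a₂ := ⟨b, hb⟩) hR)
                change z * b * z⁻¹ = b at this
                exact Or.inr ⟨⟨b, hb, mem_centralizer_singleton_iff.2 (mul_inv_eq_iff_eq_mul.1 this).symm⟩, rfl⟩
            · rintro (rfl | ⟨⟨b, hb, hbz⟩, rfl⟩)
              · exact hz.1
              · rw [hconjpt z hz]
                show (z * b * z⁻¹) • Q = b • Q
                rw [← mem_centralizer_singleton_iff.1 hbz, mul_inv_cancel_right]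
          have hcard : ({R : Sylow 3 G | z • R = R}).ncard = 4 := by
            rw [hset, Set.singleton_union, Set.ncard_insert_of_notMem, Set.image_univ,
              Set.ncard_range_of_injective, e]
            · norm_num
            · intro b b' eb
              exact Subtype.ext (Subtype.ext_iff.1
                ((orb P Q hQ).1 (a₁ := ⟨b, b.2.1⟩) (a₂ := ⟨b', b'.2.1⟩) eb) :)
            · rw [Set.image_univ, Set.mem_range]
              rintro ⟨b, hb⟩
              exact hQ (MulAction.injective (b : G) (hb.trans ((hstab _ P).2 (Subgroup.le_normalizer b.2.1)).symm))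
          rw [← hcard, ← Set.ncard_coe_finset, ← Set.ncard_image_of_injective _ toFun10.injective]
          congr 1
          ext R
          simp only [Finset.coe_filter, Finset.mem_univ, true_and, Set.mem_image, Set.mem_ofPred_eq]
          constructor
          · rintro ⟨i, hi, rfl⟩
            rw [← ψdef, hi]
          · intro hR
            exact ⟨toFun10.symm R, toFun10.injective (by rw [ψdef, toFun10.apply_symm_apply, hR]),
              toFun10.apply_symm_apply R⟩
        rw [sign_four_fixed (fun i => toFun10.injective (by rw [ψdef, ψdef, smul_smul, hzz, one_smul])) hfix] at hsign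
        exact absurd hsign (by decide)
      interval_cases k
      · rw [e]; norm_num
      · exact absurd rfl hk2
      · exact absurd rfl hk1
    have hmem : z * a * z⁻¹ * a ∈ F := by
      refine ⟨mul_mem (hconjmem z hz a ha) ha, mem_centralizer_singleton_iff.2 ?_⟩
      have hcomm := comm_three h P (hconjmem z hz a ha) ha
      rw [hzinv] at hcomm ⊢
      calc z * a * z * a * z = z * (a * (z * a * z)) := by simp [mul_assoc]
        _ = z * (z * a * z * a) := by rw [← hcomm]
        _ = _ := rfl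
    rw [Subgroup.card_eq_one.1 hF1, mem_bot] at hmem
    exact eq_inv_of_mul_eq_one_left hmem
  obtain ⟨c, hc, hco⟩ : ∃ c ∈ C, orderOf c = 4 := by
    by_contra! hall
    have hsq : ∀ z : C, (z : G) * z = 1 := fun z => by
      have hd := Subgroup.orderOf_dvd_natCard C z.2
      rw [hC] at hd
      have h4 := hall z z.2
      have : orderOf (z : G) ∣ 2 := by
        obtain ⟨k, hk, e⟩ := (Nat.dvd_prime_pow Nat.prime_two).1 (show orderOf (z : G) ∣ 2 ^ 2 from hd)
        interval_cases k
        · rw [e]; norm_num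
        · rw [e]; norm_num
        · exact absurd (e.trans (by norm_num)) h4
      rw [← pow_two]
      exact orderOf_dvd_iff_pow_eq_one.1 this
    obtain ⟨z, hz⟩ : ∃ z : C, z ≠ 1 := by
      haveI : Nontrivial C := Finite.one_lt_card_iff_nontrivial.1 (by omega)
      exact exists_ne 1
    obtain ⟨w, hw1, hwz⟩ : ∃ w : C, w ≠ 1 ∧ w ≠ z := by
      haveI : Fintype C := Fintype.ofFinite _
      have : ({1, z} : Finset C).card < (Finset.univ : Finset C).card := by
        rw [Finset.card_univ, ← Nat.card_eq_fintype_card, hC]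
        exact lt_of_le_of_lt Finset.card_le_two (by norm_num)
      obtain ⟨w, -, hw⟩ := Finset.exists_mem_notMem_of_card_lt_card this
      simp only [Finset.mem_insert, Finset.mem_singleton, not_or] at hw
      exact ⟨w, hw⟩
    have h1 := invol_inverts z z.2 (hsq z) (fun e => hz (Subtype.ext e))
    have h2 := invol_inverts w w.2 (hsq w) (fun e => hw1 (Subtype.ext e))
    have he := centr ((w : G) * z) (mul_mem w.2 z.2) fun a ha => by
      rw [mul_inv_rev, show (w : G) * z * a * ((z : G)⁻¹ * (w : G)⁻¹) = w * (z * a * (z : G)⁻¹) * (w : G)⁻¹ by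
        simp [mul_assoc], h1 a ha, h2 _ (inv_mem ha), inv_inv]
    exact hwz (Subtype.ext (mul_eq_one_iff_eq_inv.1 he |>.trans (inv_eq_of_mul_eq_one_right (hsq z))))
  have hc4 : c ^ 4 = 1 := by rw [← hco, pow_orderOf_eq_one]
  have hc2 : c ^ 2 ≠ 1 := fun e => by
    have := Nat.le_of_dvd two_pos (orderOf_dvd_of_pow_eq_one e); omega
  have hCz : C = zpowers c := (Subgroup.eq_of_le_of_card_ge (zpowers_le.2 hc) (by rw [hC, Nat.card_zpowers, hco])).symm
  have hinv : ∀ a ∈ (P : Subgroup G), c * (c * a * c⁻¹) * c⁻¹ = a⁻¹ := fun a ha => by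
    rw [← invol_inverts (c ^ 2) (pow_mem hc 2) (by rw [← pow_add]; exact hc4) hc2 a ha, pow_two, mul_inv_rev]
    simp [mul_assoc]
  have hnot : ∀ a ∈ (P : Subgroup G), a ≠ 1 → c * a * c⁻¹ ∉ zpowers a := by
    intro a ha ha1 hm
    have hoa : orderOf a = 3 ∨ orderOf a = 9 := by
      have hd : orderOf a ∣ 3 ^ 2 := by
        have := Subgroup.orderOf_dvd_natCard (P : Subgroup G) ha
        rwa [card_three h P] at this
      obtain ⟨k, hk, e⟩ := (Nat.dvd_prime_pow Nat.prime_three).1 hd
      interval_cases k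
      · exact absurd (orderOf_eq_one_iff.1 (e.trans (pow_zero 3))) ha1
      · exact Or.inl (e.trans (pow_one 3))
      · exact Or.inr (e.trans (by norm_num))
    rw [← mem_powers_iff_mem_zpowers, mem_powers_iff_mem_range_orderOf] at hm
    obtain ⟨k, hk, e⟩ := Finset.mem_image.1 hm
    have h1 := hinv a ha
    rw [← e, ← conj_pow, ← e, ← pow_mul] at h1
    have hd : orderOf a ∣ k * k + 1 := orderOf_dvd_of_pow_eq_one (by rw [pow_succ, h1, inv_mul_cancel])
    rw [Finset.mem_range] at hk
    rcases hoa with o | o <;> rw [o] at hk hd <;> interval_cases k <;> norm_num at hd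
  obtain ⟨x₁, hx₁P, hx₁⟩ : ∃ a ∈ (P : Subgroup G), orderOf a = 3 := by
    obtain ⟨⟨a, ha⟩, ho⟩ := exists_prime_orderOf_dvd_card' (G := (P : Subgroup G)) 3 (by rw [card_three h P]; norm_num)
    exact ⟨a, ha, by rw [← Subgroup.orderOf_coe] at ho; exact ho⟩
  set x₂ := c * x₁ * c⁻¹ with hx₂def
  have hx₂P : x₂ ∈ (P : Subgroup G) := hconjmem c hc x₁ hx₁P
  have hx13 : x₁ ^ 3 = 1 := by rw [← hx₁, pow_orderOf_eq_one]
  have hx23 : x₂ ^ 3 = 1 := by rw [hx₂def, conj_pow, hx13, mul_one, mul_inv_cancel]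
  have hcomm : Commute x₁ x₂ := comm_three h P hx₁P hx₂P
  have hx1ne : x₁ ≠ 1 := fun e => by rw [e, orderOf_one] at hx₁; norm_num at hx₁
  let f : Fin 10 → Sylow 3 G := fun i => if (i : ℕ) = 9 then P else (x₁ ^ ((i : ℕ) % 3) * x₂ ^ ((i : ℕ) / 3)) • Q
  have hcoord : ∀ i j k l : ℕ, i < 3 → j < 3 → k < 3 → l < 3 →
      (x₁ ^ i * x₂ ^ j) • Q = (x₁ ^ k * x₂ ^ l) • Q → i = k ∧ j = l := by
    intro i j k l hi hj hk hl e
    have e' := congrArg Subtype.val ((orb P Q hQ).1
      (a₁ := (⟨x₁ ^ i * x₂ ^ j, mul_mem (pow_mem hx₁P i) (pow_mem hx₂P j)⟩ : (P : Subgroup G)))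
      (a₂ := ⟨x₁ ^ k * x₂ ^ l, mul_mem (pow_mem hx₁P k) (pow_mem hx₂P l)⟩) e)
    change x₁ ^ i * x₂ ^ j = x₁ ^ k * x₂ ^ l at e'
    have hjl : j = l := by
      by_contra hne
      refine hnot x₁ hx₁P hx1ne ?_
      have h2 : x₂ ^ ((j : ℤ) - l) ∈ zpowers x₁ := by
        have : x₂ ^ ((j : ℤ) - l) = x₁ ^ (-(i : ℤ) + k) := by
          rw [zpow_sub, zpow_add, zpow_neg, zpow_natCast, zpow_natCast, zpow_natCast, zpow_natCast,
            mul_inv_eq_iff_eq_mul, mul_assoc, eq_inv_mul_iff_mul_eq]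
          exact e'
        rw [this]; exact zpow_mem_zpowers _ _
      have h2' : x₂ ^ 1 ∈ zpowers x₁ := by
        have hz3 : x₂ ^ (3 : ℤ) = 1 := by rw [show (3 : ℤ) = ((3 : ℕ) : ℤ) from rfl, zpow_natCast, hx23]
        obtain ⟨u, v, huv⟩ : ∃ u v : ℤ, u * ((j : ℤ) - l) + v * 3 = 1 := by
          have : (j : ℤ) - l = 1 ∨ (j : ℤ) - l = -1 ∨ (j : ℤ) - l = 2 ∨ (j : ℤ) - l = -2 := by omega
          rcases this with h | h | h | h <;> rw [h]
          exacts [⟨1, 0, rfl⟩, ⟨-1, 0, rfl⟩, ⟨2, -1, rfl⟩, ⟨-2, -1, rfl⟩]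
        rw [show x₂ ^ 1 = x₂ ^ (1 : ℤ) by simp, ← huv, zpow_add, zpow_mul', zpow_mul', hz3, one_zpow, mul_one]
        exact Subgroup.zpow_mem _ h2 u
      rwa [pow_one] at h2'
    subst hjl
    exact ⟨pow_injOn_Iio_orderOf (show i ∈ Set.Iio (orderOf x₁) by rw [hx₁]; exact hi)
      (show k ∈ Set.Iio (orderOf x₁) by rw [hx₁]; exact hk) (mul_right_cancel e'), rfl⟩
  have hfb : Function.Bijective f := by
    refine (Nat.bijective_iff_injective_and_card f).2 ⟨fun i j e => ?_, by rw [Nat.card_fin, card10]⟩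
    have hne : ∀ a ∈ (P : Subgroup G), a • Q ≠ P := fun a ha e' =>
      hQ (MulAction.injective a (e'.trans ((hstab a P).2 (Subgroup.le_normalizer ha)).symm))
    simp only [f] at e
    split_ifs at e with h1 h2 h2
    · exact Fin.ext (h1.trans h2.symm)
    · exact absurd e.symm (hne _ (mul_mem (pow_mem hx₁P _) (pow_mem hx₂P _)))
    · exact absurd e (hne _ (mul_mem (pow_mem hx₁P _) (pow_mem hx₂P _)))
    · obtain ⟨a, b⟩ := hcoord _ _ _ _ (Nat.mod_lt _ three_pos) (by omega) (Nat.mod_lt _ three_pos) (by omega) e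
      exact Fin.ext (by omega)
  let eS : Fin 10 ≃ Sylow 3 G := Equiv.ofBijective f hfb
  let φ : G →* Equiv.Perm (Fin 10) := eS.symm.permCongrHom.toMonoidHom.comp (MulAction.toPermHom G (Sylow 3 G))
  have φdef : ∀ g i, eS (φ g i) = g • eS i := fun g i => eS.apply_symm_apply _
  have hφ : Function.Injective φ := by
    rw [← MonoidHom.ker_eq_bot_iff, eq_bot_iff]
    intro g hg
    rw [mem_bot]
    refine faithful g fun R => ?_
    obtain ⟨i, rfl⟩ := eS.surjective R
    rw [← φdef, MonoidHom.mem_ker.1 hg]; rfl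
  have hPfix : ∀ a ∈ (P : Subgroup G), a • P = P := fun a ha => (hstab a P).2 (Subgroup.le_normalizer ha)
  have hmoveP : ∀ (g : G), g ∈ (P : Subgroup G) → ∀ i : Fin 10, (i : ℕ) ≠ 9 →
      g • f i = (g * (x₁ ^ ((i : ℕ) % 3) * x₂ ^ ((i : ℕ) / 3))) • Q := by
    intro g _ i hi; simp only [f, if_neg hi, mul_smul]
  have hX : φ x₁ = X₀ := Equiv.ext fun i => eS.injective (by
    rw [φdef]
    show x₁ • f i = f (X₀ i)
    by_cases h9 : (i : ℕ) = 9
    · obtain rfl : i = 9 := Fin.ext h9
      simp [f, X₀, hPfix x₁ hx₁P]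
    · have hval : ∀ i : Fin 10, (i : ℕ) ≠ 9 → (X₀ i : ℕ) ≠ 9 ∧ (X₀ i : ℕ) % 3 = ((i : ℕ) % 3 + 1) % 3 ∧
          (X₀ i : ℕ) / 3 = (i : ℕ) / 3 := by decide +kernel
      obtain ⟨v1, v2, v3⟩ := hval i h9
      rw [hmoveP x₁ hx₁P i h9]
      simp only [f, if_neg v1, v2, v3]
      rw [← mul_assoc, ← pow_succ', ← pow_eq_pow_mod _ hx13])
  have hY : φ x₂ = Y₀ := Equiv.ext fun i => eS.injective (by
    rw [φdef]
    show x₂ • f i = f (Y₀ i)
    by_cases h9 : (i : ℕ) = 9
    · obtain rfl : i = 9 := Fin.ext h9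
      simp [f, Y₀, hPfix x₂ hx₂P]
    · have hval : ∀ i : Fin 10, (i : ℕ) ≠ 9 → (Y₀ i : ℕ) ≠ 9 ∧ (Y₀ i : ℕ) % 3 = (i : ℕ) % 3 ∧
          (Y₀ i : ℕ) / 3 = ((i : ℕ) / 3 + 1) % 3 := by decide +kernel
      obtain ⟨v1, v2, v3⟩ := hval i h9
      rw [hmoveP x₂ hx₂P i h9]
      simp only [f, if_neg v1, v2, v3]
      rw [← mul_assoc, ← (hcomm.pow_left _).eq, mul_assoc, ← pow_succ', ← pow_eq_pow_mod _ hx23])
  have hC₀ : φ c = C₀ := Equiv.ext fun i => eS.injective (by
    rw [φdef]
    show c • f i = f (C₀ i)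
    have hcx2 : c * x₂ * c⁻¹ = x₁ ^ 2 := by
      rw [hx₂def, hinv x₁ hx₁P]; exact inv_eq_of_mul_eq_one_left (by rw [← pow_succ, hx13])
    have key : ∀ a b : ℕ, c • (x₁ ^ a * x₂ ^ b) • Q = (x₁ ^ ((2 * b) % 3) * x₂ ^ (a % 3)) • Q := fun a b => by
      rw [hconjpt c hc, ← conj_mul, ← conj_pow, ← conj_pow, ← hx₂def, hcx2, ← pow_mul,
        ← (hcomm.pow_pow (2 * b) a).eq, ← pow_eq_pow_mod _ hx13, ← pow_eq_pow_mod _ hx23]
    by_cases h9 : (i : ℕ) = 9
    · obtain rfl : i = 9 := Fin.ext h9
      simp [f, C₀]; exact hc.1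
    · have hval : ∀ i : Fin 10, (i : ℕ) ≠ 9 → (C₀ i : ℕ) ≠ 9 ∧ (C₀ i : ℕ) % 3 = 2 * ((i : ℕ) / 3) % 3 ∧
          (C₀ i : ℕ) / 3 = (i : ℕ) % 3 % 3 := by decide +kernel
      obtain ⟨v1, v2, v3⟩ := hval i h9
      simp only [f, if_neg h9, if_neg v1, key, v2, v3])
  -- exchanging the two points
  obtain ⟨g, hg⟩ := MulAction.exists_smul_eq G P Q
  have hgQ : g • Q ≠ Q := fun e => hQ (MulAction.injective g (e.trans hg.symm))
  obtain ⟨a, ha, hat⟩ := (orb Q (g • Q) hgQ).2 P hQ.symm
  set t := a * g with htdef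
  have htP : t • P = Q := by rw [htdef, mul_smul, hg]; exact (hstab a Q).2 (Subgroup.le_normalizer ha)
  have htQ : t • Q = P := by rw [htdef, mul_smul]; exact hat
  have htc : t * c * t⁻¹ = c ∨ t * c * t⁻¹ = c ^ 3 := by
    have e1 : t⁻¹ • P = Q := by rw [inv_smul_eq_iff, htQ]
    have e2 : t⁻¹ • Q = P := by rw [inv_smul_eq_iff, htP]
    have hmem : t * c * t⁻¹ ∈ C := by
      have c1 : c • P = P := hc.1
      have c2 : c • Q = Q := hc.2
      refine ⟨?_, ?_⟩
      · show (t * c * t⁻¹) • P = P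
        rw [mul_smul, mul_smul, e1, c2, htQ]
      · show (t * c * t⁻¹) • Q = Q
        rw [mul_smul, mul_smul, e2, c1, htP]
    rw [hCz, ← mem_powers_iff_mem_zpowers, mem_powers_iff_mem_range_orderOf, hco] at hmem
    obtain ⟨k, hk, e⟩ := Finset.mem_image.1 hmem
    have hord : orderOf (t * c * t⁻¹) = 4 := by
      rw [← hco]; exact (MulAut.conj t).orderOf_eq c
    rw [← e] at hord
    rw [Finset.mem_range] at hk
    interval_cases k
    · simp at hord
    · exact Or.inl (by rw [← e, pow_one])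
    · have : (c ^ 2) ^ 2 = 1 := by rw [← pow_mul]; exact hc4
      have := Nat.le_of_dvd two_pos (orderOf_dvd_of_pow_eq_one this)
      omega
    · exact Or.inr e.symm
  have h9 : eS 9 = P := by simp [eS, f]
  have h0 : eS 0 = Q := by simp [eS, f]
  obtain ⟨k, -, hk⟩ := t_cases (φ t) (eS.injective (by rw [φdef, h9, h0, htP]))
    (eS.injective (by rw [φdef, h9, h0, htQ]))
    (by
      rcases htc with e | e
      · left; intro i
        rw [← hC₀, ← Equiv.Perm.mul_apply, ← Equiv.Perm.mul_apply, ← map_mul, ← map_mul,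
          mul_inv_eq_iff_eq_mul.1 e]
      · right; intro i
        have e3 : c ^ 3 = c⁻¹ := eq_inv_of_mul_eq_one_left (by rw [← pow_succ]; exact hc4)
        have hC₀' : C₀.symm = φ c⁻¹ := by rw [map_inv, hC₀, Equiv.Perm.inv_def]
        rw [hC₀', ← hC₀, ← Equiv.Perm.mul_apply, ← Equiv.Perm.mul_apply, ← map_mul, ← map_mul,
          mul_inv_eq_iff_eq_mul.1 e, e3])
    (fun w hwm hw9 hw0 => by
      let gw : G := w.foldr (fun k z => (if k = 0 then t else if k = 1 then x₁ else if k = 2 then x₂ else c) * z) 1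
      have hev : ∀ i, evalW (φ t) w i = φ gw i := by
        intro i
        simp only [gw, evalW]
        clear hw9 hw0 hwm gw
        induction w with
        | nil => simp
        | cons k w ih =>
          rw [List.foldr_cons, List.foldr_cons, ih]
          split_ifs <;> simp [hX, hY, hC₀]
      have hmem : gw ∈ C := by
        refine ⟨?_, ?_⟩
        · have := φdef gw 9; rw [← hev, hw9, h9] at this; exact this.symm
        · have := φdef gw 0; rw [← hev, hw0, h0] at this; exact this.symm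
      rw [hCz, ← mem_powers_iff_mem_zpowers, mem_powers_iff_mem_range_orderOf, hco] at hmem
      obtain ⟨k, hk, e⟩ := Finset.mem_image.1 hmem
      exact ⟨k, Finset.mem_range.1 hk, fun i => by rw [hev, ← e, map_pow, hC₀]⟩)
  have hgen : closure {x₁, x₂, c, t} = (⊤ : Subgroup G) := by
    by_contra hne
    set H := closure ({x₁, x₂, c, t} : Set G) with hH
    have hPH : (P : Subgroup G) ≤ H := by
      intro b hb
      obtain ⟨i, hi⟩ := hfb.2 (b • Q)
      by_cases hi9 : (i : ℕ) = 9
      · simp only [f, if_pos hi9] at hi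
        exact absurd (MulAction.injective b (hi.symm.trans (hPfix b hb).symm)) hQ
      simp only [f, if_neg hi9] at hi
      have := congrArg Subtype.val ((orb P Q hQ).1
        (a₁ := (⟨_, mul_mem (pow_mem hx₁P ((i : ℕ) % 3)) (pow_mem hx₂P ((i : ℕ) / 3))⟩ : (P : Subgroup G)))
        (a₂ := ⟨b, hb⟩) hi)
      rw [← show x₁ ^ ((i : ℕ) % 3) * x₂ ^ ((i : ℕ) / 3) = b from this]
      exact mul_mem (pow_mem (subset_closure (by simp)) _) (pow_mem (subset_closure (by simp)) _)
    have hcH : c ∈ H := subset_closure (by simp)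
    have hd9 : 9 ∣ Nat.card H := card_three h P ▸ Subgroup.card_dvd_of_le hPH
    have hd4 : 4 ∣ Nat.card H := hco ▸ Subgroup.orderOf_dvd_natCard _ hcH
    have hNH : normalizer ((P : Subgroup G) : Set G) ≤ H := by
      rw [← hCN]
      intro n hn
      by_cases hnQ : n • Q = Q
      · have : n ∈ C := ⟨hn, hnQ⟩
        rw [hCz] at this
        exact zpowers_le.2 hcH this
      obtain ⟨b, hb, e⟩ := (orb P Q hQ).2 (n • Q) fun e =>
        hQ (MulAction.injective n (e.trans (MulAction.mem_stabilizer_iff.1 hn).symm))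
      have : b⁻¹ * n ∈ C := ⟨(by
          show (b⁻¹ * n) • P = P
          rw [mul_smul, MulAction.mem_stabilizer_iff.1 hn, inv_smul_eq_iff]
          exact (hPfix b hb).symm),
        (by show (b⁻¹ * n) • Q = Q; rw [mul_smul, inv_smul_eq_iff, e])⟩
      rw [hCz] at this
      have h2 := mul_mem (hPH hb) (zpowers_le.2 hcH this)
      rwa [mul_inv_cancel_left] at h2
    have hne36 : Nat.card H ≠ 36 := fun e => by
      have := Subgroup.eq_of_le_of_card_ge hNH (by rw [e, card_normalizer_three h P])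
      have htH : t ∈ normalizer ((P : Subgroup G) : Set G) := this ▸ subset_closure (by simp)
      exact hQ (htP.symm.trans ((hstab t P).2 htH))
    have h6 := six_le_index h hne
    have hm := H.index_mul_card
    rw [h] at hm
    obtain ⟨m, hm'⟩ := Nat.Coprime.mul_dvd_of_dvd_of_dvd (by norm_num : Nat.Coprime 9 4) hd9 hd4
    have hpos := Nat.card_pos (α := H)
    rw [hm'] at hm hne36 hpos
    have := Nat.mul_le_mul h6 (show 2 ≤ m by omega)
    nlinarith
  have hrange : φ.range = K := by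
    rw [MonoidHom.range_eq_map, ← hgen, MonoidHom.map_closure, Set.image_insert_eq, Set.image_insert_eq,
      Set.image_pair, hX, hY, hC₀, hk, K]
    have hC₀mem : C₀ ∈ Subgroup.closure ({X₀, Y₀, C₀, C₀ ^ k * T₀} : Set _) := subset_closure (by simp)
    have hC₀mem' : C₀ ∈ Subgroup.closure ({X₀, Y₀, C₀, T₀} : Set _) := subset_closure (by simp)
    apply le_antisymm <;> rw [Subgroup.closure_le]
    · rintro z (rfl | rfl | rfl | rfl)
      iterate 3 exact subset_closure (by simp)
      exact mul_mem (pow_mem hC₀mem' k) (subset_closure (by simp))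
    · rintro z (rfl | rfl | rfl | rfl)
      iterate 3 exact subset_closure (by simp)
      have := mul_mem (inv_mem (pow_mem hC₀mem k))
        (subset_closure (show C₀ ^ k * T₀ ∈ ({X₀, Y₀, C₀, C₀ ^ k * T₀} : Set _) by simp))
      rwa [inv_mul_cancel_left] at this
  exact ⟨(MonoidHom.ofInjective hφ).trans (MulEquiv.subgroupCongr hrange)⟩

/-- A simple group of order 360 is alternating of degree six. -/
theorem equiv_alternating (h : Nat.card G = 360) : Nonempty (G ≃* alternatingGroup (Fin 6)) := by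
  haveI : IsSimpleGroup (alternatingGroup (Fin 6)) :=
    alternatingGroup.isSimpleGroup (by rw [Nat.card_fin]; norm_num)
  have hA : Nat.card (alternatingGroup (Fin 6)) = 360 := by
    rw [Nat.card_eq_fintype_card, card_alternatingGroup]; rfl
  obtain ⟨a⟩ := exists_model h
  obtain ⟨b⟩ := exists_model hA
  exact ⟨a.trans b.symm⟩

end CfsgLib.Sporadic.SimpleIso360
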