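import Cfsg.Agent.Lib.Sporadic.CosetCertSound
import Cfsg.Prelude.Def_SporCoxeter

/-!
# Reading certificates in Coxeter-graph presentations

Words of a certificate are lists of letters in order of application; a relator of a presented
group gives the word obtained from its reduced form, reversed, with inverse letters for inverse
generators.
-/

namespace CfsgLib.Sporadic.CosetCert

/-- Product of a list of letters, in order of application. -/
def appProd {G : Type*} [Group G] (g : ℕ → G) : List ℕ → G
  | [] => 1
  | x :: t => appProd g t * g x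

theorem appProd_append {G : Type*} [Group G] (g : ℕ → G) (L L' : List ℕ) :
    appProd g (L ++ L') = appProd g L' * appProd g L := by
  induction L with
  | nil => simp [appProd]
  | cons x t ih => simp [appProd, ih, mul_assoc]

/-- The letters of word number `i`. -/
noncomputable def Cert.letters (C : Cert) (i : ℕ) : List ℕ :=
  (List.range (C.word i).1).map fun j => letterAt (C.word i).1 (C.word i).2 0 j

theorem Cert.Interp.prod_eq_appProd {C : Cert} {G : Type*} [Group G] {X : Type*} [MulAction G X]
    (I : C.Interp G X) (n bits : ℕ) :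
    ∀ j, I.prod n bits 0 j =
      appProd I.g ((List.range j).map fun k => letterAt n bits 0 k) := by
  intro j
  induction j with
  | zero => rfl
  | succ j ih =>
    rw [List.range_succ, List.map_append, appProd_append, ← ih]
    simp [appProd, Cert.Interp.prod]

section Word

variable {α : Type*} [DecidableEq α]

/-- The letters of a free group element, in order of application. -/
def appWord (code cinv : α → ℕ) (r : FreeGroup α) : List ℕ :=
  r.toWord.reverse.map fun p => cond p.2 (code p.1) (cinv p.1)

theorem lift_eq_appProd {G : Type*} [Group G] (f : α → G) (g : ℕ → G) (code cinv : α → ℕ)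
    (hc : ∀ x, g (code x) = f x) (hi : ∀ x, g (cinv x) = (f x)⁻¹) (r : FreeGroup α) :
    FreeGroup.lift f r = appProd g (appWord code cinv r) := by
  conv_lhs => rw [← FreeGroup.mk_toWord (x := r), FreeGroup.lift_mk]
  rw [appWord]
  induction r.toWord with
  | nil => rfl
  | cons p t ih =>
    rw [List.map_cons, List.prod_cons, List.reverse_cons, List.map_append, appProd_append, ih]
    obtain ⟨x, b⟩ := p
    cases b <;> simp [appProd, hc, hi]

theorem mk_eq_appProd {rels : Set (FreeGroup α)} (g : ℕ → PresentedGroup rels)
    (code cinv : α → ℕ) (hc : ∀ x, g (code x) = PresentedGroup.of x)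
    (hi : ∀ x, g (cinv x) = (PresentedGroup.of x : PresentedGroup rels)⁻¹) (r : FreeGroup α) :
    PresentedGroup.mk rels r = appProd g (appWord code cinv r) := by
  rw [← lift_eq_appProd (PresentedGroup.of (rels := rels)) g code cinv hc hi r]
  induction r using FreeGroup.induction_on with
  | C1 => simp
  | of x => simp [PresentedGroup.of]
  | inv_of x ih => simp [PresentedGroup.of]
  | mul x y hx hy => simp [hx, hy]

end Word

section Cox

variable {α : Type*} [DecidableEq α]

/-- The relator of a pair of nodes. -/
def pairRel (edges : List (α × ℕ × α)) (p : α × α) : FreeGroup α :=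
  (FreeGroup.of p.1 * FreeGroup.of p.2) ^ Cfsg.Spor.coxLabel edges p.1 p.2

/-- Relators of a Coxeter-graph presentation, one for each pair in `pairs`. -/
def relList (edges : List (α × ℕ × α)) (extra : List (FreeGroup α)) (pairs : List (α × α)) :
    List (FreeGroup α) :=
  pairs.map (pairRel edges) ++ extra

theorem mk_relList {edges : List (α × ℕ × α)} {extra : List (FreeGroup α)}
    {pairs : List (α × α)}
    (hp : ∀ p ∈ pairs, p.1 ∈ Cfsg.Spor.coxNodes edges ∧ p.2 ∈ Cfsg.Spor.coxNodes edges)
    {r : FreeGroup α} (hr : r ∈ relList edges extra pairs) :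
    PresentedGroup.mk (Cfsg.Spor.coxRelators edges ∪ {r | r ∈ extra}) r = 1 := by
  apply PresentedGroup.one_of_mem
  rcases List.mem_append.1 hr with h | h
  · obtain ⟨p, hpm, rfl⟩ := List.mem_map.1 h
    exact Or.inl ⟨p.1, (hp p hpm).1, p.2, (hp p hpm).2, rfl⟩
  · exact Or.inr h

theorem lift_cox_eq_one {H : Type*} [Group H] (f : α → H) {edges : List (α × ℕ × α)}
    {extra : List (FreeGroup α)} {pairs : List (α × α)}
    (hp : ∀ x ∈ Cfsg.Spor.coxNodes edges, ∀ y ∈ Cfsg.Spor.coxNodes edges,
      (x, y) ∈ pairs ∨
        ((y, x) ∈ pairs ∧ Cfsg.Spor.coxLabel edges y x = Cfsg.Spor.coxLabel edges x y))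
    (h : ∀ r ∈ relList edges extra pairs, FreeGroup.lift f r = 1) :
    ∀ r ∈ Cfsg.Spor.coxRelators edges ∪ {r | r ∈ extra}, FreeGroup.lift f r = 1 := by
  rintro r (⟨x, hx, y, hy, rfl⟩ | hr)
  · rcases hp x hx y hy with hxy | ⟨hyx, hl⟩
    · exact h _ (List.mem_append_left _ (List.mem_map.2 ⟨(x, y), hxy, rfl⟩))
    · have h2 := h _ (List.mem_append_left _ (List.mem_map.2 ⟨(y, x), hyx, rfl⟩))
      simp only [pairRel, hl, map_pow, map_mul, FreeGroup.lift_apply_of] at h2 ⊢
      have : f x * f y = (f y)⁻¹ * (f y * f x) * (f y) := by group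
      rw [this]
      have h3 := conj_pow (i := Cfsg.Spor.coxLabel edges x y) (a := (f y)⁻¹) (b := f y * f x)
      rw [inv_inv] at h3
      rw [h3, h2]
      group
  · exact h r (List.mem_append_right _ hr)

end Cox

end CfsgLib.Sporadic.CosetCert
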