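import Cfsg.Agent.Lib.Sporadic.PlaneFour

/-!
Counting quadrangles and hyperovals in the projective plane of order four, and extension of permutations
of a hyperoval to collineations.
-/

set_option autoImplicit false
set_option maxRecDepth 20000
set_option synthInstance.maxSize 20000

namespace CfsgLib.Sporadic.PlaneFour

open Finset Cfsg
open scoped Pointwise

/-- The lines of the model on twenty-one numbered points. -/
def lines21 : Fin 21 → Finset (Fin 21) :=
  ![{16, 17, 18, 19, 20},
    {0, 4, 8, 12, 19},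
    {1, 5, 9, 13, 19},
    {2, 6, 10, 14, 19},
    {3, 7, 11, 15, 19},
    {0, 1, 2, 3, 20},
    {4, 5, 6, 7, 20},
    {8, 9, 10, 11, 20},
    {12, 13, 14, 15, 20},
    {0, 5, 10, 15, 16},
    {1, 4, 11, 14, 16},
    {2, 7, 8, 13, 16},
    {3, 6, 9, 12, 16},
    {0, 6, 11, 13, 17},
    {1, 7, 10, 12, 17},
    {2, 4, 9, 15, 17},
    {3, 5, 8, 14, 17},
    {0, 7, 9, 14, 18},
    {1, 6, 8, 15, 18},
    {2, 5, 11, 12, 18},
    {3, 4, 10, 13, 18}]

theorem quad_card21 :
    (((univ : Finset (Fin 21)).powersetCard 4).filter fun S => ∀ k, (lines21 k ∩ S).card ≤ 2).card = 2520 := by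
  decide +kernel

/-- Numbering of the points of the model. -/
def num : Pt ≃ Fin 21 := (Equiv.sumCongr finProdFinEquiv (Equiv.refl _)).trans finSumFinEquiv

theorem lines21_pts : (∀ k, ∃ k', (pts k).image num = lines21 k') ∧ ∀ k', ∃ k, (pts k).image num = lines21 k' := by
  decide +kernel

variable {α : Type*} [Fintype α] [DecidableEq α] {L : Set (Finset α)}

theorem ncard_quads (hα : Fintype.card α = 21) (hL : IsSteinerSystem 2 5 L) :
    {S : Finset α | S.card = 4 ∧ ∀ l ∈ L, (l ∩ S).card ≤ 2}.ncard = 2520 := by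
  obtain ⟨e, he, -⟩ := iso_model hα hL
  let f : Fin 21 ≃ α := num.symm.trans e
  have hf : ∀ k', ∃ l ∈ L, (lines21 k').image f = l := fun k' => by
    obtain ⟨k, hk⟩ := lines21_pts.2 k'
    refine ⟨_, he k, ?_⟩
    rw [← hk, image_image]
    congr 1
    funext p
    simp [f]
  have hf' : ∀ l ∈ L, ∃ k', (lines21 k').image f = l := fun l hl => by
    obtain ⟨k, hk⟩ := image_eq hL e he hl
    obtain ⟨k', hk'⟩ := lines21_pts.1 k
    refine ⟨k', ?_⟩
    rw [← hk', image_image, ← hk]
    congr 1
    funext p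
    simp [f]
  have : {S : Finset α | S.card = 4 ∧ ∀ l ∈ L, (l ∩ S).card ≤ 2} =
      ↑(((((univ : Finset (Fin 21)).powersetCard 4).filter fun S => ∀ k, (lines21 k ∩ S).card ≤ 2)).map
        f.finsetCongr.toEmbedding) := by
    ext S
    obtain ⟨T, rfl⟩ := f.finsetCongr.surjective S
    rw [Finset.mem_coe, mem_map_equiv, Equiv.symm_apply_apply, mem_filter, mem_powersetCard]
    simp only [Set.mem_ofPred_eq, Equiv.finsetCongr_apply, map_eq_image, Equiv.coe_toEmbedding,
      card_image_of_injective _ f.injective, subset_univ, true_and]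
    refine and_congr_right fun _ => ⟨fun h k => ?_, fun h l hl => ?_⟩
    · obtain ⟨l, hl, rfl⟩ := hf k
      have := h _ hl
      rwa [← image_inter _ _ f.injective, card_image_of_injective _ f.injective] at this
    · obtain ⟨k, rfl⟩ := hf' l hl
      rw [← image_inter _ _ f.injective, card_image_of_injective _ f.injective]
      exact h k
  rw [this, Set.ncard_coe_finset, card_map, quad_card21]

theorem ncard_ovals (hα : Fintype.card α = 21) (hL : IsSteinerSystem 2 5 L) :
    {H : Finset α | H.card = 6 ∧ ∀ l ∈ L, (l ∩ H).card ≤ 2}.ncard = 168 := by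
  classical
  let Q : Finset (Finset α) := univ.filter fun S => S.card = 4 ∧ ∀ l ∈ L, (l ∩ S).card ≤ 2
  let O : Finset (Finset α) := univ.filter fun S => S.card = 6 ∧ ∀ l ∈ L, (l ∩ S).card ≤ 2
  have hQ : Q.card = 2520 := by
    rw [← Set.ncard_coe_finset, ← ncard_quads hα hL]; congr 1; ext; simp [Q]
  have hO : {H : Finset α | H.card = 6 ∧ ∀ l ∈ L, (l ∩ H).card ≤ 2}.ncard = O.card := by
    rw [← Set.ncard_coe_finset]; congr 1; ext; simp [O]
  have h := Finset.card_mul_eq_card_mul (fun S H : Finset α => S ⊆ H) (s := Q) (t := O) (m := 1) (n := 15)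
    (fun S hS => ?_) (fun H hH => ?_)
  · rw [hQ] at h; omega
  · obtain ⟨hS4, hSI⟩ := (mem_filter.1 hS).2
    obtain ⟨H, hH, huniq⟩ := exists_unique_oval hα hL hS4 hSI
    rw [card_eq_one]
    refine ⟨H, ?_⟩
    ext H'
    simp only [mem_bipartiteAbove, mem_singleton, O, mem_filter, mem_univ, true_and]
    exact ⟨fun h => huniq H' h, fun h => h ▸ hH⟩
  · obtain ⟨hH6, hHI⟩ := (mem_filter.1 hH).2
    have : Q.bipartiteBelow (fun S H : Finset α => S ⊆ H) H = H.powersetCard 4 := by
      ext S
      simp only [mem_bipartiteBelow, Q, mem_filter, mem_univ, true_and, mem_powersetCard]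
      exact ⟨fun h => ⟨h.2, h.1.1⟩, fun h => ⟨⟨h.2, fun l hl =>
        (card_le_card (inter_subset_inter_left h.1)).trans (hHI l hl)⟩, h.1⟩⟩
    rw [this, card_powersetCard, hH6]
    decide

/-- Every permutation of a hyperoval is induced by exactly one collineation. -/
theorem exists_unique_collineation (hα : Fintype.card α = 21) (hL : IsSteinerSystem 2 5 L) {H : Finset α}
    (hH6 : H.card = 6) (hH : ∀ l ∈ L, (l ∩ H).card ≤ 2) (σ : Equiv.Perm ↥H) :
    ∃! g : Equiv.Perm α, g ∈ setSystemAut L ∧ ∀ p : ↥H, g p = σ p := by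
  let q : Fin 6 ≃ H := (H.equivFinOfCardEq hH6).symm
  have hcoord : ∀ τ : Fin 6 ≃ H, ∃ e : Pt ≃ α, (∀ k, (pts k).image e ∈ L) ∧ ∀ i, e (oval i) = τ i := fun τ =>
    exists_coord_oval hα hL (fun i => (τ i : α)) (Subtype.val_injective.comp τ.injective)
      fun i j l a b c => indep_iff.1 hH _ (τ i).2 _ (τ j).2 _ (τ l).2
        (fun e => a (τ.injective (Subtype.ext e))) (fun e => b (τ.injective (Subtype.ext e)))
        (fun e => c (τ.injective (Subtype.ext e)))
  obtain ⟨e, he, heo⟩ := hcoord q
  obtain ⟨e', he', heo'⟩ := hcoord (q.trans σ)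
  have himage : ∀ (a b : Pt ≃ α), (∀ k, (pts k).image b ∈ L) → ∀ k,
      ((pts k).image a).image (a.symm.trans b) ∈ L := by
    intro a b hb k
    rw [image_image]
    convert hb k using 2
    funext p
    simp
  have haut : e.symm.trans e' ∈ setSystemAut L := by
    rw [MulAction.mem_stabilizer_set]
    intro l
    have hback : ∀ (a b : Pt ≃ α), (∀ k, (pts k).image a ∈ L) → (∀ k, (pts k).image b ∈ L) →
        ∀ l ∈ L, l.image (a.symm.trans b) ∈ L := by
      intro a b ha hb l hl
      obtain ⟨k, rfl⟩ := image_eq hL a ha hl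
      exact himage a b hb k
    constructor
    · intro hl
      have h := hback e' e he' he _ hl
      rw [show ((e.symm.trans e' : Equiv.Perm α) • l).image (e'.symm.trans e) = l from ?_] at h
      · exact h
      · show (l.image _).image _ = l
        simp [image_image, Function.comp_def]
    · exact hback e e' he he' l
  refine ⟨e.symm.trans e', ⟨haut, fun p => ?_⟩, ?_⟩
  · obtain ⟨i, rfl⟩ := q.surjective p
    rw [← heo i, Equiv.trans_apply, e.symm_apply_apply, heo' i]
    rfl
  · rintro g ⟨hg, hgH⟩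
    have h1 : (e.trans g).trans e'.symm = 1 := by
      refine model_rigid _ (fun k => ?_) (fun i => ?_)
      · have hl : ((pts k).image e).image g ∈ L :=
          (MulAction.mem_stabilizer_set.1 hg ((pts k).image e)).2 (he k)
        obtain ⟨k', hk'⟩ := image_eq hL e' he' hl
        refine ⟨k', ?_⟩
        have := congrArg (fun s => s.image e'.symm) hk'
        simp only [image_image] at this
        rw [show ((e.trans g).trans e'.symm : Pt → Pt) = ⇑e'.symm ∘ ⇑g ∘ ⇑e from rfl, ← this]
        simp [Function.comp_def]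
      · rw [Equiv.trans_apply, Equiv.trans_apply, heo, hgH, Equiv.symm_apply_eq, heo']
        rfl
    refine Equiv.ext fun x => ?_
    have := congrArg (fun r : Equiv.Perm Pt => e' (r (e.symm x))) h1
    simpa using this

end CfsgLib.Sporadic.PlaneFour
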