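import Cfsg.Agent.Lib.Sporadic.CosetCertApply
import Cfsg.Prelude.Def_Spor_Fi22
import Cfsg.Agent.Lib.Sporadic.FiData.FiCertH
import Cfsg.Agent.Lib.Sporadic.FiData.FiCertO
import Cfsg.Agent.Lib.Sporadic.FiData.FiCertO1
import Cfsg.Agent.Lib.Sporadic.FiData.FiCertE7
import Cfsg.Agent.Lib.Sporadic.FiData.FiCertE6
import Cfsg.Agent.Lib.Sporadic.FiData.FiCertD5
import Cfsg.Agent.Lib.Sporadic.FiData.FiCertD4
import Cfsg.Agent.Lib.Sporadic.FiData.FiCertA3
import Cfsg.Agent.Lib.Sporadic.FiData.FiCertA2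
import Cfsg.Agent.Lib.Sporadic.FiData.FiCertT

/-!
# Enumerations in the presented group Fi22: upper bounds
-/

open Cfsg.Spor

namespace CfsgLib.Sporadic.CosetCert.FiP

open Fi22 in
/-- All nine generators as letters. -/
def gens : List Gen := [Gen.a, Gen.b, Gen.c, Gen.d, Gen.e, Gen.f, Gen.g, Gen.h, Gen.i]

/-- The position of a generator. -/
def code : Fi22.Gen → ℕ
  | .a => 0 | .b => 1 | .c => 2 | .d => 3 | .e => 4 | .f => 5 | .g => 6 | .h => 7 | .i => 8

theorem mem_nodes (x : Fi22.Gen) : x ∈ coxNodes Fi22.edges := by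
  cases x <;> decide

theorem gens_getElem (x : Fi22.Gen) : gens[code x]? = some x := by
  cases x <;> rfl

/-- The coding of letters. -/
def coding : Coding Fi22.edges Fi22.extra 9 0x9876543210 where
  lets := gens.map fun x => (x, true)
  code := code
  cinv := code
  pairs := (List.range 9).flatMap fun i =>
    ((List.range 9).filter fun j => decide (i ≤ j)).map fun j =>
      (gens.getD i Fi22.Gen.a, gens.getD j Fi22.Gen.a)
  len := rfl
  code_eq a := by cases a <;> rfl
  cinv_eq a := Or.inr ⟨rfl, mem_nodes a⟩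
  inv_eq x hx := by
    refine ⟨gens.getD x Fi22.Gen.a, Or.inl ?_⟩
    revert x
    decide
  pairs_mem p hp := ⟨mem_nodes _, mem_nodes _⟩
  pairs_cover := by decide +kernel

/-- The subgroup generated by some letters. -/
noncomputable abbrev sub (l : List ℕ) : Subgroup Fi22 := coding.sub l

/-- All relators. -/
def allRels : List (FreeGroup Fi22.Gen) := relList Fi22.edges Fi22.extra coding.pairs

/-- The relators in some letters only. -/
def relsIn (l : List ℕ) : List (FreeGroup Fi22.Gen) :=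
  allRels.filter fun r => (appWord code code r).all fun x => decide (x ∈ l)

theorem relsIn_one {l : List ℕ} :
    ∀ r ∈ relsIn l, PresentedGroup.mk (coxRelators Fi22.edges ∪ {r | r ∈ Fi22.extra}) r = 1 :=
  fun _ hr => mk_relList coding.pairs_mem (List.mem_filter.1 hr).1

/-- The words of generators of a subgroup. -/
def subsOf (l : List ℕ) : List (FreeGroup Fi22.Gen) :=
  l.map fun i => FreeGroup.of (gens.getD i Fi22.Gen.a)

theorem subsOf_mem {l : List ℕ} (hl : ∀ i ∈ l, i < 9) :
    ∀ r ∈ subsOf l, PresentedGroup.mk (coxRelators Fi22.edges ∪ {r | r ∈ Fi22.extra}) r ∈ sub l := by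
  intro r hr
  obtain ⟨i, hi, rfl⟩ := List.mem_map.1 hr
  refine Subgroup.subset_closure ⟨i, hi, ?_⟩
  have e : i = code (gens.getD i Fi22.Gen.a) := by
    have h : ∀ j < 9, j = code (gens.getD j Fi22.Gen.a) := by decide
    exact h i (hl i hi)
  conv_lhs => rw [e]
  exact coding.gen_code _

theorem step {C : Cert} (hV : C.Valid) (hN : 0 < C.N) {n : ℕ} (hn : C.N = n) {σ l : List ℕ}
    (hσ : ∀ x < C.nl, σ.getD x 9 < 9 ∧
      σ.getD (C.inv x) 9 = Nat.mod (Nat.shiftRight 0x9876543210 (Nat.mul 4 (σ.getD x 9))) 16)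
    (hlen : σ.length = C.nl) (hl : ∀ i ∈ l, i < 9)
    (hrl : (relsIn σ).length = C.nr)
    (hW : (relsIn σ ++ subsOf l).map (appWord code code) =
      (List.range C.words.length).map fun i => (C.letters i).map (σ.getD · 9)) :
    (sub l).relIndex (sub σ) ≤ n ∧ (sub l).relIndex (sub σ) ≠ 0 := by
  subst hn
  exact coding.relIndex_sub_le C hV hN σ hσ hlen (relsIn σ) (subsOf l) relsIn_one
    (coding.wordsOK_of_map_eq hrl hW) (sub l) (subsOf_mem hl)

theorem sub_all : sub [0, 1, 2, 3, 4, 5, 6, 7, 8] = ⊤ := coding.sub_eq_top (by decide)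

/-- Generators of the subgroup of index 3510. -/
def wordsH : List (FreeGroup Fi22.Gen) :=
  [Fi22.a, Fi22.c, Fi22.d, Fi22.e, Fi22.f, Fi22.g, Fi22.h, Fi22.i,
    (Fi22.a * Fi22.b * Fi22.c * Fi22.d * Fi22.e * Fi22.h) ^ 5]

/-- The subgroup of index 3510. -/
noncomputable def grpH : Subgroup Fi22 :=
  Subgroup.closure
    (PresentedGroup.mk (coxRelators Fi22.edges ∪ {r | r ∈ Fi22.extra}) '' {r | r ∈ wordsH})

theorem index_H : grpH.index ≤ 3510 ∧ grpH.index ≠ 0 := by
  have := coding.relIndex_sub_le FiData.certH FiData.certH_valid (by decide +kernel)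
    [0, 1, 2, 3, 4, 5, 6, 7, 8] (by decide +kernel) rfl allRels wordsH
    (fun r hr => mk_relList coding.pairs_mem hr)
    (coding.wordsOK_of_map_eq (by decide +kernel) (by decide +kernel)) grpH
    (fun r hr => Subgroup.subset_closure ⟨r, hr, rfl⟩)
  rwa [coding.sub_eq_top (by decide), Subgroup.relIndex_top_right] at this

theorem index_O :
    (sub [1, 2, 3, 4, 5, 6, 7, 8]).index ≤ 14080 ∧ (sub [1, 2, 3, 4, 5, 6, 7, 8]).index ≠ 0 := by
  have := step (σ := [0, 1, 2, 3, 4, 5, 6, 7, 8]) (l := [1, 2, 3, 4, 5, 6, 7, 8])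
    FiData.certO_valid (by decide +kernel) (n := 14080) rfl (by decide +kernel) rfl (by decide)
    (by decide +kernel) (by decide +kernel)
  rwa [sub_all, Subgroup.relIndex_top_right] at this

theorem card_single (i : ℕ) (x : Fi22.Gen) (h : code x = i) :
    Nat.card (sub [i]) ≤ 2 ∧ Nat.card (sub [i]) ≠ 0 := by
  have e : sub [i] = Subgroup.closure {coding.gen i} := by
    show Subgroup.closure _ = _
    congr 1
    ext z
    simp [eq_comm]
  rw [e]
  refine card_closure_involution ?_
  have : coding.gen i = PresentedGroup.of x := h ▸ coding.gen_code x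
  rw [this]
  exact inv_eq_iff_mul_eq_one.1 (node_inv (mem_nodes _))

theorem card_mono {l l' : List ℕ} {n : ℕ} (h : l ⊆ l')
    (hc : Nat.card (sub l') ≤ n ∧ Nat.card (sub l') ≠ 0) :
    Nat.card (sub l) ≤ n ∧ Nat.card (sub l) ≠ 0 := by
  have : Finite (sub l') := Nat.finite_of_card_ne_zero hc.2
  have hle := coding.sub_mono h
  have : Finite (sub l) := Finite.of_injective _ (Subgroup.inclusion_injective hle)
  exact ⟨(Nat.card_le_card_of_injective _ (Subgroup.inclusion_injective hle)).trans hc.1,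
    Nat.card_pos.ne'⟩

theorem card_O : Nat.card (sub [1, 2, 3, 4, 5, 6, 7, 8]) ≤ 4585351680 ∧
    Nat.card (sub [1, 2, 3, 4, 5, 6, 7, 8]) ≠ 0 := by
  have h0 := card_single 2 Fi22.Gen.c rfl
  have s0 : (sub [2]).relIndex (sub [2, 3]) ≤ 3 ∧ (sub [2]).relIndex (sub [2, 3]) ≠ 0 :=
    step FiData.certA2_valid (by decide +kernel) rfl (by decide +kernel) rfl (by decide)
      (by decide +kernel) (by decide +kernel)
  have c0 := card_le_of_relIndex (coding.sub_mono (by decide)) s0 h0
  have s1 : (sub [2, 3]).relIndex (sub [2, 3, 4]) ≤ 4 ∧ (sub [2, 3]).relIndex (sub [2, 3, 4]) ≠ 0 :=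
    step FiData.certA3_valid (by decide +kernel) rfl (by decide +kernel) rfl (by decide)
      (by decide +kernel) (by decide +kernel)
  have c1 := card_le_of_relIndex (coding.sub_mono (by decide)) s1 c0
  have s2 : (sub [2, 3, 4]).relIndex (sub [2, 3, 4, 7]) ≤ 8 ∧ (sub [2, 3, 4]).relIndex (sub [2, 3, 4, 7]) ≠ 0 :=
    step FiData.certD4_valid (by decide +kernel) rfl (by decide +kernel) rfl (by decide)
      (by decide +kernel) (by decide +kernel)
  have c2 := card_le_of_relIndex (coding.sub_mono (by decide)) s2 c1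
  have s3 : (sub [2, 3, 4, 7]).relIndex (sub [2, 3, 4, 5, 7]) ≤ 10 ∧ (sub [2, 3, 4, 7]).relIndex (sub [2, 3, 4, 5, 7]) ≠ 0 :=
    step FiData.certD5_valid (by decide +kernel) rfl (by decide +kernel) rfl (by decide)
      (by decide +kernel) (by decide +kernel)
  have c3 := card_le_of_relIndex (coding.sub_mono (by decide)) s3 c2
  have s4 : (sub [2, 3, 4, 5, 7]).relIndex (sub [1, 2, 3, 4, 5, 7]) ≤ 27 ∧ (sub [2, 3, 4, 5, 7]).relIndex (sub [1, 2, 3, 4, 5, 7]) ≠ 0 :=
    step FiData.certE6_valid (by decide +kernel) rfl (by decide +kernel) rfl (by decide)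
      (by decide +kernel) (by decide +kernel)
  have c4 := card_le_of_relIndex (coding.sub_mono (by decide)) s4 c3
  have s5 : (sub [1, 2, 3, 4, 5, 7]).relIndex (sub [1, 2, 3, 4, 5, 6, 7]) ≤ 28 ∧ (sub [1, 2, 3, 4, 5, 7]).relIndex (sub [1, 2, 3, 4, 5, 6, 7]) ≠ 0 :=
    step FiData.certE7_valid (by decide +kernel) rfl (by decide +kernel) rfl (by decide)
      (by decide +kernel) (by decide +kernel)
  have c5 := card_le_of_relIndex (coding.sub_mono (by decide)) s5 c4
  have s6 : (sub [1, 2, 3, 4, 5, 6, 7]).relIndex (sub [1, 2, 3, 4, 5, 6, 7, 8]) ≤ 3159 ∧ (sub [1, 2, 3, 4, 5, 6, 7]).relIndex (sub [1, 2, 3, 4, 5, 6, 7, 8]) ≠ 0 :=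
    step FiData.certO1_valid (by decide +kernel) rfl (by decide +kernel) rfl (by decide)
      (by decide +kernel) (by decide +kernel)
  have c6 := card_le_of_relIndex (coding.sub_mono (by decide)) s6 c5
  exact c6

theorem card_le : Nat.card Fi22 ≤ 64561751654400 ∧ Nat.card Fi22 ≠ 0 := by
  have h := (sub [1, 2, 3, 4, 5, 6, 7, 8]).card_mul_index
  rw [← h]
  refine ⟨?_, mul_ne_zero card_O.2 index_O.2⟩
  exact (Nat.mul_le_mul card_O.1 index_O.1).trans (by norm_num)

/-- The word `e i d a b f c h`, of order 13. -/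
def wordT : FreeGroup Fi22.Gen :=
  Fi22.e * Fi22.i * Fi22.d * Fi22.a * Fi22.b * Fi22.f * Fi22.c * Fi22.h

/-- The word of order 13 and its conjugates by the generators. -/
def wordsT : List (FreeGroup Fi22.Gen) :=
  wordT :: gens.map fun x => FreeGroup.of x * wordT * FreeGroup.of x

theorem eq_top_of_wordT_mem (M : Subgroup Fi22) (hM : M.Normal)
    (h : PresentedGroup.mk (coxRelators Fi22.edges ∪ {r | r ∈ Fi22.extra}) wordT ∈ M) : M = ⊤ := by
  have hS : ∀ r ∈ wordsT,
      PresentedGroup.mk (coxRelators Fi22.edges ∪ {r | r ∈ Fi22.extra}) r ∈ M := by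
    intro r hr
    rcases List.mem_cons.1 hr with rfl | hr
    · exact h
    · obtain ⟨x, -, rfl⟩ := List.mem_map.1 hr
      rw [map_mul, map_mul]
      have hx : (PresentedGroup.of x : Fi22)⁻¹ = PresentedGroup.of x := node_inv (mem_nodes x)
      show (PresentedGroup.of x : Fi22) * _ * PresentedGroup.of x ∈ M
      conv_lhs => rfl
      nth_rewrite 2 [← hx]
      exact hM.conj_mem _ h _
  have := coding.relIndex_sub_le FiData.certT FiData.certT_valid (by decide +kernel)
    [0, 1, 2, 3, 4, 5, 6, 7, 8] (by decide +kernel) rfl allRels wordsT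
    (fun r hr => mk_relList coding.pairs_mem hr)
    (coding.wordsOK_of_map_eq (by decide +kernel) (by decide +kernel)) M hS
  rw [coding.sub_eq_top (by decide), Subgroup.relIndex_top_right] at this
  have hN : FiData.certT.N = 1 := rfl
  rw [hN] at this
  exact Subgroup.index_eq_one.1 (by omega)

end CfsgLib.Sporadic.CosetCert.FiP
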