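import Mathlib

/-!
# Checking a Boolean predicate on an initial segment
-/

namespace CfsgLib.Sporadic.CosetCert

/-- `p` holds below `n`. -/
noncomputable def allBelow (p : ℕ → Bool) (n : ℕ) : Bool :=
  Nat.rec (motive := fun _ => Bool) true (fun i ih => p i && ih) n

theorem of_allBelow {p : ℕ → Bool} {n : ℕ} (h : allBelow p n = true) : ∀ i < n, p i = true := by
  induction n with
  | zero => intro i hi; omega
  | succ n ih =>
    intro i hi
    change (p n && allBelow p n) = true at h
    simp only [Bool.and_eq_true] at h
    rcases Nat.lt_or_eq_of_le (Nat.le_of_lt_succ hi) with hi | rfl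
    · exact ih h.2 i hi
    · exact h.1

end CfsgLib.Sporadic.CosetCert
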