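import Cfsg.Agent.Lib.Sporadic.CosetCertApply

/-!
# Rows of a table inside a subgroup generated by some letters
-/

namespace CfsgLib.Sporadic.CosetCert

/-- Bitmask of the rows built from the letters in `l` only. -/
def rowMask (nl : ℕ) (slp : List (ℕ × ℕ)) (l : List ℕ) : ℕ :=
  ((List.range slp.length).foldl (fun m k =>
      bif Nat.testBit m (slp.getD k (0, 0)).1 && Nat.testBit m (slp.getD k (0, 0)).2
      then m ||| 2 ^ (nl + k) else m)
    (l.foldl (fun m x => m ||| 2 ^ x) 0))

/-- The mask is consistent: a marked row is a listed letter or a product of marked rows. -/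
def rowMaskOK (nl : ℕ) (slp : List (ℕ × ℕ)) (l : List ℕ) (m : ℕ) : Bool :=
  (List.range nl).all (fun x => !Nat.testBit m x || decide (x ∈ l)) &&
    (List.range slp.length).all fun k => !Nat.testBit m (nl + k) ||
      (Nat.testBit m (slp.getD k (0, 0)).1 && Nat.testBit m (slp.getD k (0, 0)).2)

theorem el_mem_of_rowMask {T : PTab} {G : Type*} [Group G] (g : ℕ → G) {l : List ℕ} {m : ℕ}
    (h : rowMaskOK T.nl T.slp l m = true) :
    ∀ r < T.nl + T.slp.length, Nat.testBit m r = true →
      T.el g r ∈ Subgroup.closure (g '' {x | x ∈ l}) := by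
  simp only [rowMaskOK, Bool.and_eq_true, List.all_eq_true, List.mem_range, Bool.or_eq_true,
    Bool.not_eq_true', decide_eq_true_eq] at h
  intro r
  induction r using Nat.strong_induction_on with
  | _ r ih =>
    intro hr hm
    rw [PTab.el]
    split_ifs with h1 h2
    · rcases h.1 r h1 with h3 | h3
      · rw [hm] at h3; exact absurd h3 (by simp)
      · exact Subgroup.subset_closure ⟨r, h3, rfl⟩
    · rcases h.2 (r - T.nl) (by omega) with h3 | ⟨h3, h4⟩
      · rw [show T.nl + (r - T.nl) = r by omega, hm] at h3; exact absurd h3 (by simp)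
      · exact mul_mem (ih _ h2.1 (by omega) h3) (ih _ h2.2 (by omega) h4)
    · exact one_mem _

theorem appProd_replicate {G : Type*} [Group G] (g : ℕ → G) (L : List ℕ) :
    ∀ n, appProd g (List.replicate n L).flatten = appProd g L ^ n := by
  intro n
  induction n with
  | zero => simp [appProd]
  | succ n ih => rw [List.replicate_succ, List.flatten_cons, appProd_append, ih, ← pow_succ]

theorem el_letter {T : PTab} {G : Type*} [Group G] (g : ℕ → G) {x : ℕ} (hx : x < T.nl) :
    T.el g x = g x := by
  rw [PTab.el, if_pos hx]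

theorem map_closure_letters {T : PTab} {G : Type*} [Group G]
    (φ : G →* Equiv.Perm (Fin T.N)) (g : ℕ → G) {l : List ℕ} (hl : ∀ x ∈ l, x < T.nl) :
    (Subgroup.closure (g '' {x | x ∈ l})).map φ = Subgroup.closure (T.rowSet φ g l) := by
  rw [MonoidHom.map_closure, Set.image_image]
  congr 1
  refine Set.image_congr fun x hx => ?_
  show φ (g x) = φ (T.el g x)
  rw [el_letter g (hl x hx)]

end CfsgLib.Sporadic.CosetCert
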