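import Cfsg.Agent.Lib.Sporadic.FiCoding
import Cfsg.Agent.Lib.Sporadic.CosetCertSubgroup
import Cfsg.Agent.Lib.Sporadic.CosetCertBelow
import Cfsg.Agent.Lib.Sporadic.FiData.FiRelators

/-!
# The presented group Fi22: order, index, suborbits
-/

open Cfsg.Spor

namespace CfsgLib.Sporadic.CosetCert.FiP

open FiData (table)

theorem exists_hom : ∃ φ : Fi22 →* Equiv.Perm (Fin table.N), table.Acts φ coding.gen :=
  coding.exists_acts table FiData.certH FiData.certH_valid rfl rfl rfl
    (fun u hu x hx => genOK_spec FiData.table_gen u (Nat.zero_le _) hu x hx)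
    (coding.tableOK_of_map_eq (by decide +kernel) (by decide +kernel) (by decide +kernel)
      FiData.table_relators)

/-- The action on 3510 points. -/
noncomputable def hom : Fi22 →* Equiv.Perm (Fin table.N) := exists_hom.choose

theorem hom_acts : table.Acts hom coding.gen := exists_hom.choose_spec

theorem two_le : 2 ≤ table.N := by decide +kernel

/-- The base point. -/
noncomputable def pt : Fin table.N := ⟨0, lt_of_lt_of_le Nat.two_pos two_le⟩

theorem map_sub {l : List ℕ} (hl : ∀ x ∈ l, x < table.nl) :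
    (sub l).map hom = Subgroup.closure (table.rowSet hom coding.gen l) :=
  map_closure_letters hom coding.gen hl

theorem rows_lt {l : List ℕ} (hl : ∀ x ∈ l, x < table.nl) :
    ∀ x ∈ l, x < table.nl + table.slp.length := fun x hx =>
  lt_of_lt_of_le (hl x hx) (Nat.le_add_right _ _)

theorem hom_word : ∀ (L : List ℕ), (∀ x ∈ L, x < table.nl) → ∀ v : Fin table.N,
    ((hom (appProd coding.gen L) v : Fin table.N) : ℕ) =
      L.foldl (fun w x => table.img x w) v := by
  intro L
  induction L with
  | nil => intro _ v; simp [appProd]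
  | cons x t ih =>
    intro hL v
    rw [appProd, map_mul, Equiv.Perm.mul_apply,
      ih (fun y hy => hL y (List.mem_cons_of_mem _ hy)),
      hom_acts.img_eq x (hL x List.mem_cons_self) v]
    rfl

theorem transitive : ∀ u, ∃ a, hom a pt = u := by
  intro u
  have hl : ∀ x ∈ [0, 1, 2, 3, 4, 5, 6, 7, 8], x < table.nl := by decide +kernel
  obtain ⟨h1, h2⟩ := PTab.orbit_eq hom_acts FiData.table_slp (rows_lt hl) pt
    FiData.searchAll FiData.searchAll_ok
  have h3 : table.maskSet (table.orbitMask [0, 1, 2, 3, 4, 5, 6, 7, 8] pt FiData.searchAll) =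
      Finset.univ := by
    apply Finset.eq_univ_of_card
    rw [h2, Fintype.card_fin]
    decide +kernel
  have hu : u ∈ MulAction.orbit
      (Subgroup.closure (table.rowSet hom coding.gen [0, 1, 2, 3, 4, 5, 6, 7, 8])) pt := by
    rw [h1, h3]; simp
  obtain ⟨⟨π, hπ⟩, rfl⟩ := hu
  rw [← map_sub hl, Subgroup.mem_map] at hπ
  obtain ⟨a, -, rfl⟩ := hπ
  exact ⟨a, rfl⟩

theorem hom_words : ∀ r ∈ wordsH, ∀ v : Fin table.N,
    ((hom (PresentedGroup.mk (coxRelators Fi22.edges ∪ {r | r ∈ Fi22.extra}) r) v : Fin table.N) : ℕ) =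
      (appWord code code r).foldl (fun w x => table.img x w) v := by
  intro r hr v
  rw [coding.mk_eq, hom_word _ ?_ v]
  · rfl
  · have h : ∀ r ∈ wordsH, ∀ x ∈ appWord code code r, x < table.nl := by decide +kernel
    exact h r hr

theorem hom_fix : ∀ k ∈ grpH, hom k pt = pt := by
  intro k hk
  induction hk using Subgroup.closure_induction with
  | mem k hk =>
    obtain ⟨r, hr, rfl⟩ := hk
    refine Fin.ext ?_
    rw [hom_words r hr pt]
    have h : ∀ r ∈ wordsH, (appWord code code r).foldl (fun w x => table.img x w) 0 = 0 := by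
      decide +kernel
    exact h r hr
  | one => simp
  | mul a b _ _ ha hb => rw [map_mul, Equiv.Perm.mul_apply, hb, ha]
  | inv a _ ha => rw [map_inv, Equiv.Perm.inv_def, Equiv.symm_apply_eq, ha]

theorem rowsH_lt : ∀ r ∈ FiData.rowsH, r < table.nl + table.slp.length := by decide +kernel

theorem map_grpH : grpH.map hom = Subgroup.closure (table.rowSet hom coding.gen FiData.rowsH) := by
  unfold grpH
  rw [MonoidHom.map_closure, Set.image_image]
  congr 1
  have hb : (wordsH.zip FiData.rowsH).all (fun p => allBelow (fun v =>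
      Nat.beq ((appWord code code p.1).foldl (fun w x => table.img x w) v) (table.img p.2 v))
      table.N) = true := by
    decide +kernel
  have h : ∀ p ∈ wordsH.zip FiData.rowsH, ∀ v < table.N,
      (appWord code code p.1).foldl (fun w x => table.img x w) v = table.img p.2 v :=
    fun p hp v hv => Nat.eq_of_beq_eq_true (of_allBelow (List.all_eq_true.1 hb p hp) v hv)
  have key : ∀ p ∈ wordsH.zip FiData.rowsH,
      hom (PresentedGroup.mk (coxRelators Fi22.edges ∪ {r | r ∈ Fi22.extra}) p.1) =
        hom (table.el coding.gen p.2) := by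
    intro p hp
    obtain ⟨hp1, hp2⟩ := List.of_mem_zip hp
    ext u
    rw [hom_words _ hp1, hom_acts.el_img FiData.table_slp _ (rowsH_lt _ hp2) u, h p hp u u.2]
  have hlen : wordsH.length = FiData.rowsH.length := rfl
  ext z
  constructor
  · rintro ⟨r, hr, rfl⟩
    obtain ⟨i, hi, rfl⟩ := List.mem_iff_getElem.1 hr
    exact ⟨FiData.rowsH[i]'(hlen ▸ hi), List.getElem_mem _,
      (key (wordsH[i], FiData.rowsH[i]'(hlen ▸ hi))
        (List.mem_iff_getElem.2 ⟨i, by simp [List.length_zip, ← hlen, hi], by simp⟩)).symm⟩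
  · rintro ⟨r, hr, rfl⟩
    obtain ⟨i, hi, rfl⟩ := List.mem_iff_getElem.1 hr
    exact ⟨wordsH[i]'(hlen ▸ hi), List.getElem_mem _,
      key (wordsH[i]'(hlen ▸ hi), FiData.rowsH[i])
        (List.mem_iff_getElem.2 ⟨i, by simp [List.length_zip, hlen, hi], List.getElem_zip⟩)⟩

theorem finite : Finite Fi22 := Nat.finite_of_card_ne_zero card_le.2

theorem card_eq : Nat.card Fi22 = 64561751654400 ∧ Function.Injective hom := by
  have := finite
  have h1 : 64561751654400 ≤ Nat.card hom.range := by
    rw [← FiData.chainG_prod]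
    exact PTab.chainProd_le_card hom_acts FiData.table_slp _ [] _ FiData.chainG_ok
      fun e _ r _ _ => ⟨_, rfl⟩
  have h2 : Nat.card hom.range ≤ Nat.card Fi22 :=
    Nat.card_le_card_of_surjective _ hom.rangeRestrict_surjective
  have hc : Nat.card Fi22 = 64561751654400 := le_antisymm card_le.1 (h1.trans h2)
  refine ⟨hc, ?_⟩
  have hb : Function.Bijective hom.rangeRestrict :=
    (Nat.bijective_iff_surjective_and_card _).2 ⟨hom.rangeRestrict_surjective, by omega⟩
  intro a b e
  exact hb.1 (Subtype.ext e)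

theorem index_H_eq : grpH.index = 3510 := by
  have h := (exists_quotient_equiv hom pt _ hom_fix transitive
    ⟨le_trans index_H.1 (by decide +kernel), index_H.2⟩).1
  rw [h]
  rfl

theorem suborbit {b : ℕ} (hb : b < table.N) {L : List (ℕ × ℕ × ℕ)}
    (hL : table.orbitOK FiData.rowsH b L = true) :
    ∃ O : Finset (Fin table.N),
      (O : Set _) = MulAction.orbit (grpH.map hom) (⟨b, hb⟩ : Fin table.N) ∧
        O = table.maskSet (table.orbitMask FiData.rowsH b L) ∧ O.card = L.length + 1 := by
  obtain ⟨h1, h2⟩ := PTab.orbit_eq hom_acts FiData.table_slp rowsH_lt ⟨b, hb⟩ L hL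
  exact ⟨_, by rw [map_grpH]; exact h1.symm, rfl, h2⟩

theorem disjoint_of_not_mem {b b' : ℕ} (hb : b < table.N) (hb' : b' < table.N)
    {O O' : Finset (Fin table.N)}
    (hO : (O : Set _) = MulAction.orbit (grpH.map hom) (⟨b, hb⟩ : Fin table.N))
    (hO' : (O' : Set _) = MulAction.orbit (grpH.map hom) (⟨b', hb'⟩ : Fin table.N))
    (hne : (⟨b', hb'⟩ : Fin table.N) ∉ O) : Disjoint O O' := by
  rw [← Finset.disjoint_coe, hO, hO']
  refine (MulAction.orbit.eq_or_disjoint _ _).resolve_left fun e => hne ?_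
  rw [← Finset.mem_coe, hO, e]
  exact MulAction.mem_orbit_self _

theorem coset_orbit {b : ℕ} (hb : b < table.N) {L : List (ℕ × ℕ × ℕ)}
    (hL : table.orbitOK FiData.rowsH b L = true) :
    ∃ q : Fi22 ⧸ grpH, (MulAction.orbit grpH q).ncard = L.length + 1 := by
  obtain ⟨-, e, -, he⟩ := exists_quotient_equiv hom pt _ hom_fix transitive
    ⟨le_trans index_H.1 (by decide +kernel), index_H.2⟩
  obtain ⟨O, hO, -, hc⟩ := suborbit hb hL
  refine ⟨e.symm ⟨b, hb⟩, ?_⟩
  rw [orbit_ncard_eq hom _ he _ _ rfl, Equiv.apply_symm_apply, ← hO, Set.ncard_coe_finset, hc]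

theorem index_O_eq : (sub [1, 2, 3, 4, 5, 6, 7, 8]).index = 14080 := by
  have := finite
  have hlo : 4585351680 ≤ Nat.card ((sub [1, 2, 3, 4, 5, 6, 7, 8]).map hom) := by
    rw [← FiData.chainO_prod]
    refine PTab.chainProd_le_card hom_acts FiData.table_slp _ [] _ FiData.chainO_ok
      fun e he r hr _ => Subgroup.mem_map_of_mem hom ?_
    have hm : ∀ e ∈ FiData.chainO, ∀ r ∈ e.2.1, r < table.nl + table.slp.length ∧
        Nat.testBit (rowMask table.nl table.slp [1, 2, 3, 4, 5, 6, 7, 8]) r = true := by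
      decide +kernel
    exact el_mem_of_rowMask coding.gen (l := [1, 2, 3, 4, 5, 6, 7, 8])
      (m := rowMask table.nl table.slp [1, 2, 3, 4, 5, 6, 7, 8]) (by decide +kernel) r
      (hm e he r hr).1 (hm e he r hr).2
  rw [Subgroup.card_map_of_injective card_eq.2] at hlo
  have hc : Nat.card (sub [1, 2, 3, 4, 5, 6, 7, 8]) = 4585351680 := le_antisymm card_O.1 hlo
  have := (sub [1, 2, 3, 4, 5, 6, 7, 8]).card_mul_index
  rw [hc, card_eq.1] at this
  omega

theorem isSimple : IsSimpleGroup Fi22 := by
  have := finite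
  obtain ⟨O₁, hO₁, e₁, hc₁⟩ := suborbit (b := 6) (by decide +kernel) FiData.search693_ok
  obtain ⟨O₂, hO₂, e₂, hc₂⟩ := suborbit (b := 1) (by decide +kernel) FiData.search2816_ok
  rw [show FiData.search693.length = 692 by decide +kernel] at hc₁
  rw [show FiData.search2816.length = 2815 by decide +kernel] at hc₂
  have hp₁ : pt ∉ O₁ := by
    rw [e₁, PTab.mem_maskSet]
    show ¬ Nat.testBit _ 0 = true
    decide +kernel
  have hp₂ : pt ∉ O₂ := by
    rw [e₂, PTab.mem_maskSet]
    show ¬ Nat.testBit _ 0 = true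
    decide +kernel
  have hdisj : Disjoint O₁ O₂ := by
    refine disjoint_of_not_mem _ _ hO₁ hO₂ ?_
    rw [e₁, PTab.mem_maskSet]
    show ¬ Nat.testBit _ 1 = true
    decide +kernel
  let t : Fi22 := PresentedGroup.mk (coxRelators Fi22.edges ∪ {r | r ∈ Fi22.extra}) wordT
  have ht : t ^ 13 ^ 1 = 1 := by
    apply card_eq.2
    rw [map_pow, map_one]
    have e : hom t = hom (appProd coding.gen (appWord coding.code coding.cinv wordT)) := by
      exact congrArg hom (coding.mk_eq wordT)
    rw [e, ← map_pow, ← appProd_replicate]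
    ext u
    rw [hom_word _ (by decide +kernel)]
    have hb : allBelow (fun v => Nat.beq
        ((List.replicate (13 ^ 1) (appWord coding.code coding.cinv wordT)).flatten.foldl
          (fun w x => table.img x w) v) v) table.N = true := by
      decide +kernel
    simpa using Nat.eq_of_beq_eq_true (of_allBelow hb u u.2)
  refine isSimpleGroup_of hom pt card_eq.2 transitive grpH hom_fix [O₁, O₂]
    ?_ ?_ ?_ ?_ ?_ (p := 13) (k := 1) (m := 4966288588800) (by norm_num) ?_ (by norm_num)
    (by decide +kernel) t 1 ht (fun M hM h => eq_top_of_wordT_mem M hM h) two_le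
  · intro O hO
    simp only [List.mem_cons, List.not_mem_nil, or_false] at hO
    rcases hO with rfl | rfl
    exacts [⟨_, hO₁⟩, ⟨_, hO₂⟩]
  · intro O hO
    simp only [List.mem_cons, List.not_mem_nil, or_false] at hO
    rcases hO with rfl | rfl
    exacts [hp₁, hp₂]
  · simp [hdisj]
  · have : table.N = 3510 := rfl
    simp [hc₁, hc₂, this]
  · have hN : table.N = 3510 := rfl
    intro I hI hne hlen
    simp [List.sublists] at hI
    rcases hI with rfl | rfl | rfl | rfl <;> simp_all
  · rw [card_eq.1]; norm_num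

theorem map_closure_H :
    (Subgroup.closure ({Fi22.a, Fi22.c, Fi22.d, Fi22.e, Fi22.f, Fi22.g, Fi22.h, Fi22.i,
        (Fi22.a * Fi22.b * Fi22.c * Fi22.d * Fi22.e * Fi22.h) ^ 5} : Set (FreeGroup Fi22.Gen))).map
      (PresentedGroup.mk (coxRelators Fi22.edges ∪ {r | r ∈ Fi22.extra})) = grpH := by
  rw [MonoidHom.map_closure]
  unfold grpH
  congr 2
  ext r
  simp [wordsH]

theorem map_closure_O :
    (Subgroup.closure ({Fi22.b, Fi22.c, Fi22.d, Fi22.e, Fi22.f, Fi22.g, Fi22.h, Fi22.i} :
        Set (FreeGroup Fi22.Gen))).map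
      (PresentedGroup.mk (coxRelators Fi22.edges ∪ {r | r ∈ Fi22.extra})) =
      sub [1, 2, 3, 4, 5, 6, 7, 8] := by
  rw [MonoidHom.map_closure]
  show _ = Subgroup.closure _
  congr 1
  simp only [List.mem_cons, List.not_mem_nil, or_false, Set.setOf_or, Set.image_union,
    Set.setOf_eq_eq_singleton, Set.image_singleton, Set.image_insert_eq, Set.insert_eq]
  rfl

end CfsgLib.Sporadic.CosetCert.FiP
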