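import Mathlib

/-!
# The field with four elements as `(ZMod 2)[w]`, `w² = w + 1`
-/

set_option autoImplicit false

namespace CfsgLib.Sporadic

/-- `a + b w`. -/
@[ext] structure FieldFour where
  re : ZMod 2
  im : ZMod 2
deriving DecidableEq

namespace FieldFour

instance : Zero FieldFour := ⟨⟨0, 0⟩⟩
instance : One FieldFour := ⟨⟨1, 0⟩⟩
instance : Add FieldFour := ⟨fun x y => ⟨x.re + y.re, x.im + y.im⟩⟩
instance : Neg FieldFour := ⟨fun x => x⟩
instance : Mul FieldFour :=
  ⟨fun x y => ⟨x.re * y.re + x.im * y.im, x.re * y.im + x.im * y.re + x.im * y.im⟩⟩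
instance : Inv FieldFour := ⟨fun x => x * x⟩

/-- The element with the given code. -/
def ofCode (k : Fin 4) : FieldFour := ⟨((k.val % 2 : ℕ) : ZMod 2), ((k.val / 2 : ℕ) : ZMod 2)⟩

/-- The code of an element. -/
def code (x : FieldFour) : ℕ := x.re.val + 2 * x.im.val

/-- The bijection with `Fin 4`. -/
def equivFin : Fin 4 ≃ FieldFour where
  toFun := ofCode
  invFun x := ⟨code x, by
    have h1 := x.re.val_lt
    have h2 := x.im.val_lt
    unfold code
    omega⟩
  left_inv := by decide
  right_inv := by rintro ⟨a, b⟩; revert a b; decide

instance : Fintype FieldFour := Fintype.ofEquiv _ equivFin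

instance : CommRing FieldFour where
  add_assoc := by decide
  zero_add := by decide
  add_zero := by decide
  add_comm := by decide
  neg_add_cancel := by decide
  nsmul := nsmulRec
  zsmul := zsmulRec
  left_distrib := by decide
  right_distrib := by decide
  zero_mul := by decide
  mul_zero := by decide
  mul_assoc := by decide
  one_mul := by decide
  mul_one := by decide
  mul_comm := by decide

instance : Nontrivial FieldFour := ⟨⟨0, 1, by decide⟩⟩

instance : Field FieldFour where
  mul_inv_cancel := by decide
  inv_zero := by decide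
  nnqsmul := _
  qsmul := _

theorem card_eq : Fintype.card FieldFour = 4 := rfl

end FieldFour

end CfsgLib.Sporadic
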