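import Cfsg.Agent.Lib.Sporadic.O7Coding
import Cfsg.Agent.Lib.Sporadic.O7Data.O7Table
import Cfsg.Agent.Lib.ThreeTransp.OmegaSevenOps
import Cfsg.Agent.Lib.Classical.OrthPOmega
import Cfsg.Agent.Lib.Classical.OrthApps
import Cfsg.Agent.Lib.Classical.OrthCount

/-!
# The presented group is the commutator subgroup of the orthogonal group of dimension seven

The generators go to negated reflections; the action on the 2187 vectors gives the lower bound for
the order of the image.
-/

set_option maxRecDepth 100000

open Cfsg.Spor CfsgLib.Orth CfsgLib.ThreeTransp.OmegaSeven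

namespace CfsgLib.Sporadic.CosetCert.O7P

/-- The commutator subgroup. -/
noncomputable abbrev Omg : Subgroup (orthGroup Q7) := commutator (orthGroup Q7)

/-- Codes of the roots. -/
def rootCodes : List ℕ := [2408, 2305, 2592, 6536, 2149, 11810, 9378, 9360]

/-- Each generator as a list of reflections: its root, and an orthogonal basis. -/
def letList (x : ℕ) : List ℕ := rootCodes.getD x 0 :: [1, 18, 36, 72, 2050, 4100, 8200]

/-- A word as a list of reflections. -/
def wordList (L : List ℕ) : List ℕ := (L.reverse.map letList).flatten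

theorem omL_letList : ∀ x : Fin 8, omL (letList x) = true := by decide +kernel

/-- The images of the generators. -/
noncomputable def toOmGen (x : Fin 8) : Omg := ⟨el (letList x), el_mem_commutator (omL_letList x)⟩

theorem sq_check : ∀ x : Fin 8,
    sameL (letList x.val ++ letList x.val) [] = true := by decide +kernel

theorem okL_wordList {L : List ℕ} (hL : ∀ y ∈ L, y < 8) : okL (wordList L) = true := by
  unfold okL wordList
  rw [List.all_eq_true]
  intro a ha
  obtain ⟨l, hl, hal⟩ := List.mem_flatten.1 ha
  obtain ⟨y, hy, rfl⟩ := List.mem_map.1 hl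
  exact List.all_eq_true.1 (omL_ok (omL_letList ⟨y, hL y (List.mem_reverse.1 hy)⟩)) a hal

theorem toOmGen_inv (x : Fin 8) : (toOmGen x)⁻¹ = toOmGen x := by
  apply inv_eq_of_mul_eq_one_right
  apply Subtype.ext
  show el (letList x.val) * el (letList x.val) = 1
  rw [← el_append, el_eq_of_same (okL_append (omL_ok (omL_letList x)) (omL_ok (omL_letList x)))
    (show okL [] = true from rfl) (sq_check x)]
  rfl

theorem coe_appProd {g : ℕ → Omg} (hg : ∀ y < 8, (g y).1 = el (letList y)) :
    ∀ L : List ℕ, (∀ y ∈ L, y < 8) → (appProd g L).1 = el (wordList L) := by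
  intro L
  induction L with
  | nil => intro _; rfl
  | cons x t ih =>
    intro h
    show (appProd g t).1 * (g x).1 = _
    rw [ih (fun y hy => h y (List.mem_cons_of_mem _ hy)), hg x (h x List.mem_cons_self), ← el_append]
    congr 1
    simp [wordList]

theorem rels_check : allRels.all (fun r =>
    (letters r).all (fun y => decide (y < 8)) && sameL (wordList (letters r)) []) = true := by
  decide +kernel

theorem rels_one' : ∀ r ∈ allRels, FreeGroup.lift toOmGen r = 1 := by
  intro r hr
  have h := List.all_eq_true.1 rels_check r hr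
  simp only [Bool.and_eq_true, List.all_eq_true, decide_eq_true_eq] at h
  let g : ℕ → Omg := fun y => if hy : y < 8 then toOmGen ⟨y, hy⟩ else 1
  have hg : ∀ x : Fin 8, g x.val = toOmGen x := fun x => dif_pos x.2
  rw [lift_eq_appProd toOmGen g _ _ hg (fun x => (hg x).trans (toOmGen_inv x).symm) r]
  apply Subtype.ext
  show ((appProd g (letters r)) : Omg).1 = _
  rw [coe_appProd (fun y hy => by simp only [g, dif_pos hy]; rfl) _ h.1,
    el_eq_of_same (okL_wordList h.1) (show okL [] = true from rfl) h.2]
  rfl

/-- The map to the commutator subgroup. -/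
noncomputable def toOm : P →* Omg :=
  PresentedGroup.toGroup (lift_cox_eq_one toOmGen coding.pairs_cover rels_one')

theorem numOf_bijective :
    Function.Bijective fun v : W7 => (⟨numOf v, (vecN_numOf v).1⟩ : Fin 2187) := by
  rw [Fintype.bijective_iff_injective_and_card]
  refine ⟨fun u v e => ofVec_injective ?_, by simp⟩
  rw [← (vecN_numOf u).2, ← (vecN_numOf v).2, show numOf u = numOf v from congrArg Fin.val e]

/-- The numbering of the vectors. -/
noncomputable def vecEquiv : W7 ≃ Fin 2187 := Equiv.ofBijective _ numOf_bijective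

/-- The action on the numbers of vectors. -/
noncomputable def act : orthGroup Q7 →* Equiv.Perm (Fin 2187) where
  toFun g := vecEquiv.permCongr g.1.toEquiv
  map_one' := by ext u; simp [Equiv.permCongr_apply]
  map_mul' g h := by ext u; simp [Equiv.permCongr_apply]

/-- A generator row of the table is the linear map with the given columns. -/
noncomputable def rowCheck (x : ℕ) (cs : List ℕ) : Bool :=
  allBelow (fun u => Nat.beq (vecN (O7Data.table.img x u)) (mv cs (vecN u)) &&
    Nat.blt (O7Data.table.img x u) 2187) 2187

theorem row0 : rowCheck 0 [128, 2154, 13842, 12314, 376, 4096, 5202] = true := by decide +kernel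

theorem cols0 : colsOf (letList 0) = [128, 2154, 13842, 12314, 376, 4096, 5202] := by decide +kernel

theorem row1 : rowCheck 1 [2304, 2051, 512, 1024, 273, 4096, 8192] = true := by decide +kernel

theorem cols1 : colsOf (letList 1) = [2304, 2051, 512, 1024, 273, 4096, 8192] := by decide +kernel

theorem row2 : rowCheck 2 [128, 2848, 4112, 1024, 2048, 2560, 8192] = true := by decide +kernel

theorem cols2 : colsOf (letList 2) = [128, 2848, 4112, 1024, 2048, 2560, 8192] := by decide +kernel

theorem row3 : rowCheck 3 [1074, 6282, 7048, 1024, 4504, 4096, 9267] = true := by decide +kernel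

theorem cols3 : colsOf (letList 3) = [1074, 6282, 7048, 1024, 4504, 4096, 9267] := by decide +kernel

theorem row4 : rowCheck 4 [2148, 2405, 12436, 13968, 2048, 8880, 8192] = true := by decide +kernel

theorem cols4 : colsOf (letList 4) = [2148, 2405, 12436, 13968, 2048, 8880, 8192] := by decide +kernel

theorem row5 : rowCheck 5 [128, 11808, 4440, 10794, 4428, 11778, 3682] = true := by decide +kernel

theorem cols5 : colsOf (letList 5) = [128, 11808, 4440, 10794, 4428, 11778, 3682] := by decide +kernel

theorem row6 : rowCheck 6 [4424, 256, 4937, 8362, 6473, 4096, 1250] = true := by decide +kernel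

theorem cols6 : colsOf (letList 6) = [4424, 256, 4937, 8362, 6473, 4096, 1250] := by decide +kernel

theorem row7 : rowCheck 7 [2120, 2377, 512, 8344, 2048, 4096, 1232] = true := by decide +kernel

theorem cols7 : colsOf (letList 7) = [2120, 2377, 512, 8344, 2048, 4096, 1232] := by decide +kernel

theorem rows_ok : ∀ x < 8, rowCheck x (colsOf (letList x)) = true := by
  intro x hx
  interval_cases x
  · rw [cols0]; exact row0
  · rw [cols1]; exact row1
  · rw [cols2]; exact row2
  · rw [cols3]; exact row3
  · rw [cols4]; exact row4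
  · rw [cols5]; exact row5
  · rw [cols6]; exact row6
  · rw [cols7]; exact row7

theorem acts : O7Data.table.Acts (act.comp (Omg.subtype.comp toOm)) coding.gen := by
  refine ⟨fun x hx u => ?_⟩
  have hx' : x < 8 := hx
  have e : (toOm (coding.gen x)).1 = el (letList x) := by
    have h1 : coding.gen x = PresentedGroup.of (⟨x, hx'⟩ : Fin 8) := coding.gen_code ⟨x, hx'⟩
    rw [h1, toOm, PresentedGroup.toGroup.of]
    rfl
  show ((vecEquiv ((toOm (coding.gen x)).1.1 (vecEquiv.symm u)) : Fin 2187) : ℕ) = _
  rw [e]
  obtain ⟨v, rfl⟩ := vecEquiv.surjective u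
  rw [Equiv.symm_apply_apply]
  have hu : ((vecEquiv v : Fin 2187) : ℕ) < 2187 := (vecEquiv v).2
  have h := of_allBelow (rows_ok x hx') _ hu
  simp only [Bool.and_eq_true, Nat.blt_eq] at h
  obtain ⟨h1, h2⟩ := h
  have h3 := Nat.eq_of_beq_eq_true h1
  have hv : vecN ((vecEquiv v : Fin 2187) : ℕ) = ofVec v := (vecN_numOf v).2
  rw [hv, mv_colsOf (omL_ok (omL_letList ⟨x, hx'⟩))] at h3
  obtain ⟨w, hw⟩ := vecEquiv.surjective ⟨_, h2⟩
  have hw' : numOf w = O7Data.table.img x ((vecEquiv v : Fin 2187) : ℕ) := congrArg Fin.val hw
  rw [← hw', (vecN_numOf w).2] at h3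
  show numOf _ = _
  rw [← ofVec_injective h3, hw']

theorem card_Omg_le : Nat.card Omg ≤ 4585351680 := by
  have h2 : (2 : ZMod 3) ≠ 0 := by decide
  have hi := CfsgLib.Classical.index_commutator_odd (Q := Q7) (oddForm_nondeg 3 h2) h2
    (by rw [Module.finrank_fintype_fun_eq_card]; simp)
  have hc := CfsgLib.Classical.card_orth_odd (F := ZMod 3) (q := 3) (ZMod.card 3) h2 3
  have h := Omg.card_mul_index
  rw [hi, hc] at h
  norm_num [Finset.prod_range_succ] at h
  omega

theorem toOm_bijective : Function.Bijective toOm := by
  have : Finite P := Nat.finite_of_card_ne_zero card_le.2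
  have : Finite (orthGroup Q7) := inferInstance
  have h1 : 4585351680 ≤ Nat.card (act.comp (Omg.subtype.comp toOm)).range := by
    rw [← O7Data.chainG_prod]
    exact PTab.chainProd_le_card acts O7Data.table_slp _ [] _ O7Data.chainG_ok
      fun e _ r _ _ => ⟨_, rfl⟩
  have h2 : Nat.card (act.comp (Omg.subtype.comp toOm)).range ≤ Nat.card toOm.range :=
    Nat.card_le_card_of_surjective
      (fun z => ⟨act (z.1 : orthGroup Q7), by
        obtain ⟨p, hp⟩ := z.2
        exact ⟨p, by simp [hp]⟩⟩)
      (by
        rintro ⟨_, p, rfl⟩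
        exact ⟨⟨toOm p, p, rfl⟩, rfl⟩)
  have h3 : Nat.card toOm.range ≤ Nat.card P :=
    Nat.card_le_card_of_surjective _ toOm.rangeRestrict_surjective
  have h4 : Nat.card toOm.range ≤ Nat.card Omg := Subgroup.card_le_card_group _
  have h5 := card_le.1
  have h6 := card_Omg_le
  have hr : toOm.range = ⊤ := Subgroup.eq_top_of_card_eq _ (by omega)
  exact (Nat.bijective_iff_surjective_and_card _).2 ⟨MonoidHom.range_eq_top.1 hr, by omega⟩

/-- The commutator subgroup is the subgroup of Fi22 generated by `b, …, i`. -/
noncomputable def equivOm : FiP.sub [1, 2, 3, 4, 5, 6, 7, 8] ≃* Omg :=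
  equivSub.symm.trans (MulEquiv.ofBijective toOm toOm_bijective)

end CfsgLib.Sporadic.CosetCert.O7P
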