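import Cfsg.Agent.Lib.Sporadic.M24Config

/-!
Small subgroups of `Cfsg.M24` listed element by element as packed tables.

A table packs the images of the positions 0 to 23 with five bits for each. A set of elements with as
many members as there are tables in a list of elements of it consists of exactly the listed elements.
-/

set_option autoImplicit false
set_option maxRecDepth 10000

namespace CfsgLib.Sporadic.GroupTables

open Cfsg CfsgLib.SmallGroups.Golay CfsgLib.SmallGroups.GolayOctads CfsgLib.SmallGroups.M24Group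
  CfsgLib.SmallGroups.Mathieu CfsgLib.Sporadic.M24Orbits CfsgLib.Sporadic.M24Config
open scoped Pointwise

/-- The image of a position under a packed table. -/
def pw (n i : ℕ) : ℕ := (n >>> (5 * i)) % 32

/-- The packed table is a permutation of the positions preserving the code. -/
def okP (n : ℕ) : Bool :=
  img (pw n) (2 ^ 24 - 1) == 2 ^ 24 - 1 && (List.range 12).all fun i => isCW (img (pw n) (bas i))

/-- `g` is the element with packed table `n`. -/
def IsTbl (g : Equiv.Perm GolayPt) (n : ℕ) : Prop := ∀ p, idx (g p) = pw n (idx p)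

theorem IsTbl.ext {g g' : Equiv.Perm GolayPt} {n : ℕ} (h : IsTbl g n) (h' : IsTbl g' n) : g = g' :=
  Equiv.ext fun p => idx_injective ((h p).trans (h' p).symm)

theorem testBit_img (t : ℕ → ℕ) (m j : ℕ) :
    (img t m).testBit j = true ↔ ∃ i < 24, m.testBit i = true ∧ t i = j := by
  rw [img]
  constructor
  · intro h
    rcases (foldl_or_spec (fun i => m.testBit i) t (List.range 24) 0 j).1 h with h | ⟨a, ha, h⟩
    · simp at h
    · exact ⟨a, List.mem_range.1 ha, h⟩
  · rintro ⟨a, ha, h⟩
    exact (foldl_or_spec (fun i => m.testBit i) t (List.range 24) 0 j).2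
      (Or.inr ⟨a, List.mem_range.2 ha, h⟩)

theorem testBit_full {i : ℕ} (h : i < 24) : (2 ^ 24 - 1).testBit i = true := by
  rw [Nat.testBit_two_pow_sub_one, decide_eq_true_iff]; exact h

theorem exists_isTbl {n : ℕ} (h : okP n = true) : ∃ g ∈ M24, IsTbl g n := by
  simp only [okP, Bool.and_eq_true, beq_iff_eq, List.all_eq_true, List.mem_range] at h
  obtain ⟨h1, h2⟩ := h
  have hsurj : ∀ j < 24, ∃ i < 24, pw n i = j := fun j hj => by
    have hb := testBit_full hj
    rw [← h1, testBit_img] at hb
    obtain ⟨a, ha, -, e⟩ := hb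
    exact ⟨a, ha, e⟩
  have hlt : ∀ i < 24, pw n i < 24 := fun i hi => by
    have hb := (testBit_img (pw n) (2 ^ 24 - 1) _).2 ⟨i, hi, testBit_full hi, rfl⟩
    rwa [h1, Nat.testBit_two_pow_sub_one, decide_eq_true_iff] at hb
  let f : GolayPt → GolayPt := fun p => pt (pw n (idx p))
  have hidx : ∀ p, idx (f p) = pw n (idx p) := fun p => idx_pt (hlt _ (idx_lt p))
  have hf : Function.Surjective f := fun q => by
    obtain ⟨i, hi, e⟩ := hsurj _ (idx_lt q)
    exact ⟨pt i, idx_injective (by rw [hidx, idx_pt hi, e])⟩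
  let g : Equiv.Perm GolayPt := Equiv.ofBijective f (Finite.surjective_iff_bijective.1 hf)
  have hg : ∀ p, idx (g p) = pw n (idx p) := hidx
  refine ⟨g, inv_mem_iff.1 (mem_M24_of_forall fun w hw => ?_), hg⟩
  refine code_induction (P := fun w => (fun p => w (g⁻¹ p)) ∈ golayCode) ?_ ?_ ?_ hw
  · exact zero_mem _
  · intro i hi
    have e : (fun p => word (bas i) (g⁻¹ p)) = word (img (pw n) (bas i)) := by
      funext p
      have hiff : (bas i).testBit (idx (g⁻¹ p)) = true ↔ (img (pw n) (bas i)).testBit (idx p) = true := by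
        rw [← mem_toSet, ← mem_toSet, ← smul_toSet hg, ← Finset.inv_smul_mem_iff]
        rfl
      simp only [word, hiff]
    rw [e]
    have := h2 i hi
    rw [isCW, beq_iff_eq] at this
    rw [← this]
    exact word_enc_mem _
  · exact fun v v' hv hv' => add_mem hv hv'

theorem IsTbl.smul {g : Equiv.Perm GolayPt} {n : ℕ} (h : IsTbl g n) (m : ℕ) :
    g • toSet m = toSet (img (pw n) m) :=
  smul_toSet h m

theorem IsTbl.apply {g : Equiv.Perm GolayPt} {n i j : ℕ} (h : IsTbl g n) (hi : i < 24)
    (hij : pw n i = j) : g (pt i) = pt j := by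
  rw [← pt_idx (g (pt i)), h, idx_pt hi, hij]

/-- The key of a table. -/
def key (n : ℕ) : ℕ :=
  (List.range 24).foldl (fun k i => k * 32 + pw n i) 0

theorem IsTbl.key_eq {g : Equiv.Perm GolayPt} {n n' : ℕ} (h : IsTbl g n) (h' : IsTbl g n') :
    key n = key n' := by
  have e : ∀ i < 24, pw n i = pw n' i := fun i hi => by
    have := (h (pt i)).symm.trans (h' (pt i))
    rwa [idx_pt hi] at this
  have aux : ∀ (l : List ℕ) (z : ℕ), (∀ i ∈ l, i < 24) →
      l.foldl (fun k i => k * 32 + pw n i) z =
        l.foldl (fun k i => k * 32 + pw n' i) z := by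
    intro l
    induction l with
    | nil => intro z _; rfl
    | cons a l ih =>
      intro z hl
      rw [List.foldl_cons, List.foldl_cons, e a (hl a (List.mem_cons_self ..)),
        ih _ fun i hi => hl i (List.mem_cons_of_mem _ hi)]
  exact aux _ _ fun i hi => List.mem_range.1 hi

/-- Strictly increasing. -/
def incr : List ℕ → Bool
  | a :: b :: l => decide (a < b) && incr (b :: l)
  | _ => true

theorem incr_pairwise : ∀ l : List ℕ, incr l = true → l.Pairwise (· < ·)
  | [], _ => List.Pairwise.nil
  | [a], _ => List.pairwise_singleton _ a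
  | a :: b :: l, h => by
    rw [incr, Bool.and_eq_true, decide_eq_true_iff] at h
    have ih := incr_pairwise (b :: l) h.2
    refine List.Pairwise.cons (fun x hx => ?_) ih
    rcases List.mem_cons.1 hx with rfl | hx
    · exact h.1
    · exact h.1.trans (List.rel_of_pairwise_cons ih hx)

/-- All tables are different elements. -/
def distinct (L : List ℕ) : Bool := incr (L.map key)

/-- A set with no more elements than a list of different elements of it consists of them. -/
theorem listed {S : Set (Equiv.Perm GolayPt)} {L : List ℕ} (hd : distinct L = true)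
    (hcard : S.ncard ≤ L.length) (hmem : ∀ n ∈ L, ∃ g ∈ S, IsTbl g n) :
    ∀ g ∈ S, ∃ n ∈ L, IsTbl g n := by
  classical
  let f : {n // n ∈ L} → Equiv.Perm GolayPt := fun n => (hmem n.1 n.2).choose
  have hf : ∀ n, f n ∈ S ∧ IsTbl (f n) n.1 := fun n => (hmem n.1 n.2).choose_spec
  have hnd : (L.map key).Nodup := (incr_pairwise _ hd).imp fun h => ne_of_lt h
  have hinj : Function.Injective f := fun a b e => Subtype.ext
    (List.inj_on_of_nodup_map hnd a.2 b.2 ((hf a).2.key_eq (e ▸ (hf b).2)))
  have hLn : L.Nodup := List.Nodup.of_map key hnd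
  have heq : Set.range f = S := by
    refine Set.eq_of_subset_of_ncard_le (Set.range_subset_iff.2 fun n => (hf n).1) ?_ (Set.toFinite _)
    rw [Set.ncard_range_of_injective hinj]
    refine hcard.trans ?_
    rw [Nat.card_eq_fintype_card, Fintype.card_of_subtype L.toFinset (fun n => List.mem_toFinset),
      List.toFinset_card_of_nodup hLn]
  intro g hg
  rw [← heq] at hg
  obtain ⟨n, rfl⟩ := hg
  exact ⟨n.1, n.2, (hf n).2⟩

/-- Two elements of `M24` fixing a dodecad and agreeing on five of its points are equal. -/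
theorem eq_of_five {d : Finset GolayPt} (hd : d ∈ dodecads) {x : Fin 5 → GolayPt}
    (hx : Function.Injective x) (hxd : ∀ i, x i ∈ d) {g h : Equiv.Perm GolayPt} (hg : g ∈ M24)
    (hh : h ∈ M24) (hgd : g • d = d) (hhd : h • d = d) (he : ∀ i, g (x i) = h (x i)) : g = h := by
  have h1 : h⁻¹ * g = 1 := dodecad_rigid hd hx hxd (mul_mem (inv_mem hh) hg)
    (by rw [mul_smul, hgd, inv_smul_eq_iff, hhd])
    fun i => by rw [Equiv.Perm.mul_apply, he, Equiv.Perm.coe_inv, Equiv.symm_apply_apply]
  exact (inv_mul_eq_one.1 h1).symm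

/-- A subgroup of `M24` of known order contains only the listed elements. -/
theorem listed_subgroup {H : Subgroup M24} {L : List ℕ} (hd : distinct L = true)
    (hok : ∀ n ∈ L, okP n = true) (hcard : Nat.card H = L.length)
    (hmem : ∀ (g : M24) (n : ℕ), n ∈ L → IsTbl (g : Equiv.Perm GolayPt) n → g ∈ H)
    {g : M24} (hg : g ∈ H) : ∃ n ∈ L, IsTbl (g : Equiv.Perm GolayPt) n := by
  refine listed (S := (fun k : M24 => (k : Equiv.Perm GolayPt)) '' (H : Set M24)) hd ?_ ?_ _
    ⟨g, hg, rfl⟩
  · rw [Set.ncard_image_of_injective _ Subtype.val_injective, ← hcard]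
    exact le_of_eq (Nat.card_coe_set_eq _).symm
  · intro n hn
    obtain ⟨k, hk, hkn⟩ := exists_isTbl (hok n hn)
    exact ⟨k, ⟨⟨k, hk⟩, hmem ⟨k, hk⟩ n hn hkn, rfl⟩, hkn⟩

/-- The composite of two packed tables. -/
def comp (a b : ℕ) : ℕ := (List.range 24).foldr (fun i z => z * 32 + pw a (pw b i)) 0

/-- The packed identity. -/
def idT : ℕ := (List.range 24).foldr (fun i z => z * 32 + i) 0

/-- The value of a word in a list of tables. -/
def ev (T : List ℕ) : List ℕ → ℕ
  | [] => idT
  | k :: ks => comp (T.getD k idT) (ev T ks)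

/-- The generators lie in `M24` and fix the base configuration. -/
def gensP (T fix : List ℕ) : Bool := T.all fun n => okP n && fix.all fun f => img (pw n) f == f

theorem pack_spec : ∀ (f : ℕ → ℕ) (_ : ∀ i < 24, f i < 32), ∀ i < 24,
    pw ((List.range 24).foldr (fun i z => z * 32 + f i) 0) i = f i := by
  intro f hf i hi
  have aux : ∀ (m a : ℕ), (∀ j < m, f (a + j) < 32) → ∀ j < m,
      ((List.range' a m).foldr (fun i z => z * 32 + f i) 0) >>> (5 * j) % 32 = f (a + j) := by
    intro m
    induction m with
    | zero => intro a _ j hj; omega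
    | succ m ih =>
      intro a h j hj
      rw [List.range'_succ, List.foldr_cons]
      have h0 : f a < 32 := h 0 (by omega)
      cases j with
      | zero => simp only [Nat.mul_zero, Nat.shiftRight_zero, Nat.add_zero]; omega
      | succ j =>
        have := ih (a + 1) (fun k hk => by rw [show a + 1 + k = a + (k + 1) by omega]; exact h _ (by omega)) j (by omega)
        rw [show a + (j + 1) = a + 1 + j by omega, ← this, show 5 * (j + 1) = 5 + 5 * j by omega,
          Nat.shiftRight_add]
        congr 2
        rw [Nat.shiftRight_eq_div_pow]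
        omega
  have := aux 24 0 (fun j hj => by rw [Nat.zero_add]; exact hf j hj) i hi
  rwa [← List.range_eq_range', Nat.zero_add] at this

theorem IsTbl.comp {g h : Equiv.Perm GolayPt} {a b : ℕ} (hg : IsTbl g a) (hh : IsTbl h b) :
    IsTbl (g * h) (comp a b) := by
  intro p
  rw [Equiv.Perm.mul_apply, hg, hh]
  exact (pack_spec (fun i => pw a (pw b i)) (fun i _ => Nat.mod_lt _ (by norm_num)) _ (idx_lt p)).symm

theorem isTbl_one : IsTbl 1 idT := fun p => by
  rw [Equiv.Perm.one_apply]
  exact (pack_spec (fun i => i) (fun i hi => by omega) _ (idx_lt p)).symm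

theorem exists_ev {T fix : List ℕ} (hT : gensP T fix = true) : ∀ w : List ℕ,
    ∃ g ∈ M24, (∀ f ∈ fix, g • toSet f = toSet f) ∧ IsTbl g (ev T w)
  | [] => ⟨1, one_mem _, fun _ _ => one_smul _ _, isTbl_one⟩
  | k :: ks => by
    obtain ⟨h, hh, hhf, hhn⟩ := exists_ev hT ks
    by_cases hk : k < T.length
    · have hn := List.all_eq_true.1 hT (T.getD k idT) (by
        rw [List.getD_eq_getElem _ _ hk]; exact List.getElem_mem hk)
      rw [Bool.and_eq_true, List.all_eq_true] at hn
      obtain ⟨g, hg, hgn⟩ := exists_isTbl hn.1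
      refine ⟨g * h, mul_mem hg hh, fun f hf => ?_, hgn.comp hhn⟩
      rw [mul_smul, hhf f hf, hgn.smul, beq_iff_eq.1 (hn.2 f hf)]
    · refine ⟨1 * h, mul_mem (one_mem _) hh, fun f hf => ?_, ?_⟩
      · rw [one_mul]; exact hhf f hf
      · rw [ev, List.getD_eq_default _ _ (not_lt.1 hk)]
        exact isTbl_one.comp hhn

/-- Conjugation carries the stabiliser of a pair of objects to the stabiliser of their images. -/
def conjStab {G X Y : Type*} [Group G] [MulAction G X] [MulAction G Y] (a : G) {x x' : X} {y y' : Y}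
    (hx : a • x = x') (hy : a • y = y') :
    ↥(MulAction.stabilizer G x ⊓ MulAction.stabilizer G y) ≃*
      ↥(MulAction.stabilizer G x' ⊓ MulAction.stabilizer G y') :=
  ((MulAut.conj a).subgroupMap _).trans (MulEquiv.subgroupCongr (by
    rw [Subgroup.map_inf _ _ _ (MulAut.conj a).injective, ← hx, ← hy,
      MulAction.stabilizer_smul_eq_stabilizer_map_conj, MulAction.stabilizer_smul_eq_stabilizer_map_conj]
    rfl))

theorem conjStab_apply {G X Y : Type*} [Group G] [MulAction G X] [MulAction G Y] (a : G) {x x' : X}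
    {y y' : Y} (hx : a • x = x') (hy : a • y = y')
    (g : ↥(MulAction.stabilizer G x ⊓ MulAction.stabilizer G y)) :
    (conjStab a hx hy g : G) = a * (g : G) * a⁻¹ := rfl

end CfsgLib.Sporadic.GroupTables
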