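import Cfsg.Agent.Lib.Sporadic.OctadStabilizer
import Cfsg.Agent.Lib.Sporadic.GroupTables
import Cfsg.Agent.Lib.Classical.SLOrders

/-!
`GL₄(2)` is the alternating group of degree eight: the complement in an octad stabiliser acts on the
elementary abelian group of order sixteen.
-/

set_option autoImplicit false
set_option maxRecDepth 20000

namespace CfsgLib.Sporadic.LinearEight

open Cfsg CfsgLib.SmallGroups.Golay CfsgLib.SmallGroups.GolayOctads CfsgLib.SmallGroups.M24Group
open CfsgLib.SmallGroups.Mathieu CfsgLib.SmallGroups.MathieuSets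
open CfsgLib.Sporadic.M24Orbits CfsgLib.Sporadic.OctadStabilizer CfsgLib.Sporadic.GroupTables
open scoped Pointwise

/-- An element of the complement. -/
def cT : ℕ := 727540354968733784535077501837478956

/-- An element fixing the octad pointwise not commuting with it. -/
def nT : ℕ := 984561664131678682933695704404628576

theorem facts : okP cT = true ∧ okP nT = true ∧ img (pw cT) octB = octB ∧ pw cT 1 = 1 ∧
    (∀ i < 24, octB.testBit i = true → pw nT i = i) ∧ comp cT nT ≠ comp nT cT ∧ idx (bpt 6) = 1 := by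
  decide +kernel

/-- The pointwise stabiliser of the base octad. -/
abbrev E : Subgroup (Equiv.Perm GolayPt) := ptStab (toSet octB)

/-- The complement. -/
abbrev C : Subgroup (Equiv.Perm GolayPt) := OctadStabilizer.comp (toSet octB) (bpt 6)

theorem C_normalizes {c : Equiv.Perm GolayPt} (hc : c ∈ C) : c ∈ Subgroup.normalizer (E : Set (Equiv.Perm GolayPt)) := by
  have hco : c • toSet octB = toSet octB := hc.1.2
  have hco' : c⁻¹ • toSet octB = toSet octB := by rw [inv_smul_eq_iff, hco]
  rw [Subgroup.mem_normalizer_iff]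
  intro n
  simp only [mem_ptStab]
  constructor
  · rintro ⟨h1, h2⟩
    refine ⟨M24.mul_mem (M24.mul_mem hc.1.1 h1) (M24.inv_mem hc.1.1), fun q hq => ?_⟩
    simp only [Equiv.Perm.mul_apply]
    rw [h2 _ ((apply_mem_iff hco' q).2 hq)]; simp
  · rintro ⟨h1, h2⟩
    refine ⟨?_, fun q hq => ?_⟩
    · simpa [mul_assoc] using M24.mul_mem (M24.mul_mem (M24.inv_mem hc.1.1) h1) hc.1.1
    · have := h2 (c q) ((apply_mem_iff hco q).2 hq)
      simpa using this

/-- The action on the sixteen element group. -/
noncomputable def act : C →* MulAut E :=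
  E.normalizerMonoidHom.comp (Subgroup.inclusion fun _ hc => C_normalizes hc)

theorem act_injective : Function.Injective act := by
  obtain ⟨hc, hn, hoct, hp, hfix, hne, hidx⟩ := facts
  obtain ⟨c, hcM, hcT⟩ := exists_isTbl hc
  obtain ⟨n, hnM, hnT⟩ := exists_isTbl hn
  have hcC : c ∈ C := by
    refine ⟨⟨hcM, (hcT.smul octB).trans (by rw [hoct])⟩, ?_⟩
    show c (bpt 6) = bpt 6
    have h := hcT.apply (show (1 : ℕ) < 24 by norm_num) hp
    have e : pt 1 = bpt 6 := by rw [← hidx, pt_idx]
    rwa [e] at h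
  have hnE : n ∈ E := mem_ptStab.2 ⟨hnM, fun q hq => by
    have h := hnT.apply (idx_lt q) (hfix _ (idx_lt q) (mem_toSet.1 hq))
    rwa [pt_idx] at h⟩
  obtain ⟨f⟩ := comp_equiv octB_mem bpt_six
  haveI : IsSimpleGroup (alternatingGroup (Fin 8)) :=
    alternatingGroup.isSimpleGroup (by rw [Nat.card_fin]; norm_num)
  haveI : IsSimpleGroup C := f.isSimpleGroup
  rw [← MonoidHom.ker_eq_bot_iff]
  refine (inferInstance : act.ker.Normal).eq_bot_or_eq_top.resolve_right fun htop => hne ?_
  have h := MonoidHom.mem_ker.1 (htop ▸ Subgroup.mem_top (⟨c, hcC⟩ : C))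
  have h2 : c * n * c⁻¹ = n := congrArg Subtype.val (DFunLike.congr_fun h (⟨n, hnE⟩ : E))
  rw [mul_inv_eq_iff_eq_mul] at h2
  have hmul : IsTbl (c * n) (GroupTables.comp cT nT) := hcT.comp hnT
  have hmul' : IsTbl (c * n) (GroupTables.comp nT cT) := h2 ▸ hnT.comp hcT
  have hk := hmul.key_eq hmul'
  revert hk
  decide +kernel

/-- `GL₄` over the field of two elements is alternating of degree eight. -/
theorem gl_four_two {F : Type*} [Field F] [Fintype F] (hF : Fintype.card F = 2) :
    Nonempty (GL (Fin 4) F ≃* alternatingGroup (Fin 8)) := by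
  classical
  obtain ⟨hcard, hsq⟩ := ptStab_octad octB_mem
  letI : CommGroup E :=
    { (inferInstance : Group E) with
      mul_comm := fun a b => by
        have h : ∀ g : E, g⁻¹ = g := fun g => inv_eq_of_mul_eq_one_left (Subtype.ext (hsq g g.2))
        rw [← h (a * b), mul_inv_rev, h, h] }
  letI : Module (ZMod 2) (Additive E) := AddCommGroup.zmodModule fun x => by
    rw [two_nsmul]
    exact congrArg Additive.ofMul (Subtype.ext (hsq x.toMul x.toMul.2) : x.toMul * x.toMul = 1)
  have hrank : Module.finrank (ZMod 2) (Additive E) = 4 := by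
    have h := Module.natCard_eq_pow_finrank (K := ZMod 2) (V := Additive E)
    rw [Nat.card_congr Additive.toMul, hcard, Nat.card_zmod] at h
    exact (Nat.pow_right_injective le_rfl (show 2 ^ 4 = 2 ^ Module.finrank (ZMod 2) (Additive E) from h)).symm
  let b : Module.Basis (Fin 4) (ZMod 2) (Additive E) :=
    (Module.finBasis (ZMod 2) (Additive E)).reindex (finCongr hrank)
  let lin : MulAut E →* (Additive E →ₗ[ZMod 2] Additive E) :=
    { toFun := fun σ => σ.toMonoidHom.toAdditive.toZModLinearMap 2
      map_one' := LinearMap.ext fun _ => rfl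
      map_mul' := fun _ _ => LinearMap.ext fun _ => rfl }
  let mat : MulAut E →* Matrix (Fin 4) (Fin 4) (ZMod 2) :=
    (LinearMap.toMatrixAlgEquiv b).toMulEquiv.toMonoidHom.comp lin
  have hmat : Function.Injective mat := by
    intro σ τ e
    have e' := (LinearMap.toMatrixAlgEquiv b).injective e
    exact MulEquiv.ext fun x => Additive.ofMul.injective (LinearMap.congr_fun e' (Additive.ofMul x))
  let Φ : C →* GL (Fin 4) (ZMod 2) := (mat.comp act).toHomUnits
  have hΦ : Function.Injective Φ := fun x y e => act_injective (hmat (congrArg Units.val e))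
  obtain ⟨f⟩ := comp_equiv octB_mem bpt_six
  have hC : Nat.card C = 20160 := by
    rw [Nat.card_congr f.toEquiv, Nat.card_eq_fintype_card, card_alternatingGroup]; rfl
  have hGL : Nat.card (GL (Fin 4) (ZMod 2)) = 20160 := by
    rw [Matrix.card_GL_field, ZMod.card]; decide +kernel
  let e₁ : C ≃* GL (Fin 4) (ZMod 2) :=
    MulEquiv.ofBijective Φ (hΦ.bijective_of_nat_card_le (by rw [hC, hGL]))
  haveI : Fact (Nat.Prime 2) := ⟨Nat.prime_two⟩
  haveI : CharP F 2 := charP_of_card_eq_prime hF
  let r : ZMod 2 ≃+* F := ZMod.ringEquivOfPrime F Nat.prime_two hF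
  let e₂ : GL (Fin 4) (ZMod 2) ≃* GL (Fin 4) F := Units.mapEquiv r.mapMatrix.toMulEquiv
  exact ⟨e₂.symm.trans (e₁.symm.trans f)⟩

theorem psl_four_two {F : Type*} [Field F] [Fintype F] (hF : Fintype.card F = 2) :
    Nonempty (Matrix.ProjectiveSpecialLinearGroup (Fin 4) F ≃* alternatingGroup (Fin 8)) := by
  obtain ⟨e⟩ := gl_four_two hF
  have h1 := CfsgLib.Classical.card_center_sl (F := F) 4 (by norm_num)
  rw [hF, show Nat.gcd 4 (2 - 1) = 1 from rfl] at h1
  have hcent : Subgroup.center (Matrix.SpecialLinearGroup (Fin 4) F) = ⊥ := Subgroup.card_eq_one.1 h1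
  let q : Matrix.ProjectiveSpecialLinearGroup (Fin 4) F ≃* Matrix.SpecialLinearGroup (Fin 4) F :=
    (QuotientGroup.quotientMulEquivOfEq hcent).trans QuotientGroup.quotientBot
  have hb : Function.Bijective
      (Matrix.SpecialLinearGroup.toGL : Matrix.SpecialLinearGroup (Fin 4) F → GL (Fin 4) F) := by
    refine (CfsgLib.Classical.toGL_inj (n := Fin 4) (F := F)).bijective_of_nat_card_le ?_
    have h := CfsgLib.Classical.card_units_mul_card_sl (n := Fin 4) (F := F)
    rw [Nat.card_units, Nat.card_eq_fintype_card (α := F), hF, show 2 - 1 = 1 from rfl, one_mul] at h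
    exact le_of_eq h.symm
  exact ⟨q.trans ((MulEquiv.ofBijective Matrix.SpecialLinearGroup.toGL hb).trans e)⟩

end CfsgLib.Sporadic.LinearEight
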