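import Cfsg.Agent.Lib.Sporadic.M24Sextet

/-!
Structure of the stabiliser of a sextet: the six tetrads are permuted arbitrarily, and the elements
preserving all pairings of every tetrad form an elementary abelian normal subgroup of order 64.
-/

set_option autoImplicit false
set_option maxRecDepth 40000

namespace CfsgLib.Sporadic.M24SextetStructure

open Cfsg CfsgLib.SmallGroups.Golay CfsgLib.SmallGroups.GolayOctads CfsgLib.SmallGroups.M24Group
  CfsgLib.SmallGroups.Mathieu CfsgLib.Sporadic.M24Orbits CfsgLib.Sporadic.M24Config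
  CfsgLib.Sporadic.Sextets CfsgLib.Sporadic.SextetData CfsgLib.Sporadic.M24Sextet
open scoped Pointwise

/-- The action on the tetrads. -/
def tetPerm (S : Finset (Finset GolayPt)) : MulAction.stabilizer M24 S →* Equiv.Perm ↥S where
  toFun g :=
    { toFun := fun t => ⟨((g : M24) : Equiv.Perm GolayPt) • (t : Finset GolayPt), by
        have := Finset.smul_mem_smul_finset (a := (g : M24)) t.2
        rwa [(g.2 : (g : M24) • S = S)] at this⟩
      invFun := fun t => ⟨((g : M24) : Equiv.Perm GolayPt)⁻¹ • (t : Finset GolayPt), by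
        have := Finset.smul_mem_smul_finset (a := ((g : M24))⁻¹) t.2
        rwa [inv_smul_eq_iff.2 (g.2 : (g : M24) • S = S).symm] at this⟩
      left_inv := fun t => Subtype.ext (inv_smul_smul _ _)
      right_inv := fun t => Subtype.ext (smul_inv_smul _ _) }
  map_one' := Equiv.ext fun t => Subtype.ext (one_smul _ _)
  map_mul' g h := Equiv.ext fun t => Subtype.ext (mul_smul _ _ _)

theorem tetPerm_apply (S : Finset (Finset GolayPt)) (g : MulAction.stabilizer M24 S) (t : ↥S) :
    ((tetPerm S g t : ↥S) : Finset GolayPt) = ((g : M24) : Equiv.Perm GolayPt) • (t : Finset GolayPt) := rfl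

theorem tetrads_ok : tetrads.length = 6 ∧ ((tetrads.map toSet).toFinset : Finset (Finset GolayPt)) = ((sxList m₀).map toSet).toFinset ∧
    (∀ i : Fin 6, ∀ j : Fin 6, toSet (tetrads.getD i 0) = toSet (tetrads.getD j 0) → i = j) := by
  decide +kernel

theorem base_eq : sx m₀ = ((sxList m₀).map toSet).toFinset :=
  sx_eq (List.mem_cons_self ..) N2_roots.1

/-- The tetrads of the base sextet, numbered. -/
noncomputable def num : Fin 6 ≃ ↥(sx m₀) :=
  Equiv.ofBijective (fun i => ⟨toSet (tetrads.getD i 0), by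
      rw [base_eq, ← tetrads_ok.2.1, List.mem_toFinset, List.getD_eq_getElem _ _ (by rw [tetrads_ok.1]; exact i.2)]
      exact List.mem_map.2 ⟨_, List.getElem_mem _, rfl⟩⟩)
    ((Fintype.bijective_iff_injective_and_card _).2
      ⟨fun i j h => tetrads_ok.2.2 i j (congrArg Subtype.val h), by
        rw [Fintype.card_fin, Fintype.card_coe, base_eq, N2_roots.1]⟩)

theorem swaps_ok : ∀ i : Fin 5, okTbl (swaps.getD i []) = true ∧ step (swaps.getD i []) m₀ m₀ = true ∧
    ∀ j : Fin 6, img (tblNat (swaps.getD i [])) (tetrads.getD j 0) =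
      tetrads.getD (Equiv.swap i.castSucc i.succ j : Fin 6) 0 := by
  decide +kernel

theorem base_surjective : Function.Surjective (tetPerm (sx m₀)) := by
  intro e
  have hmem : num.symm.permCongr e ∈ Submonoid.closure
      (Set.range fun i : Fin 5 => Equiv.swap i.castSucc i.succ) := by
    rw [Equiv.Perm.mclosure_swap_castSucc_succ]; trivial
  suffices h : ∀ π ∈ Submonoid.closure (Set.range fun i : Fin 5 => Equiv.swap i.castSucc i.succ),
      ∃ g, tetPerm (sx m₀) g = num.permCongr π by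
    obtain ⟨g, hg⟩ := h _ hmem
    exact ⟨g, hg.trans (by ext t; simp)⟩
  intro π hπ
  induction hπ using Submonoid.closure_induction with
  | mem x hx =>
    obtain ⟨i, rfl⟩ := hx
    obtain ⟨h1, h2, h3⟩ := swaps_ok i
    obtain ⟨g, hg, hidx⟩ := exists_elt h1
    refine ⟨⟨⟨g, hg⟩, step_sound hg hidx h2⟩, Equiv.ext fun t => Subtype.ext ?_⟩
    obtain ⟨j, rfl⟩ := num.surjective t
    rw [tetPerm_apply, Equiv.permCongr_apply, Equiv.symm_apply_apply]
    show g • toSet (tetrads.getD j 0) = toSet (tetrads.getD (Equiv.swap i.castSucc i.succ j : Fin 6) 0)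
    rw [smul_toSet hidx, h3 j]
  | one => exact ⟨1, by rw [map_one]; ext t; simp⟩
  | mul x y _ _ hx hy =>
    obtain ⟨g, hg⟩ := hx
    obtain ⟨g', hg'⟩ := hy
    exact ⟨g * g', by rw [map_mul, hg, hg']; ext t; simp⟩

variable {S : Finset (Finset GolayPt)}

theorem surjective (hS : S ∈ sextets) : Function.Surjective (tetPerm S) := by
  obtain ⟨a, ha⟩ := exists_to_base hS
  intro e
  let f : ↥S ≃ ↥(sx m₀) :=
    { toFun := fun t => ⟨(a : Equiv.Perm GolayPt) • (t : Finset GolayPt), by
        have := Finset.smul_mem_smul_finset (a := a) t.2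
        rwa [ha] at this⟩
      invFun := fun t => ⟨(a : Equiv.Perm GolayPt)⁻¹ • (t : Finset GolayPt), by
        have := Finset.smul_mem_smul_finset (a := a⁻¹) t.2
        rwa [show a⁻¹ • sx m₀ = S by rw [← ha, inv_smul_smul]] at this⟩
      left_inv := fun t => Subtype.ext (inv_smul_smul _ _)
      right_inv := fun t => Subtype.ext (smul_inv_smul _ _) }
  obtain ⟨g, hg⟩ := base_surjective (f.permCongr e)
  refine ⟨⟨a⁻¹ * (g : M24) * a, ?_⟩, Equiv.ext fun t => Subtype.ext ?_⟩
  · rw [MulAction.mem_stabilizer_iff, mul_smul, mul_smul, ha, (g.2 : (g : M24) • sx m₀ = sx m₀), ← ha,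
      inv_smul_smul]
  · have h : ((g : M24) : Equiv.Perm GolayPt) • ((a : Equiv.Perm GolayPt) • (t : Finset GolayPt)) =
        (a : Equiv.Perm GolayPt) • ((e t : ↥S) : Finset GolayPt) := by
      have := congrArg (fun p : Equiv.Perm ↥(sx m₀) => ((p (f t) : ↥(sx m₀)) : Finset GolayPt)) hg
      simpa [tetPerm_apply, f, Equiv.permCongr_apply] using this
    rw [tetPerm_apply]
    show ((a : Equiv.Perm GolayPt)⁻¹ * ((g : M24) : Equiv.Perm GolayPt) * (a : Equiv.Perm GolayPt)) • _ = _
    rw [mul_smul, mul_smul, h, inv_smul_smul]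

theorem card_stab (hS : S ∈ sextets) : Nat.card (MulAction.stabilizer M24 S) = 138240 := by
  have horb : MulAction.orbit M24 S = sextets := Set.ext fun X => by
    constructor
    · rintro ⟨g, rfl⟩; exact smul_sextet g.2 hS
    · intro hX
      obtain ⟨a, ha⟩ := exists_to_base hS
      obtain ⟨b, hb⟩ := exists_to_base hX
      exact ⟨b⁻¹ * a, show (b⁻¹ * a) • S = X by rw [mul_smul, ha, ← hb, inv_smul_smul]⟩
  have h := (MulAction.stabilizer M24 S).card_mul_index
  rw [MulAction.index_stabilizer, horb, ncard_sextets, card_M24] at h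
  omega

theorem card_fix (hS : S ∈ sextets) :
    Nat.card {g : MulAction.stabilizer M24 S // ∀ t ∈ S, ((g : M24) : Equiv.Perm GolayPt) • t = t} = 192 := by
  have e : Nat.card (tetPerm S).ker = 192 := by
    have h := Subgroup.card_mul_index (tetPerm S).ker
    rw [Subgroup.index_ker, MonoidHom.range_eq_top.2 (surjective hS), Subgroup.card_top, Nat.card_perm,
      Nat.card_eq_finsetCard, hS.1, card_stab hS, show Nat.factorial 6 = 720 from rfl] at h
    omega
  rw [← e]
  refine Nat.card_congr (Equiv.subtypeEquivRight fun g => ⟨fun h => ?_, fun h t ht => ?_⟩)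
  · exact Equiv.ext fun t => Subtype.ext (h t t.2)
  · have := congrArg (fun p : Equiv.Perm ↥S => ((p ⟨t, ht⟩ : ↥S) : Finset GolayPt)) (MonoidHom.mem_ker.1 h)
    exact this

/-- `g` preserves every pairing of every tetrad. -/
def Pairs (S : Finset (Finset GolayPt)) (g : Equiv.Perm GolayPt) : Prop :=
  ∀ t ∈ S, g • t = t ∧ ∀ s ⊆ t, s.card = 2 → g • s = s ∨ g • s = t \ s

theorem Pairs.mul {g h : Equiv.Perm GolayPt} (hg : Pairs S g) (hh : Pairs S h) : Pairs S (g * h) := by
  intro t ht
  obtain ⟨g1, g2⟩ := hg t ht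
  obtain ⟨h1, h2⟩ := hh t ht
  refine ⟨by rw [mul_smul, h1, g1], fun s hs hc => ?_⟩
  rw [mul_smul]
  rcases h2 s hs hc with e | e <;> rw [e]
  · exact g2 s hs hc
  · rw [Finset.smul_finset_sdiff, g1]
    rcases g2 s hs hc with e' | e' <;> rw [e']
    · exact Or.inr rfl
    · exact Or.inl (Finset.sdiff_sdiff_eq_self hs)

theorem Pairs.inv {g : Equiv.Perm GolayPt} (hg : Pairs S g) : Pairs S g⁻¹ := by
  intro t ht
  obtain ⟨g1, g2⟩ := hg t ht
  refine ⟨inv_smul_eq_iff.2 g1.symm, fun s hs hc => ?_⟩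
  rcases g2 s hs hc with e | e
  · exact Or.inl (inv_smul_eq_iff.2 e.symm)
  · refine Or.inr (inv_smul_eq_iff.2 ?_)
    rw [Finset.smul_finset_sdiff, g1, e, Finset.sdiff_sdiff_eq_self hs]

theorem Pairs.conj {g : Equiv.Perm GolayPt} (a : Equiv.Perm GolayPt) (hg : Pairs (a • S) g) :
    Pairs S (a⁻¹ * g * a) := by
  intro t ht
  obtain ⟨g1, g2⟩ := hg (a • t) (Finset.smul_mem_smul_finset ht)
  refine ⟨by rw [mul_smul, mul_smul, g1, inv_smul_smul], fun s hs hc => ?_⟩
  rw [mul_smul, mul_smul]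
  rcases g2 (a • s) (Finset.smul_finset_subset_smul_finset hs) ((Finset.card_smul_finset a s).trans hc) with
    e | e <;> rw [e]
  · exact Or.inl (inv_smul_smul a s)
  · exact Or.inr (by rw [← Finset.smul_finset_sdiff, inv_smul_smul])

theorem Pairs.one : Pairs S 1 := fun t _ => ⟨one_smul _ t, fun s _ _ => Or.inl (one_smul _ s)⟩

theorem cover (hS : S ∈ sextets) (p : GolayPt) : ∃ t ∈ S, p ∈ t := by
  classical
  have hdisj : ∀ t ∈ S, ∀ u ∈ S, t ≠ u → Disjoint t u := fun t ht u hu h => sextet_disjoint hS ht hu h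
  have hc : (S.biUnion id).card = 24 := by
    rw [Finset.card_biUnion (t := id) hdisj]
    simp only [id_eq]
    rw [Finset.sum_const_nat (m := 4) hS.2.1, hS.1]
  have : S.biUnion id = Finset.univ :=
    Finset.eq_univ_of_card _ (hc.trans card_golayPt.symm)
  have hp : p ∈ S.biUnion id := by rw [this]; exact Finset.mem_univ p
  simpa using hp

theorem Pairs.sq (hS : S ∈ sextets) {g : Equiv.Perm GolayPt} (hg : Pairs S g) : g * g = 1 := by
  refine Equiv.ext fun p => ?_
  obtain ⟨t, ht, hp⟩ := cover hS p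
  obtain ⟨g1, g2⟩ := hg t ht
  have hmap : ∀ x ∈ t, g x ∈ t := fun x hx => g1 ▸ Finset.smul_mem_smul_finset hx
  show g (g p) = p
  by_cases hfix : g p = p
  · rw [hfix, hfix]
  have hs : ({p, g p} : Finset GolayPt) ⊆ t := Finset.insert_subset hp (Finset.singleton_subset_iff.2 (hmap p hp))
  have hmem : g p ∈ g • ({p, g p} : Finset GolayPt) := Finset.smul_mem_smul_finset (Finset.mem_insert_self _ _)
  rcases g2 _ hs (Finset.card_pair (Ne.symm hfix)) with e | e
  · have hmem2 : g (g p) ∈ g • ({p, g p} : Finset GolayPt) :=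
      Finset.smul_mem_smul_finset (Finset.mem_insert_of_mem (Finset.mem_singleton_self _))
    rw [e, Finset.mem_insert, Finset.mem_singleton] at hmem2
    exact hmem2.resolve_right fun h => hfix (g.injective h)
  · rw [e] at hmem
    simp at hmem

/-- The normal subgroup of pairing preservers. -/
def pairSub (S : Finset (Finset GolayPt)) : Subgroup (MulAction.stabilizer M24 S) where
  carrier := {g | Pairs S ((g : M24) : Equiv.Perm GolayPt)}
  one_mem' := Pairs.one
  mul_mem' := Pairs.mul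
  inv_mem' := Pairs.inv

theorem pairSub_normal : (pairSub S).Normal := by
  refine ⟨fun n hn g => ?_⟩
  show Pairs S (((g * n * g⁻¹ : MulAction.stabilizer M24 S) : M24) : Equiv.Perm GolayPt)
  have hgS : ((g : M24) : Equiv.Perm GolayPt)⁻¹ • S = S :=
    inv_smul_eq_iff.2 (g.2 : ((g : M24) : Equiv.Perm GolayPt) • S = S).symm
  have := Pairs.conj (S := S) ((g : M24) : Equiv.Perm GolayPt)⁻¹ (g := ((n : M24) : Equiv.Perm GolayPt))
    (by rw [hgS]; exact hn)
  rwa [inv_inv] at this

theorem pairing_ok : pairing.length = 64 ∧ (∀ t ∈ pairing, okTbl t = true ∧ step t m₀ m₀ = true ∧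
    ∀ T ∈ tetrads, img (tblNat t) T = T ∧
      ∀ n ∈ (sets 24 2).filter fun n => n &&& T == n,
        img (tblNat t) n = n ∨ img (tblNat t) n = T ^^^ n) ∧
    (∀ i : Fin 64, ∀ j : Fin 64,
      (List.range 24).map (tblNat (pairing.getD i [])) = (List.range 24).map (tblNat (pairing.getD j [])) →
        i = j) := by
  decide +kernel

theorem toSet_xor_sdiff {T n : ℕ} (hn : n &&& T = n) : toSet (T ^^^ n) = toSet T \ toSet n := by
  ext p
  have : n.testBit (idx p) = true → T.testBit (idx p) = true := fun h => by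
    rw [← hn, Nat.testBit_and, Bool.and_eq_true] at h; exact h.2
  simp only [mem_toSet, Finset.mem_sdiff, Nat.testBit_xor]
  cases h1 : n.testBit (idx p) <;> cases h2 : T.testBit (idx p) <;> simp_all

theorem base_elts : ∃ f : Fin 64 → Equiv.Perm GolayPt, Function.Injective f ∧
    ∀ i, f i ∈ M24 ∧ f i • sx m₀ = sx m₀ ∧ Pairs (sx m₀) (f i) := by
  obtain ⟨hlen, hok, hinj⟩ := pairing_ok
  have hmem : ∀ i : Fin 64, pairing.getD i [] ∈ pairing := fun i => by
    rw [List.getD_eq_getElem _ _ (by rw [hlen]; exact i.2)]; exact List.getElem_mem _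
  choose f hf hidx using fun i : Fin 64 => exists_elt (hok _ (hmem i)).1
  refine ⟨f, fun i j h => hinj i j (List.map_congr_left fun k hk => ?_), fun i => ?_⟩
  · rw [← idx_pt (List.mem_range.1 hk), ← hidx i, ← hidx j, h]
  · obtain ⟨-, h2, h3⟩ := hok _ (hmem i)
    refine ⟨hf i, step_sound (hf i) (hidx i) h2, fun t ht => ?_⟩
    rw [base_eq, ← tetrads_ok.2.1, List.mem_toFinset, List.mem_map] at ht
    obtain ⟨T, hT, rfl⟩ := ht
    obtain ⟨hT1, hT2⟩ := h3 T hT
    refine ⟨by rw [smul_toSet (hidx i), hT1], fun s hs hc => ?_⟩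
    obtain ⟨n, hn, rfl⟩ := exists_set hc
    have hnlt := (sets_two.2 n hn).1
    have hand : n &&& T = n := by rw [Nat.and_comm]; exact (subset_iff hnlt).1 hs
    rw [smul_toSet (hidx i), ← toSet_xor_sdiff hand]
    rcases hT2 n (List.mem_filter.2 ⟨hn, beq_iff_eq.2 hand⟩) with e | e <;> rw [e]
    · exact Or.inl rfl
    · exact Or.inr rfl

theorem card_pairSub (hS : S ∈ sextets) : Nat.card (pairSub S) = 64 := by
  obtain ⟨a, ha⟩ := exists_to_base hS
  obtain ⟨f, hf, hP⟩ := base_elts
  have ha' : (a : Equiv.Perm GolayPt) • S = sx m₀ := ha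
  let φ : Fin 64 → pairSub S := fun i =>
    ⟨⟨a⁻¹ * ⟨f i, (hP i).1⟩ * a, by
      show ((a : Equiv.Perm GolayPt)⁻¹ * f i * (a : Equiv.Perm GolayPt)) • S = S
      rw [mul_smul, mul_smul, ha', (hP i).2.1, ← ha', inv_smul_smul]⟩,
      Pairs.conj (a : Equiv.Perm GolayPt) (ha'.symm ▸ (hP i).2.2)⟩
  have hle : 64 ≤ Nat.card (pairSub S) := by
    have : Function.Injective φ := fun i j h => hf (by
      have h' : (a : Equiv.Perm GolayPt)⁻¹ * f i * (a : Equiv.Perm GolayPt) =
          (a : Equiv.Perm GolayPt)⁻¹ * f j * (a : Equiv.Perm GolayPt) :=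
        congrArg (fun x : pairSub S => ((x.1 : M24) : Equiv.Perm GolayPt)) h
      simpa using h')
    simpa using Nat.card_le_card_of_injective φ this
  have hp2 : IsPGroup 2 (pairSub S) := fun x => ⟨1, Subtype.ext (Subtype.ext (Subtype.ext (by
    rw [pow_one, pow_two]
    exact Pairs.sq hS x.2)))⟩
  obtain ⟨k, hk⟩ := IsPGroup.iff_card.1 hp2
  have hdvd : Nat.card (pairSub S) ∣ 192 := by
    rw [← card_fix hS]
    have hle' : pairSub S ≤ (tetPerm S).ker := fun g hg => Equiv.ext fun t => Subtype.ext (hg t t.2).1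
    have h := Subgroup.card_dvd_of_le hle'
    convert h using 1
    refine Nat.card_congr (Equiv.subtypeEquivRight fun g => ⟨fun h => ?_, fun h t ht => ?_⟩)
    · exact Equiv.ext fun t => Subtype.ext (h t t.2)
    · exact congrArg (fun p : Equiv.Perm ↥S => ((p ⟨t, ht⟩ : ↥S) : Finset GolayPt)) (MonoidHom.mem_ker.1 h)
  rw [hk] at hdvd hle ⊢
  have hk6 : k ≤ 6 := by
    by_contra hcon
    have h := (Nat.pow_dvd_pow 2 (show 7 ≤ k by omega)).trans hdvd
    norm_num at h
  interval_cases k <;> omega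

theorem structureTheorem (hS : S ∈ sextets) :
    (∀ e : Equiv.Perm ↥S, ∃ g ∈ MulAction.stabilizer M24 S, ∀ t : ↥S,
      (g : Equiv.Perm GolayPt) • (t : Finset GolayPt) = ((e t : ↥S) : Finset GolayPt)) ∧
    Nat.card {g : MulAction.stabilizer M24 S // ∀ t ∈ S, ((g : M24) : Equiv.Perm GolayPt) • t = t} = 192 ∧
    ∃ N : Subgroup (MulAction.stabilizer M24 S), N.Normal ∧ Nat.card N = 64 ∧ ∀ x ∈ N, x * x = 1 := by
  refine ⟨fun e => ?_, card_fix hS, pairSub S, pairSub_normal, card_pairSub hS, fun x hx => ?_⟩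
  · obtain ⟨g, rfl⟩ := surjective hS e
    exact ⟨g, g.2, fun t => rfl⟩
  · exact Subtype.ext (Subtype.ext (Pairs.sq hS hx))

end CfsgLib.Sporadic.M24SextetStructure
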