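import Cfsg.Agent.Lib.Sporadic.IndexPoints
import Cfsg.Prelude.Def_Spor_Mathieu

/-!
The Mathieu group of degree 22: subgroups of index 22 fix a point, and every automorphism is induced by the stabiliser
of the pair of fixed points in `M24`.
-/

set_option autoImplicit false

namespace CfsgLib.Sporadic.MathieuOutTwo

open Cfsg CfsgLib.SmallGroups.Golay CfsgLib.SmallGroups.GolayOctads CfsgLib.SmallGroups.M24Group
  CfsgLib.SmallGroups.Mathieu CfsgLib.SmallGroups.MathieuSets CfsgLib.Sporadic.OctadStabilizer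
  CfsgLib.SmallGroups.MathieuSimple CfsgLib.Sporadic.MathieuAut CfsgLib.Sporadic.IndexPoints
open scoped Pointwise

/-- The two fixed points. -/
abbrev pair : Finset GolayPt := {none, some 0}

theorem mem_M22 (g : Equiv.Perm GolayPt) :
    g ∈ Cfsg.Spor.M22 ↔ g ∈ Cfsg.M24 ∧ ∀ p ∈ pair, g p = p := by
  constructor
  · intro h
    refine ⟨h.1.1, fun p hp => ?_⟩
    simp only [Finset.mem_insert, Finset.mem_singleton] at hp
    rcases hp with rfl | rfl
    exacts [h.1.2, h.2]
  · exact fun h => ⟨⟨h.1, h.2 none (by simp)⟩, h.2 (some 0) (by simp)⟩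

theorem card_M22 : Nat.card Cfsg.Spor.M22 = 443520 := by
  rw [← card_stab_two (show (none : GolayPt) ≠ some 0 by simp)]
  exact Nat.card_congr ⟨fun g => ⟨⟨g.1, g.2.1.1⟩, g.2.1.2, g.2.2⟩, fun g => ⟨g.1.1, ⟨g.1.2, g.2.1⟩, g.2.2⟩,
    fun _ => rfl, fun _ => rfl⟩

theorem exists_fix_three {a : List GolayPt} {b : List GolayPt} (ha : a.Nodup) (hb : b.Nodup)
    (hap : ∀ p ∈ a, p ∉ pair) (hbp : ∀ p ∈ b, p ∉ pair) (hlen : a.length = b.length) (h3 : a.length ≤ 3) :
    ∃ k : Cfsg.Spor.M22, a.map (k : Equiv.Perm GolayPt) = b := by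
  obtain ⟨k, hk, hke⟩ := M24Maximal.exists_of_card_le_five (x := none :: some 0 :: a) (y := none :: some 0 :: b)
    (by simp only [List.nodup_cons, List.mem_cons]
        exact ⟨by rintro (h | h) <;> [exact absurd h (by simp); exact hap _ h (by simp)],
          fun h => hap _ h (by simp), ha⟩)
    (by simp only [List.nodup_cons, List.mem_cons]
        exact ⟨by rintro (h | h) <;> [exact absurd h (by simp); exact hbp _ h (by simp)],
          fun h => hbp _ h (by simp), hb⟩)
    (by simp [hlen]) (by simp; omega)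
  rw [List.map_cons, List.map_cons, List.cons.injEq, List.cons.injEq] at hke
  exact ⟨⟨k, ⟨hk, hke.1⟩, hke.2.1⟩, hke.2.2⟩

theorem index_stabPt_M22 {p : GolayPt} (hp : p ∉ pair) : (stabPt Cfsg.Spor.M22 p).index = 22 := by
  classical
  have horb : MulAction.orbit Cfsg.Spor.M22 p = ((pair : Finset GolayPt)ᶜ : Finset GolayPt) := by
    ext z
    rw [Finset.coe_compl, Set.mem_compl_iff, Finset.mem_coe]
    constructor
    · rintro ⟨k, rfl⟩ h
      have h1 : (k : Equiv.Perm GolayPt) ((k : Equiv.Perm GolayPt) p) = (k : Equiv.Perm GolayPt) p :=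
        ((mem_M22 _).1 k.2).2 _ h
      exact hp ((k : Equiv.Perm GolayPt).injective h1 ▸ h)
    · intro hz
      obtain ⟨k, hk⟩ := exists_fix_three (a := [p]) (b := [z]) (by simp) (by simp) (by simpa using hp)
        (by simpa using hz) rfl (by simp)
      exact ⟨k, show (k : Equiv.Perm GolayPt) p = z by simpa using hk⟩
  have e : stabPt Cfsg.Spor.M22 p = MulAction.stabilizer Cfsg.Spor.M22 p := by ext g; rfl
  rw [e, MulAction.index_stabilizer, horb, Set.ncard_coe_finset, Finset.card_compl, card_golayPt,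
    Finset.card_pair (show (none : GolayPt) ≠ some 0 by simp)]

theorem index_M22 (H : Subgroup Cfsg.Spor.M22) (hH : H.index = 22) :
    ∃ p ∉ pair, H ≤ stabPt Cfsg.Spor.M22 p := by
  classical
  have h7 : Fact (Nat.Prime 7) := ⟨by norm_num⟩
  have hcard : Nat.card H = 20160 := by
    have h := H.card_mul_index
    rw [hH, card_M22] at h
    omega
  obtain ⟨x, hx⟩ := exists_prime_orderOf_dvd_card' (G := H) 7 (by rw [hcard]; norm_num)
  set g : Equiv.Perm GolayPt := ((x : Cfsg.Spor.M22) : Equiv.Perm GolayPt)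
  have hord : orderOf g = 7 := by rw [Subgroup.orderOf_coe, Subgroup.orderOf_coe, hx]
  have hpair : ∀ k : Cfsg.Spor.M22, ∀ z ∈ pair, (k : Equiv.Perm GolayPt) z = z :=
    fun k => ((mem_M22 _).1 k.2).2
  have hout : ∀ k : Cfsg.Spor.M22, ∀ z ∉ pair, (k : Equiv.Perm GolayPt) z ∉ pair := fun k z hz h =>
    hz ((k : Equiv.Perm GolayPt).injective (hpair k _ h) ▸ h)
  obtain ⟨hle, hmod⟩ : (fixedPts g).card ≤ 4 ∧ (fixedPts g).card % 7 = 24 % 7 :=
    card_fixedPts_eq ((mem_M22 _).1 (x : Cfsg.Spor.M22).2).1 hord (by norm_num)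
  have hsub : pair ⊆ fixedPts g := fun z hz => mem_fixedPts.2 (hpair _ z hz)
  have hp2 : pair.card = 2 := Finset.card_pair (by simp)
  obtain ⟨p, hp⟩ := Finset.card_eq_one.1 (show (fixedPts g \ pair).card = 1 by
    rw [Finset.card_sdiff_of_subset hsub, hp2]; omega)
  have hp' : g p = p ∧ p ∉ pair := by
    have h := Finset.mem_singleton_self p
    rw [← hp, Finset.mem_sdiff, mem_fixedPts] at h
    exact h
  refine ⟨p, hp'.2, fun h hh => ?_⟩
  set O := MulAction.orbit H p
  have hOout : ∀ z ∈ O, z ∉ pair := by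
    rintro _ ⟨k, rfl⟩
    exact hout _ p hp'.2
  have hO1 : O.ncard % 7 = 1 := by
    rw [card_fixedPts_mod hord O fun z hz => MulAction.mem_orbit_of_mem_orbit x hz,
      show {z | z ∈ O ∧ g z = z} = {p} from ?_, Set.ncard_singleton]
    ext z
    simp only [Set.mem_ofPred_eq, Set.mem_singleton_iff]
    refine ⟨fun ⟨h1, h2⟩ => ?_, fun e => e ▸ ⟨MulAction.mem_orbit_self p, hp'.1⟩⟩
    have : z ∈ fixedPts g \ pair := Finset.mem_sdiff.2 ⟨mem_fixedPts.2 h2, hOout z h1⟩
    rw [hp] at this
    exact Finset.mem_singleton.1 this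
  have hO22 : O.ncard ≤ 22 := by
    have h := Set.ncard_le_ncard (show O ⊆ ((pairᶜ : Finset GolayPt) : Set GolayPt) from fun z hz => by
      rw [Finset.coe_compl, Set.mem_compl_iff, Finset.mem_coe]; exact hOout z hz) (Finset.finite_toSet _)
    rwa [Set.ncard_coe_finset, Finset.card_compl, card_golayPt, hp2] at h
  have hdvd : O.ncard ∣ 20160 := by
    rw [← hcard, ← MulAction.index_stabilizer]
    exact Subgroup.index_dvd_card _
  by_contra hne
  -- an invariant set of seven or eight points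
  obtain ⟨B, hB, hBout, hBH⟩ : ∃ B : Finset GolayPt, (B.card = 8 ∨ B.card = 7) ∧ Disjoint B pair ∧
      ∀ k ∈ H, (k : Cfsg.Spor.M22) • B = B := by
    have hinvO : ∀ k ∈ H, (k : Cfsg.Spor.M22) • O.toFinset = O.toFinset := fun k hk => by
      refine Finset.eq_of_subset_of_card_le ?_ (le_of_eq (Finset.card_smul_finset k _).symm)
      intro z hz
      obtain ⟨w, hw, rfl⟩ := Finset.mem_smul_finset.1 hz
      exact Set.mem_toFinset.2 (MulAction.mem_orbit_of_mem_orbit (⟨k, hk⟩ : H) (Set.mem_toFinset.1 hw))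
    rcases (show O.ncard = 1 ∨ O.ncard = 8 ∨ O.ncard = 15 ∨ O.ncard = 22 by omega) with e | e | e | e
    · obtain ⟨b, hb⟩ := Set.ncard_eq_one.1 e
      have e1 : p ∈ ({b} : Set GolayPt) := hb ▸ MulAction.mem_orbit_self p
      have e2 : (h : Equiv.Perm GolayPt) p ∈ ({b} : Set GolayPt) := hb ▸ ⟨⟨h, hh⟩, rfl⟩
      exact absurd ((Set.mem_singleton_iff.1 e2).trans (Set.mem_singleton_iff.1 e1).symm) hne
    · refine ⟨O.toFinset, Or.inl (by rw [← Set.ncard_eq_toFinset_card', e]), ?_, hinvO⟩
      exact Finset.disjoint_left.2 fun z hz => hOout z (Set.mem_toFinset.1 hz)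
    · refine ⟨(O.toFinset ∪ pair)ᶜ, Or.inr ?_, ?_, fun k hk => ?_⟩
      · rw [Finset.card_compl, card_golayPt, Finset.card_union_of_disjoint
          (Finset.disjoint_left.2 fun z hz => hOout z (Set.mem_toFinset.1 hz)), ← Set.ncard_eq_toFinset_card', e, hp2]
      · exact Finset.disjoint_left.2 fun z hz hz' => Finset.mem_compl.1 hz (Finset.mem_union_right _ hz')
      · refine Finset.eq_of_subset_of_card_le ?_ (le_of_eq (Finset.card_smul_finset k _).symm)
        intro z hz
        obtain ⟨w, hw, rfl⟩ := Finset.mem_smul_finset.1 hz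
        simp only [Finset.mem_compl, Finset.mem_union, not_or] at hw ⊢
        refine ⟨fun hz' => hw.1 ?_, hout k w hw.2⟩
        rw [← hinvO k hk] at hz'
        exact (Finset.smul_mem_smul_finset_iff k).1 hz'
    · rw [e] at hdvd; norm_num at hdvd
  have horb : (MulAction.orbit Cfsg.Spor.M22 B).ncard ≤ 22 := by
    rw [← MulAction.index_stabilizer]
    exact le_of_le_of_eq
      (Nat.le_of_dvd (Nat.pos_of_ne_zero Subgroup.index_ne_zero_of_finite) (Subgroup.index_dvd_of_le hBH)) hH
  set 𝓑 := (MulAction.orbit Cfsg.Spor.M22 B).toFinset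
  have h𝓑 : 𝓑.card ≤ 22 := by rw [← Set.ncard_eq_toFinset_card']; exact horb
  obtain ⟨A₀, hA₀B, hA₀⟩ := Finset.exists_subset_card_eq (show 3 ≤ B.card by omega)
  have hcover : (pairᶜ : Finset GolayPt).powersetCard 3 ⊆ 𝓑.biUnion fun C => C.powersetCard 3 := by
    intro A hA
    rw [Finset.mem_powersetCard] at hA
    obtain ⟨k, hk⟩ := exists_fix_three A₀.nodup_toList A.nodup_toList
      (fun z hz => Finset.disjoint_left.1 hBout (hA₀B (Finset.mem_toList.1 hz)))
      (fun z hz => Finset.mem_compl.1 (hA.1 (Finset.mem_toList.1 hz))) (by simp [hA.2, hA₀]) (by simp [hA₀])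
    refine Finset.mem_biUnion.2 ⟨k • B, Set.mem_toFinset.2 ⟨k, rfl⟩, ?_⟩
    rw [Finset.mem_powersetCard]
    refine ⟨fun a ha => ?_, hA.2⟩
    rw [← Finset.mem_toList, ← hk, List.mem_map] at ha
    obtain ⟨w, hw, rfl⟩ := ha
    exact Finset.smul_mem_smul_finset (hA₀B (Finset.mem_toList.1 hw))
  have hcount := (Finset.card_le_card hcover).trans
    (Finset.card_biUnion_le_card_mul 𝓑 _ 56 fun C hC => ?_)
  · rw [Finset.card_powersetCard, Finset.card_compl, card_golayPt, hp2,
      show Nat.choose (24 - 2) 3 = 1540 from rfl] at hcount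
    omega
  · obtain ⟨k, rfl⟩ := Set.mem_toFinset.1 hC
    rw [Finset.card_powersetCard, Finset.card_smul_finset]
    rcases hB with e | e <;> rw [e] <;> decide

/-- Basis vectors that separate the two points. -/
def mixedBit (n : ℕ) : Bool := xor (n.testBit 23) (n.testBit 0)

theorem bas_split : mixedBit (bas 2) = true ∧ ∀ i < 12, mixedBit (bas i) = false ∨ i = 2 ∨
    (pc (bas i ^^^ bas 2) = 8 ∧ mixedBit (bas i ^^^ bas 2) = false) := by decide +kernel

theorem orth_kernel_all : ((List.range 4096).all fun h =>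
    h == 0 || (List.range 12).any fun i => pc ((h <<< 12) &&& bas i) % 2 != 0) = true := by decide +kernel

theorem orth_kernel : ∀ h < 4096, (∀ i < 12, pc ((h <<< 12) &&& bas i) % 2 = 0) → h = 0 := fun h hh hall => by
  have := List.all_eq_true.1 orth_kernel_all h (List.mem_range.2 hh)
  simp only [Bool.or_eq_true, beq_iff_eq, List.any_eq_true, List.mem_range, bne_iff_ne] at this
  exact this.resolve_right fun ⟨i, hi, hne⟩ => hne (hall i hi)

/-- The code is its own orthogonal. -/
theorem mem_of_orth {v : GolayPt → ZMod 2} (hv : ∀ w ∈ golayCode, ∑ p, v p * w p = 0) : v ∈ golayCode := by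
  set k := mask v % 4096
  have hk : k < 4096 := Nat.mod_lt _ (by norm_num)
  set d := mask v ^^^ enc k
  have hd : d < 2 ^ 24 := Nat.xor_lt_two_pow (Nat.ofBits_lt_two_pow _) (enc_lt k hk).1
  have hd0 : d % 4096 = 0 := by
    rw [show (4096 : ℕ) = 2 ^ 12 from rfl, Nat.xor_mod_two_pow, show (2 : ℕ) ^ 12 = 4096 from rfl, (enc_lt k hk).2,
      Nat.xor_self]
  have hdword : word d = v + word (enc k) := by rw [word_xor, word_mask]
  have hd' : d = (d / 4096) <<< 12 := by rw [Nat.shiftLeft_eq]; omega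
  have hzero : d / 4096 = 0 := by
    refine orth_kernel _ (by omega) fun i hi => ?_
    rw [← hd']
    have h1 : ∑ p, word d p * word (bas i) p = 0 := by
      rw [hdword]
      simp only [Pi.add_apply, add_mul, Finset.sum_add_distrib, hv _ (word_bas_mem hi),
        dot_eq_zero (word_enc_mem k) (word_bas_mem hi), add_zero]
    rw [dot_word] at h1
    rwa [ZMod.natCast_eq_zero_iff_even, Nat.even_iff] at h1
  have hzw : word d = 0 := by rw [hd', hzero, Nat.zero_shiftLeft, word_zero]
  rw [show v = word (enc k) from ?_]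
  · exact word_enc_mem k
  rw [hdword, add_eq_zero_iff_eq_neg] at hzw
  rw [hzw]
  funext p
  simp

variable {σ : Equiv.Perm GolayPt}

theorem word_pair (n : ℕ) : word n none = word n (some 0) ↔ mixedBit n = false := by
  have e1 : idx (none : GolayPt) = 23 := rfl
  have e2 : idx (some 0 : GolayPt) = 0 := rfl
  simp only [word, mixedBit, e1, e2]
  cases n.testBit 23 <;> cases n.testBit 0 <;> decide

theorem word_map_of_octads (hσ : ∀ o ∈ octads, ((none : GolayPt) ∈ o ↔ some 0 ∈ o) → σ • o ∈ octads)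
    {n : ℕ} (hn : toSet n ∈ octads) (hm : mixedBit n = false) : (fun p => word n (σ⁻¹ p)) ∈ golayCode := by
  have hiff : (none : GolayPt) ∈ toSet n ↔ some 0 ∈ toSet n := by
    have e1 : idx (none : GolayPt) = 23 := rfl
    have e2 : idx (some 0 : GolayPt) = 0 := rfl
    simp only [mem_toSet, e1, e2]
    simp only [mixedBit] at hm
    cases h1 : n.testBit 23 <;> cases h2 : n.testBit 0 <;> simp_all
  obtain ⟨⟨w, hw, e⟩, -⟩ := hσ _ hn hiff
  have e' : support₂ (fun p => word n (σ⁻¹ p)) = σ • toSet n := by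
    rw [support₂_comp, inv_inv, support₂_word]
  rw [← e] at e'
  exact support₂_injective e' ▸ hw

/-- Split a code word along the basis vector separating the two points. -/
theorem code_split (hσ : ∀ o ∈ octads, ((none : GolayPt) ∈ o ↔ some 0 ∈ o) → σ • o ∈ octads)
    {w : GolayPt → ZMod 2} (hw : w ∈ golayCode) :
    ∃ c : ZMod 2, (fun p => (w + c • word (bas 2)) (σ⁻¹ p)) ∈ golayCode ∧
      (w + c • word (bas 2)) none = (w + c • word (bas 2)) (some 0) := by
  refine code_induction (P := fun w => ∃ c : ZMod 2, (fun p => (w + c • word (bas 2)) (σ⁻¹ p)) ∈ golayCode ∧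
      (w + c • word (bas 2)) none = (w + c • word (bas 2)) (some 0)) ⟨0, ?_, ?_⟩ ?_ ?_ hw
  · simp only [zero_smul, add_zero, Pi.zero_apply]
    exact zero_mem _
  · simp
  · intro i hi
    rcases bas_split.2 i hi with hm | rfl | ⟨h8, hm⟩
    · refine ⟨0, ?_, ?_⟩ <;> simp only [zero_smul, add_zero]
      · exact word_map_of_octads hσ (bas_octad i hi) hm
      · exact (word_pair _).2 hm
    · refine ⟨1, ?_, ?_⟩
      · rw [show word (bas 2) + (1 : ZMod 2) • word (bas 2) = 0 by rw [one_smul, ← word_xor, Nat.xor_self, word_zero]]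
        exact zero_mem _
      · simp only [one_smul, Pi.add_apply]
        rw [CharTwo.add_self_eq_zero, CharTwo.add_self_eq_zero]
    · have hoct : toSet (bas i ^^^ bas 2) ∈ octads := by
        rw [toSet_xor]
        refine MathieuAut.symmDiff_octad (bas_octad i hi) (bas_octad 2 (by norm_num)) ?_
        rw [← toSet_xor, card_toSet, h8]
      refine ⟨1, ?_, ?_⟩ <;> rw [one_smul, ← word_xor]
      · exact word_map_of_octads hσ hoct hm
      · exact (word_pair _).2 hm
  · rintro v v' ⟨c, hc, hc'⟩ ⟨d, hd, hd'⟩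
    refine ⟨c + d, ?_, ?_⟩ <;> rw [add_smul, add_add_add_comm]
    · exact add_mem hc hd
    · simp only [Pi.add_apply] at hc' hd' ⊢
      rw [hc', hd']

theorem map_unmixed (hσ : ∀ o ∈ octads, ((none : GolayPt) ∈ o ↔ some 0 ∈ o) → σ • o ∈ octads)
    {w : GolayPt → ZMod 2} (hw : w ∈ golayCode) (he : w none = w (some 0)) :
    (fun p => w (σ⁻¹ p)) ∈ golayCode := by
  obtain ⟨c, hc, hc'⟩ := code_split hσ hw
  rcases (show ∀ c : ZMod 2, c = 0 ∨ c = 1 by decide) c with rfl | rfl
  · simpa using hc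
  · exfalso
    rw [one_smul, Pi.add_apply, Pi.add_apply, he, add_right_inj] at hc'
    exact Bool.noConfusion (bas_split.1.symm.trans ((word_pair _).1 hc'))

theorem unmixed_octad_image (hσF : ∀ p ∈ pair, σ p = p)
    (hσ : ∀ g ∈ M24, (∀ p ∈ pair, g p = p) → σ⁻¹ * g * σ ∈ M24) {o : Finset GolayPt} (ho : o ∈ octads)
    (hiff : (none : GolayPt) ∈ o ↔ some 0 ∈ o) : σ • o ∈ octads := by
  classical
  have hp2 : pair.card = 2 := Finset.card_pair (by simp)
  by_cases hn : (none : GolayPt) ∈ o
  · refine octad_image hσF hσ (by omega) ho fun p hp => ?_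
    simp only [Finset.mem_insert, Finset.mem_singleton] at hp
    rcases hp with rfl | rfl
    exacts [hn, hiff.1 hn]
  obtain ⟨A, hA, hA3⟩ := Finset.exists_subset_card_eq (show 3 ≤ o.card by rw [ho.2]; norm_num)
  obtain ⟨a, ha, hsa⟩ := exists_octad_through (s := pair ∪ A)
    ((Finset.card_union_le _ _).trans (by omega))
  have hna : (none : GolayPt) ∈ a := hsa (by simp)
  have hza : (some 0 : GolayPt) ∈ a := hsa (by simp)
  have h4 : (a ∩ o).card = 4 := by
    have hge : 3 ≤ (a ∩ o).card := hA3 ▸ Finset.card_le_card fun p hp =>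
      Finset.mem_inter.2 ⟨hsa (Finset.mem_union_right _ hp), hA hp⟩
    have hlt : (a ∩ o).card < 5 := by
      by_contra h
      exact hn (octad_eq_of_inter ha ho (by omega) ▸ hna)
    obtain ⟨m, hm, rfl⟩ := mem_octads.mp ha
    obtain ⟨n, hn', rfl⟩ := mem_octads.mp ho
    rw [mem_cwOfWeight] at hm hn'
    rw [toSet_inter, card_toSet] at hge hlt ⊢
    have := inter_even hm.1 hn'.1
    omega
  have hb8 : (symmDiff a o).card = 8 := by
    have := card_symmDiff_add a o
    rw [ha.2, ho.2, h4] at this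
    omega
  have hb := symmDiff_octad ha ho hb8
  have hz : (some 0 : GolayPt) ∉ o := fun h => hn (hiff.2 h)
  have hFsub : ∀ t : Finset GolayPt, (none : GolayPt) ∈ t → (some 0 : GolayPt) ∈ t → pair ⊆ t :=
    fun t h1 h2 p hp => by
      simp only [Finset.mem_insert, Finset.mem_singleton] at hp
      rcases hp with rfl | rfl <;> assumption
  have e : σ • o = symmDiff (σ • a) (σ • symmDiff a o) := by
    rw [← Finset.smul_finset_symmDiff, ← symmDiff_assoc, symmDiff_self, bot_symmDiff]
  rw [e]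
  refine symmDiff_octad (octad_image hσF hσ (by omega) ha (hFsub a hna hza))
    (octad_image hσF hσ (by omega) hb (hFsub _ (Finset.mem_symmDiff.2 (Or.inl ⟨hna, hn⟩))
      (Finset.mem_symmDiff.2 (Or.inl ⟨hza, hz⟩)))) ?_
  rw [← e, Finset.card_smul_finset, ho.2]

theorem mem_M24_of_code (ρ : Equiv.Perm GolayPt) (h : ∀ i < 12, (fun p => word (bas i) (ρ⁻¹ p)) ∈ golayCode) :
    ρ ∈ M24 := by
  refine inv_mem_iff.1 (mem_M24_of_forall fun w hw => ?_)
  refine code_induction (P := fun w => (fun p => w (ρ⁻¹ p)) ∈ golayCode) ?_ h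
    (fun v v' hv hv' => add_mem hv hv') hw
  exact zero_mem _

/-- A permutation normalising the group lies in `M24` up to exchanging the two points. -/
theorem mem_M24_or_swap (hσF : ∀ p ∈ pair, σ p = p)
    (hσ : ∀ g ∈ M24, (∀ p ∈ pair, g p = p) → σ⁻¹ * g * σ ∈ M24)
    (hσ' : ∀ g ∈ M24, (∀ p ∈ pair, g p = p) → σ * g * σ⁻¹ ∈ M24) :
    σ ∈ M24 ∨ Equiv.swap (none : GolayPt) (some 0) * σ ∈ M24 := by
  classical
  have hinvF : ∀ p ∈ pair, σ⁻¹ p = p := fun p hp => by
    rw [Equiv.Perm.inv_def, Equiv.symm_apply_eq, hσF p hp]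
  have hs : ∀ o ∈ octads, ((none : GolayPt) ∈ o ↔ some 0 ∈ o) → σ • o ∈ octads := fun o =>
    unmixed_octad_image hσF hσ
  have hs' : ∀ o ∈ octads, ((none : GolayPt) ∈ o ↔ some 0 ∈ o) → σ⁻¹ • o ∈ octads := fun o =>
    unmixed_octad_image hinvF (fun g hg hgF => by rw [inv_inv]; exact hσ' g hg hgF)
  have hN : σ⁻¹ none = none := hinvF _ (by simp)
  have hZ : σ⁻¹ (some 0) = some 0 := hinvF _ (by simp)
  set w₀ := word (bas 2)
  have hw₀ : w₀ ∈ golayCode := word_bas_mem (by norm_num)
  have hw₀m : w₀ none ≠ w₀ (some 0) := fun h => Bool.noConfusion (bas_split.1.symm.trans ((word_pair _).1 h))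
  set v : GolayPt → ZMod 2 := fun p => w₀ (σ⁻¹ p)
  have horth : ∀ x ∈ golayCode, x none = x (some 0) → ∑ p, v p * x p = 0 := by
    intro x hx he
    have h1 := map_unmixed hs' hx he
    rw [inv_inv] at h1
    rw [← Equiv.sum_comp σ]
    simp only [v, Equiv.Perm.inv_def, Equiv.symm_apply_apply]
    exact dot_eq_zero hw₀ h1
  set c := ∑ p, v p * w₀ p
  set e : GolayPt → ZMod 2 := Pi.single none 1 + Pi.single (some 0) 1
  have hdote : ∀ x : GolayPt → ZMod 2, ∑ p, e p * x p = x none + x (some 0) := fun x => by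
    simp only [e, Pi.add_apply, add_mul, Finset.sum_add_distrib]
    simp [Pi.single_apply, Finset.sum_ite_eq']
  have hve : v + c • e ∈ golayCode := by
    refine mem_of_orth fun x hx => ?_
    obtain ⟨d, -, hd⟩ := code_split hs hx
    set y := x + d • w₀
    have hy : y ∈ golayCode := add_mem hx (Submodule.smul_mem _ _ hw₀)
    have hx' : x = y + d • w₀ := by
      rw [add_assoc, ← add_smul, CharTwo.add_self_eq_zero, zero_smul, add_zero]
    have h1 := horth y hy hd
    have h2 : ∑ p, e p * y p = 0 := by rw [hdote, hd, CharTwo.add_self_eq_zero]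
    have h3 : ∑ p, e p * w₀ p = 1 := by
      rw [hdote]
      revert hw₀m
      generalize w₀ none = a
      generalize w₀ (some 0) = b
      revert a b; decide
    rw [hx']
    have expand : ∑ p, (v + c • e) p * (y + d • w₀) p =
        (∑ p, v p * y p) + d * (∑ p, v p * w₀ p) + c * (∑ p, e p * y p) + c * d * ∑ p, e p * w₀ p := by
      simp only [Finset.mul_sum, ← Finset.sum_add_distrib]
      refine Finset.sum_congr rfl fun p _ => ?_
      simp only [Pi.add_apply, Pi.smul_apply, smul_eq_mul]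
      ring
    rw [expand, h1, h2, h3, mul_zero, zero_add, add_zero, mul_one, mul_comm c d]
    exact CharTwo.add_self_eq_zero _
  have key : ∀ ρ : Equiv.Perm GolayPt, (∀ y : GolayPt → ZMod 2, y ∈ golayCode → y none = y (some 0) →
      (fun p => y (ρ⁻¹ p)) ∈ golayCode) → (fun p => w₀ (ρ⁻¹ p)) ∈ golayCode → ρ ∈ M24 := by
    intro ρ hρ hρ0
    refine mem_M24_of_code ρ fun i hi => ?_
    rcases bas_split.2 i hi with hm | rfl | ⟨h8, hm⟩
    · exact hρ _ (word_bas_mem hi) ((word_pair _).2 hm)
    · exact hρ0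
    · have h1 := hρ _ (add_mem (word_bas_mem hi) hw₀) (by
        rw [show word (bas i) + w₀ = word (bas i ^^^ bas 2) from (word_xor _ _).symm]; exact (word_pair _).2 hm)
      have h2 := add_mem h1 hρ0
      convert h2 using 1
      funext p
      simp only [Pi.add_apply, add_assoc, CharTwo.add_self_eq_zero, add_zero]
  rcases (show ∀ c : ZMod 2, c = 0 ∨ c = 1 by decide) c with hc | hc
  · left
    rw [hc, zero_smul, add_zero] at hve
    exact key σ (fun y hy he => map_unmixed hs hy he) hve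
  · right
    rw [hc, one_smul] at hve
    set τ : Equiv.Perm GolayPt := Equiv.swap none (some 0)
    have hρ : ∀ p, (τ * σ)⁻¹ p = σ⁻¹ (τ p) := fun p => by
      rw [mul_inv_rev, Equiv.swap_inv, Equiv.Perm.mul_apply]
    refine key _ (fun y hy he => ?_) ?_
    · convert map_unmixed hs hy he using 1
      funext p
      rw [hρ, Equiv.swap_apply_def]
      split_ifs with h1 h2
      · rw [h1, hZ, hN, he]
      · rw [h2, hN, hZ, he]
      · rfl
    · convert hve using 1
      funext p
      rw [hρ, Equiv.swap_apply_def]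
      have hab : ∀ a b : ZMod 2, a ≠ b → a = b + 1 := by decide
      split_ifs with h1 h2
      · subst h1
        simp only [v, e, Pi.add_apply, hN, hZ]
        simpa using hab _ _ hw₀m.symm
      · subst h2
        simp only [v, e, Pi.add_apply, hN, hZ]
        simpa using hab _ _ hw₀m
      · simp [v, e, h1, h2]

theorem aut_induced (α : MulAut Cfsg.Spor.M22) : ∃ x ∈ M24, x • pair = pair ∧
    ∀ g : Cfsg.Spor.M22, (α g : Equiv.Perm GolayPt) = x * g * x⁻¹ := by
  classical
  obtain ⟨σ, hσF, hconj⟩ := exists_perm_of_stabPt (F := pair) (G := Cfsg.Spor.M22) mem_M22 22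
    (fun p hp => index_stabPt_M22 hp) index_M22
    (fun p hp q hq hpq => by
      obtain ⟨r, -, hr⟩ := Finset.exists_mem_notMem_of_card_lt_card (t := Finset.univ) (s := insert q (insert p pair))
        (by rw [Finset.card_univ, card_golayPt]
            exact lt_of_le_of_lt ((Finset.card_insert_le _ _).trans (Nat.add_le_add_right
              ((Finset.card_insert_le _ _).trans (Nat.add_le_add_right Finset.card_le_two 1)) 1)) (by norm_num))
      simp only [Finset.mem_insert, not_or] at hr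
      obtain ⟨k, hk⟩ := exists_fix_three (a := [p, q]) (b := [p, r]) (by simp [hpq]) (by simp [Ne.symm hr.2.1])
        (by simp only [List.mem_cons, List.not_mem_nil, or_false]; rintro z (rfl | rfl) <;> assumption)
        (by simp only [List.mem_cons, List.not_mem_nil, or_false]
            rintro z (rfl | rfl)
            · exact hp
            · simp only [Finset.mem_insert, Finset.mem_singleton, not_or] at hr ⊢; exact ⟨hr.2.2.1, hr.2.2.2⟩) rfl (by simp)
      simp only [List.map_cons, List.map_nil, List.cons.injEq, and_true] at hk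
      exact ⟨k, hk.1, fun e => hr.1 (hk.2.symm.trans e)⟩) α
  have hσ : ∀ g ∈ M24, (∀ p ∈ pair, g p = p) → σ⁻¹ * g * σ ∈ M24 := fun g hg hgF => by
    obtain ⟨g', hg'⟩ := α.surjective ⟨g, (mem_M22 g).2 ⟨hg, hgF⟩⟩
    have e := hconj g'
    rw [hg'] at e
    rw [show g = σ * (g' : Equiv.Perm GolayPt) * σ⁻¹ from e]
    simpa [mul_assoc] using ((mem_M22 _).1 g'.2).1
  have hσ' : ∀ g ∈ M24, (∀ p ∈ pair, g p = p) → σ * g * σ⁻¹ ∈ M24 := fun g hg hgF => by
    have h := ((mem_M22 _).1 (α ⟨g, (mem_M22 g).2 ⟨hg, hgF⟩⟩).2).1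
    rwa [hconj] at h
  set τ : Equiv.Perm GolayPt := Equiv.swap none (some 0)
  have hτp : τ • pair = pair := by decide +kernel
  have hσp : σ • pair = pair := by
    refine Finset.eq_of_subset_of_card_le ?_ (le_of_eq (Finset.card_smul_finset σ pair).symm)
    intro z hz
    obtain ⟨w, hw, rfl⟩ := Finset.mem_smul_finset.1 hz
    rw [Equiv.Perm.smul_def, hσF w hw]; exact hw
  rcases mem_M24_or_swap hσF hσ hσ' with h | h
  · exact ⟨σ, h, hσp, hconj⟩
  · refine ⟨τ * σ, h, by rw [mul_smul, hσp, hτp], fun g => ?_⟩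
    have hc : τ * (α g : Equiv.Perm GolayPt) * τ⁻¹ = α g := by
      refine Equiv.ext fun z => ?_
      have hz := ((mem_M22 _).1 (α g).2).2
      have hn : (α g : Equiv.Perm GolayPt) none = none := hz _ (by simp)
      have h0 : (α g : Equiv.Perm GolayPt) (some 0) = some 0 := hz _ (by simp)
      have h2 : ∀ y, (α g : Equiv.Perm GolayPt) (τ y) = τ ((α g : Equiv.Perm GolayPt) y) := fun y => by
        rcases eq_or_ne y none with rfl | hy
        · simp [τ, hn, h0]
        rcases eq_or_ne y (some 0) with rfl | hy0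
        · simp [τ, hn, h0]
        rw [Equiv.swap_apply_of_ne_of_ne hy hy0, Equiv.swap_apply_of_ne_of_ne
          (fun e => hy ((α g : Equiv.Perm GolayPt).injective (e.trans hn.symm)))
          (fun e => hy0 ((α g : Equiv.Perm GolayPt).injective (e.trans h0.symm)))]
      rw [Equiv.Perm.mul_apply, Equiv.Perm.mul_apply, Equiv.swap_inv, h2]
      exact Equiv.swap_apply_self _ _ _
    rw [← hc, hconj, mul_inv_rev]
    simp only [mul_assoc]

end CfsgLib.Sporadic.MathieuOutTwo
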