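import Mathlib

/-!
Maximality of a stabiliser from the lengths of its orbits.
-/

set_option autoImplicit false

namespace CfsgLib.Sporadic.SuborbitMaximal

open MulAction

/-- If no proper union of orbits of the stabiliser of `a` containing `a` has length dividing the
degree, then the stabiliser is maximal. -/
theorem isCoatom_stabilizer {G X : Type*} [Group G] [MulAction G X] {a : X} {Ω : Set X}
    (hfin : Ω.Finite) (hinv : ∀ (g : G), ∀ x ∈ Ω, g • x ∈ Ω) (ha : a ∈ Ω)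
    (htr : ∀ x ∈ Ω, ∃ g : G, g • a = x) {r : ℕ} [NeZero r] (cls : X → Fin r) (sz : Fin r → ℕ)
    (h0 : ∀ x ∈ Ω, (cls x = 0 ↔ x = a))
    (hcls : ∀ x ∈ Ω, ∀ y ∈ Ω, cls x = cls y → ∃ h : G, h • a = a ∧ h • x = y)
    (hsz : ∀ i, {x | x ∈ Ω ∧ cls x = i}.ncard = sz i) (hr : 2 ≤ r) (hpos : ∀ i, sz i ≠ 0)
    (hdvd : ∀ T : Finset (Fin r), 0 ∈ T → T ≠ {0} → T ≠ Finset.univ →
      ¬ (∑ i ∈ T, sz i) ∣ ∑ i, sz i) :
    IsCoatom (stabilizer G a) := by
  classical
  have horb : orbit G a = Ω := Set.ext fun x =>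
    ⟨by rintro ⟨g, rfl⟩; exact hinv g a ha, fun hx => htr x hx⟩
  have hΩ : Ω.ncard = ∑ i, sz i := by
    rw [Finset.sum_congr rfl fun i _ => (hsz i).symm, Set.ncard_eq_toFinset_card _ hfin,
      Finset.card_eq_sum_card_fiberwise (f := cls) (t := Finset.univ) fun x _ => Finset.mem_univ _]
    refine Finset.sum_congr rfl fun i _ => ?_
    rw [← Set.ncard_coe_finset]
    congr 1
    ext x
    simp
  refine ⟨fun h => ?_, fun K hK => ?_⟩
  · obtain ⟨y, hy⟩ : ∃ y ∈ Ω, cls y = ⟨1, hr⟩ := by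
      by_contra hne
      push Not at hne
      refine hpos ⟨1, hr⟩ ((hsz _).symm.trans ?_)
      rw [Set.eq_empty_of_forall_notMem (s := {x | x ∈ Ω ∧ cls x = ⟨1, hr⟩}) fun x hx => hne x hx.1 hx.2,
        Set.ncard_empty]
    obtain ⟨g, hg⟩ := htr y hy.1
    have : g • a = a := mem_stabilizer_iff.1 (h ▸ Subgroup.mem_top g)
    have h2 := (h0 y hy.1).2 (hg.symm.trans this)
    rw [hy.2] at h2
    simpa [Fin.ext_iff] using h2
  · set B : Set X := orbit K a with hB
    have hBsub : B ⊆ Ω := by rintro _ ⟨k, rfl⟩; exact hinv _ a ha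
    have hBinv : ∀ x ∈ B, ∀ y ∈ Ω, cls x = cls y → y ∈ B := by
      rintro _ ⟨k, rfl⟩ y hy e
      obtain ⟨h, hha, hhx⟩ := hcls _ (hBsub ⟨k, rfl⟩) y hy e
      exact ⟨⟨h * k, mul_mem (hK.le hha) k.2⟩, by
        show (h * (k : G)) • a = y
        rw [mul_smul]; exact hhx⟩
    have hBfin : B.Finite := hfin.subset hBsub
    set T := hBfin.toFinset.image cls with hT
    have hBT : B = {x | x ∈ Ω ∧ cls x ∈ T} := by
      ext x
      simp only [hT, Finset.mem_image, Set.Finite.mem_toFinset, Set.mem_ofPred_eq]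
      exact ⟨fun hx => ⟨hBsub hx, x, hx, rfl⟩, fun ⟨hxΩ, y, hy, e⟩ => hBinv y hy x hxΩ e⟩
    have hcard : B.ncard = ∑ i ∈ T, sz i := by
      rw [Finset.sum_congr rfl fun i _ => (hsz i).symm, Set.ncard_eq_toFinset_card _ hBfin,
        Finset.card_eq_sum_card_fiberwise (f := cls) (t := T) fun x hx => Finset.mem_image_of_mem _ hx]
      refine Finset.sum_congr rfl fun i hi => ?_
      rw [← Set.ncard_coe_finset]
      congr 1
      ext x
      simp only [Finset.coe_filter, Set.Finite.mem_toFinset, Set.mem_ofPred_eq]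
      exact ⟨fun h => ⟨hBsub h.1, h.2⟩, fun h => ⟨hBT ▸ ⟨h.1, h.2.symm ▸ hi⟩, h.2⟩⟩
    have hdiv : B.ncard ∣ Ω.ncard := by
      rw [← horb, hB, ← index_stabilizer K a, ← index_stabilizer G a]
      have e : stabilizer K a = (stabilizer G a).subgroupOf K := rfl
      rw [e, ← Subgroup.relIndex]
      exact Subgroup.relIndex_dvd_index_of_le hK.le
    have h0T : (0 : Fin r) ∈ T :=
      Finset.mem_image.2 ⟨a, hBfin.mem_toFinset.2 (mem_orbit_self a), (h0 a ha).2 rfl⟩
    have hne : T ≠ {0} := by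
      intro hT0
      obtain ⟨g, hgK, hgH⟩ := SetLike.exists_of_lt hK
      have hga : g • a ∈ B := ⟨⟨g, hgK⟩, rfl⟩
      have hx := hga
      rw [hBT, hT0] at hx
      exact hgH ((h0 _ (hBsub hga)).1 (Finset.mem_singleton.1 hx.2))
    have huniv : T = Finset.univ := by
      by_contra hu
      exact hdvd T h0T hne hu (hcard ▸ hΩ ▸ hdiv)
    refine Subgroup.eq_top_iff' K |>.2 fun g => ?_
    have : g • a ∈ B := by
      rw [hBT, huniv]
      exact ⟨hinv g a ha, Finset.mem_univ _⟩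
    obtain ⟨k, hk⟩ := this
    have hs : (k : G)⁻¹ * g ∈ stabilizer G a := by
      rw [mem_stabilizer_iff, mul_smul, inv_smul_eq_iff]
      exact hk.symm
    simpa using mul_mem k.2 (hK.le hs)

end CfsgLib.Sporadic.SuborbitMaximal
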