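import Cfsg.Prelude.Def_SporadicCombinatorics
import Cfsg.Agent.Lib.SmallGroups.GolayOctads

/-!
Sextets, trios and coset leaders of the length 24 code.
-/

set_option autoImplicit false

namespace CfsgLib.Sporadic.Sextets

open Cfsg CfsgLib.SmallGroups.Golay CfsgLib.SmallGroups.GolayOctads CfsgLib.SmallGroups.Steiner
open scoped symmDiff

theorem mask_lt (w : GolayPt → ZMod 2) : mask w < 2 ^ 24 := Nat.ofBits_lt_two_pow _

theorem symmDiff_mem {A B : Finset GolayPt}
    (hA : A ∈ supports (golayCode : Set (GolayPt → ZMod 2)))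
    (hB : B ∈ supports (golayCode : Set (GolayPt → ZMod 2))) :
    A ∆ B ∈ supports (golayCode : Set (GolayPt → ZMod 2)) := by
  obtain ⟨a, ha, rfl⟩ := mem_supports.1 hA
  obtain ⟨b, hb, rfl⟩ := mem_supports.1 hB
  exact mem_supports.2 ⟨_, cw_xor ha hb, toSet_xor a b⟩

theorem supports_card {A : Finset GolayPt} (hA : A ∈ supports (golayCode : Set (GolayPt → ZMod 2))) :
    A.card = 0 ∨ A.card = 8 ∨ A.card = 12 ∨ A.card = 16 ∨ A.card = 24 := by
  obtain ⟨a, ha, rfl⟩ := mem_supports.1 hA
  rw [card_toSet]
  exact weights a ha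

theorem octad_inter {o o' : Finset GolayPt} (ho : o ∈ octads) (ho' : o' ∈ octads) (hne : o ≠ o') :
    (o ∩ o').card = 0 ∨ (o ∩ o').card = 2 ∨ (o ∩ o').card = 4 := by
  have h := supports_card (symmDiff_mem ho.1 ho'.1)
  have h2 := card_symmDiff_add o o'
  have hlt : (o ∩ o').card < 5 := by
    by_contra hge
    exact hne (octad_eq_of_inter ho ho' (not_lt.1 hge))
  rw [ho.2, ho'.2] at h2
  omega

theorem symmDiff_octad {o o' : Finset GolayPt} (ho : o ∈ octads) (ho' : o' ∈ octads)
    (h : (o ∩ o').card = 4) : o ∆ o' ∈ octads := by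
  refine ⟨symmDiff_mem ho.1 ho'.1, ?_⟩
  have := card_symmDiff_add o o'
  rw [ho.2, ho'.2, h] at this
  omega

/-- The five octads through a tetrad, less the tetrad. -/
noncomputable def partners (t : Finset GolayPt) : Finset (Finset GolayPt) :=
  open Classical in ((blocks octads).filter (t ⊆ ·)).image (· \ t)

/-- The sextet of a tetrad. -/
noncomputable def sextetOf (t : Finset GolayPt) : Finset (Finset GolayPt) := insert t (partners t)

theorem mem_partners {t u : Finset GolayPt} (ht : t.card = 4) :
    u ∈ partners t ↔ u.card = 4 ∧ Disjoint t u ∧ t ∪ u ∈ octads := by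
  classical
  simp only [partners, Finset.mem_image, Finset.mem_filter, mem_blocks]
  constructor
  · rintro ⟨o, ⟨ho, hto⟩, rfl⟩
    refine ⟨?_, Finset.disjoint_sdiff, ?_⟩
    · rw [Finset.card_sdiff_of_subset hto, ho.2, ht]
    · rw [Finset.union_sdiff_of_subset hto]; exact ho
  · rintro ⟨-, hd, ho⟩
    exact ⟨t ∪ u, ⟨ho, Finset.subset_union_left⟩, Finset.union_sdiff_cancel_left hd⟩

theorem card_partners {t : Finset GolayPt} (ht : t.card = 4) : (partners t).card = 5 := by
  classical
  rw [partners, Finset.card_image_of_injOn]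
  · exact count_eq octads_steiner (by norm_num) card_golayPt ht (by norm_num)
      (show 5 * (8 - 4).choose (5 - 4) = (24 - 4).choose (5 - 4) by decide)
  · intro a ha b hb hab
    simp only [Finset.coe_filter, Set.mem_ofPred_eq] at ha hb
    rw [← Finset.union_sdiff_of_subset ha.2, ← Finset.union_sdiff_of_subset hb.2]
    exact congrArg (t ∪ ·) hab

theorem self_notMem_partners {t : Finset GolayPt} (ht : t.card = 4) : t ∉ partners t := by
  intro h
  have := ((mem_partners ht).1 h).2.1
  rw [disjoint_self] at this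
  simp [this] at ht

theorem sextetOf_mem {t : Finset GolayPt} (ht : t.card = 4) : sextetOf t ∈ sextets := by
  classical
  refine ⟨?_, ?_, ?_⟩
  · rw [sextetOf, Finset.card_insert_of_notMem (self_notMem_partners ht), card_partners ht]
  · intro u hu
    rcases Finset.mem_insert.1 hu with rfl | hu
    · exact ht
    · exact ((mem_partners ht).1 hu).1
  · intro u hu v hv hne
    rcases Finset.mem_insert.1 hu with rfl | hu <;> rcases Finset.mem_insert.1 hv with hv' | hv'
    · exact absurd hv'.symm hne
    · exact ((mem_partners ht).1 hv').2.2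
    · subst hv'
      rw [Finset.union_comm]
      exact ((mem_partners ht).1 hu).2.2
    · obtain ⟨hu4, hdu, hou⟩ := (mem_partners ht).1 hu
      obtain ⟨hv4, hdv, hov⟩ := (mem_partners ht).1 hv'
      have hne' : t ∪ u ≠ t ∪ v := fun h => hne (by
        rw [← Finset.union_sdiff_cancel_left hdu, h, Finset.union_sdiff_cancel_left hdv])
      have hsub : t ⊆ (t ∪ u) ∩ (t ∪ v) :=
        Finset.subset_inter Finset.subset_union_left Finset.subset_union_left
      have h4 : ((t ∪ u) ∩ (t ∪ v)).card = 4 := by
        have := Finset.card_le_card hsub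
        rcases octad_inter hou hov hne' with h | h | h <;> omega
      have heq : (t ∪ u) ∩ (t ∪ v) = t := (Finset.eq_of_subset_of_card_le hsub (by omega)).symm
      have huv : Disjoint u v := by
        rw [Finset.disjoint_left]
        intro p hpu hpv
        have : p ∈ t := heq ▸ Finset.mem_inter.2
          ⟨Finset.mem_union_right _ hpu, Finset.mem_union_right _ hpv⟩
        exact Finset.disjoint_left.1 hdu this hpu
      have : (t ∪ u) ∆ (t ∪ v) = u ∪ v := by
        ext p
        have h1 : p ∈ t → p ∉ u := fun h => Finset.disjoint_left.1 hdu h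
        have h2 : p ∈ t → p ∉ v := fun h => Finset.disjoint_left.1 hdv h
        have h3 : p ∈ u → p ∉ v := fun h => Finset.disjoint_left.1 huv h
        simp only [Finset.mem_symmDiff, Finset.mem_union]
        tauto
      rw [← this]
      exact symmDiff_octad hou hov h4

theorem eq_sextetOf {S : Finset (Finset GolayPt)} (hS : S ∈ sextets) {t : Finset GolayPt} (ht : t ∈ S) :
    S = sextetOf t := by
  classical
  obtain ⟨h6, h4, hu⟩ := hS
  have ht4 := h4 t ht
  refine Finset.eq_of_subset_of_card_le (fun u huS => ?_) ?_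
  · by_cases h : u = t
    · exact h ▸ Finset.mem_insert_self _ _
    · refine Finset.mem_insert_of_mem ((mem_partners ht4).2 ⟨h4 u huS, ?_, hu t ht u huS (Ne.symm h)⟩)
      rw [← Finset.card_union_eq_card_add_card, (hu t ht u huS (Ne.symm h)).2, ht4, h4 u huS]
  · rw [h6, (sextetOf_mem ht4).1]

theorem existsUnique_sextet {t : Finset GolayPt} (ht : t.card = 4) :
    ∃! S : Finset (Finset GolayPt), S ∈ sextets ∧ t ∈ S :=
  ⟨sextetOf t, ⟨sextetOf_mem ht, Finset.mem_insert_self _ _⟩, fun _ h => eq_sextetOf h.1 h.2⟩

theorem ncard_sextets : sextets.ncard = 1771 := by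
  classical
  have hf : sextets.Finite := Set.toFinite _
  rw [Set.ncard_eq_toFinset_card _ hf]
  have h := Finset.card_eq_sum_card_fiberwise (s := (Finset.univ : Finset GolayPt).powersetCard 4)
    (f := sextetOf) (t := hf.toFinset)
    (fun t ht => Finset.mem_coe.2 (hf.mem_toFinset.2
      (sextetOf_mem (Finset.mem_powersetCard.1 (Finset.mem_coe.1 ht)).2)))
  rw [Finset.sum_const_nat (m := 6), Finset.card_powersetCard, Finset.card_univ, card_golayPt,
    show Nat.choose 24 4 = 10626 by decide] at h
  · omega
  · intro S hS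
    rw [hf.mem_toFinset] at hS
    rw [← hS.1]
    congr 1
    ext t
    simp only [Finset.mem_filter, Finset.mem_powersetCard]
    exact ⟨fun h => h.2 ▸ Finset.mem_insert_self _ _,
      fun h => ⟨⟨Finset.subset_univ _, hS.2.1 t h⟩, (eq_sextetOf hS h).symm⟩⟩

theorem sextet_disjoint {S : Finset (Finset GolayPt)} (hS : S ∈ sextets) {t u : Finset GolayPt}
    (ht : t ∈ S) (hu : u ∈ S) (hne : t ≠ u) : Disjoint t u := by
  rw [eq_sextetOf hS ht] at hu
  rcases Finset.mem_insert.1 hu with h | h
  · exact absurd h.symm hne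
  · exact ((mem_partners (hS.2.1 t ht)).1 h).2.1

theorem third_octad {o o' : Finset GolayPt} (ho : o ∈ octads) (ho' : o' ∈ octads) (hd : Disjoint o o') :
    (o ∪ o')ᶜ ∈ octads := by
  classical
  have hu : (Finset.univ : Finset GolayPt) ∈ supports (golayCode : Set (GolayPt → ZMod 2)) := by
    refine ⟨1, Submodule.subset_span (Or.inr rfl), ?_⟩
    ext p; simp [support₂]
  have h1 : (o ∪ o')ᶜ = (o ∆ o') ∆ Finset.univ := by
    ext p
    have h3 : p ∈ o → p ∉ o' := fun h => Finset.disjoint_left.1 hd h
    simp only [Finset.mem_symmDiff, Finset.mem_compl, Finset.mem_union, Finset.mem_univ]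
    tauto
  refine ⟨h1 ▸ symmDiff_mem (symmDiff_mem ho.1 ho'.1) hu, ?_⟩
  rw [Finset.card_compl, Finset.card_union_of_disjoint hd, ho.2, ho'.2, card_golayPt]

theorem ncard_trios : trios.ncard = 3795 := by
  classical
  have hf : trios.Finite := Set.toFinite _
  rw [Set.ncard_eq_toFinset_card _ hf]
  let P : Finset (Finset GolayPt × Finset GolayPt) :=
    (blocks octads).biUnion fun o => (((blocks octads).filter fun c => c ∩ o = ∅)).map
      ⟨fun c => (o, c), fun a b h => (Prod.ext_iff.1 h).2⟩
  have hP : ∀ x, x ∈ P ↔ x.1 ∈ octads ∧ x.2 ∈ octads ∧ Disjoint x.1 x.2 := by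
    rintro ⟨a, b⟩
    simp only [P, Finset.mem_biUnion, Finset.mem_map, Finset.mem_filter, mem_blocks,
      Finset.disjoint_iff_inter_eq_empty, Function.Embedding.coeFn_mk, Prod.mk.injEq]
    constructor
    · rintro ⟨o, ho, c, ⟨hc, he⟩, heq⟩
      obtain ⟨rfl, rfl⟩ := Prod.mk.injEq .. ▸ (heq : (o, c) = (a, b))
      exact ⟨ho, hc, by rw [Finset.inter_comm]; exact he⟩
    · rintro ⟨ha, hb, he⟩
      exact ⟨a, ha, b, ⟨hb, by rw [Finset.inter_comm]; exact he⟩, rfl⟩
  have hcard : P.card = 22770 := by
    rw [Finset.card_biUnion]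
    · rw [Finset.sum_const_nat (m := 30)]
      · have h0 := card_blocks_mul octads_steiner
        rw [card_golayPt, show Nat.choose 24 5 = 759 * Nat.choose 8 5 by decide] at h0
        rw [Nat.eq_of_mul_eq_mul_right (by decide) h0]
      · intro o ho
        rw [Finset.card_map, inter24 card_golayPt octads_steiner (mem_blocks.1 ho) (Finset.empty_subset o)]
        rfl
    · intro o _ o' _ hne
      simp only [Function.onFun, Finset.disjoint_left, Finset.mem_map, Function.Embedding.coeFn_mk]
      rintro x ⟨c, -, rfl⟩ ⟨c', -, h⟩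
      exact hne (Prod.ext_iff.1 h).1.symm
  have hne : ∀ {a b : Finset GolayPt}, a ∈ octads → Disjoint a b → a ≠ b := by
    intro a b ha hd h
    subst h
    rw [disjoint_self] at hd
    rw [hd] at ha
    exact absurd ha.2 (by simp)
  have htrio : ∀ x ∈ P, ({x.1, x.2, (x.1 ∪ x.2)ᶜ} : Finset (Finset GolayPt)) ∈ trios := by
    intro x hx
    obtain ⟨h1, h2, hd⟩ := (hP x).1 hx
    have h3 := third_octad h1 h2 hd
    have d1 : Disjoint x.1 (x.1 ∪ x.2)ᶜ := (disjoint_compl_right).mono_left Finset.subset_union_left
    have d2 : Disjoint x.2 (x.1 ∪ x.2)ᶜ := (disjoint_compl_right).mono_left Finset.subset_union_right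
    refine ⟨Finset.card_eq_three.2 ⟨_, _, _, hne h1 hd, hne h1 d1, hne h2 d2, rfl⟩, ?_, ?_⟩
    · intro c hc
      simp only [Finset.mem_insert, Finset.mem_singleton] at hc
      rcases hc with rfl | rfl | rfl <;> assumption
    · intro a ha b hb hab
      simp only [Finset.mem_insert, Finset.mem_singleton] at ha hb
      rcases ha with rfl | rfl | rfl <;> rcases hb with rfl | rfl | rfl <;>
        first
        | exact absurd rfl hab
        | exact hd
        | exact hd.symm
        | exact d1
        | exact d1.symm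
        | exact d2
        | exact d2.symm
  have h := Finset.card_eq_sum_card_fiberwise (s := P)
    (f := fun x => ({x.1, x.2, (x.1 ∪ x.2)ᶜ} : Finset (Finset GolayPt))) (t := hf.toFinset)
    (fun x hx => Finset.mem_coe.2 (hf.mem_toFinset.2 (htrio x (Finset.mem_coe.1 hx))))
  rw [Finset.sum_const_nat (m := 6), hcard] at h
  · omega
  · intro T hT
    rw [hf.mem_toFinset] at hT
    have : P.filter (fun x => ({x.1, x.2, (x.1 ∪ x.2)ᶜ} : Finset (Finset GolayPt)) = T) = T.offDiag := by
      ext ⟨a, b⟩
      simp only [Finset.mem_filter, hP, Finset.mem_offDiag]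
      constructor
      · rintro ⟨⟨h1, h2, hd⟩, rfl⟩
        exact ⟨by simp, by simp, hne h1 hd⟩
      · rintro ⟨ha, hb, hab⟩
        have hd := hT.2.2 a ha b hb hab
        have hx : (a, b) ∈ P := (hP _).2 ⟨hT.2.1 a ha, hT.2.1 b hb, hd⟩
        refine ⟨⟨hT.2.1 a ha, hT.2.1 b hb, hd⟩, Finset.eq_of_subset_of_card_le ?_ ?_⟩
        · intro c hc
          simp only [Finset.mem_insert, Finset.mem_singleton] at hc
          rcases hc with rfl | rfl | rfl
          · exact ha
          · exact hb
          · obtain ⟨e, he, he'⟩ := Finset.exists_mem_notMem_of_card_lt_card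
              (s := {a, b}) (t := T) (by rw [hT.1]; exact lt_of_le_of_lt Finset.card_le_two (by norm_num))
            simp only [Finset.mem_insert, Finset.mem_singleton, not_or] at he'
            have hsub : e ⊆ (a ∪ b)ᶜ := fun p hp => by
              simp only [Finset.mem_compl, Finset.mem_union, not_or]
              exact ⟨Finset.disjoint_left.1 (hT.2.2 e he a ha he'.1) hp,
                Finset.disjoint_left.1 (hT.2.2 e he b hb he'.2) hp⟩
            have := Finset.eq_of_subset_of_card_le hsub
              (by rw [(third_octad (hT.2.1 a ha) (hT.2.1 b hb) hd).2, (hT.2.1 e he).2])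
            rwa [← this]
        · rw [hT.1, (htrio _ hx).1]
    rw [this, Finset.offDiag_card, hT.1]

/-! ### Coset leaders -/

theorem support₂_inj {v w : GolayPt → ZMod 2} (h : support₂ v = support₂ w) : v = w := by
  have h2 : ∀ a : ZMod 2, a = 0 ∨ a = 1 := by decide
  funext p
  have hp : p ∈ support₂ v ↔ p ∈ support₂ w := by rw [h]
  simp only [support₂, Finset.mem_filter, Finset.mem_univ, true_and] at hp
  rcases h2 (v p) with a | a <;> rcases h2 (w p) with b | b <;> simp [a, b] at hp ⊢

/-- The word with a given support. -/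
def chi (s : Finset GolayPt) : GolayPt → ZMod 2 := fun p => if p ∈ s then 1 else 0

theorem support₂_chi (s : Finset GolayPt) : support₂ (chi s) = s := by
  ext p; simp [support₂, chi]

theorem chi_support₂ (w : GolayPt → ZMod 2) : chi (support₂ w) = w :=
  support₂_inj (support₂_chi _)

theorem support₂_sub (v w : GolayPt → ZMod 2) : support₂ (v - w) = support₂ v ∆ support₂ w := by
  ext p
  have h2 : ∀ a b : ZMod 2, a - b ≠ 0 ↔ (a ≠ 0 ∧ ¬ b ≠ 0 ∨ b ≠ 0 ∧ ¬ a ≠ 0) := by decide
  simpa [support₂, Finset.mem_symmDiff] using h2 (v p) (w p)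

theorem small_weight_zero {w : GolayPt → ZMod 2} (hw : w ∈ golayCode) (h : (support₂ w).card < 8) :
    w = 0 := by
  have := supports_card (A := support₂ w) ⟨w, hw, rfl⟩
  have h0 : (support₂ w).card = 0 := by omega
  rw [Finset.card_eq_zero] at h0
  exact support₂_inj (h0.trans (by ext p; simp [support₂]))

theorem congruent_leaders {v v' : GolayPt → ZMod 2} (hc : v - v' ∈ golayCode) (hne : v ≠ v')
    (hv : (support₂ v).card ≤ 4) (hv' : (support₂ v').card ≤ 4) :
    (support₂ v).card = 4 ∧ (support₂ v').card = 4 ∧ support₂ v' ∈ sextetOf (support₂ v) := by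
  classical
  have h := supports_card (A := support₂ (v - v')) ⟨_, hc, rfl⟩
  rw [support₂_sub] at h
  have h2 := card_symmDiff_add (support₂ v) (support₂ v')
  have h0 : (support₂ v ∆ support₂ v').card ≠ 0 := by
    rw [← support₂_sub, Ne, Finset.card_eq_zero]
    intro he
    exact hne (sub_eq_zero.1 (support₂_inj (he.trans (by ext p; simp [support₂]))))
  have h4 : (support₂ v).card = 4 := by omega
  have h4' : (support₂ v').card = 4 := by omega
  have hd : Disjoint (support₂ v) (support₂ v') := by
    rw [Finset.disjoint_iff_inter_eq_empty, ← Finset.card_eq_zero]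
    omega
  refine ⟨h4, h4', Finset.mem_insert_of_mem ((mem_partners h4).2 ⟨h4', hd, ?_, ?_⟩)⟩
  · have : support₂ v ∪ support₂ v' = support₂ (v - v') := by
      rw [support₂_sub, hd.symmDiff_eq_sup]
      rfl
    rw [this]
    exact ⟨_, hc, rfl⟩
  · rw [Finset.card_union_of_disjoint hd, h4, h4']

theorem congruent_of_sextet {S : Finset (Finset GolayPt)} (hS : S ∈ sextets) {t u : Finset GolayPt}
    (ht : t ∈ S) (hu : u ∈ S) : chi t - chi u ∈ golayCode := by
  by_cases h : t = u
  · rw [h, sub_self]; exact zero_mem _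
  · obtain ⟨x, hx, he⟩ := (hS.2.2 t ht u hu h).1
    have : x = chi t - chi u := support₂_inj (by
      rw [he, support₂_sub, support₂_chi, support₂_chi, (sextet_disjoint hS ht hu h).symmDiff_eq_sup]
      rfl)
    rwa [← this]

theorem card_small_sets : ((Finset.univ : Finset GolayPt).powerset.filter (·.card ≤ 3)).card = 2325 := by
  classical
  have h : (Finset.univ : Finset GolayPt).powerset.filter (·.card ≤ 3)
      = (Finset.range 4).biUnion fun k => (Finset.univ : Finset GolayPt).powersetCard k := by
    ext s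
    simp [Finset.mem_powersetCard]
    omega
  rw [h, Finset.card_biUnion]
  · simp only [Finset.card_powersetCard, Finset.card_univ, card_golayPt]
    decide
  · intro i _ j _ hij
    simp only [Function.onFun, Finset.disjoint_left, Finset.mem_powersetCard]
    rintro s ⟨-, h1⟩ ⟨-, h2⟩
    exact hij (h1.symm.trans h2)

theorem exists_leader (w : GolayPt → ZMod 2) :
    ∃ v : GolayPt → ZMod 2, (support₂ v).card ≤ 4 ∧ w - v ∈ golayCode := by
  classical
  let Q := (GolayPt → ZMod 2) ⧸ golayCode.toAddSubgroup
  have hcode : Nat.card golayCode.toAddSubgroup = 4096 := by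
    show Nat.card golayCode = 4096
    rw [Module.natCard_eq_pow_finrank (K := ZMod 2) (V := golayCode), finrank_code, Nat.card_zmod]
    norm_num
  have hQ : Nat.card Q = 4096 := by
    have h := AddSubgroup.card_eq_card_quotient_mul_card_addSubgroup golayCode.toAddSubgroup
    rw [hcode, Nat.card_fun, Nat.card_eq_fintype_card (α := GolayPt), card_golayPt, Nat.card_zmod] at h
    show Nat.card ((GolayPt → ZMod 2) ⧸ golayCode.toAddSubgroup) = 4096
    omega
  haveI : Fintype Q := Fintype.ofFinite Q
  let q : Finset GolayPt → Q := fun s => QuotientAddGroup.mk (chi s)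
  have hq : ∀ s t, q s = q t → chi s - chi t ∈ golayCode := fun s t h => by
    have := QuotientAddGroup.eq.1 h
    have h2 := neg_mem this
    simpa [neg_add_rev, sub_eq_add_neg, add_comm] using h2
  let A := (Finset.univ : Finset GolayPt).powerset.filter (·.card ≤ 3)
  have hf : sextets.Finite := Set.toFinite _
  let rep : Finset (Finset GolayPt) → Finset GolayPt := fun S =>
    if h : S.Nonempty then h.choose else ∅
  have hrep : ∀ S ∈ sextets, rep S ∈ S := fun S hS => by
    have : S.Nonempty := Finset.card_pos.1 (by rw [hS.1]; norm_num)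
    simp only [rep, dif_pos this]
    exact this.choose_spec
  have hinj : Set.InjOn q (A : Set (Finset GolayPt)) := by
    intro s hs t ht h
    simp only [A, Finset.coe_filter, Set.mem_ofPred_eq] at hs ht
    by_contra hne
    have := congruent_leaders (hq s t h) (fun e => hne (by
      rw [← support₂_chi s, e, support₂_chi])) (by rw [support₂_chi]; omega) (by rw [support₂_chi]; omega)
    rw [support₂_chi] at this
    omega
  have hinj2 : Set.InjOn (q ∘ rep) (hf.toFinset : Set (Finset (Finset GolayPt))) := by
    intro S hS T hT h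
    simp only [Set.Finite.coe_toFinset] at hS hT
    by_cases he : rep S = rep T
    · rw [eq_sextetOf hS (hrep S hS), eq_sextetOf hT (hrep T hT), he]
    · have := (congruent_leaders (hq _ _ h) (fun e => he (by
        rw [← support₂_chi (rep S), e, support₂_chi]))
        (by rw [support₂_chi, hS.2.1 _ (hrep S hS)]) (by rw [support₂_chi, hT.2.1 _ (hrep T hT)])).2.2
      rw [support₂_chi, support₂_chi, ← eq_sextetOf hS (hrep S hS)] at this
      exact (eq_sextetOf hS this).trans (eq_sextetOf hT (hrep T hT)).symm
  have hdisj : Disjoint (A.image q) (hf.toFinset.image (q ∘ rep)) := by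
    rw [Finset.disjoint_left]
    intro x hx hx'
    obtain ⟨s, hs, rfl⟩ := Finset.mem_image.1 hx
    obtain ⟨S, hS, h⟩ := Finset.mem_image.1 hx'
    rw [hf.mem_toFinset] at hS
    simp only [A, Finset.mem_filter] at hs
    have h4 := hS.2.1 _ (hrep S hS)
    have := (congruent_leaders (hq _ _ h) (fun e => by
      have : rep S = s := by rw [← support₂_chi (rep S), e, support₂_chi]
      rw [this] at h4; omega) (by rw [support₂_chi, h4]) (by rw [support₂_chi]; omega)).2.1
    rw [support₂_chi] at this
    omega
  have hall : A.image q ∪ hf.toFinset.image (q ∘ rep) = Finset.univ := by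
    apply Finset.eq_univ_of_card
    rw [Finset.card_union_of_disjoint hdisj, Finset.card_image_of_injOn hinj,
      Finset.card_image_of_injOn hinj2, ← Set.ncard_eq_toFinset_card _ hf, ncard_sextets,
      ← Nat.card_eq_fintype_card (α := Q), hQ, card_small_sets]
  have hw : (QuotientAddGroup.mk w : Q) ∈ A.image q ∪ hf.toFinset.image (q ∘ rep) := by
    rw [hall]; exact Finset.mem_univ _
  have fin : ∀ s : Finset GolayPt, s.card ≤ 4 → q s = QuotientAddGroup.mk w →
      ∃ v : GolayPt → ZMod 2, (support₂ v).card ≤ 4 ∧ w - v ∈ golayCode := fun s hs h => by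
    refine ⟨chi s, by rwa [support₂_chi], ?_⟩
    have := QuotientAddGroup.eq.1 h
    simpa [sub_eq_add_neg, add_comm] using this
  rcases Finset.mem_union.1 hw with h | h
  · obtain ⟨s, hs, hqs⟩ := Finset.mem_image.1 h
    exact fin s (by have := (Finset.mem_filter.1 hs).2; omega) hqs
  · obtain ⟨S, hS, hqs⟩ := Finset.mem_image.1 h
    exact fin _ (hf.mem_toFinset.1 hS |>.2.1 _ (hrep S (hf.mem_toFinset.1 hS))).le hqs

end CfsgLib.Sporadic.Sextets
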