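import Cfsg.Agent.Lib.Sporadic.M24Certs
import Cfsg.Agent.Lib.Sporadic.SuborbitMaximal
import Cfsg.Agent.Lib.SmallGroups.MathieuSimple
import Cfsg.Agent.S1556
import Cfsg.Agent.S1561
import Cfsg.Agent.S1562

/-!
Maximality in `Cfsg.M24` of stabilisers of duads, triads, octads and duums.
-/

set_option autoImplicit false

namespace CfsgLib.Sporadic.M24Maximal

open Cfsg CfsgLib.SmallGroups.Golay CfsgLib.SmallGroups.GolayOctads CfsgLib.SmallGroups.M24Group
  CfsgLib.SmallGroups.Mathieu CfsgLib.Sporadic.M24Orbits CfsgLib.Sporadic.M24Config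
open scoped Pointwise

theorem exists_of_card_le_five {x y : List GolayPt} (hx : x.Nodup) (hy : y.Nodup)
    (hl : x.length = y.length) (h5 : x.length ≤ 5) :
    ∃ g ∈ M24, x.map g = y := by
  obtain ⟨g, hg, h⟩ := exists_map h5 (fun i => x.get i) (fun i => y.get (i.cast hl))
    hx.injective_get (fun i j e => Fin.cast_injective hl (hy.injective_get e))
  refine ⟨g, hg, List.ext_get (by simpa using hl) fun i h1 h2 => ?_⟩
  simpa using h ⟨i, by simpa using h1⟩

theorem smul_eq_image (g : Equiv.Perm GolayPt) (S : Finset GolayPt) : g • S = S.image g := rfl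

/-- Two small configurations with the same pattern of intersection are in one orbit. -/
theorem exists_pair {S U U' : Finset GolayPt} (hU : U.card = U'.card)
    (hi : (S ∩ U).card = (S ∩ U').card) (h5 : (S ∪ U).card ≤ 5) :
    ∃ g ∈ M24, g • S = S ∧ g • U = U' := by
  have h1 := Finset.card_sdiff_add_card_inter S U
  have h2 := Finset.card_sdiff_add_card_inter S U'
  have h3 := Finset.card_sdiff_add_card_inter U S
  have h4 := Finset.card_sdiff_add_card_inter U' S
  rw [Finset.inter_comm] at h3 h4
  have hnd : ∀ V : Finset GolayPt,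
      ((S ∩ V).toList ++ ((S \ V).toList ++ (V \ S).toList)).Nodup := fun V => by
    simp only [List.nodup_append', Finset.nodup_toList, true_and, List.disjoint_left,
      List.mem_append, Finset.mem_toList, Finset.mem_inter, Finset.mem_sdiff]
    grind
  have hlen : ((S ∩ U).toList ++ ((S \ U).toList ++ (U \ S).toList)).length ≤ 5 := by
    simp only [List.length_append, Finset.length_toList]
    have := Finset.card_union_add_card_inter S U
    omega
  obtain ⟨g, hg, h⟩ := exists_of_card_le_five (hnd U) (hnd U')
    (by simp only [List.length_append, Finset.length_toList]; omega) hlen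
  simp only [List.map_append] at h
  obtain ⟨e1, h'⟩ := List.append_inj h (by simp [hi])
  obtain ⟨e2, e3⟩ := List.append_inj h' (by simp only [List.length_map, Finset.length_toList]; omega)
  have im : ∀ {A B : Finset GolayPt}, A.toList.map g = B.toList → A.image g = B := fun {A B} e => by
    ext x
    rw [Finset.mem_image, ← Finset.mem_toList (s := B), ← e]
    simp
  have i1 := im e1
  have i2 := im e2
  have i3 := im e3
  refine ⟨g, hg, ?_, ?_⟩
  · conv_lhs => rw [← Finset.sdiff_union_inter S U]
    rw [smul_eq_image, Finset.image_union, i1, i2, Finset.sdiff_union_inter]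
  · conv_lhs => rw [← Finset.sdiff_union_inter U S, Finset.inter_comm]
    rw [smul_eq_image, Finset.image_union, i3, i1, Finset.inter_comm, Finset.sdiff_union_inter]

theorem coe_smul_finset (g : M24) (S : Finset GolayPt) : g • S = (g : Equiv.Perm GolayPt) • S := rfl

theorem exists_to_two {s : Finset GolayPt} (hs : s.card = 2) :
    ∃ a ∈ M24, a • s = toSet (2 ^ 23 ||| 2 ^ 0) := by
  obtain ⟨p, q, hpq, rfl⟩ := Finset.card_eq_two.1 hs
  obtain ⟨a, ha, hp, hq⟩ := exists_to_none_zero hpq
  refine ⟨a, ha, ?_⟩
  rw [smul_eq_image, Finset.image_insert, Finset.image_singleton, hp, hq]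
  decide +kernel

theorem exists_to_three {T : Finset GolayPt} (hT : T.card = 3) :
    ∃ a ∈ M24, a • T = toSet 8392705 := by
  obtain ⟨p, q, r, hpq, hpr, hqr, rfl⟩ := Finset.card_eq_three.1 hT
  obtain ⟨a, ha, h⟩ := exists_to_points (n := 3) (by norm_num) ![p, q, r] (fun i j e => by
    fin_cases i <;> fin_cases j <;> simp_all)
  refine ⟨a, ha, ?_⟩
  have e0 : a p = bpt 0 := h 0
  have e1 : a q = bpt 1 := h 1
  have e2 : a r = bpt 2 := h 2
  rw [smul_eq_image, Finset.image_insert, Finset.image_insert, Finset.image_singleton, e0, e1, e2]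
  decide +kernel

theorem counts_two : ∀ j : Fin 3, ((sets 24 2).filter fun n =>
    pc (n &&& (2 ^ 23 ||| 2 ^ 0)) == 2 - (j : ℕ)).length = ![1, 44, 231] j := by
  decide +kernel

theorem duad_isCoatom {s : Finset GolayPt} (hs : s.card = 2) :
    IsCoatom (MulAction.stabilizer M24 s) := by
  classical
  obtain ⟨a, ha, has⟩ := exists_to_two hs
  refine SuborbitMaximal.isCoatom_stabilizer (Ω := {t : Finset GolayPt | t.card = 2}) (Set.toFinite _)
    (fun g t ht => (Finset.card_smul_finset g t).trans ht) hs ?_
    (fun t => Fin.ofNat 3 (2 - (s ∩ t).card)) ![1, 44, 231] ?_ ?_ ?_ (by norm_num)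
    (by decide) (by decide)
  · intro t ht
    obtain ⟨b, hb, hbt⟩ := exists_to_two (ht : t.card = 2)
    exact ⟨⟨b⁻¹ * a, mul_mem (inv_mem hb) ha⟩, by
      rw [coe_smul_finset, mul_smul, has, ← hbt, inv_smul_smul]⟩
  · intro t ht
    have hle : (s ∩ t).card ≤ 2 := hs ▸ Finset.card_le_card Finset.inter_subset_left
    rw [Fin.ext_iff, Fin.val_ofNat, Nat.mod_eq_of_lt (by omega)]
    refine ⟨fun e => ?_, fun e => ?_⟩
    · have e1 : (s ∩ t).card = 2 := by simp at e; omega
      have hst : s ∩ t = s := Finset.eq_of_subset_of_card_le Finset.inter_subset_left (by omega)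
      exact (Finset.eq_of_subset_of_card_le (Finset.inter_eq_left.1 hst) (by simp_all)).symm
    · simp [e, hs]
  · intro t ht t' ht' e
    have hle := Finset.card_le_card (Finset.inter_subset_left : s ∩ t ⊆ s)
    have hle' := Finset.card_le_card (Finset.inter_subset_left : s ∩ t' ⊆ s)
    rw [Fin.ext_iff, Fin.val_ofNat, Fin.val_ofNat, Nat.mod_eq_of_lt (by omega),
      Nat.mod_eq_of_lt (by omega)] at e
    have hu := Finset.card_union_le s t
    simp only [Set.mem_ofPred_eq] at ht ht'
    obtain ⟨g, hg, h1, h2⟩ := exists_pair (S := s) (U := t) (U' := t') (by omega) (by omega) (by omega)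
    exact ⟨⟨g, hg⟩, h1, h2⟩
  · intro j
    refine (count_moved_sets a 2 sets_two _ (fun n => pc (n &&& (2 ^ 23 ||| 2 ^ 0)) == 2 - (j : ℕ))
      fun n hn t ht => ?_).trans (counts_two j)
    rw [beq_iff_eq, pc_moved ht has, Fin.ext_iff, Fin.val_ofNat]
    have hle := Finset.card_le_card (Finset.inter_subset_left : s ∩ t ⊆ s)
    rw [Nat.mod_eq_of_lt (by omega)]
    omega

/-- The suborbit of a triad. -/
noncomputable def triClass (T U : Finset GolayPt) : Fin 5 := by
  classical
  exact if (T ∩ U).card = 3 then 0 else if (T ∩ U).card = 2 then 1 else if (T ∩ U).card = 1 then 2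
    else if ∃ o ∈ octads, T ∪ U ⊆ o then 3 else 4

theorem counts_three :
    ((sets 24 3).filter fun n => pc (n &&& 8392705) == 3).length = 1 ∧
    ((sets 24 3).filter fun n => pc (n &&& 8392705) == 2).length = 63 ∧
    ((sets 24 3).filter fun n => pc (n &&& 8392705) == 1).length = 630 := by
  decide +kernel

theorem triad_isCoatom {T : Finset GolayPt} (hT : T.card = 3) :
    IsCoatom (MulAction.stabilizer M24 T) := by
  classical
  obtain ⟨a, ha, haT⟩ := exists_to_three hT
  obtain ⟨cIn, cOut, horb⟩ := Cfsg.Agent.S1562.result T hT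
  have hle : ∀ U : Finset GolayPt, (T ∩ U).card ≤ 3 := fun U =>
    hT ▸ Finset.card_le_card Finset.inter_subset_left
  refine SuborbitMaximal.isCoatom_stabilizer (Ω := {t : Finset GolayPt | t.card = 3}) (Set.toFinite _)
    (fun g t ht => (Finset.card_smul_finset g t).trans ht) hT ?_
    (triClass T) ![1, 63, 630, 210, 1120] ?_ ?_ ?_ (by norm_num) (by decide) (by decide)
  · intro t ht
    obtain ⟨b, hb, hbt⟩ := exists_to_three (ht : t.card = 3)
    exact ⟨⟨b⁻¹ * a, mul_mem (inv_mem hb) ha⟩, by
      rw [coe_smul_finset, mul_smul, haT, ← hbt, inv_smul_smul]⟩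
  · intro U hU
    constructor
    · intro e
      have h3 : (T ∩ U).card = 3 := by
        by_contra hne
        unfold triClass at e
        rw [if_neg hne] at e
        split_ifs at e <;> simp [Fin.ext_iff] at e
      have hTU : T ∩ U = T := Finset.eq_of_subset_of_card_le Finset.inter_subset_left (by omega)
      exact (Finset.eq_of_subset_of_card_le (Finset.inter_eq_left.1 hTU) (by simp_all)).symm
    · rintro rfl
      simp [triClass, hT]
  · intro U hU U' hU' e
    simp only [Set.mem_ofPred_eq] at hU hU'
    have hu := Finset.card_union_add_card_inter T U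
    have := hle U
    have := hle U'
    by_cases h0 : (T ∩ U).card = 0
    · have h0' : (T ∩ U').card = 0 := by
        unfold triClass at e
        split_ifs at e <;> first | omega | simp [Fin.ext_iff] at e
      have hd := Finset.disjoint_iff_inter_eq_empty.2 (Finset.card_eq_zero.1 h0)
      have hd' := Finset.disjoint_iff_inter_eq_empty.2 (Finset.card_eq_zero.1 h0')
      have hiff : (∃ o ∈ octads, T ∪ U ⊆ o) ↔ ∃ o ∈ octads, T ∪ U' ⊆ o := by
        unfold triClass at e
        simp only [h0, h0', OfNat.zero_ne_ofNat, zero_ne_one, if_false] at e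
        split_ifs at e with p q q
        · exact iff_of_true p q
        · simp [Fin.ext_iff] at e
        · simp [Fin.ext_iff] at e
        · exact iff_of_false p q
      obtain ⟨g, hg, h1, h2⟩ := horb U U' hU hU' hd hd' hiff
      exact ⟨⟨g, hg⟩, h1, h2⟩
    · have hi : (T ∩ U).card = (T ∩ U').card := by
        unfold triClass at e
        split_ifs at e <;> first | omega | simp [Fin.ext_iff] at e
      obtain ⟨g, hg, h1, h2⟩ := exists_pair (S := T) (U := U) (U' := U') (by omega) hi (by omega)
      exact ⟨⟨g, hg⟩, h1, h2⟩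
  · have hcount : ∀ k : ℕ, {U : Finset GolayPt | U.card = 3 ∧ (T ∩ U).card = k}.ncard =
        ((sets 24 3).filter fun n => pc (n &&& 8392705) == k).length := fun k =>
      count_moved_sets a 3 sets_three _ _ fun n _ U hU => by rw [beq_iff_eq, pc_moved hU haT]
    have hdisj : ∀ U : Finset GolayPt, Disjoint T U ↔ (T ∩ U).card = 0 := fun U => by
      rw [Finset.disjoint_iff_inter_eq_empty, Finset.card_eq_zero]
    intro j
    fin_cases j
    · refine Eq.trans ?_ ((hcount 3).trans counts_three.1)
      congr 1; ext U; have := hle U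
      simp only [Set.mem_ofPred_eq, triClass]
      split_ifs <;> simp_all
    · refine Eq.trans ?_ ((hcount 2).trans counts_three.2.1)
      congr 1; ext U; have := hle U
      simp only [Set.mem_ofPred_eq, triClass]
      split_ifs <;> simp_all
    · refine Eq.trans ?_ ((hcount 1).trans counts_three.2.2)
      congr 1; ext U; have := hle U
      simp only [Set.mem_ofPred_eq, triClass]
      split_ifs <;> simp_all
    · refine Eq.trans ?_ cIn
      congr 1; ext U; have := hle U
      simp only [Set.mem_ofPred_eq, triClass, hdisj]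
      split_ifs <;> simp_all <;> exact fun _ => Finset.card_eq_zero.1 (by have := hle U; omega)
    · refine Eq.trans ?_ cOut
      congr 1; ext U; have := hle U
      simp only [Set.mem_ofPred_eq, triClass, hdisj]
      split_ifs <;> simp_all <;> exact fun _ => Finset.card_eq_zero.1 (by have := hle U; omega)

/-- The suborbit of an octad, by intersection size. -/
def octClass : ℕ → Fin 4
  | 8 => 0
  | 0 => 1
  | 4 => 2
  | _ => 3

theorem counts_octad : ((cwOfWeight 8).map fun n => octClass (pc (n &&& octB))).count 0 = 1 ∧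
    ((cwOfWeight 8).map fun n => octClass (pc (n &&& octB))).count 1 = 30 ∧
    ((cwOfWeight 8).map fun n => octClass (pc (n &&& octB))).count 2 = 280 ∧
    ((cwOfWeight 8).map fun n => octClass (pc (n &&& octB))).count 3 = 448 := by
  decide +kernel

theorem inter_cases_octad : ∀ n ∈ cwOfWeight 8,
    pc (n &&& octB) ∈ [0, 2, 4, 8] := by
  decide +kernel

theorem octad_isCoatom {o : Finset GolayPt} (ho : o ∈ octads) :
    IsCoatom (MulAction.stabilizer M24 o) := by
  classical
  obtain ⟨a, ha, hao⟩ := exists_to_octB ho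
  have hcases : ∀ x ∈ octads, (o ∩ x).card ∈ [0, 2, 4, 8] := by
    intro x hx
    obtain ⟨n, hn, hn'⟩ := mem_wordsOfWeight.1 (smul_mem_weight ha hx)
    rw [← pc_moved hn' hao]
    exact inter_cases_octad n hn
  refine SuborbitMaximal.isCoatom_stabilizer (Ω := octads) (Set.toFinite _)
    (fun g x hx => smul_mem_weight g.2 hx) ho ?_
    (fun x => octClass (o ∩ x).card) ![1, 30, 280, 448] ?_ ?_ ?_ (by norm_num) (by decide) (by decide)
  · intro x hx
    exact octads_transitive ho hx
  · intro x hx
    refine ⟨fun e => ?_, fun e => by subst e; rw [Finset.inter_self, (show x.card = 8 from ho.2)]; rfl⟩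
    have h8 : (o ∩ x).card = 8 := by
      have := hcases x hx
      simp only [List.mem_cons, List.not_mem_nil, or_false] at this
      rcases this with h | h | h | h <;> rw [h] at e <;> first | exact absurd e (by decide) | exact h
    have hox : o ∩ x = o :=
      Finset.eq_of_subset_of_card_le Finset.inter_subset_left (by rw [h8]; exact ho.2.le)
    exact (Finset.eq_of_subset_of_card_le (Finset.inter_eq_left.1 hox)
      (by rw [show o.card = 8 from ho.2, show x.card = 8 from hx.2])).symm
  · intro x hx y hy e
    have h : (o ∩ x).card = (o ∩ y).card := by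
      have h1 := hcases x hx
      have h2 := hcases y hy
      simp only [List.mem_cons, List.not_mem_nil, or_false] at h1 h2
      rcases h1 with h1 | h1 | h1 | h1 <;> rcases h2 with h2 | h2 | h2 | h2 <;>
        rw [h1, h2] at e <;> first | exact absurd e (by decide) | omega
    obtain ⟨g, hg, h1, h2⟩ := Cfsg.Agent.S1556.result o x y ho hx hy h
    exact ⟨⟨g, hg⟩, h1, h2⟩
  · intro j
    refine (count_moved ha 8 (fun x => octClass (o ∩ x).card = j)
      (fun n => octClass (pc (n &&& octB)) == j)
      fun n x hx => by rw [beq_iff_eq, pc_moved hx hao]).trans ?_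
    rw [show ((cwOfWeight 8).filter fun n => octClass (pc (n &&& octB)) == j).length =
      ((cwOfWeight 8).map fun n => octClass (pc (n &&& octB))).count j by
        rw [List.count, List.countP_map, List.countP_eq_length_filter]; rfl]
    fin_cases j
    exacts [counts_octad.1, counts_octad.2.1, counts_octad.2.2.1, counts_octad.2.2.2]

/-- The suborbit of a duum, by intersection size. -/
def duumClass : ℕ → Fin 3
  | 12 => 0
  | 0 => 0
  | 6 => 2
  | _ => 1

theorem counts_duum :
    (((cwOfWeight 12).filter fun n => n.testBit 23).map fun n => duumClass (pc (n &&& dodB))).count 0 = 1 ∧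
    (((cwOfWeight 12).filter fun n => n.testBit 23).map fun n => duumClass (pc (n &&& dodB))).count 1 = 495 ∧
    (((cwOfWeight 12).filter fun n => n.testBit 23).map fun n => duumClass (pc (n &&& dodB))).count 2 = 792 := by
  decide +kernel

theorem inter_cases_dodecad : ∀ n ∈ cwOfWeight 12, pc (n &&& dodB) ∈ [0, 4, 6, 8, 12] := by
  decide +kernel

theorem smul_compl (g : Equiv.Perm GolayPt) (S : Finset GolayPt) : g • Sᶜ = (g • S)ᶜ := by
  ext x
  simp only [Finset.mem_compl, ← Finset.inv_smul_mem_iff]

theorem pair_compl (e : Finset GolayPt) : ({eᶜ, eᶜᶜ} : Finset (Finset GolayPt)) = {e, eᶜ} := by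
  rw [compl_compl, Finset.pair_comm]

theorem smul_pair (g : M24) (e : Finset GolayPt) :
    g • ({e, eᶜ} : Finset (Finset GolayPt)) =
      {(g : Equiv.Perm GolayPt) • e, ((g : Equiv.Perm GolayPt) • e)ᶜ} := by
  rw [Finset.smul_finset_insert, Finset.smul_finset_singleton, coe_smul_finset, coe_smul_finset,
    smul_compl]

theorem duum_isCoatom {d : Finset GolayPt} (hd : d ∈ dodecads) :
    IsCoatom (MulAction.stabilizer M24 ({d, dᶜ} : Finset (Finset GolayPt))) := by
  classical
  obtain ⟨a, ha, had⟩ := exists_to_dodB hd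
  set p : GolayPt := a⁻¹ none with hp
  have hap : a p = none := by simp [hp]
  let Ω : Set (Finset (Finset GolayPt)) := {P | ∃ e ∈ dodecads, P = {e, eᶜ}}
  let rep : Finset (Finset GolayPt) → Finset GolayPt := fun P => (P.filter fun e => p ∈ e).sup id
  have hrep : ∀ e : Finset GolayPt, p ∈ e → rep {e, eᶜ} = e := fun e he => by
    simp [rep, Finset.filter_insert, Finset.filter_singleton, he]
  have hnorm : ∀ P ∈ Ω, ∃ e ∈ dodecads, p ∈ e ∧ P = {e, eᶜ} ∧ rep P = e := by
    rintro _ ⟨e, he, rfl⟩
    by_cases hpe : p ∈ e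
    · exact ⟨e, he, hpe, rfl, hrep e hpe⟩
    · refine ⟨eᶜ, CfsgLib.SmallGroups.MathieuSimple.compl_mem he, Finset.mem_compl.2 hpe, (pair_compl e).symm, ?_⟩
      rw [← pair_compl e]
      exact hrep _ (Finset.mem_compl.2 hpe)
  have hcases : ∀ x ∈ dodecads, (d ∩ x).card ∈ [0, 4, 6, 8, 12] := by
    intro x hx
    obtain ⟨n, hn, hn'⟩ := mem_wordsOfWeight.1 (smul_mem_weight ha hx)
    rw [← pc_moved hn' had]
    exact inter_cases_dodecad n hn
  have hd12 : d.card = 12 := hd.2
  have hc : ∀ e : Finset GolayPt, (d ∩ eᶜ).card = 12 - (d ∩ e).card := fun e => by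
    have h := Finset.card_sdiff_add_card_inter d e
    rw [← Finset.sdiff_eq_inter_compl]
    omega
  have heq : ∀ e ∈ dodecads, (d ∩ e).card = 12 → e = d := fun e he h => by
    have hde : d ∩ e = d := Finset.eq_of_subset_of_card_le Finset.inter_subset_left (by omega)
    exact (Finset.eq_of_subset_of_card_le (Finset.inter_eq_left.1 hde)
      (by rw [hd12, show e.card = 12 from he.2])).symm
  refine SuborbitMaximal.isCoatom_stabilizer (Ω := Ω) (Set.toFinite _)
    (fun g P hP => ?_) ⟨d, hd, rfl⟩ ?_ (fun P => duumClass (d ∩ rep P).card) ![1, 495, 792] ?_ ?_ ?_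
    (by norm_num) (by decide) (by decide)
  · obtain ⟨e, he, rfl⟩ := hP
    exact ⟨_, smul_mem_weight g.2 he, smul_pair g e⟩
  · rintro _ ⟨e, he, rfl⟩
    obtain ⟨g, hg⟩ := dodecads_transitive hd he
    exact ⟨g, by rw [smul_pair, ← coe_smul_finset, hg]⟩
  · intro P hP
    obtain ⟨e, he, hpe, rfl, hr⟩ := hnorm P hP
    rw [hr]
    constructor
    · intro h
      have := hcases e he
      simp only [List.mem_cons, List.not_mem_nil, or_false] at this
      rcases this with h' | h' | h' | h' | h'
      · rw [← heq eᶜ (CfsgLib.SmallGroups.MathieuSimple.compl_mem he) (by rw [hc, h']), compl_compl, Finset.pair_comm]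
      · rw [h'] at h; exact absurd h (by decide)
      · rw [h'] at h; exact absurd h (by decide)
      · rw [h'] at h; exact absurd h (by decide)
      · rw [heq e he h']
    · intro h
      have : e ∈ ({d, dᶜ} : Finset (Finset GolayPt)) := h ▸ Finset.mem_insert_self _ _
      rcases Finset.mem_insert.1 this with rfl | h'
      · rw [Finset.inter_self, hd12]; rfl
      · rw [Finset.mem_singleton.1 h', Finset.inter_compl, Finset.card_empty]; rfl
  · intro P hP Q hQ h
    obtain ⟨e, he, -, rfl, hr⟩ := hnorm P hP
    obtain ⟨f, hf, -, rfl, hr'⟩ := hnorm Q hQ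
    simp only [hr, hr'] at h
    have key : ∃ f' ∈ dodecads, ({f', f'ᶜ} : Finset (Finset GolayPt)) = {f, fᶜ} ∧
        (d ∩ e).card = (d ∩ f').card := by
      by_cases hef : (d ∩ e).card = (d ∩ f).card
      · exact ⟨f, hf, rfl, hef⟩
      · refine ⟨fᶜ, CfsgLib.SmallGroups.MathieuSimple.compl_mem hf, pair_compl f, ?_⟩
        rw [hc]
        have h1 := hcases e he
        have h2 := hcases f hf
        simp only [List.mem_cons, List.not_mem_nil, or_false] at h1 h2
        rcases h1 with h1 | h1 | h1 | h1 | h1 <;> rcases h2 with h2 | h2 | h2 | h2 | h2 <;>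
          rw [h1, h2] at h <;> first | exact absurd h (by decide) | omega
    obtain ⟨f', hf', hpair, hcard⟩ := key
    obtain ⟨g, hg, h1, h2⟩ := Cfsg.Agent.S1561.result d e f' hd he hf' hcard
    exact ⟨⟨g, hg⟩, by rw [smul_pair, h1], by rw [smul_pair, h2, hpair]⟩
  · intro j
    have hcount := count_moved ha 12 (fun x => p ∈ x ∧ duumClass (d ∩ x).card = j)
      (fun n => n.testBit 23 && duumClass (pc (n &&& dodB)) == j) (fun n x hx => by
        rw [Bool.and_eq_true, beq_iff_eq, pc_moved hx had, ← testBit_moved hx hap, idx_none])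
    refine Eq.trans ?_ (hcount.trans ?_)
    · refine Set.ncard_congr (fun P _ => rep P) ?_ ?_ ?_
      · rintro P ⟨hP, hcl⟩
        obtain ⟨e, he, hpe, -, hr⟩ := hnorm P hP
        rw [hr] at hcl ⊢
        exact ⟨he, hpe, hcl⟩
      · intro P Q hP hQ h
        obtain ⟨e, -, -, rfl, hr⟩ := hnorm P hP.1
        obtain ⟨f, -, -, rfl, hr'⟩ := hnorm Q hQ.1
        simp only [hr, hr'] at h
        rw [h]
      · rintro e ⟨he, hpe, hcl⟩
        exact ⟨{e, eᶜ}, ⟨⟨e, he, rfl⟩, by rw [hrep e hpe]; exact hcl⟩, hrep e hpe⟩
    · rw [show ((cwOfWeight 12).filter fun n => n.testBit 23 && duumClass (pc (n &&& dodB)) == j).length =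
        (((cwOfWeight 12).filter fun n => n.testBit 23).map fun n => duumClass (pc (n &&& dodB))).count j by
          rw [List.count, List.countP_map, List.countP_eq_length_filter, List.filter_filter]
          congr 1
          refine List.filter_congr fun n _ => ?_
          exact Bool.and_comm ..]
      fin_cases j
      exacts [counts_duum.1, counts_duum.2.1, counts_duum.2.2]

end CfsgLib.Sporadic.M24Maximal
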