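import Cfsg.Agent.Lib.Sporadic.MathieuLocalCounts
import Cfsg.Agent.Lib.Sporadic.M24Maximal
import Cfsg.Agent.Lib.PGroup.AltGen

/-!
Subgroups of `M24` containing a Sylow 2-subgroup, or fixing a point and containing a Sylow 2-subgroup of its
stabiliser: they contain the pointwise stabiliser of an octad, which pins down their orbits.
-/

set_option autoImplicit false

namespace CfsgLib.Sporadic.OctadOrbits

open Cfsg CfsgLib.SmallGroups.Golay CfsgLib.SmallGroups.GolayOctads CfsgLib.SmallGroups.M24Group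
  CfsgLib.SmallGroups.Mathieu CfsgLib.SmallGroups.MathieuSets CfsgLib.Sporadic.OctadStabilizer
  CfsgLib.Sporadic.MathieuAut CfsgLib.Sporadic.IndexPoints CfsgLib.Sporadic.MathieuLocalCounts
open CfsgLib.SmallGroups.MathieuSimple (card_stab_point)
open scoped Pointwise

variable {o : Finset GolayPt} {H : Subgroup (Equiv.Perm GolayPt)}

theorem outside_transitive (ho : o ∈ octads) {x y : GolayPt} (hx : x ∉ o) (hy : y ∉ o) :
    ∃ e ∈ ptStab o, e x = y := by
  classical
  have hfix : ∀ e : ptStab o, (e : Equiv.Perm GolayPt) x ∉ o := fun e he => by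
    have hinj := (mem_ptStab.1 e.2).2 _ he
    exact hx ((e : Equiv.Perm GolayPt).injective hinj ▸ he)
  let f : ptStab o → ↥(oᶜ : Finset GolayPt) := fun e => ⟨(e : Equiv.Perm GolayPt) x, Finset.mem_compl.2 (hfix e)⟩
  have hf : Function.Injective f := by
    intro a b hab
    have hab' : (a : Equiv.Perm GolayPt) x = (b : Equiv.Perm GolayPt) x := congrArg Subtype.val hab
    have hm : (a : Equiv.Perm GolayPt)⁻¹ * b ∈ ptStab o ⊓ comp o x := by
      have h1 : (a : Equiv.Perm GolayPt)⁻¹ * b ∈ ptStab o := mul_mem (inv_mem a.2) b.2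
      refine ⟨h1, ptStab_le o h1, ?_⟩
      show ((a : Equiv.Perm GolayPt)⁻¹ * b) x = x
      rw [Equiv.Perm.mul_apply, ← hab', Equiv.Perm.inv_def, Equiv.symm_apply_apply]
    rw [inf_bot ho hx, Subgroup.mem_bot, inv_mul_eq_one] at hm
    exact Subtype.ext hm
  have hcard : Nat.card (ptStab o) = Nat.card ↥(oᶜ : Finset GolayPt) := by
    rw [(ptStab_octad ho).1, Nat.card_eq_finsetCard, Finset.card_compl, card_golayPt, ho.2]
  obtain ⟨e, he⟩ := ((Nat.bijective_iff_injective_and_card f).2 ⟨hf, hcard⟩).2 ⟨y, Finset.mem_compl.2 hy⟩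
  exact ⟨e, e.2, congrArg Subtype.val he⟩

/-- A setwise fixed set of at least five points of an octad fixes the octad. -/
theorem smul_eq_of_five (ho : o ∈ octads) {g : Equiv.Perm GolayPt} (hg : g ∈ M24) {R : Finset GolayPt}
    (hRo : R ⊆ o) (hR : 5 ≤ R.card) (hgR : ∀ r ∈ R, g r ∈ R) : g • o = o := by
  refine octad_eq_of_inter (smul_mem_weight hg ho) ho ?_
  have hcard : (R.image g).card = R.card := Finset.card_image_of_injective _ g.injective
  refine le_trans (hcard ▸ hR) (Finset.card_le_card ?_)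
  intro z hz
  obtain ⟨r, hr, rfl⟩ := Finset.mem_image.1 hz
  exact Finset.mem_inter.2 ⟨Finset.smul_mem_smul_finset (a := g) (hRo hr), hRo (hgR r hr)⟩

/-- The points of an octad are permuted transitively by its stabiliser. -/
theorem octStab_transitive (ho : o ∈ octads) {x y : GolayPt} (hx : x ∈ o) (hy : y ∈ o) :
    ∃ g ∈ octStab o, g x = y := by
  classical
  obtain ⟨A, hxA, hA, hAc⟩ := Finset.exists_subsuperset_card_eq (Finset.singleton_subset_iff.2 hx)
    (show ({x} : Finset GolayPt).card ≤ 5 by simp) (show 5 ≤ o.card by rw [ho.2]; norm_num)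
  obtain ⟨B, hyB, hB, hBc⟩ := Finset.exists_subsuperset_card_eq (Finset.singleton_subset_iff.2 hy)
    (show ({y} : Finset GolayPt).card ≤ 5 by simp) (show 5 ≤ o.card by rw [ho.2]; norm_num)
  let eA := A.equivFinOfCardEq hAc
  let eB := B.equivFinOfCardEq hBc
  let σ := Equiv.swap (eB ⟨y, Finset.singleton_subset_iff.1 hyB⟩) (eA ⟨x, Finset.singleton_subset_iff.1 hxA⟩)
  obtain ⟨g, hg, hgx⟩ := exists_map (n := 5) le_rfl (fun i => (eA.symm i : GolayPt))
    (fun i => (eB.symm (σ i) : GolayPt)) (fun i j e => eA.symm.injective (Subtype.ext e))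
    (fun i j e => σ.injective (eB.symm.injective (Subtype.ext e)))
  refine ⟨g, ⟨hg, octad_eq_of_inter (smul_mem_weight hg ho) ho ?_⟩, ?_⟩
  · refine le_trans hBc.ge (Finset.card_le_card fun z hz => Finset.mem_inter.2 ⟨?_, hB hz⟩)
    have := hgx (σ.symm (eB ⟨z, hz⟩))
    simp only [Equiv.apply_symm_apply, Equiv.symm_apply_apply] at this
    rw [← this]
    exact Finset.smul_mem_smul_finset (a := g) (hA (eA.symm _).2)
  · have := hgx (eA ⟨x, Finset.singleton_subset_iff.1 hxA⟩)
    simpa [σ] using this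

/-- A `2`-subgroup of maximal order in a group normalising `ptStab o` contains it. -/
theorem ptStab_le_of_maximal (ho : o ∈ octads) {K T : Subgroup (Equiv.Perm GolayPt)} {n : ℕ}
    (hK : K ≤ octStab o) (hEK : ptStab o ≤ K) (hTK : T ≤ K) (hT : Nat.card T = 2 ^ n)
    (hn : ¬ 2 ^ (n + 1) ∣ Nat.card K) : ptStab o ≤ T := by
  have : Fact (Nat.Prime 2) := ⟨Nat.prime_two⟩
  set E := (ptStab o).subgroupOf K
  have hEn : E.Normal := by
    refine ⟨fun e he k => ?_⟩
    have h1 : (k : Equiv.Perm GolayPt) • o = o := (hK k.2).2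
    have hev := mem_ptStab.1 (show (e : Equiv.Perm GolayPt) ∈ ptStab o from he)
    show ((k * e * k⁻¹ : K) : Equiv.Perm GolayPt) ∈ ptStab o
    refine mem_ptStab.2 ⟨(hK (k * e * k⁻¹).2).1, fun p hp => ?_⟩
    have hp' : (k : Equiv.Perm GolayPt)⁻¹ p ∈ o := by
      rw [← apply_mem_iff h1 ((k : Equiv.Perm GolayPt)⁻¹ p)]
      simpa using hp
    simp only [Subgroup.coe_mul, Subgroup.coe_inv, Equiv.Perm.mul_apply, hev.2 _ hp']
    simp
  have hE2 : IsPGroup 2 E := fun e => ⟨1, Subtype.ext (Subtype.ext (by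
    rw [pow_one, pow_two]; exact (ptStab_octad ho).2 _ e.2))⟩
  have hT' : Nat.card (T.subgroupOf K) = 2 ^ n := by
    rw [Nat.card_congr (Subgroup.subgroupOfEquivOfLe hTK).toEquiv, hT]
  let S : Sylow 2 K := (IsPGroup.of_card hT' : IsPGroup 2 (T.subgroupOf K)).toSylow (by
    intro hd
    refine hn ?_
    rw [← (T.subgroupOf K).card_mul_index, hT', pow_succ]
    exact Nat.mul_dvd_mul_left _ hd)
  intro e he
  exact (hE2.le_sylow_of_normal S) (x := ⟨e, hEK he⟩) he

/-- A subgroup containing a Sylow 2-subgroup of `M24` contains the pointwise stabiliser of an octad and moves the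
points of that octad transitively inside its stabiliser. -/
theorem exists_framed (hHM : H ≤ M24) (h : 1024 ∣ Nat.card H) :
    ∃ o ∈ octads, ptStab o ≤ H ∧ ∀ x ∈ o, ∀ y ∈ o, ∃ s ∈ H ⊓ octStab o, s x = y := by
  classical
  have : Fact (Nat.Prime 2) := ⟨Nat.prime_two⟩
  obtain ⟨T, hT⟩ := Sylow.exists_subgroup_card_pow_prime 2 (G := H) (n := 10) (by simpa using h)
  set T' := T.map H.subtype
  have hT' : Nat.card T' = 2 ^ 10 := by rw [Subgroup.card_map_of_injective H.subtype_injective, hT]
  have hTH : T' ≤ H := Subgroup.map_subtype_le T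
  let act : MulAction T' ↥octads :=
    { smul := fun t o => ⟨(t : Equiv.Perm GolayPt) • (o : Finset GolayPt), smul_mem_weight (hHM (hTH t.2)) o.2⟩
      one_smul := fun o => Subtype.ext (one_smul _ _)
      mul_smul := fun _ _ _ => Subtype.ext (mul_smul _ _ _) }
  obtain ⟨⟨o, ho⟩, hfix⟩ := (IsPGroup.of_card hT' : IsPGroup 2 T').nonempty_fixed_point_of_prime_not_dvd_card
    (↥octads) (by rw [Nat.card_coe_set_eq, ncard_octads]; norm_num)
  have hTo : T' ≤ octStab o := fun t ht => ⟨hHM (hTH ht), congrArg Subtype.val (hfix ⟨t, ht⟩)⟩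
  refine ⟨o, ho, le_trans (ptStab_le_of_maximal ho le_rfl (ptStab_le o) hTo hT'
    (by rw [card_octStab ho]; norm_num)) hTH, fun x hx y hy => ?_⟩
  have hsub : MulAction.orbit T' x ⊆ (o : Set GolayPt) := by
    rintro _ ⟨t, rfl⟩
    exact (apply_mem_iff (hTo t.2).2 x).2 hx
  have horb : MulAction.orbit T' x = (o : Set GolayPt) := by
    refine Set.eq_of_subset_of_ncard_le hsub ?_ (Finset.finite_toSet _)
    have h1 := (MulAction.stabilizer T' x).card_mul_index
    rw [MulAction.index_stabilizer, hT'] at h1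
    have h2 : Nat.card (MulAction.stabilizer T' x) ≤ 128 := by
      have hdiv : Nat.card (MulAction.stabilizer T' x) ∣ 10200960 := by
        rw [← card_stab_point x]
        refine Subgroup.card_dvd_of_injective
          (⟨⟨fun t => ⟨⟨t.1.1, hHM (hTH t.1.2)⟩, t.2⟩, rfl⟩, fun _ _ => rfl⟩ :
            MulAction.stabilizer T' x →* MulAction.stabilizer M24 x) fun a b e => ?_
        exact Subtype.ext (Subtype.ext (congrArg (fun z : MulAction.stabilizer M24 x => z.1.1) e))
      have hdiv2 : Nat.card (MulAction.stabilizer T' x) ∣ 2 ^ 10 :=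
        hT' ▸ Subgroup.card_subgroup_dvd_card _
      have h128 : Nat.gcd 10200960 (2 ^ 10) = 128 := by norm_num
      exact Nat.le_of_dvd (by norm_num) (h128 ▸ Nat.dvd_gcd hdiv hdiv2)
    rw [Set.ncard_coe_finset, ho.2]
    by_contra hlt
    have := Nat.mul_le_mul h2 (show (MulAction.orbit T' x).ncard ≤ 7 by omega)
    omega
  obtain ⟨t, ht⟩ : y ∈ MulAction.orbit T' x := horb ▸ hy
  exact ⟨t, ⟨hTH t.2, hTo t.2⟩, ht⟩

/-- A subgroup fixing `z` of order divisible by `128` contains the pointwise stabiliser of an octad through `z`. -/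
theorem exists_framed_fix (hHM : H ≤ M24) {z : GolayPt} (hz : ∀ g ∈ H, g z = z) (h : 128 ∣ Nat.card H) :
    ∃ o ∈ octads, z ∈ o ∧ ptStab o ≤ H := by
  classical
  have : Fact (Nat.Prime 2) := ⟨Nat.prime_two⟩
  obtain ⟨T, hT⟩ := Sylow.exists_subgroup_card_pow_prime 2 (G := H) (n := 7) (by simpa using h)
  set T' := T.map H.subtype
  have hT' : Nat.card T' = 2 ^ 7 := by rw [Subgroup.card_map_of_injective H.subtype_injective, hT]
  have hTH : T' ≤ H := Subgroup.map_subtype_le T
  let act : MulAction T' ↥octads :=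
    { smul := fun t o => ⟨(t : Equiv.Perm GolayPt) • (o : Finset GolayPt), smul_mem_weight (hHM (hTH t.2)) o.2⟩
      one_smul := fun o => Subtype.ext (one_smul _ _)
      mul_smul := fun _ _ _ => Subtype.ext (mul_smul _ _ _) }
  obtain ⟨⟨o, ho⟩, hfix⟩ := (IsPGroup.of_card hT' : IsPGroup 2 T').nonempty_fixed_point_of_prime_not_dvd_card
    (↥octads) (by rw [Nat.card_coe_set_eq, ncard_octads]; norm_num)
  have hTo : T' ≤ octStab o := fun t ht => ⟨hHM (hTH ht), congrArg Subtype.val (hfix ⟨t, ht⟩)⟩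
  have hzo : z ∈ o := by
    by_contra hzo
    have hle : T' ≤ comp o z := fun t ht => ⟨hTo ht, hz t (hTH ht)⟩
    have h1 := Subgroup.card_dvd_of_le hle
    obtain ⟨e⟩ := comp_equiv ho hzo
    rw [Nat.card_congr e.toEquiv, nat_card_alternatingGroup, hT'] at h1
    · rw [Nat.card_eq_fintype_card, Fintype.card_fin] at h1
      norm_num [Nat.factorial] at h1
  have hKle : comp o z ≤ octStab o := inf_le_left
  refine ⟨o, ho, hzo, le_trans (ptStab_le_of_maximal ho hKle (fun g hg => ⟨ptStab_le o hg,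
    (mem_ptStab.1 hg).2 z hzo⟩) (fun t ht => ⟨hTo ht, hz t (hTH ht)⟩) hT' ?_) hTH⟩
  intro hd
  have h1 : Nat.card (comp o z) ∣ 10200960 := by
    rw [← card_stab_point z]
    refine Subgroup.card_dvd_of_injective
      (⟨⟨fun t => ⟨⟨t.1, t.2.1.1⟩, t.2.2⟩, rfl⟩, fun _ _ => rfl⟩ : comp o z →* MulAction.stabilizer M24 z)
      fun a b e => Subtype.ext (congrArg (fun w : MulAction.stabilizer M24 z => w.1.1) e)
  exact absurd (hd.trans h1) (by norm_num)

/-- A large subgroup of an octad stabiliser over the pointwise stabiliser is everything. -/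
theorem eq_octStab_of_index (ho : o ∈ octads) {K : Subgroup (Equiv.Perm GolayPt)} (hK : K ≤ octStab o)
    (hE : ptStab o ≤ K) (h7 : 322560 ≤ 7 * Nat.card K) : K = octStab o := by
  classical
  set K₀ := K.subgroupOf (octStab o)
  set G := K₀.map (res o)
  have hGA : G ≤ alternatingGroup ↥o := by
    rw [← range_res ho]; exact Subgroup.map_le_range _ _
  have hK₀ : Nat.card K₀ = Nat.card K := Nat.card_congr (Subgroup.subgroupOfEquivOfLe hK).toEquiv
  have hker : (res o).ker ≤ K₀ := by
    rw [ker_res]; exact fun g hg => hE hg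
  have hcomap : G.comap (res o) = K₀ := Subgroup.comap_map_eq_self hker
  by_cases hG : G = alternatingGroup ↥o
  · refine le_antisymm hK fun g hg => ?_
    have : (⟨g, hg⟩ : octStab o) ∈ G.comap (res o) := by
      rw [hG, ← range_res ho]; exact ⟨_, rfl⟩
    rw [hcomap] at this
    exact this
  · exfalso
    have h1 := PGroup.AltGen.card_le_factorial (by rw [Fintype.card_coe, ho.2]; norm_num) hGA hG
    have hcA : Nat.card (alternatingGroup ↥o) = 20160 := by
      rw [PGroup.AltGen.card_alternating (n := 8) (by rw [Fintype.card_coe, ho.2]) (by norm_num)]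
      rfl
    have hidx : G.relIndex (alternatingGroup ↥o) = K₀.index := by
      rw [← hcomap, Subgroup.index_comap, range_res ho]
    have h2 := K₀.card_mul_index
    rw [card_octStab ho, hK₀] at h2
    rw [hidx, hcA] at h1
    have h3 : K₀.index ≤ 7 := by
      by_contra hlt
      have hpos : 0 < Nat.card K := Nat.card_pos
      have := Nat.mul_le_mul_left (Nat.card K) (show 8 ≤ K₀.index by omega)
      omega
    have := h1.trans (Nat.factorial_le h3)
    norm_num [Nat.factorial] at this

end CfsgLib.Sporadic.OctadOrbits
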