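import Mathlib

/-!
# Affine coordinates outside an octad

Five-bit coordinates of the sixteen points outside the octad, and row masks of the affine maps
induced by the tabulated elements of the octad stabiliser.
-/

set_option autoImplicit false

namespace CfsgLib.Sporadic.OctadAffineData

/-- Coordinates of the positions. -/
def coords : List ℕ := [0,2,3,6,10,7,18,30,14,26,19,15,0,11,0,31,0,0,0,22,23,27,0,0]

/-- Positions with coordinates `e₁ + eⱼ`, and `e₁` itself. -/
def frame : List ℕ := [2,1,3,4,6]

/-- The maps of the translations. -/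
def invMats : List (List ℕ) := [[3,2,4,8,16], [1,2,6,8,16], [1,2,4,10,16], [3,2,6,8,16], [1,2,4,8,18], [1,2,6,10,18], [1,2,6,10,16], [1,2,4,10,18], [3,2,4,8,18], [3,2,6,10,16], [3,2,4,10,16], [3,2,6,10,18], [1,2,6,8,18], [3,2,6,8,18], [3,2,4,10,18]]

/-- The maps of the generators of the complement. -/
def genMats : List (List ℕ) := [[8,2,24,9,21], [13,2,28,29,25], [5,2,1,28,9], [9,2,29,1,12], [12,2,25,20,5], [4,2,5,21,28]]

end CfsgLib.Sporadic.OctadAffineData
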