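import Cfsg.Agent.Lib.Sporadic.MathieuMultiplierTrivial
import Cfsg.Agent.Lib.Sporadic.OctadAffineData

/-!
# The octad stabiliser as affine maps of four-dimensional space over two elements

The sixteen points outside the octad are the vectors of `𝔽₂⁵` whose coordinate `1` is one, and the
octad stabiliser acts on them by matrices of determinant one fixing that coordinate.
-/

set_option autoImplicit false

namespace CfsgLib.Sporadic.OctadAffine

open Cfsg Subgroup Equiv CfsgLib.SmallGroups.Golay CfsgLib.SmallGroups.GolayOctads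
  CfsgLib.SmallGroups.M24Group CfsgLib.SmallGroups.MathieuSets
  CfsgLib.Sporadic.OctadStabilizer CfsgLib.Sporadic.MathieuMultiplier
  CfsgLib.Sporadic.MathieuMultiplierData CfsgLib.Sporadic.OctadAffineData
open scoped Pointwise Matrix MatrixGroups

/-- The coordinates of a point. -/
def vec (q : GolayPt) : Fin 5 → ZMod 2 := fun i =>
  if (coords.getD (idx q) 0).testBit i then 1 else 0

/-- A matrix from its row masks. -/
def mat (r : List ℕ) : Matrix (Fin 5) (Fin 5) (ZMod 2) :=
  Matrix.of fun i j => if (r.getD i 0).testBit j then 1 else 0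

/-- The frame. -/
def fr (j : Fin 5) : GolayPt := pt (frame.getD j 0)

/-- `G` induces `g` outside the octad. -/
def Induces (g : Perm GolayPt) (G : Matrix (Fin 5) (Fin 5) (ZMod 2)) : Prop :=
  ∀ q, q ∉ oct → G *ᵥ vec q = vec (g q)

theorem frame_facts : (∀ j, fr j ∉ oct) ∧
    ∀ j : Fin 5, (Pi.single j 1 : Fin 5 → ZMod 2) =
      if j = 1 then vec (fr 1) else vec (fr j) + vec (fr 1) := by
  decide +kernel

theorem Induces.unique {g : Perm GolayPt} {G G' : Matrix (Fin 5) (Fin 5) (ZMod 2)}
    (h : Induces g G) (h' : Induces g G') : G = G' := by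
  refine Matrix.ext fun i j => ?_
  have hcol : ∀ H : Matrix (Fin 5) (Fin 5) (ZMod 2), H i j = (H *ᵥ Pi.single j 1) i := fun H => by
    rw [Matrix.mulVec_single_one]; rfl
  rw [hcol G, hcol G', frame_facts.2 j]
  split_ifs
  · rw [h _ (frame_facts.1 1), h' _ (frame_facts.1 1)]
  · rw [Matrix.mulVec_add, Matrix.mulVec_add, h _ (frame_facts.1 1), h' _ (frame_facts.1 1),
      h _ (frame_facts.1 j), h' _ (frame_facts.1 j)]

theorem apply_notMem {g : Perm GolayPt} (hg : g ∈ octStab oct) {q : GolayPt} (hq : q ∉ oct) :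
    g q ∉ oct := fun h => hq ((apply_mem_iff hg.2 q).1 h)

/-- The elements inducing a matrix of determinant one. -/
def affGroup : Subgroup (Perm GolayPt) where
  carrier := {g | g ∈ octStab oct ∧ ∃ G : SL(5, ZMod 2), Induces g G}
  one_mem' := ⟨(octStab oct).one_mem, 1, fun q _ => by
    rw [Matrix.SpecialLinearGroup.coe_one, Matrix.one_mulVec]; rfl⟩
  mul_mem' := by
    rintro g h ⟨hg, G, hG⟩ ⟨hh, H, hH⟩
    refine ⟨(octStab oct).mul_mem hg hh, G * H, fun q hq => ?_⟩
    rw [Matrix.SpecialLinearGroup.coe_mul, ← Matrix.mulVec_mulVec, hH q hq,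
      hG _ (apply_notMem hh hq)]
    rfl
  inv_mem' := by
    rintro g ⟨hg, G, hG⟩
    have hgi := (octStab oct).inv_mem hg
    refine ⟨hgi, G⁻¹, fun q hq => ?_⟩
    have h := hG _ (apply_notMem hgi hq)
    rw [show g (g⁻¹ q) = q from g.apply_symm_apply q] at h
    rw [← h, Matrix.mulVec_mulVec, ← Matrix.SpecialLinearGroup.coe_mul, inv_mul_cancel,
      Matrix.SpecialLinearGroup.coe_one, Matrix.one_mulVec]

/-- The induced matrix. -/
noncomputable def affHom : affGroup →* SL(5, ZMod 2) where
  toFun g := g.2.2.choose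
  map_one' := Subtype.ext (((1 : affGroup).2.2.choose_spec).unique fun q _ => by
    rw [Matrix.SpecialLinearGroup.coe_one, Matrix.one_mulVec]; rfl)
  map_mul' g h := Subtype.ext (((g * h).2.2.choose_spec).unique fun q hq => by
    rw [Matrix.SpecialLinearGroup.coe_mul, ← Matrix.mulVec_mulVec, h.2.2.choose_spec q hq,
      g.2.2.choose_spec _ (apply_notMem h.2.1 hq)]
    rfl)

theorem affHom_induces (g : affGroup) :
    Induces (g : Perm GolayPt) (affHom g : Matrix (Fin 5) (Fin 5) (ZMod 2)) :=
  g.2.2.choose_spec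

theorem vec_injective : ∀ q, q ∉ oct → ∀ r, r ∉ oct → vec q = vec r → q = r := by decide +kernel

theorem grow_outside : grow ((2 ^ 24 - 1) ^^^ octB) = 2 ^ 24 - 1 := by decide +kernel

theorem affHom_injective : Function.Injective affHom :=
  (injective_iff_map_eq_one affHom).2 fun g hg => by
    have hfix : ∀ q : GolayPt, ((2 ^ 24 - 1) ^^^ octB).testBit (idx q) = true →
        (g : Perm GolayPt) q = q := fun q hq => by
      have hq' : q ∉ oct := by
        rw [oct, mem_toSet]
        rw [Nat.testBit_xor, Nat.testBit_two_pow_sub_one] at hq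
        simp [idx_lt q] at hq
        simp [hq]
      refine vec_injective _ (apply_notMem g.2.1 hq') _ hq' ?_
      rw [← affHom_induces g q hq', hg, Matrix.SpecialLinearGroup.coe_one, Matrix.one_mulVec]
    refine Subtype.ext (Equiv.ext fun q => grow_fixed g.2.1.1 hfix q ?_)
    rw [grow_outside, Nat.testBit_two_pow_sub_one]
    simp [idx_lt q]

theorem inv_mats : ∀ r < 15, (mat (invMats.getD r [])).det = 1 ∧
    ∀ q, q ∉ oct → mat (invMats.getD r []) *ᵥ vec q = vec (tfun (invs.getD r ([], [])).1 q) := by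
  decide +kernel

theorem gen_mats : ∀ r < 6, (mat (genMats.getD r [])).det = 1 ∧
    ∀ q, q ∉ oct → mat (genMats.getD r []) *ᵥ vec q = vec (tfun (gens8.getD r (0, [], [])).2.1 q) := by
  decide +kernel

theorem gens8_length : gens8.length = 6 := by decide +kernel

theorem ptStab_le_aff : ptStab oct ≤ affGroup := fun v hv => by
  by_cases h1 : v = 1
  · rw [h1]; exact one_mem _
  obtain ⟨e, he, hve⟩ := exists_inv hv h1
  obtain ⟨r, hr, rfl⟩ := List.getElem_of_mem he
  obtain ⟨hdet, hm⟩ := inv_mats r (invs_length ▸ hr)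
  refine ⟨ptStab_le oct hv, ⟨_, hdet⟩, fun q hq => ?_⟩
  rw [hve]
  have := hm q hq
  rw [List.getD_eq_getElem invs _ hr] at this
  exact this

/-- The eight points as an equivalence. -/
noncomputable def ptsEquiv : Fin 8 ≃ ↥oct :=
  Equiv.ofBijective (fun m => ⟨pts8 m, by revert m; decide +kernel⟩)
    ⟨fun a b h => pts8_inj (congrArg Subtype.val h), fun x => by
      obtain ⟨m, hm⟩ := (by decide +kernel : ∀ q ∈ oct, ∃ m, pts8 m = q) x x.2
      exact ⟨m, Subtype.ext hm⟩⟩

theorem comp_le_aff : comp oct (bpt 6) ≤ affGroup := by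
  obtain ⟨e⟩ := comp_equiv octB_mem bpt_six
  set H := affGroup ⊓ comp oct (bpt 6) with hH
  let f : H →* Perm (Fin 8) := (ptsEquiv.symm.permCongrHom.toMonoidHom).comp
    ((res oct).comp (inclusion (inf_le_right.trans inf_le_left)))
  have hf : alternatingGroup (Fin 8) ≤ f.range := by
    refine alternating_le _ (fun i hi0 hi1 => ?_) (by decide +kernel)
    obtain ⟨d, hd, rfl⟩ := (by decide +kernel :
      ∀ i : Fin 8, i ≠ 0 → i ≠ 1 → ∃ d ∈ gens8, d.1 = i) i hi0 hi1
    obtain ⟨⟨⟨hT, ho, hp, -⟩, -, hcyc, -, -⟩, -⟩ := gens8_ok d hd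
    obtain ⟨r, hr, rfl⟩ := List.getElem_of_mem hd
    obtain ⟨hdet, hm⟩ := gen_mats r (gens8_length ▸ hr)
    have hos : tperm _ hT ∈ octStab oct :=
      ⟨tperm_mem _ hT, smul_oct fun q hq => ho q hq⟩
    have hA : tperm _ hT ∈ affGroup := ⟨hos, ⟨_, hdet⟩, fun q hq => by
      have := hm q hq
      rw [List.getD_eq_getElem gens8 _ hr] at this
      exact this⟩
    refine ⟨⟨_, hA, hos, hp⟩, Equiv.ext fun m => ?_⟩
    refine ptsEquiv.injective ((ptsEquiv.apply_symm_apply _).trans (Subtype.ext ?_))
    exact hcyc m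
  have h1 : 20160 ≤ Nat.card H := by
    have := Nat.card_le_card_of_surjective f.rangeRestrict f.rangeRestrict_surjective
    have h2 : Nat.card (alternatingGroup (Fin 8)) ≤ Nat.card f.range :=
      Nat.card_le_card_of_injective _ (inclusion_injective hf)
    rw [CfsgLib.Schur.Alternating.card_alt 8 (by norm_num)] at h2
    have h8 : Nat.factorial 8 / 2 = 20160 := rfl
    omega
  have h3 : Nat.card (comp oct (bpt 6)) = 20160 := by
    rw [show oct = toSet octB from rfl, Nat.card_congr e.toEquiv,
      CfsgLib.Schur.Alternating.card_alt 8 (by norm_num)]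
    rfl
  have h4 : H = comp oct (bpt 6) := eq_of_le_of_card_ge inf_le_right (h3.le.trans h1)
  rw [← h4]
  exact inf_le_left

theorem octStab_le_aff : octStab oct ≤ affGroup := by
  rw [show oct = toSet octB from rfl, ← sup_eq octB_mem bpt_six]
  exact sup_le ptStab_le_aff comp_le_aff

end CfsgLib.Sporadic.OctadAffine
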