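import Cfsg.Agent.Lib.SmallGroups.MathieuSimple
import Cfsg.Agent.Lib.SmallGroups.MathieuSets

/-!
The stabiliser of an octad in `Cfsg.M24`: it induces the alternating group on the octad, and the
stabiliser of a point outside is a complement of the pointwise stabiliser.
-/

set_option autoImplicit false

namespace CfsgLib.Sporadic.OctadStabilizer

open Cfsg CfsgLib.SmallGroups.Golay CfsgLib.SmallGroups.GolayOctads CfsgLib.SmallGroups.M24Group
  CfsgLib.SmallGroups.Mathieu CfsgLib.SmallGroups.MathieuSets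
open scoped Pointwise

/-- The stabiliser of `o` inside `M24`, as a group of permutations. -/
def octStab (o : Finset GolayPt) : Subgroup (Equiv.Perm GolayPt) :=
  M24 ⊓ MulAction.stabilizer (Equiv.Perm GolayPt) o

theorem apply_mem_iff {o : Finset GolayPt} {g : Equiv.Perm GolayPt}
    (hg : g • o = o) (x : GolayPt) : g x ∈ o ↔ x ∈ o := by
  conv_lhs => rw [← hg]
  rw [← Equiv.Perm.smul_def, Finset.smul_mem_smul_finset_iff]

/-- The action on the points of the octad. -/
def res (o : Finset GolayPt) : octStab o →* Equiv.Perm ↥o where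
  toFun g := (g : Equiv.Perm GolayPt).subtypePerm (apply_mem_iff g.2.2)
  map_one' := by ext; rfl
  map_mul' _ _ := by ext; rfl

theorem res_apply (o : Finset GolayPt) (g : octStab o) (x : ↥o) :
    ((res o g x : ↥o) : GolayPt) = (g : Equiv.Perm GolayPt) x := rfl

theorem ker_res (o : Finset GolayPt) : (res o).ker = (ptStab o).subgroupOf (octStab o) := by
  ext g
  rw [MonoidHom.mem_ker, Subgroup.mem_subgroupOf, mem_ptStab]
  constructor
  · intro h
    refine ⟨g.2.1, fun p hp => ?_⟩
    have := res_apply o g ⟨p, hp⟩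
    rw [h] at this
    exact this.symm
  · intro h
    exact Equiv.ext fun x => Subtype.ext ((res_apply o g x).trans (h.2 x x.2))

theorem ptStab_le (o : Finset GolayPt) : ptStab o ≤ octStab o := by
  intro g hg
  rw [mem_ptStab] at hg
  refine ⟨hg.1, ?_⟩
  refine Finset.eq_of_subset_of_card_le ?_ (le_of_eq (Finset.card_smul_finset g o).symm)
  intro x hx
  obtain ⟨y, hy, rfl⟩ := Finset.mem_smul_finset.1 hx
  rwa [Equiv.Perm.smul_def, hg.2 y hy]

theorem ncard_octads : octads.ncard = 759 := (ncard_weight 8).trans cwOfWeight_length.1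

theorem card_octStab {o : Finset GolayPt} (ho : o ∈ octads) : Nat.card (octStab o) = 322560 := by
  have e : octStab o = (MulAction.stabilizer M24 o).map M24.subtype := by
    ext g
    constructor
    · exact fun h => ⟨⟨g, h.1⟩, h.2, rfl⟩
    · rintro ⟨g, hg, rfl⟩
      exact ⟨g.2, hg⟩
  rw [e, Subgroup.card_map_of_injective (Subgroup.subtype_injective _)]
  have horb : MulAction.orbit M24 o = octads := Set.ext fun x =>
    ⟨by rintro ⟨g, rfl⟩; exact smul_mem_weight g.2 ho, fun hx => octads_transitive ho hx⟩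
  have h := (MulAction.stabilizer M24 o).card_mul_index
  rw [MulAction.index_stabilizer, horb, ncard_octads, card_M24] at h
  omega

theorem range_res {o : Finset GolayPt} (ho : o ∈ octads) : (res o).range = alternatingGroup ↥o := by
  have hk : Nat.card (res o).ker = 16 := by
    rw [ker_res, Nat.card_congr (Subgroup.subgroupOfEquivOfLe (ptStab_le o)).toEquiv]
    exact (ptStab_octad ho).1
  have h1 := Subgroup.card_mul_index (res o).ker
  rw [hk, card_octStab ho, Subgroup.index_ker] at h1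
  refine Equiv.Perm.eq_alternatingGroup_of_index_eq_two ?_
  have h2 := Subgroup.card_mul_index (res o).range
  rw [Nat.card_perm, Nat.card_eq_finsetCard, show o.card = 8 from ho.2] at h2
  have h3 : Nat.factorial 8 = 40320 := rfl
  rw [show Nat.card (res o).range = 20160 by omega, h3] at h2
  omega

theorem induced_eq (o : Finset GolayPt) (ho : o ∈ octads) :
    {e : Equiv.Perm ↥o | ∃ g : Equiv.Perm GolayPt, g ∈ M24 ∧
      ∃ h : (∀ x, g x ∈ o ↔ x ∈ o), g.subtypePerm h = e} = (alternatingGroup ↥o : Set (Equiv.Perm ↥o)) := by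
  rw [← range_res ho]
  ext e
  constructor
  · rintro ⟨g, hg, h, rfl⟩
    refine ⟨⟨g, hg, ?_⟩, rfl⟩
    ext x
    rw [← Finset.inv_smul_mem_iff, ← h]; simp
  · rintro ⟨g, rfl⟩
    exact ⟨g, g.2.1, apply_mem_iff g.2.2, rfl⟩

/-- The stabiliser of an outside point. -/
def comp (o : Finset GolayPt) (p : GolayPt) : Subgroup (Equiv.Perm GolayPt) :=
  octStab o ⊓ MulAction.stabilizer (Equiv.Perm GolayPt) p

theorem idx_bpt_six : (target 6).testBit (idx (bpt 6)) = true := by decide +kernel

theorem exists_to_base_outside {o : Finset GolayPt} (ho : o ∈ octads) {p : GolayPt} (hp : p ∉ o) :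
    ∃ a ∈ M24, a • o = toSet octB ∧ a p = bpt 6 := by
  obtain ⟨a, ha, hao⟩ := exists_to_octB ho
  have hap : a p ∉ toSet octB := by
    rw [← hao, ← Equiv.Perm.smul_def, Finset.smul_mem_smul_finset_iff]
    exact hp
  obtain ⟨g, hg, e⟩ : ∃ g ∈ levGen 6, g (bpt 6) = a p := by
    have h := target_six (a p) hap
    rw [← orbBits_eq 6 (by norm_num)] at h
    obtain ⟨g, hg, e⟩ := orbBits_sound (by norm_num) _ (base_lt 6) 24 _ h
    exact ⟨g, hg, idx_injective e⟩
  have hg' : g ∈ ptStab (toSet octB) := by rwa [ptStab_octB, lev_six_eq]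
  have hgo := (ptStab_le _ hg').2
  refine ⟨g⁻¹ * a, mul_mem (inv_mem (mem_ptStab.1 hg').1) ha, ?_, ?_⟩
  · rw [mul_smul, hao, inv_smul_eq_iff]
    exact hgo.symm
  · rw [Equiv.Perm.mul_apply, ← e]; simp

theorem inf_bot {o : Finset GolayPt} (ho : o ∈ octads) {p : GolayPt} (hp : p ∉ o) :
    ptStab o ⊓ comp o p = ⊥ := by
  obtain ⟨a, ha, hao, hap⟩ := exists_to_base_outside ho hp
  rw [Subgroup.eq_bot_iff_forall]
  intro g hg
  obtain ⟨hg, hgc⟩ := Subgroup.mem_inf.1 hg
  rw [mem_ptStab] at hg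
  have hgp : g p = p := hgc.2
  have h : a * g * a⁻¹ = 1 := by
    refine eq_one_of_fix_base (mul_mem (mul_mem ha hg.1) (inv_mem ha)) fun j hj => ?_
    rcases lt_or_eq_of_le (Nat.le_of_lt_succ hj) with h | rfl
    · obtain ⟨q, hq, e⟩ := Finset.mem_smul_finset.1 (hao ▸ bpt_mem_octB j h)
      rw [← e, Equiv.Perm.smul_def]
      simp [hg.2 q hq]
    · rw [← hap]
      simp [hgp]
  rwa [conj_eq_one_iff] at h

theorem sup_eq {o : Finset GolayPt} (ho : o ∈ octads) {p : GolayPt} (hp : p ∉ o) :
    ptStab o ⊔ comp o p = octStab o := by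
  refine le_antisymm (sup_le (ptStab_le o) inf_le_left) fun g hg => ?_
  obtain ⟨a, ha, hao, hap⟩ := exists_to_base_outside ho hp
  have hgp : g p ∉ o := fun h => hp ((apply_mem_iff hg.2 p).1 h)
  have hagp : a (g p) ∉ toSet octB := by
    rw [← hao, ← Equiv.Perm.smul_def, Finset.smul_mem_smul_finset_iff]
    exact hgp
  obtain ⟨k, hk, e⟩ : ∃ k ∈ levGen 6, k (bpt 6) = a (g p) := by
    have h := target_six _ hagp
    rw [← orbBits_eq 6 (by norm_num)] at h
    obtain ⟨k, hk, e⟩ := orbBits_sound (by norm_num) _ (base_lt 6) 24 _ h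
    exact ⟨k, hk, idx_injective e⟩
  have hk' : k ∈ ptStab (toSet octB) := by rwa [ptStab_octB, lev_six_eq]
  rw [mem_ptStab] at hk'
  have hn : a⁻¹ * k * a ∈ ptStab o := by
    refine mem_ptStab.2 ⟨mul_mem (mul_mem (inv_mem ha) hk'.1) ha, fun q hq => ?_⟩
    have : a q ∈ toSet octB := hao ▸ Finset.smul_mem_smul_finset hq
    simp [hk'.2 _ this]
  have hnp : (a⁻¹ * k * a) p = g p := by simp [hap, e]
  have hc : (a⁻¹ * k * a)⁻¹ * g ∈ comp o p :=
    ⟨(octStab o).mul_mem ((octStab o).inv_mem (ptStab_le o hn)) hg, by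
      show (_ * g) p = p
      rw [Equiv.Perm.mul_apply, ← hnp]; simp⟩
  have := Subgroup.mul_mem_sup hn hc
  rwa [mul_inv_cancel_left] at this

theorem comp_equiv {o : Finset GolayPt} (ho : o ∈ octads) {p : GolayPt} (hp : p ∉ o) :
    Nonempty (comp o p ≃* alternatingGroup (Fin 8)) := by
  let i : comp o p →* octStab o := Subgroup.inclusion inf_le_left
  let f : comp o p →* Equiv.Perm ↥o := (res o).comp i
  have hinj : Function.Injective f := by
    rw [injective_iff_map_eq_one]
    intro g hg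
    have h1 : i g ∈ (res o).ker := hg
    rw [ker_res, Subgroup.mem_subgroupOf] at h1
    have : (g : Equiv.Perm GolayPt) ∈ ptStab o ⊓ comp o p := ⟨h1, g.2⟩
    rw [inf_bot ho hp, Subgroup.mem_bot] at this
    exact Subtype.ext this
  have hrange : f.range = alternatingGroup ↥o := by
    rw [← range_res ho]
    refine le_antisymm (fun x ⟨g, hg⟩ => ⟨i g, hg⟩) ?_
    rintro _ ⟨g, rfl⟩
    have hg : (g : Equiv.Perm GolayPt) ∈ ((ptStab o ⊔ comp o p : Subgroup _) : Set (Equiv.Perm GolayPt)) := by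
      rw [sup_eq ho hp]; exact g.2
    rw [Subgroup.coe_mul_of_right_le_normalizer_left] at hg
    · obtain ⟨n, hn, c, hc, e⟩ := hg
      refine ⟨⟨c, hc⟩, ?_⟩
      have hne : g = ⟨n, ptStab_le o hn⟩ * i ⟨c, hc⟩ := Subtype.ext e.symm
      rw [hne, map_mul, show res o ⟨n, ptStab_le o hn⟩ = 1 from
        MonoidHom.mem_ker.1 (by rw [ker_res, Subgroup.mem_subgroupOf]; exact hn), one_mul]
      rfl
    · intro c hc
      have hco : c • o = o := hc.1.2
      rw [Subgroup.mem_normalizer_iff]
      intro n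
      simp only [SetLike.mem_coe, mem_ptStab]
      constructor
      · rintro ⟨h1, h2⟩
        refine ⟨M24.mul_mem (M24.mul_mem hc.1.1 h1) (M24.inv_mem hc.1.1), fun q hq => ?_⟩
        have : c⁻¹ q ∈ o := by
          rw [← Equiv.Perm.smul_def, Finset.inv_smul_mem_iff, hco]; exact hq
        have h3 := h2 _ this
        simp only [Equiv.Perm.mul_apply]
        rw [h3]; simp
      · rintro ⟨h1, h2⟩
        refine ⟨?_, fun q hq => ?_⟩
        · simpa [mul_assoc] using M24.mul_mem (M24.mul_mem (M24.inv_mem hc.1.1) h1) hc.1.1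
        · have := h2 (c q) ((apply_mem_iff hco q).2 hq)
          simpa using this
  exact ⟨(MonoidHom.ofInjective hinj).trans ((MulEquiv.subgroupCongr hrange).trans
    (o.equivFinOfCardEq ho.2).altCongrHom)⟩

theorem split {o : Finset GolayPt} (ho : o ∈ octads) {p : GolayPt} (hp : p ∉ o) :
    ptStab o ⊓ comp o p = ⊥ ∧ ptStab o ⊔ comp o p = octStab o ∧
      Nonempty (comp o p ≃* alternatingGroup (Fin 8)) :=
  ⟨inf_bot ho hp, sup_eq ho hp, comp_equiv ho hp⟩

end CfsgLib.Sporadic.OctadStabilizer
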