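import Cfsg.Agent.Lib.SmallGroups.Mathieu

/-!
Certified orbits of configuration stabilisers in `Cfsg.M24` on bit masks.

An element is given by the table of its images of the positions 0 to 23; an orbit by a spanning
tree whose edges are checked by the kernel.
-/

set_option autoImplicit false

namespace CfsgLib.Sporadic.M24Orbits

open Cfsg CfsgLib.SmallGroups.Golay CfsgLib.SmallGroups.GolayOctads CfsgLib.SmallGroups.M24Group
  CfsgLib.SmallGroups.Mathieu
open scoped Pointwise

/-- The map of positions given by a table. -/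
def tblNat (t : List ℕ) (i : ℕ) : ℕ := t.getD i 0

/-- The map of points given by a table. -/
def tblFun (t : List ℕ) (p : GolayPt) : GolayPt := pt (tblNat t (idx p))

/-- The table is a permutation of the positions preserving the code. -/
def okTbl (t : List ℕ) : Bool :=
  (List.range 24).all (fun i => decide (tblNat t i < 24) &&
      (List.range 24).all fun j => i == j || tblNat t i != tblNat t j) &&
    (List.range 12).all fun i => isCW (mask fun p => word (bas i) (tblFun t p))

theorem exists_elt {t : List ℕ} (h : okTbl t = true) :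
    ∃ g ∈ M24, ∀ p, idx (g p) = tblNat t (idx p) := by
  simp only [okTbl, Bool.and_eq_true, List.all_eq_true, List.mem_range, decide_eq_true_iff,
    Bool.or_eq_true, beq_iff_eq, bne_iff_ne] at h
  obtain ⟨h1, h2⟩ := h
  have hidx : ∀ p, idx (tblFun t p) = tblNat t (idx p) := fun p => idx_pt (h1 _ (idx_lt p)).1
  have hinj : Function.Injective (tblFun t) := by
    intro p q e
    have e' := congrArg idx e
    rw [hidx, hidx] at e'
    rcases (h1 _ (idx_lt p)).2 _ (idx_lt q) with h3 | h3
    · exact idx_injective h3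
    · exact absurd e' h3
  refine ⟨Equiv.ofBijective _ (Finite.injective_iff_bijective.1 hinj), ?_, hidx⟩
  exact mem_M24_of_basis (f := tblFun t) (fun _ => rfl) h2

/-- All tables are elements of `M24` fixing all the masks in `fix`. -/
def gensOK (gens : List (List ℕ)) (fix : List ℕ) : Bool :=
  gens.all fun t => okTbl t && fix.all fun f => img (tblNat t) f == f

/-- A spanning tree of an orbit: label of the edge, mask reached, children, further siblings. -/
inductive Tree : Type
  | leaf : Tree
  | node (gen m : ℕ) (child sib : Tree) : Tree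

/-- Every edge of the tree is right. -/
def Tree.check (gens : List (List ℕ)) : Tree → ℕ → Bool
  | .leaf, _ => true
  | .node k m c s, r =>
    decide (k < gens.length) && img (tblNat (gens.getD k [])) r == m && c.check gens m && s.check gens r

/-- The masks in a tree. -/
def Tree.masks : Tree → List ℕ
  | .leaf => []
  | .node _ m c s => m :: (c.masks ++ s.masks)

theorem Tree.sound {gens : List (List ℕ)} {fix : List ℕ} (hg : gensOK gens fix = true) :
    ∀ (T : Tree) (r : ℕ), T.check gens r = true → ∀ n ∈ T.masks,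
      ∃ g ∈ M24, (∀ f ∈ fix, g • toSet f = toSet f) ∧ g • toSet r = toSet n := by
  intro T
  induction T with
  | leaf => intro r _ n hn; simp [Tree.masks] at hn
  | node k m c s ihc ihs =>
    intro r hc n hn
    simp only [Tree.check, Bool.and_eq_true, decide_eq_true_iff, beq_iff_eq] at hc
    obtain ⟨⟨⟨hk, hm⟩, hcc⟩, hcs⟩ := hc
    have ht := List.all_eq_true.1 hg (gens.getD k []) (by
      rw [List.getD_eq_getElem _ _ hk]; exact List.getElem_mem hk)
    rw [Bool.and_eq_true, List.all_eq_true] at ht
    obtain ⟨g, hg', hidx⟩ := exists_elt ht.1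
    have hfix : ∀ f ∈ fix, g • toSet f = toSet f := fun f hf => by
      rw [smul_toSet hidx, beq_iff_eq.1 (ht.2 f hf)]
    have hroot : g • toSet r = toSet m := by rw [smul_toSet hidx, hm]
    rcases List.mem_cons.1 hn with rfl | hn
    · exact ⟨g, hg', hfix, hroot⟩
    rcases List.mem_append.1 hn with hn | hn
    · obtain ⟨g', hg'', hfix', he⟩ := ihc m hcc n hn
      refine ⟨g' * g, mul_mem hg'' hg', fun f hf => ?_, ?_⟩
      · rw [mul_smul, hfix f hf, hfix' f hf]
      · rw [mul_smul, hroot, he]
    · exact ihs r hcs n hn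

/-- The set of keys of a list, as a bit set. -/
def keySet (key : ℕ → ℕ) (l : List ℕ) : ℕ := l.foldl (fun S m => S ||| 2 ^ key m) 0

theorem keySet_sound (key : ℕ → ℕ) (l : List ℕ) {i : ℕ} (h : (keySet key l).testBit i = true) :
    ∃ m ∈ l, key m = i := by
  suffices ∀ (l : List ℕ) (S : ℕ), (l.foldl (fun S m => S ||| 2 ^ key m) S).testBit i = true →
      S.testBit i = true ∨ ∃ m ∈ l, key m = i by
    rcases this l 0 h with h0 | h0
    · simp at h0
    · exact h0
  intro l
  induction l with
  | nil => exact fun S h => Or.inl h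
  | cons a l ih =>
    intro S h
    rcases ih _ h with h1 | ⟨m, hm, e⟩
    · rw [Nat.testBit_or, Bool.or_eq_true, Nat.testBit_two_pow, decide_eq_true_iff] at h1
      rcases h1 with h1 | h1
      · exact Or.inl h1
      · exact Or.inr ⟨a, List.mem_cons_self .., h1⟩
    · exact Or.inr ⟨m, List.mem_cons_of_mem _ hm, e⟩

/-- Every target occurs in the list, tested through keys that can be decoded. -/
def covers (key dec : ℕ → ℕ) (U tg : List ℕ) : Bool :=
  U.all (fun m => dec (key m) == m) &&
    tg.all fun n => dec (key n) == n && (keySet key U).testBit (key n)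

theorem covers_sound {key dec : ℕ → ℕ} {U tg : List ℕ} (h : covers key dec U tg = true) {n : ℕ}
    (hn : n ∈ tg) : n ∈ U := by
  simp only [covers, Bool.and_eq_true, List.all_eq_true, beq_iff_eq] at h
  obtain ⟨h1, h2⟩ := h.2 n hn
  obtain ⟨m, hm, e⟩ := keySet_sound key U h2
  rwa [← h1, ← e, h.1 m hm]

/-- A certificate that the stabiliser of `fix` has the targets in one orbit. -/
def cert (gens : List (List ℕ)) (fix : List ℕ) (root : ℕ) (T : Tree) (key dec : ℕ → ℕ)
    (tg : List ℕ) : Bool :=
  gensOK gens fix && T.check gens root && covers key dec (root :: T.masks) tg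

theorem orbit_transitive {gens : List (List ℕ)} {fix : List ℕ} {root : ℕ} {T : Tree} {key dec : ℕ → ℕ}
    {tg : List ℕ} (h : cert gens fix root T key dec tg = true) {n n' : ℕ} (hn : n ∈ tg) (hn' : n' ∈ tg) :
    ∃ g ∈ M24, (∀ f ∈ fix, g • toSet f = toSet f) ∧ g • toSet n = toSet n' := by
  simp only [cert, Bool.and_eq_true] at h
  obtain ⟨⟨hg, hT⟩, hc⟩ := h
  have key' : ∀ k ∈ tg, ∃ g ∈ M24, (∀ f ∈ fix, g • toSet f = toSet f) ∧ g • toSet root = toSet k := by
    intro k hk
    rcases List.mem_cons.1 (covers_sound hc hk) with rfl | hk'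
    · exact ⟨1, one_mem _, fun f _ => one_smul _ _, one_smul _ _⟩
    · exact T.sound hg root hT k hk'
  obtain ⟨a, ha, hfa, hea⟩ := key' n hn
  obtain ⟨b, hb, hfb, heb⟩ := key' n' hn'
  refine ⟨b * a⁻¹, mul_mem hb (inv_mem ha), fun f hf => ?_, ?_⟩
  · rw [mul_smul, inv_smul_eq_iff.2 (hfa f hf).symm, hfb f hf]
  · rw [mul_smul, inv_smul_eq_iff.2 hea.symm, heb]

/-- Key of a code word: its twelve information bits. -/
def cwKey (m : ℕ) : ℕ := m % 4096

/-- Key of a set of at most three positions. -/
def fewKey (m : ℕ) : ℕ := (List.range 24).foldl (fun k i => if m.testBit i then k * 25 + (i + 1) else k) 0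

/-- The position bit of a digit. -/
def digitBit (d : ℕ) : ℕ := if d = 0 then 0 else 2 ^ (d - 1)

/-- Decoding of `fewKey`. -/
def fewDec (k : ℕ) : ℕ := digitBit (k % 25) ||| digitBit (k / 25 % 25) ||| digitBit (k / 625)

theorem toSet_singleton (p : GolayPt) : toSet (2 ^ idx p) = {p} := by
  ext q
  rw [mem_toSet, Nat.testBit_two_pow, decide_eq_true_iff, Finset.mem_singleton]
  exact ⟨fun h => idx_injective h.symm, fun h => h ▸ rfl⟩

theorem apply_eq_of_fix {g : Equiv.Perm GolayPt} {p : GolayPt} (h : g • ({p} : Finset GolayPt) = {p}) :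
    g p = p := by
  rwa [Finset.smul_finset_singleton, Finset.singleton_inj, Equiv.Perm.smul_def] at h

/-- Transport of a count along an element of `M24`. -/
theorem ncard_transport {h : Equiv.Perm GolayPt} (hh : h ∈ M24) (m : ℕ) (P : Finset GolayPt → Prop) :
    {S : Finset GolayPt | S ∈ wordsOfWeight (golayCode : Set (GolayPt → ZMod 2)) m ∧ P (h • S)}.ncard =
      {S : Finset GolayPt | S ∈ wordsOfWeight (golayCode : Set (GolayPt → ZMod 2)) m ∧ P S}.ncard := by
  refine Set.ncard_congr (fun S _ => h • S) ?_ (fun _ _ _ _ e => smul_left_cancel h e) ?_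
  · exact fun S hS => ⟨smul_mem_weight hh hS.1, hS.2⟩
  · intro S hS
    exact ⟨h⁻¹ • S, ⟨smul_mem_weight (inv_mem hh) hS.1, by rw [smul_inv_smul]; exact hS.2⟩,
      smul_inv_smul h S⟩

theorem mem_smul_iff {g : Equiv.Perm GolayPt} {p : GolayPt} {S : Finset GolayPt} :
    g p ∈ g • S ↔ p ∈ S := by
  rw [← Equiv.Perm.smul_def, Finset.smul_mem_smul_finset_iff]

theorem card_inter_smul (g : Equiv.Perm GolayPt) (A B : Finset GolayPt) :
    (g • A ∩ g • B).card = (A ∩ B).card := by
  rw [← Finset.smul_finset_inter, Finset.card_smul_finset]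

end CfsgLib.Sporadic.M24Orbits
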