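import Cfsg.Agent.Lib.Sporadic.M24Orbits

/-!
Moving configurations of points, octads and dodecads to the base configuration; small sets as masks.
-/

set_option autoImplicit false
set_option maxRecDepth 10000

namespace CfsgLib.Sporadic.M24Config

open Cfsg CfsgLib.SmallGroups.Golay CfsgLib.SmallGroups.GolayOctads CfsgLib.SmallGroups.M24Group
  CfsgLib.SmallGroups.Mathieu CfsgLib.Sporadic.M24Orbits
open scoped Pointwise

theorem idx_none : idx (none : GolayPt) = 23 := rfl

theorem idx_zero : idx (some (0 : ZMod 23) : GolayPt) = 0 := rfl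

theorem subset_iff {a b : ℕ} (ha : a < 2 ^ 24) : toSet a ⊆ toSet b ↔ b &&& a = a := by
  constructor
  · intro h
    refine toSet_inj (lt_of_le_of_lt Nat.and_le_right ha) ha ?_
    rw [← toSet_inter, Finset.inter_eq_right.2 h]
  · intro h
    rw [← h, ← toSet_inter]
    exact Finset.inter_subset_left

/-- The masks with `k` ones below position `i`. -/
def sets : ℕ → ℕ → List ℕ
  | 0, 0 => [0]
  | 0, _ + 1 => []
  | _ + 1, 0 => [0]
  | i + 1, k + 1 => sets i (k + 1) ++ (sets i k).map fun n => 2 ^ i ||| n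

theorem exists_mem_sets : ∀ (i k : ℕ) (S : Finset GolayPt), i ≤ 24 → (∀ p ∈ S, idx p < i) → S.card = k →
    ∃ n ∈ sets i k, toSet n = S := by
  intro i
  induction i with
  | zero =>
    intro k S _ hS hk
    obtain rfl : S = ∅ := Finset.eq_empty_of_forall_notMem fun p hp => Nat.not_lt_zero _ (hS p hp)
    obtain rfl : k = 0 := hk.symm.trans Finset.card_empty
    exact ⟨0, by simp [sets], by ext p; simp⟩
  | succ i ih =>
    intro k S hi hS hk
    cases k with
    | zero =>
      obtain rfl := Finset.card_eq_zero.1 hk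
      exact ⟨0, by simp [sets], by ext p; simp⟩
    | succ k =>
      have hidx : idx (pt i) = i := idx_pt (by omega)
      by_cases hp : pt i ∈ S
      · obtain ⟨n, hn, he⟩ := ih k (S.erase (pt i)) (by omega)
          (fun q hq => by
            rw [Finset.mem_erase] at hq
            have := hS q hq.2
            have hne : idx q ≠ i := fun e => hq.1 (idx_injective (e.trans hidx.symm))
            omega)
          (by rw [Finset.card_erase_of_mem hp, hk]; omega)
        refine ⟨2 ^ i ||| n, ?_, ?_⟩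
        · simp only [sets, List.mem_append, List.mem_map]
          exact Or.inr ⟨n, hn, rfl⟩
        · rw [← toSet_union, he, show (2 : ℕ) ^ i = 2 ^ idx (pt i) by rw [hidx], toSet_singleton, ← Finset.insert_eq, Finset.insert_erase hp]
      · obtain ⟨n, hn, he⟩ := ih (k + 1) S (by omega)
          (fun q hq => by
            have := hS q hq
            have hne : idx q ≠ i := fun e => hp (by
              rw [← idx_injective (e.trans hidx.symm)]; exact hq)
            omega) hk
        refine ⟨n, ?_, he⟩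
        simp only [sets, List.mem_append]
        exact Or.inl hn

theorem exists_set {S : Finset GolayPt} {k : ℕ} (hk : S.card = k) : ∃ n ∈ sets 24 k, toSet n = S :=
  exists_mem_sets 24 k S le_rfl (fun p _ => idx_lt p) hk

theorem sets_two : (sets 24 2).Nodup ∧ ∀ n ∈ sets 24 2, n < 2 ^ 24 ∧ pc n = 2 := by
  refine ⟨?_, by decide +kernel⟩
  refine List.Nodup.of_map fewKey ?_
  decide +kernel

theorem sets_three_lt : ∀ n ∈ sets 24 3, n < 2 ^ 24 ∧ pc n = 3 := by decide +kernel

theorem sets_three_count : (keySet fewKey (sets 24 3) |> fun S => ((List.range 15625).filter S.testBit).length) = 2024 ∧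
    (sets 24 3).length = 2024 := by
  decide +kernel

theorem sets_three : (sets 24 3).Nodup ∧ ∀ n ∈ sets 24 3, n < 2 ^ 24 ∧ pc n = 3 := by
  refine ⟨List.Nodup.of_map fewKey ?_, sets_three_lt⟩
  rw [← List.dedup_eq_self]
  refine (List.dedup_sublist _).eq_of_length ?_
  have hsub : ((List.range 15625).filter (keySet fewKey (sets 24 3)).testBit).length
      ≤ ((sets 24 3).map fewKey).dedup.length := by
    refine (List.Nodup.subperm (List.nodup_range.filter _) ?_).length_le
    intro i hi
    obtain ⟨m, hm, e⟩ := keySet_sound fewKey _ (List.mem_filter.1 hi).2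
    exact List.mem_dedup.2 (List.mem_map.2 ⟨m, hm, e⟩)
  have h1 : ((List.range 15625).filter (keySet fewKey (sets 24 3)).testBit).length = 2024 :=
    sets_three_count.1
  have h1' : (sets 24 3).length = 2024 := sets_three_count.2
  have h2 := (List.dedup_sublist ((sets 24 3).map fewKey)).length_le
  simp only [List.length_map] at h2 ⊢
  omega

theorem ncard_sets (k : ℕ) (hs : (sets 24 k).Nodup ∧ ∀ n ∈ sets 24 k, n < 2 ^ 24 ∧ pc n = k)
    (P : Finset GolayPt → Prop) (q : ℕ → Bool)
    (hq : ∀ n ∈ sets 24 k, (q n = true ↔ P (toSet n))) :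
    {S : Finset GolayPt | S.card = k ∧ P S}.ncard = ((sets 24 k).filter q).length := by
  classical
  have e : {S : Finset GolayPt | S.card = k ∧ P S} = ↑(((sets 24 k).filter q).toFinset.image toSet) := by
    ext S
    simp only [Set.mem_ofPred_eq, Finset.coe_image, Set.mem_image, Finset.mem_coe, List.mem_toFinset,
      List.mem_filter]
    constructor
    · rintro ⟨hk, hP⟩
      obtain ⟨n, hn, rfl⟩ := exists_set hk
      exact ⟨n, ⟨hn, (hq n hn).2 hP⟩, rfl⟩
    · rintro ⟨n, ⟨hn, hqn⟩, rfl⟩
      exact ⟨by rw [card_toSet, (hs.2 n hn).2], (hq n hn).1 hqn⟩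
  rw [e, Set.ncard_coe_finset, Finset.card_image_of_injOn, List.toFinset_card_of_nodup (hs.1.filter _)]
  intro a ha b hb hab
  simp only [Finset.mem_coe, List.mem_toFinset, List.mem_filter] at ha hb
  exact toSet_inj (hs.2 a ha.1).1 (hs.2 b hb.1).1 hab

/-- The octad masks containing `T`. -/
def octsOn (T : ℕ) : List ℕ := (cwOfWeight 8).filter fun o => o &&& T == T

/-- Whether the union of `T` and `n` lies in an octad. -/
def inOctad (T n : ℕ) : Bool := (octsOn T).any fun o => o &&& n == n

theorem inOctad_iff {T n : ℕ} (hT : T < 2 ^ 24) (hn : n < 2 ^ 24) :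
    inOctad T n = true ↔ ∃ o ∈ octads, toSet T ∪ toSet n ⊆ o := by
  simp only [inOctad, octsOn, List.any_eq_true, List.mem_filter, beq_iff_eq]
  constructor
  · rintro ⟨o, ⟨ho, h1⟩, h2⟩
    exact ⟨toSet o, mem_octads.2 ⟨o, ho, rfl⟩,
      Finset.union_subset ((subset_iff hT).2 h1) ((subset_iff hn).2 h2)⟩
  · rintro ⟨S, hS, hsub⟩
    obtain ⟨o, ho, rfl⟩ := mem_octads.1 hS
    rw [Finset.union_subset_iff] at hsub
    exact ⟨o, ⟨ho, (subset_iff hT).1 hsub.1⟩, (subset_iff hn).1 hsub.2⟩

/-- Undo the change of configuration. -/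
theorem conj_move {a g : Equiv.Perm GolayPt} {n m : ℕ} (he : g • toSet n = toSet m) {X Y : Finset GolayPt}
    (hX : toSet n = a • X) (hY : toSet m = a • Y) : (a⁻¹ * g * a) • X = Y := by
  rw [mul_smul, mul_smul, ← hX, he, hY, inv_smul_smul]

theorem conj_fix {a g : Equiv.Perm GolayPt} {f : ℕ} (he : g • toSet f = toSet f) {X : Finset GolayPt}
    (hX : a • X = toSet f) : (a⁻¹ * g * a) • X = X :=
  conj_move he hX.symm hX.symm

theorem conj_fix_point {a g : Equiv.Perm GolayPt} {p r : GolayPt} (hp : a p = r)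
    (he : g • toSet (2 ^ idx r) = toSet (2 ^ idx r)) : (a⁻¹ * g * a) p = p := by
  rw [toSet_singleton] at he
  rw [Equiv.Perm.mul_apply, Equiv.Perm.mul_apply, hp, apply_eq_of_fix he, Equiv.Perm.inv_def,
    Equiv.symm_apply_eq]
  exact hp.symm

theorem exists_to_points {n : ℕ} (hn : n ≤ 5) (x : Fin n → GolayPt) (hx : Function.Injective x) :
    ∃ a ∈ M24, ∀ i : Fin n, a (x i) = bpt i :=
  exists_map hn x _ hx fun i j e => Fin.ext (bpt_inj i (by omega) j (by omega) e)

theorem bpt_zero : bpt 0 = none := by decide +kernel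

theorem bpt_one : bpt 1 = some 0 := by decide +kernel

theorem exists_to_none (p : GolayPt) : ∃ a ∈ M24, a p = none := by
  obtain ⟨a, ha, h⟩ := exists_to_points (n := 1) (by norm_num) (fun _ => p)
    (fun i j _ => Subsingleton.elim i j)
  exact ⟨a, ha, (h 0).trans bpt_zero⟩

theorem exists_to_none_zero {p q : GolayPt} (hpq : p ≠ q) :
    ∃ a ∈ M24, a p = none ∧ a q = some 0 := by
  obtain ⟨a, ha, h⟩ := exists_to_points (n := 2) (by norm_num) ![p, q] (fun i j e => by
    fin_cases i <;> fin_cases j <;> simp_all)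
  exact ⟨a, ha, (h 0).trans bpt_zero, (h 1).trans bpt_one⟩

/-- Membership read off in moved coordinates. -/
theorem testBit_moved {a : Equiv.Perm GolayPt} {S : Finset GolayPt} {n : ℕ} (h : toSet n = a • S)
    {x r : GolayPt} (hx : a x = r) : n.testBit (idx r) = true ↔ x ∈ S := by
  rw [← mem_toSet, h, ← hx, mem_smul_iff]

/-- Intersection sizes read off in moved coordinates. -/
theorem pc_moved {a : Equiv.Perm GolayPt} {S o : Finset GolayPt} {n f : ℕ} (h : toSet n = a • S)
    (hf : a • o = toSet f) : pc (n &&& f) = (o ∩ S).card := by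
  rw [← card_toSet, ← toSet_inter, h, ← hf, card_inter_smul, Finset.inter_comm]

/-- The count of words with a property, in moved coordinates. -/
theorem count_moved {a : Equiv.Perm GolayPt} (ha : a ∈ M24) (m : ℕ) (P : Finset GolayPt → Prop) (q : ℕ → Bool)
    (hq : ∀ n, ∀ S, toSet n = a • S → (q n = true ↔ P S)) :
    {S : Finset GolayPt | S ∈ wordsOfWeight (golayCode : Set (GolayPt → ZMod 2)) m ∧ P S}.ncard =
      ((cwOfWeight m).filter q).length := by
  rw [← ncard_toSet_filter m (fun S => P (a⁻¹ • S)) q fun n _ => hq n _ (smul_inv_smul a _).symm,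
    ← ncard_transport ha m (fun S => P (a⁻¹ • S))]
  simp only [inv_smul_smul]

/-- One orbit of a configuration stabiliser, in moved coordinates. -/
theorem orbit_moved {a : Equiv.Perm GolayPt} (ha : a ∈ M24) {gens : List (List ℕ)} {fix : List ℕ}
    {root m : ℕ} {T : Tree} {key dec : ℕ → ℕ} {q : ℕ → Bool}
    (hc : cert gens fix root T key dec ((cwOfWeight m).filter q) = true)
    {P : Finset GolayPt → Prop} (hq : ∀ n, ∀ S, toSet n = a • S → (q n = true ↔ P S))
    {S S' : Finset GolayPt} (hS : S ∈ wordsOfWeight (golayCode : Set (GolayPt → ZMod 2)) m) (hP : P S)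
    (hS' : S' ∈ wordsOfWeight (golayCode : Set (GolayPt → ZMod 2)) m) (hP' : P S') :
    ∃ g ∈ M24, (∀ f ∈ fix, ∀ X, a • X = toSet f → g • X = X) ∧
      (∀ f ∈ fix, ∀ x r, a x = r → f = 2 ^ idx r → g x = x) ∧ g • S = S' := by
  obtain ⟨n, hn, hn'⟩ := mem_wordsOfWeight.1 (smul_mem_weight ha hS)
  obtain ⟨k, hk, hk'⟩ := mem_wordsOfWeight.1 (smul_mem_weight ha hS')
  obtain ⟨g, hg, hfix, he⟩ := orbit_transitive hc
    (List.mem_filter.2 ⟨hn, (hq n S hn').2 hP⟩) (List.mem_filter.2 ⟨hk, (hq k S' hk').2 hP'⟩)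
  refine ⟨a⁻¹ * g * a, mul_mem (mul_mem (inv_mem ha) hg) ha, fun f hf X hX => conj_fix (hfix f hf) hX,
    fun f hf x r hx hr => conj_fix_point hx (hr ▸ hfix f hf), conj_move he hn' hk'⟩

/-- A set-system analogue of `orbit_moved` for small sets. -/
theorem orbit_moved_sets {a : Equiv.Perm GolayPt} (ha : a ∈ M24) {gens : List (List ℕ)} {fix : List ℕ}
    {root k : ℕ} {T : Tree} {key dec : ℕ → ℕ} {q : ℕ → Bool}
    (hc : cert gens fix root T key dec ((sets 24 k).filter q) = true)
    {P : Finset GolayPt → Prop} (hq : ∀ n ∈ sets 24 k, ∀ S, toSet n = a • S → (q n = true ↔ P S))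
    {S S' : Finset GolayPt} (hS : S.card = k) (hP : P S) (hS' : S'.card = k) (hP' : P S') :
    ∃ g ∈ M24, (∀ f ∈ fix, ∀ X, a • X = toSet f → g • X = X) ∧
      (∀ f ∈ fix, ∀ x r, a x = r → f = 2 ^ idx r → g x = x) ∧ g • S = S' := by
  obtain ⟨n, hn, hn'⟩ := exists_set ((Finset.card_smul_finset a S).trans hS)
  obtain ⟨l, hl, hl'⟩ := exists_set ((Finset.card_smul_finset a S').trans hS')
  obtain ⟨g, hg, hfix, he⟩ := orbit_transitive hc
    (List.mem_filter.2 ⟨hn, (hq n hn S hn').2 hP⟩) (List.mem_filter.2 ⟨hl, (hq l hl S' hl').2 hP'⟩)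
  refine ⟨a⁻¹ * g * a, mul_mem (mul_mem (inv_mem ha) hg) ha, fun f hf X hX => conj_fix (hfix f hf) hX,
    fun f hf x r hx hr => conj_fix_point hx (hr ▸ hfix f hf), conj_move he hn' hl'⟩

/-- The count of small sets with a property, in moved coordinates. -/
theorem count_moved_sets (a : Equiv.Perm GolayPt) (k : ℕ)
    (hs : (sets 24 k).Nodup ∧ ∀ n ∈ sets 24 k, n < 2 ^ 24 ∧ pc n = k)
    (P : Finset GolayPt → Prop) (q : ℕ → Bool)
    (hq : ∀ n ∈ sets 24 k, ∀ S, toSet n = a • S → (q n = true ↔ P S)) :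
    {S : Finset GolayPt | S.card = k ∧ P S}.ncard = ((sets 24 k).filter q).length := by
  rw [← ncard_sets k hs (fun S => P (a⁻¹ • S)) q fun n hn => hq n hn _ (smul_inv_smul a _).symm]
  refine Set.ncard_congr (fun S _ => a • S) ?_ (fun _ _ _ _ e => smul_left_cancel a e) ?_
  · exact fun S hS => ⟨(Finset.card_smul_finset a S).trans hS.1, by rw [inv_smul_smul]; exact hS.2⟩
  · exact fun S hS => ⟨a⁻¹ • S, ⟨(Finset.card_smul_finset a⁻¹ S).trans hS.1, hS.2⟩, smul_inv_smul a S⟩

end CfsgLib.Sporadic.M24Config
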