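import Cfsg.Agent.Lib.Sporadic.SextetData
import Cfsg.Agent.Lib.Sporadic.M24Config
import Cfsg.Agent.Lib.Sporadic.Sextets
import Cfsg.Agent.Lib.Sporadic.SuborbitMaximal

/-!
The stabiliser of a sextet in `Cfsg.M24`: its suborbits, maximality, and structure.
-/

set_option autoImplicit false
set_option maxRecDepth 40000

namespace CfsgLib.Sporadic.M24Sextet

open Cfsg CfsgLib.SmallGroups.Golay CfsgLib.SmallGroups.GolayOctads CfsgLib.SmallGroups.M24Group
  CfsgLib.SmallGroups.Mathieu CfsgLib.Sporadic.M24Orbits CfsgLib.Sporadic.M24Config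
  CfsgLib.Sporadic.Sextets CfsgLib.Sporadic.SextetData
open scoped Pointwise

/-- The sextet of a mask. -/
noncomputable def sx (n : ℕ) : Finset (Finset GolayPt) := sextetOf (toSet n)

/-- The table carries the sextet of `r` to the sextet of `m`. -/
def step (t : List ℕ) (r m : ℕ) : Bool :=
  pc r == 4 && pc m == 4 && (img (tblNat t) r == m ||
    (img (tblNat t) r &&& m == 0 && pc (img (tblNat t) r ||| m) == 8 && isCW (img (tblNat t) r ||| m)))

theorem smul_sextet {g : Equiv.Perm GolayPt} (hg : g ∈ M24) {S : Finset (Finset GolayPt)}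
    (hS : S ∈ sextets) : g • S ∈ sextets := by
  obtain ⟨h6, h4, hu⟩ := hS
  refine ⟨(Finset.card_smul_finset g S).trans h6, ?_, ?_⟩
  · intro t ht
    obtain ⟨u, hu', rfl⟩ := Finset.mem_smul_finset.1 ht
    exact (Finset.card_smul_finset g u).trans (h4 u hu')
  · intro t ht u hu' hne
    obtain ⟨a, ha, rfl⟩ := Finset.mem_smul_finset.1 ht
    obtain ⟨b, hb, rfl⟩ := Finset.mem_smul_finset.1 hu'
    rw [← Finset.smul_finset_union]
    exact smul_mem_weight hg (hu a ha b hb fun e => hne (e ▸ rfl))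

theorem step_sound {t : List ℕ} {g : Equiv.Perm GolayPt} (hg : g ∈ M24)
    (hidx : ∀ p, idx (g p) = tblNat t (idx p)) {r m : ℕ} (h : step t r m = true) :
    g • sx r = sx m := by
  simp only [step, Bool.and_eq_true, Bool.or_eq_true, beq_iff_eq] at h
  obtain ⟨⟨hr, hm⟩, h⟩ := h
  have hr' : (toSet r).card = 4 := (card_toSet r).trans hr
  have hm' : (toSet m).card = 4 := (card_toSet m).trans hm
  have hmem : g • toSet r ∈ g • sx r := Finset.smul_mem_smul_finset (Finset.mem_insert_self _ _)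
  have e1 : g • sx r = sextetOf (g • toSet r) := eq_sextetOf (smul_sextet hg (sextetOf_mem hr')) hmem
  have hu4 : (g • toSet r).card = 4 := (Finset.card_smul_finset g _).trans hr'
  rw [smul_toSet hidx] at e1 hu4
  rw [e1]
  rcases h with h | ⟨⟨h0, h8⟩, hcw⟩
  · rw [h]; rfl
  · set u := img (tblNat t) r
    have ho : toSet u ∪ toSet m ∈ octads := by
      rw [toSet_union]
      refine mem_octads.2 ⟨_, mem_cwOfWeight.2 ⟨?_, h8⟩, rfl⟩
      exact mem_cw.2 ⟨(u ||| m) % 4096, Nat.mod_lt _ (by norm_num), beq_iff_eq.1 hcw⟩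
    have hd : Disjoint (toSet u) (toSet m) := by
      rw [Finset.disjoint_iff_inter_eq_empty, toSet_inter, h0]
      ext p; simp
    exact eq_sextetOf (sextetOf_mem hu4) (Finset.mem_insert_of_mem ((mem_partners hu4).2 ⟨hm', hd, ho⟩))

/-- Every edge of the tree is right. -/
def sxCheck (gens : List (List ℕ)) : Tree → ℕ → Bool
  | .leaf, _ => true
  | .node k m c s, r =>
    decide (k < gens.length) && step (gens.getD k []) r m && sxCheck gens c m && sxCheck gens s r

/-- The tables are elements of `M24` fixing the base sextet. -/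
def gensFix (gens : List (List ℕ)) (m₀ : ℕ) : Bool := gens.all fun t => okTbl t && step t m₀ m₀

theorem sound {gens : List (List ℕ)} {m₀ : ℕ} (hg : gensFix gens m₀ = true) :
    ∀ (T : Tree) (r : ℕ), sxCheck gens T r = true → ∀ n ∈ T.masks,
      ∃ g ∈ M24, g • sx m₀ = sx m₀ ∧ g • sx r = sx n := by
  intro T
  induction T with
  | leaf => intro r _ n hn; simp [Tree.masks] at hn
  | node k m c s ihc ihs =>
    intro r hc n hn
    simp only [sxCheck, Bool.and_eq_true, decide_eq_true_iff] at hc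
    obtain ⟨⟨⟨hk, hm⟩, hcc⟩, hcs⟩ := hc
    have ht := List.all_eq_true.1 hg (gens.getD k []) (by
      rw [List.getD_eq_getElem _ _ hk]; exact List.getElem_mem hk)
    rw [Bool.and_eq_true] at ht
    obtain ⟨g, hg', hidx⟩ := exists_elt ht.1
    have hfix := step_sound hg' hidx ht.2
    have hroot := step_sound hg' hidx hm
    rcases List.mem_cons.1 hn with rfl | hn
    · exact ⟨g, hg', hfix, hroot⟩
    rcases List.mem_append.1 hn with hn | hn
    · obtain ⟨g', hg'', hfix', he⟩ := ihc m hcc n hn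
      exact ⟨g' * g, mul_mem hg'' hg', by rw [mul_smul, hfix, hfix'], by rw [mul_smul, hroot, he]⟩
    · exact ihs r hcs n hn

/-- The number of pairs of tetrads meeting in two points. -/
def N2 (S X : Finset (Finset GolayPt)) : ℕ :=
  ((S ×ˢ X).filter fun p => (p.1 ∩ p.2).card = 2).card

theorem N2_smul (g : Equiv.Perm GolayPt) (S X : Finset (Finset GolayPt)) :
    N2 (g • S) (g • X) = N2 S X := by
  symm
  refine Finset.card_bij' (fun p _ => (g • p.1, g • p.2)) (fun p _ => (g⁻¹ • p.1, g⁻¹ • p.2))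
    ?_ ?_ ?_ ?_
  · intro p hp
    simp only [Finset.mem_filter, Finset.mem_product] at hp ⊢
    exact ⟨⟨Finset.smul_mem_smul_finset hp.1.1, Finset.smul_mem_smul_finset hp.1.2⟩,
      (card_inter_smul g _ _).trans hp.2⟩
  · intro p hp
    simp only [Finset.mem_filter, Finset.mem_product] at hp ⊢
    exact ⟨⟨Finset.inv_smul_mem_iff.2 hp.1.1, Finset.inv_smul_mem_iff.2 hp.1.2⟩,
      (card_inter_smul g⁻¹ _ _).trans hp.2⟩
  · intro p _; simp
  · intro p _; simp

/-- The base tetrad. -/
def m₀ : ℕ := 8388615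

/-- The nodes of all suborbits. -/
def allNodes : List ℕ :=
  m₀ :: ((rootA :: treeA.masks) ++ ((rootB :: treeB.masks) ++ (rootC :: treeC.masks)))

theorem gens_ok : gensFix gens m₀ = true := by decide +kernel

theorem checkA : sxCheck gens treeA rootA = true := by decide +kernel

theorem checkB : sxCheck gens treeB rootB = true := by decide +kernel

theorem checkC : sxCheck gens treeC rootC = true := by decide +kernel

theorem lengths : (rootA :: treeA.masks).length = 240 ∧ (rootB :: treeB.masks).length = 1440 ∧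
    (rootC :: treeC.masks).length = 90 := by decide +kernel

theorem nodes_ok : ∀ n ∈ allNodes, n.testBit 23 = true ∧ pc n = 4 ∧ n < 2 ^ 24 := by decide +kernel

/-- The key of a tetrad through the last point. -/
def key (n : ℕ) : ℕ := fewKey (n &&& (2 ^ 23 - 1))

theorem keys_length : allNodes.length = 1771 ∧
    ((List.range 15625).filter (keySet key allNodes).testBit).length = 1771 := by decide +kernel

theorem nodes_nodup : allNodes.Nodup := by
  refine List.Nodup.of_map key ?_
  rw [← List.dedup_eq_self]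
  refine (List.dedup_sublist _).eq_of_length ?_
  have hsub : ((List.range 15625).filter (keySet key allNodes).testBit).length
      ≤ (allNodes.map key).dedup.length := by
    refine (List.Nodup.subperm (List.nodup_range.filter _) ?_).length_le
    intro i hi
    obtain ⟨m, hm, e⟩ := keySet_sound key _ (List.mem_filter.1 hi).2
    exact List.mem_dedup.2 (List.mem_map.2 ⟨m, hm, e⟩)
  have h2 := (List.dedup_sublist (allNodes.map key)).length_le
  rw [keys_length.2] at hsub
  simp only [List.length_map, keys_length.1] at h2 ⊢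
  omega

theorem sx_inj {a b : ℕ} (ha : a ∈ allNodes) (hb : b ∈ allNodes) (h : sx a = sx b) : a = b := by
  obtain ⟨ha1, ha2, ha3⟩ := nodes_ok a ha
  obtain ⟨hb1, hb2, hb3⟩ := nodes_ok b hb
  have hma : toSet a ∈ sx b := h ▸ Finset.mem_insert_self _ _
  have hmb : toSet b ∈ sx b := Finset.mem_insert_self _ _
  have hn : pt 23 ∈ toSet a ∧ pt 23 ∈ toSet b := by
    simp only [mem_toSet, idx_pt (show 23 < 24 by norm_num)]
    exact ⟨ha1, hb1⟩
  refine toSet_inj ha3 hb3 ?_
  by_contra hne
  exact Finset.disjoint_left.1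
    (sextet_disjoint (sextetOf_mem ((card_toSet b).trans hb2)) hma hmb hne) hn.1 hn.2

theorem sx_mem {n : ℕ} (hn : n ∈ allNodes) : sx n ∈ sextets :=
  sextetOf_mem ((card_toSet n).trans (nodes_ok n hn).2.1)

theorem exists_node {X : Finset (Finset GolayPt)} (hX : X ∈ sextets) : ∃ n ∈ allNodes, sx n = X := by
  classical
  have hsub : ↑(allNodes.toFinset.image sx) ⊆ sextets := by
    intro Y hY
    simp only [Finset.coe_image, Set.mem_image, Finset.mem_coe, List.mem_toFinset] at hY
    obtain ⟨n, hn, rfl⟩ := hY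
    exact sx_mem hn
  have hc : (allNodes.toFinset.image sx).card = 1771 := by
    rw [Finset.card_image_of_injOn fun a ha b hb => sx_inj (List.mem_toFinset.1 ha) (List.mem_toFinset.1 hb),
      List.toFinset_card_of_nodup nodes_nodup, keys_length.1]
  have e := Set.eq_of_subset_of_ncard_le hsub (by rw [Set.ncard_coe_finset, hc, ncard_sextets])
    (Set.toFinite _)
  rw [← e] at hX
  simpa using hX

theorem partners_base : ∀ n ∈ [m₀, rootA, rootB, rootC], pc n = 4 ∧ n < 2 ^ 24 ∧
    (octsOn n).length = 5 ∧ ∀ o ∈ octsOn n, pc (o ^^^ n) = 4 ∧ o &&& n = n := by decide +kernel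

/-- The masks of the sextet of `n`. -/
def sxList (n : ℕ) : List ℕ := n :: (octsOn n).map (· ^^^ n)

theorem sx_eq {n : ℕ} (hn : n ∈ [m₀, rootA, rootB, rootC])
    (hnd : ((sxList n).map toSet).toFinset.card = 6) : sx n = ((sxList n).map toSet).toFinset := by
  classical
  obtain ⟨h4, hlt, -, ho⟩ := partners_base n hn
  have hn' : (toSet n).card = 4 := (card_toSet n).trans h4
  refine (Finset.eq_of_subset_of_card_le ?_ (le_of_eq ?_)).symm
  · intro t ht
    simp only [List.mem_toFinset, List.mem_map, sxList, List.mem_cons] at ht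
    obtain ⟨k, rfl | ⟨o, hok, rfl⟩, rfl⟩ := ht
    · exact Finset.mem_insert_self _ _
    · obtain ⟨hc, hand⟩ := ho o hok
      refine Finset.mem_insert_of_mem ((mem_partners hn').2 ⟨(card_toSet _).trans hc, ?_, ?_⟩)
      · rw [Finset.disjoint_left]
        intro p hp hp'
        have hpo : p ∈ toSet o := by
          rw [← hand, ← toSet_inter, Finset.mem_inter] at hp; exact hp.1
        rw [mem_toSet, Nat.testBit_xor, mem_toSet.1 hp, mem_toSet.1 hpo] at hp'
        simp at hp'
      · have e : toSet n ∪ toSet (o ^^^ n) = toSet o := by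
          ext p
          simp only [Finset.mem_union, mem_toSet, Nat.testBit_xor]
          have : n.testBit (idx p) = true → o.testBit (idx p) = true := fun h => by
            rw [← hand, Nat.testBit_and, Bool.and_eq_true] at h; exact h.1
          cases h1 : n.testBit (idx p) <;> cases h2 : o.testBit (idx p) <;> simp_all
        rw [e]
        exact mem_octads.2 ⟨o, (List.mem_filter.1 hok).1, rfl⟩
  · rw [hnd]; exact (sextetOf_mem hn').1

theorem N2_roots :
    ((sxList m₀).map toSet).toFinset.card = 6 ∧ ((sxList rootA).map toSet).toFinset.card = 6 ∧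
    ((sxList rootB).map toSet).toFinset.card = 6 ∧ ((sxList rootC).map toSet).toFinset.card = 6 ∧
    N2 ((sxList m₀).map toSet).toFinset ((sxList rootA).map toSet).toFinset = 0 ∧
    N2 ((sxList m₀).map toSet).toFinset ((sxList rootB).map toSet).toFinset = 4 ∧
    N2 ((sxList m₀).map toSet).toFinset ((sxList rootC).map toSet).toFinset = 12 := by
  decide +kernel

/-- The stabiliser of the base sextet in `M24`. -/
noncomputable abbrev H₀ : Subgroup M24 := MulAction.stabilizer M24 (sx m₀)

theorem orbit_nodes {r : ℕ} {T : Tree} (hc : sxCheck gens T r = true) {n : ℕ} (hn : n ∈ r :: T.masks) :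
    sx n ∈ MulAction.orbit H₀ (sx r) := by
  rcases List.mem_cons.1 hn with rfl | hn
  · exact MulAction.mem_orbit_self _
  · obtain ⟨g, hg, h0, he⟩ := sound gens_ok T r hc n hn
    exact ⟨⟨⟨g, hg⟩, h0⟩, he⟩

theorem N2_of_orbit {X Y : Finset (Finset GolayPt)} (h : Y ∈ MulAction.orbit H₀ X) :
    N2 (sx m₀) Y = N2 (sx m₀) X := by
  obtain ⟨g, rfl⟩ := h
  conv_lhs => rw [← (g.2 : (g : M24) • sx m₀ = sx m₀)]
  exact N2_smul _ _ _

theorem roots_mem : m₀ ∈ allNodes ∧ rootA ∈ allNodes ∧ rootB ∈ allNodes ∧ rootC ∈ allNodes :=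
  ⟨List.mem_cons_self .., by simp [allNodes], by simp [allNodes], by simp [allNodes]⟩

theorem node_cases {n : ℕ} (hn : n ∈ allNodes) :
    n = m₀ ∨ sx n ∈ MulAction.orbit H₀ (sx rootA) ∨ sx n ∈ MulAction.orbit H₀ (sx rootB) ∨
      sx n ∈ MulAction.orbit H₀ (sx rootC) := by
  rcases List.mem_cons.1 hn with h | h
  · exact Or.inl h
  rcases List.mem_append.1 h with h | h
  · exact Or.inr (Or.inl (orbit_nodes checkA h))
  rcases List.mem_append.1 h with h | h
  · exact Or.inr (Or.inr (Or.inl (orbit_nodes checkB h)))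
  · exact Or.inr (Or.inr (Or.inr (orbit_nodes checkC h)))

theorem root_values : N2 (sx m₀) (sx rootA) = 0 ∧ N2 (sx m₀) (sx rootB) = 4 ∧
    N2 (sx m₀) (sx rootC) = 12 := by
  obtain ⟨a, b, c, d, e, f, g⟩ := N2_roots
  rw [sx_eq (by simp) a, sx_eq (by simp) b, sx_eq (by simp) c, sx_eq (by simp) d]
  exact ⟨e, f, g⟩

theorem orbit_sub (X : Finset (Finset GolayPt)) (hX : X ∈ sextets) :
    MulAction.orbit H₀ X ⊆ sextets := by
  rintro _ ⟨g, rfl⟩; exact smul_sextet (g : M24).2 hX

theorem eq_of_orbit_base {X : Finset (Finset GolayPt)} (h : sx m₀ ∈ MulAction.orbit H₀ X) : X = sx m₀ := by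
  obtain ⟨g, hg⟩ := h
  exact (MulAction.injective g) (hg.trans (g.2 : (g : M24) • sx m₀ = sx m₀).symm)

theorem orbit_eq {r : ℕ} {T : Tree} (hc : sxCheck gens T r = true) (hr : r ∈ allNodes) (hr0 : r ≠ m₀)
    (hsub : ∀ n ∈ r :: T.masks, n ∈ allNodes)
    (hother : ∀ n ∈ allNodes, n ≠ m₀ → n ∉ r :: T.masks → N2 (sx m₀) (sx n) ≠ N2 (sx m₀) (sx r)) :
    MulAction.orbit H₀ (sx r) = sx '' {n | n ∈ r :: T.masks} := by
  refine Set.eq_of_subset_of_subset (fun Y hY => ?_) ?_
  · obtain ⟨n, hn, rfl⟩ := exists_node (orbit_sub _ (sx_mem hr) hY)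
    by_cases hmem : n ∈ r :: T.masks
    · exact ⟨n, hmem, rfl⟩
    · refine absurd (N2_of_orbit hY) (hother n hn ?_ hmem)
      rintro rfl
      exact hr0 (sx_inj hr roots_mem.1 (eq_of_orbit_base hY))
  · rintro _ ⟨n, hn, rfl⟩
    exact orbit_nodes hc hn

theorem class_of_node {n : ℕ} (hn : n ∈ allNodes) (h0 : n ≠ m₀) :
    (n ∈ rootA :: treeA.masks ∧ N2 (sx m₀) (sx n) = 0) ∨
      (n ∈ rootB :: treeB.masks ∧ N2 (sx m₀) (sx n) = 4) ∨
      (n ∈ rootC :: treeC.masks ∧ N2 (sx m₀) (sx n) = 12) := by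
  obtain ⟨vA, vB, vC⟩ := root_values
  rcases List.mem_cons.1 hn with h | h
  · exact absurd h h0
  rcases List.mem_append.1 h with h | h
  · exact Or.inl ⟨h, (N2_of_orbit (orbit_nodes checkA h)).trans vA⟩
  rcases List.mem_append.1 h with h | h
  · exact Or.inr (Or.inl ⟨h, (N2_of_orbit (orbit_nodes checkB h)).trans vB⟩)
  · exact Or.inr (Or.inr ⟨h, (N2_of_orbit (orbit_nodes checkC h)).trans vC⟩)

theorem ncard_image {l : List ℕ} (hsub : ∀ n ∈ l, n ∈ allNodes) (hnd : l.Nodup) :
    (sx '' {n | n ∈ l}).ncard = l.length := by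
  classical
  rw [show {n | n ∈ l} = ((l.toFinset : Finset ℕ) : Set ℕ) by ext; simp,
    Set.InjOn.ncard_image fun a ha b hb => sx_inj (hsub a (List.mem_toFinset.1 ha)) (hsub b (List.mem_toFinset.1 hb)),
    Set.ncard_coe_finset, List.toFinset_card_of_nodup hnd]

theorem subA : ∀ n ∈ rootA :: treeA.masks, n ∈ allNodes := fun _ h =>
  List.mem_cons_of_mem _ (List.mem_append_left _ h)

theorem subB : ∀ n ∈ rootB :: treeB.masks, n ∈ allNodes := fun _ h =>
  List.mem_cons_of_mem _ (List.mem_append_right _ (List.mem_append_left _ h))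

theorem subC : ∀ n ∈ rootC :: treeC.masks, n ∈ allNodes := fun _ h =>
  List.mem_cons_of_mem _ (List.mem_append_right _ (List.mem_append_right _ h))

theorem nd : (rootA :: treeA.masks).Nodup ∧ (rootB :: treeB.masks).Nodup ∧ (rootC :: treeC.masks).Nodup := by
  have h := (List.nodup_cons.1 nodes_nodup).2
  rw [List.nodup_append'] at h
  obtain ⟨a, h, -⟩ := h
  rw [List.nodup_append'] at h
  exact ⟨a, h.1, h.2.1⟩

theorem base_orbits :
    (MulAction.orbit H₀ (sx rootA)).ncard = 240 ∧ (MulAction.orbit H₀ (sx rootB)).ncard = 1440 ∧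
      (MulAction.orbit H₀ (sx rootC)).ncard = 90 := by
  obtain ⟨vA, vB, vC⟩ := root_values
  refine ⟨?_, ?_, ?_⟩
  · rw [orbit_eq checkA roots_mem.2.1 (by decide +kernel) subA, ncard_image subA nd.1, lengths.1]
    intro n hn h0 hnot
    rcases class_of_node hn h0 with h | h | h <;> first | exact absurd h.1 hnot | omega
  · rw [orbit_eq checkB roots_mem.2.2.1 (by decide +kernel) subB, ncard_image subB nd.2.1, lengths.2.1]
    intro n hn h0 hnot
    rcases class_of_node hn h0 with h | h | h <;> first | exact absurd h.1 hnot | omega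
  · rw [orbit_eq checkC roots_mem.2.2.2 (by decide +kernel) subC, ncard_image subC nd.2.2, lengths.2.2]
    intro n hn h0 hnot
    rcases class_of_node hn h0 with h | h | h <;> first | exact absurd h.1 hnot | omega

theorem base_cover : sextets = {sx m₀} ∪ MulAction.orbit H₀ (sx rootC) ∪
    MulAction.orbit H₀ (sx rootA) ∪ MulAction.orbit H₀ (sx rootB) := by
  refine Set.Subset.antisymm (fun X hX => ?_) ?_
  · obtain ⟨n, hn, rfl⟩ := exists_node hX
    rcases node_cases hn with rfl | h | h | h <;> simp_all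
  · rintro X (((rfl | h) | h) | h)
    · exact sx_mem roots_mem.1
    · exact orbit_sub _ (sx_mem roots_mem.2.2.2) h
    · exact orbit_sub _ (sx_mem roots_mem.2.1) h
    · exact orbit_sub _ (sx_mem roots_mem.2.2.1) h

theorem exists_to_base {S : Finset (Finset GolayPt)} (hS : S ∈ sextets) :
    ∃ a : M24, a • S = sx m₀ := by
  obtain ⟨t, ht⟩ : ∃ t, t ∈ S := Finset.card_pos.1 (by rw [hS.1]; norm_num)
  have ht4 := hS.2.1 t ht
  have h4 : (toSet m₀).card = 4 := by rw [card_toSet]; decide +kernel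
  obtain ⟨g, hg, he⟩ := exists_map (n := 4) (by norm_num)
    (fun i => ((t.equivFinOfCardEq ht4).symm i : GolayPt))
    (fun i => (((toSet m₀).equivFinOfCardEq h4).symm i : GolayPt))
    (fun i j e => (t.equivFinOfCardEq ht4).symm.injective (Subtype.ext e))
    (fun i j e => ((toSet m₀).equivFinOfCardEq h4).symm.injective (Subtype.ext e))
  refine ⟨⟨g, hg⟩, ?_⟩
  have hgt : g • t = toSet m₀ := by
    refine Finset.eq_of_subset_of_card_le ?_ (le_of_eq (by rw [Finset.card_smul_finset, h4, ht4]))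
    intro x hx
    obtain ⟨y, hy, rfl⟩ := Finset.mem_smul_finset.1 hx
    have := he (t.equivFinOfCardEq ht4 ⟨y, hy⟩)
    simp only [Equiv.symm_apply_apply] at this
    rw [Equiv.Perm.smul_def, this]
    exact Subtype.coe_prop _
  show g • S = sx m₀
  rw [eq_sextetOf (smul_sextet hg hS) (hgt ▸ Finset.smul_mem_smul_finset ht)]
  rfl

theorem orbit_transport {S : Finset (Finset GolayPt)} {a : M24} (ha : a • S = sx m₀)
    (X : Finset (Finset GolayPt)) :
    MulAction.orbit ↥(MulAction.stabilizer M24 S) (a⁻¹ • X) = (fun Y => a⁻¹ • Y) '' MulAction.orbit H₀ X := by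
  have hS : a⁻¹ • sx m₀ = S := by rw [← ha, inv_smul_smul]
  ext Y
  constructor
  · rintro ⟨g, rfl⟩
    refine ⟨(a * (g : M24) * a⁻¹) • X, ⟨⟨a * (g : M24) * a⁻¹, ?_⟩, rfl⟩, ?_⟩
    · rw [MulAction.mem_stabilizer_iff, mul_smul, mul_smul, hS, (g.2 : (g : M24) • S = S), ha]
    · show a⁻¹ • _ = (g : M24) • (a⁻¹ • X)
      rw [mul_smul, mul_smul, inv_smul_smul]
  · rintro ⟨_, ⟨g, rfl⟩, rfl⟩
    refine ⟨⟨a⁻¹ * (g : M24) * a, ?_⟩, ?_⟩
    · rw [MulAction.mem_stabilizer_iff, mul_smul, mul_smul, ha, (g.2 : (g : M24) • sx m₀ = sx m₀), hS]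
    · show (a⁻¹ * (g : M24) * a) • (a⁻¹ • X) = a⁻¹ • ((g : M24) • X)
      rw [mul_smul, mul_smul, smul_inv_smul]

theorem orbits (S : Finset (Finset GolayPt)) (hS : S ∈ sextets) :
    ∃ X₁ ∈ sextets, ∃ X₂ ∈ sextets, ∃ X₃ ∈ sextets,
      (MulAction.orbit ↥(MulAction.stabilizer M24 S) X₁).ncard = 90 ∧
      (MulAction.orbit ↥(MulAction.stabilizer M24 S) X₂).ncard = 240 ∧
      (MulAction.orbit ↥(MulAction.stabilizer M24 S) X₃).ncard = 1440 ∧
      sextets = {S} ∪ MulAction.orbit ↥(MulAction.stabilizer M24 S) X₁ ∪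
        MulAction.orbit ↥(MulAction.stabilizer M24 S) X₂ ∪ MulAction.orbit ↥(MulAction.stabilizer M24 S) X₃ ∧
      IsCoatom (MulAction.stabilizer M24 S) := by
  obtain ⟨a, ha⟩ := exists_to_base hS
  obtain ⟨nA, nB, nC⟩ := base_orbits
  have hinj : Function.Injective (fun Y : Finset (Finset GolayPt) => a⁻¹ • Y) := MulAction.injective _
  have himg : (fun Y => a⁻¹ • Y) '' sextets = sextets := by
    ext Y
    constructor
    · rintro ⟨Z, hZ, rfl⟩; exact smul_sextet (a⁻¹).2 hZ
    · exact fun hY => ⟨a • Y, smul_sextet a.2 hY, inv_smul_smul a Y⟩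
  refine ⟨a⁻¹ • sx rootC, smul_sextet (a⁻¹).2 (sx_mem roots_mem.2.2.2), a⁻¹ • sx rootA,
    smul_sextet (a⁻¹).2 (sx_mem roots_mem.2.1), a⁻¹ • sx rootB,
    smul_sextet (a⁻¹).2 (sx_mem roots_mem.2.2.1), ?_, ?_, ?_, ?_, ?_⟩
  · rw [orbit_transport ha, Set.ncard_image_of_injective _ hinj, nC]
  · rw [orbit_transport ha, Set.ncard_image_of_injective _ hinj, nA]
  · rw [orbit_transport ha, Set.ncard_image_of_injective _ hinj, nB]
  · rw [orbit_transport ha, orbit_transport ha, orbit_transport ha,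
      show ({S} : Set (Finset (Finset GolayPt))) = (fun Y => a⁻¹ • Y) '' {sx m₀} by
        rw [Set.image_singleton, ← ha, inv_smul_smul],
      ← Set.image_union, ← Set.image_union, ← Set.image_union, ← base_cover, himg]
  · obtain ⟨vA, vB, vC⟩ := root_values
    have hval : ∀ X ∈ sextets, X = S ∨
        (X ≠ S ∧ a • X ∈ MulAction.orbit H₀ (sx rootC) ∧ N2 S X = 12) ∨
        (X ≠ S ∧ a • X ∈ MulAction.orbit H₀ (sx rootA) ∧ N2 S X = 0) ∨
        (X ≠ S ∧ a • X ∈ MulAction.orbit H₀ (sx rootB) ∧ N2 S X = 4) := by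
      intro X hX
      have hN : N2 S X = N2 (sx m₀) (a • X) := by rw [← ha]; exact (N2_smul _ _ _).symm
      have h := smul_sextet a.2 hX
      change a • X ∈ sextets at h
      rw [base_cover] at h
      by_cases hXS : X = S
      · exact Or.inl hXS
      refine Or.inr ?_
      rcases h with ((h | h) | h) | h
      · exact absurd (MulAction.injective a ((h : a • X = sx m₀).trans ha.symm)) hXS
      · exact Or.inl ⟨hXS, h, hN.trans ((N2_of_orbit h).trans vC)⟩
      · exact Or.inr (Or.inl ⟨hXS, h, hN.trans ((N2_of_orbit h).trans vA)⟩)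
      · exact Or.inr (Or.inr ⟨hXS, h, hN.trans ((N2_of_orbit h).trans vB)⟩)
    classical
    refine SuborbitMaximal.isCoatom_stabilizer (Ω := sextets) (Set.toFinite _)
      (fun g X hX => smul_sextet g.2 hX) hS ?_
      (fun X => if X = S then (0 : Fin 4) else if N2 S X = 12 then 1 else if N2 S X = 0 then 2 else 3)
      ![1, 90, 240, 1440] ?_ ?_ ?_ (by norm_num) (by decide) (by decide)
    · intro X hX
      obtain ⟨b, hb⟩ := exists_to_base hX
      exact ⟨b⁻¹ * a, by rw [mul_smul, ha, ← hb, inv_smul_smul]⟩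
    · intro X hX
      rcases hval X hX with rfl | ⟨hne, -, h⟩ | ⟨hne, -, h⟩ | ⟨hne, -, h⟩ <;> simp [*]
    · intro X hX Y hY e
      have key : ∀ r : ℕ, a • X ∈ MulAction.orbit H₀ (sx r) → a • Y ∈ MulAction.orbit H₀ (sx r) →
          ∃ g : M24, g • S = S ∧ g • X = Y := by
        intro r h1 h2
        rw [← MulAction.orbit_eq_iff.2 h1] at h2
        obtain ⟨g, hg⟩ := h2
        refine ⟨a⁻¹ * (g : M24) * a, ?_, ?_⟩
        · rw [mul_smul, mul_smul, ha, (g.2 : (g : M24) • sx m₀ = sx m₀), ← ha, inv_smul_smul]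
        · rw [mul_smul, mul_smul, inv_smul_eq_iff]; exact hg
      rcases hval X hX with h | ⟨hne, h, h'⟩ | ⟨hne, h, h'⟩ | ⟨hne, h, h'⟩ <;>
        rcases hval Y hY with k | ⟨kne, k, k'⟩ | ⟨kne, k, k'⟩ | ⟨kne, k, k'⟩ <;>
        simp [*] at e <;> first
          | exact ⟨1, one_smul _ _, by rw [one_smul, h, k]⟩
          | exact key _ h k
    · intro j
      have hcls : ∀ (r : ℕ) (v : ℕ), N2 (sx m₀) (sx r) = v → sx r ≠ sx m₀ → r ∈ allNodes →
          (∀ X ∈ sextets, N2 S X = v → X ≠ S → a • X ∈ MulAction.orbit H₀ (sx r)) →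
          {X | X ∈ sextets ∧ (X ≠ S ∧ N2 S X = v)} = (fun Y => a⁻¹ • Y) '' MulAction.orbit H₀ (sx r) := by
        intro r v hv hr hrn hall
        ext X
        constructor
        · rintro ⟨hX, hne, hN⟩
          exact ⟨a • X, hall X hX hN hne, inv_smul_smul a X⟩
        · rintro ⟨Y, hY, rfl⟩
          refine ⟨smul_sextet (a⁻¹).2 (orbit_sub _ (sx_mem hrn) hY), fun e => ?_, ?_⟩
          · have : Y = sx m₀ := by rw [← ha, ← e]; simp
            exact hr (eq_of_orbit_base (this ▸ hY))
          · rw [show S = a⁻¹ • sx m₀ by rw [← ha, inv_smul_smul]]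
            exact (N2_smul _ _ _).trans ((N2_of_orbit hY).trans hv)
      have hne : ∀ r ∈ [rootA, rootB, rootC], sx r ≠ sx m₀ := by
        intro r hr e
        have hh : ∀ r ∈ [rootA, rootB, rootC], r ≠ m₀ := by decide +kernel
        refine hh r hr (sx_inj ?_ roots_mem.1 e)
        simp only [List.mem_cons, List.not_mem_nil, or_false] at hr
        rcases hr with rfl | rfl | rfl
        exacts [roots_mem.2.1, roots_mem.2.2.1, roots_mem.2.2.2]
      fin_cases j
      · refine Eq.trans ?_ (Set.ncard_singleton S)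
        congr 1; ext X
        refine ⟨fun h => ?_, fun h => ?_⟩
        · rcases hval X h.1 with hh | ⟨hh, -, h'⟩ | ⟨hh, -, h'⟩ | ⟨hh, -, h'⟩
          · exact hh
          all_goals exact absurd h.2 (by simp [*])
        · obtain rfl : X = S := h
          exact ⟨hS, by simp⟩
      · refine Eq.trans ?_ ((Set.ncard_image_of_injective _ hinj).trans nC)
        rw [← hcls rootC 12 vC (hne _ (by simp)) roots_mem.2.2.2 fun X hX hN hXS => by
          rcases hval X hX with h | ⟨-, h, h'⟩ | ⟨-, h, h'⟩ | ⟨-, h, h'⟩ <;> first | exact absurd h hXS | exact h | omega]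
        congr 1; ext X
        simp only [Set.mem_ofPred_eq]
        refine and_congr_right fun hX => ?_
        rcases hval X hX with rfl | ⟨hh, -, h'⟩ | ⟨hh, -, h'⟩ | ⟨hh, -, h'⟩ <;> simp [*]
      · refine Eq.trans ?_ ((Set.ncard_image_of_injective _ hinj).trans nA)
        rw [← hcls rootA 0 vA (hne _ (by simp)) roots_mem.2.1 fun X hX hN hXS => by
          rcases hval X hX with h | ⟨-, h, h'⟩ | ⟨-, h, h'⟩ | ⟨-, h, h'⟩ <;> first | exact absurd h hXS | exact h | omega]
        congr 1; ext X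
        simp only [Set.mem_ofPred_eq]
        refine and_congr_right fun hX => ?_
        rcases hval X hX with rfl | ⟨hh, -, h'⟩ | ⟨hh, -, h'⟩ | ⟨hh, -, h'⟩ <;> simp [*]
      · refine Eq.trans ?_ ((Set.ncard_image_of_injective _ hinj).trans nB)
        rw [← hcls rootB 4 vB (hne _ (by simp)) roots_mem.2.2.1 fun X hX hN hXS => by
          rcases hval X hX with h | ⟨-, h, h'⟩ | ⟨-, h, h'⟩ | ⟨-, h, h'⟩ <;> first | exact absurd h hXS | exact h | omega]
        congr 1; ext X
        simp only [Set.mem_ofPred_eq]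
        refine and_congr_right fun hX => ?_
        rcases hval X hX with rfl | ⟨hh, -, h'⟩ | ⟨hh, -, h'⟩ | ⟨hh, -, h'⟩ <;> simp [*]

end CfsgLib.Sporadic.M24Sextet
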