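import Cfsg.Agent.Lib.Sporadic.TrioData
import Cfsg.Agent.Lib.Sporadic.M24Config
import Cfsg.Agent.Lib.Sporadic.Sextets
import Cfsg.Agent.Lib.Sporadic.SuborbitMaximal
import Cfsg.Agent.S1556

/-!
The suborbits of the stabiliser of a trio in `Cfsg.M24`, and its maximality.
-/

set_option autoImplicit false
set_option maxRecDepth 80000

namespace CfsgLib.Sporadic.M24Trio

open Cfsg CfsgLib.SmallGroups.Golay CfsgLib.SmallGroups.GolayOctads
open CfsgLib.SmallGroups.M24Group hiding base
open
  CfsgLib.SmallGroups.Mathieu CfsgLib.Sporadic.M24Orbits CfsgLib.Sporadic.M24Config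
  CfsgLib.Sporadic.Sextets CfsgLib.Sporadic.TrioData
open scoped Pointwise

/-- First octad of a code. -/
def fstO (n : ℕ) : ℕ := enc (n / 4096)

/-- Second octad. -/
def sndO (n : ℕ) : ℕ := enc (n % 4096)

/-- Third octad. -/
def thdO (n : ℕ) : ℕ := (2 ^ 24 - 1) ^^^ fstO n ^^^ sndO n

/-- The trio of a code. -/
def tr (n : ℕ) : Finset (Finset GolayPt) := {toSet (fstO n), toSet (sndO n), toSet (thdO n)}

/-- The code is a trio. -/
def valid (n : ℕ) : Bool :=
  decide (n < 4096 * 4096) && (pc (fstO n) == 8 && pc (sndO n) == 8 && pc (thdO n) == 8) &&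
    (fstO n &&& sndO n == 0 && fstO n &&& thdO n == 0 && sndO n &&& thdO n == 0) &&
    isCW (thdO n)

theorem valid_sound {n : ℕ} (h : valid n = true) :
    tr n ∈ trios ∧ fstO n < 2 ^ 24 ∧ sndO n < 2 ^ 24 ∧ thdO n < 2 ^ 24 := by
  simp only [valid, Bool.and_eq_true, beq_iff_eq, decide_eq_true_iff] at h
  obtain ⟨⟨⟨hlt, ⟨h1, h2⟩, h3⟩, ⟨h12, h13⟩, h23⟩, hc⟩ := h
  have ha := enc_lt (n / 4096) (by omega)
  have hb := enc_lt (n % 4096) (Nat.mod_lt _ (by norm_num))
  have hmem : ∀ k, k < 4096 → pc (enc k) = 8 → toSet (enc k) ∈ octads := fun k hk h =>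
    mem_octads.2 ⟨_, mem_cwOfWeight.2 ⟨mem_cw.2 ⟨k, hk, rfl⟩, h⟩, rfl⟩
  have o1 : toSet (fstO n) ∈ octads := hmem _ (by omega) h1
  have o2 : toSet (sndO n) ∈ octads := hmem _ (Nat.mod_lt _ (by norm_num)) h2
  have o3 : toSet (thdO n) ∈ octads := mem_octads.2 ⟨_, mem_cwOfWeight.2
    ⟨mem_cw.2 ⟨thdO n % 4096, Nat.mod_lt _ (by norm_num), beq_iff_eq.1 hc⟩, h3⟩, rfl⟩
  have hd : ∀ {x y : ℕ}, x &&& y = 0 → Disjoint (toSet x) (toSet y) := fun e => by
    rw [Finset.disjoint_iff_inter_eq_empty, toSet_inter, e]; ext p; simp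
  have hne : ∀ {x y : ℕ}, pc x = 8 → x &&& y = 0 → toSet x ≠ toSet y := fun {x y} hx e he => by
    have := hd e
    rw [← he, disjoint_self] at this
    have h0 := card_toSet x
    rw [this] at h0
    simp [hx] at h0
  refine ⟨⟨Finset.card_eq_three.2 ⟨_, _, _, hne h1 h12, hne h1 h13, hne h2 h23, rfl⟩, ?_, ?_⟩,
    ha.1, hb.1, Nat.xor_lt_two_pow (Nat.xor_lt_two_pow (by norm_num) ha.1) hb.1⟩
  · intro o ho
    simp only [tr, Finset.mem_insert, Finset.mem_singleton] at ho
    rcases ho with rfl | rfl | rfl <;> assumption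
  · intro a' ha' b' hb' hab
    simp only [tr, Finset.mem_insert, Finset.mem_singleton] at ha' hb'
    rcases ha' with rfl | rfl | rfl <;> rcases hb' with rfl | rfl | rfl <;>
      first
      | exact absurd rfl hab
      | exact hd h12
      | exact (hd h12).symm
      | exact hd h13
      | exact (hd h13).symm
      | exact hd h23
      | exact (hd h23).symm

/-- The table carries the trio of `r` to the trio of `m`. -/
def step (t : List ℕ) (r m : ℕ) : Bool :=
  valid r && [fstO r, sndO r, thdO r].all fun o =>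
    img (tblNat t) o == fstO m || img (tblNat t) o == sndO m || img (tblNat t) o == thdO m

theorem step_sound {t : List ℕ} {g : Equiv.Perm GolayPt} (hidx : ∀ p, idx (g p) = tblNat t (idx p))
    {r m : ℕ} (h : step t r m = true) : g • tr r = tr m := by
  simp only [step, Bool.and_eq_true, List.all_eq_true, Bool.or_eq_true, beq_iff_eq, or_assoc] at h
  obtain ⟨hv, hall⟩ := h
  refine Finset.eq_of_subset_of_card_le ?_ ?_
  · intro x hx
    obtain ⟨y, hy, rfl⟩ := Finset.mem_smul_finset.1 hx
    simp only [tr, Finset.mem_insert, Finset.mem_singleton] at hy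
    have key : ∀ o ∈ [fstO r, sndO r, thdO r], g • toSet o ∈ tr m := fun o ho => by
      rw [smul_toSet hidx]
      rcases hall o ho with e | e | e <;> simp [tr, e]
    rcases hy with rfl | rfl | rfl <;> exact key _ (by simp)
  · rw [Finset.card_smul_finset, (valid_sound hv).1.1]
    exact Finset.card_le_three

/-- Every edge of the tree is right. -/
def trCheck (gens : List (List ℕ)) : Tree → ℕ → Bool
  | .leaf, _ => true
  | .node k m c s, r =>
    decide (k < gens.length) && step (gens.getD k []) r m && trCheck gens c m && trCheck gens s r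

theorem gens_ok : (gens.all fun t => okTbl t && step t base base) = true := by decide +kernel

theorem sound : ∀ (T : Tree) (r : ℕ), trCheck gens T r = true → ∀ n ∈ T.masks,
    ∃ g ∈ M24, g • tr base = tr base ∧ g • tr r = tr n := by
  intro T
  induction T with
  | leaf => intro r _ n hn; simp [Tree.masks] at hn
  | node k m c s ihc ihs =>
    intro r hc n hn
    simp only [trCheck, Bool.and_eq_true, decide_eq_true_iff] at hc
    obtain ⟨⟨⟨hk, hm⟩, hcc⟩, hcs⟩ := hc
    have ht := List.all_eq_true.1 gens_ok (gens.getD k []) (by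
      rw [List.getD_eq_getElem _ _ hk]; exact List.getElem_mem hk)
    rw [Bool.and_eq_true] at ht
    obtain ⟨g, hg', hidx⟩ := exists_elt ht.1
    have hfix := step_sound hidx ht.2
    have hroot := step_sound hidx hm
    rcases List.mem_cons.1 hn with rfl | hn
    · exact ⟨g, hg', hfix, hroot⟩
    rcases List.mem_append.1 hn with hn | hn
    · obtain ⟨g', hg'', hfix', he⟩ := ihc m hcc n hn
      exact ⟨g' * g, mul_mem hg'' hg', by rw [mul_smul, hfix, hfix'], by rw [mul_smul, hroot, he]⟩
    · exact ihs r hcs n hn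

/-- Roots of the four non-trivial suborbits. -/
def rootOf : Fin 4 → ℕ := ![rootD, rootC, rootA, rootB]

/-- Their trees. -/
def treeOf : Fin 4 → Tree := ![treeD, treeC, treeA, treeB]

/-- Their lengths. -/
def lenOf : Fin 4 → ℕ := ![42, 56, 1008, 2688]

/-- Their invariants. -/
def valOf : Fin 4 → ℕ := ![128, 96, 80, 72]

/-- The nodes of one suborbit. -/
def nodesOf (i : Fin 4) : List ℕ := rootOf i :: (treeOf i).masks

/-- The nodes of all suborbits. -/
def allNodes : List ℕ := base :: (nodesOf 0 ++ (nodesOf 1 ++ (nodesOf 2 ++ nodesOf 3)))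

theorem checks : ∀ i, trCheck gens (treeOf i) (rootOf i) = true := by decide +kernel

theorem lengths : (∀ i, (nodesOf i).length = lenOf i) ∧ allNodes.length = 3795 := by decide +kernel

theorem nodes_ok : ∀ n ∈ allNodes, valid n = true ∧ (fstO n).testBit 23 = true ∧ sndO n < thdO n := by
  decide +kernel

/-- A hash for the nodup test. -/
def hash (n : ℕ) : ℕ := (n + n / 4096 * 7) % 64

theorem nodes_buckets : ∀ b < 64, (allNodes.filter fun n => hash n == b).Nodup := by decide +kernel

theorem nodes_nodup : allNodes.Nodup := by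
  refine List.nodup_iff_count_le_one.2 fun a => ?_
  have h := List.nodup_iff_count_le_one.1 (nodes_buckets (hash a) (Nat.mod_lt _ (by norm_num))) a
  rwa [List.count_filter (by simp)] at h

theorem key_inj {a b : ℕ} (ha : valid a = true) (hb : valid b = true) (h1 : fstO a = fstO b)
    (h2 : sndO a = sndO b) : a = b := by
  have hla : a < 4096 * 4096 := by
    simp only [valid, Bool.and_eq_true, decide_eq_true_iff] at ha; exact ha.1.1.1
  have hlb : b < 4096 * 4096 := by
    simp only [valid, Bool.and_eq_true, decide_eq_true_iff] at hb; exact hb.1.1.1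
  have e1 := (enc_lt (a / 4096) (by omega)).2
  have e2 := (enc_lt (b / 4096) (by omega)).2
  have e3 := (enc_lt (a % 4096) (Nat.mod_lt _ (by norm_num))).2
  have e4 := (enc_lt (b % 4096) (Nat.mod_lt _ (by norm_num))).2
  rw [fstO, fstO] at h1
  rw [sndO, sndO] at h2
  rw [h1] at e1
  rw [h2] at e3
  omega

theorem tr_inj {a b : ℕ} (ha : a ∈ allNodes) (hb : b ∈ allNodes) (h : tr a = tr b) : a = b := by
  obtain ⟨va, ta, la⟩ := nodes_ok a ha
  obtain ⟨vb, tb, lb⟩ := nodes_ok b hb
  obtain ⟨hTa, a1, a2, a3⟩ := valid_sound va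
  obtain ⟨hTb, b1, b2, b3⟩ := valid_sound vb
  have hp : ∀ n, (fstO n).testBit 23 = true → pt 23 ∈ toSet (fstO n) := fun n hn => by
    rw [mem_toSet, idx_pt (show 23 < 24 by norm_num)]; exact hn
  have m1 : toSet (fstO a) ∈ tr b := h ▸ by simp [tr]
  have hf : fstO a = fstO b := toSet_inj a1 b1 (by
    by_contra hne
    exact Finset.disjoint_left.1 (hTb.2.2 _ m1 _ (by simp [tr]) hne) (hp a ta) (hp b tb))
  refine key_inj va vb hf ?_
  have m2 : toSet (sndO a) ∈ tr b := h ▸ by simp [tr]
  have m3 : toSet (thdO a) ∈ tr b := h ▸ by simp [tr]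
  have hne2 : toSet (sndO a) ≠ toSet (fstO b) := fun e => by
    have := hTa.1
    rw [tr, ← hf] at *
    rw [e] at this
    have h2 : ({toSet (fstO a), toSet (fstO a), toSet (thdO a)} : Finset (Finset GolayPt)).card ≤ 2 := by
      rw [Finset.insert_eq_of_mem (Finset.mem_insert_self _ _)]; exact Finset.card_le_two
    omega
  simp only [tr, Finset.mem_insert, Finset.mem_singleton] at m2
  rcases m2 with e | e | e
  · exact absurd e hne2
  · exact toSet_inj a2 b2 e
  · have h3 : thdO a = sndO b := by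
      have e' : sndO a = thdO b := toSet_inj a2 b3 e
      have : thdO a ^^^ sndO b = 0 := by
        unfold thdO at e' ⊢
        rw [e', hf]
        generalize (2 : ℕ) ^ 24 - 1 ^^^ fstO b = u
        rw [← Nat.xor_assoc u u, Nat.xor_self, Nat.zero_xor, Nat.xor_self]
      exact Nat.xor_eq_zero_iff.1 this
    have e' : sndO a = thdO b := toSet_inj a2 b3 e
    omega

theorem tr_mem {n : ℕ} (hn : n ∈ allNodes) : tr n ∈ trios := (valid_sound (nodes_ok n hn).1).1

theorem smul_trio {g : Equiv.Perm GolayPt} (hg : g ∈ M24) {T : Finset (Finset GolayPt)} (hT : T ∈ trios) :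
    g • T ∈ trios := by
  obtain ⟨h3, ho, hd⟩ := hT
  refine ⟨(Finset.card_smul_finset g T).trans h3, ?_, ?_⟩
  · intro o ho'
    obtain ⟨u, hu, rfl⟩ := Finset.mem_smul_finset.1 ho'
    exact smul_mem_weight hg (ho u hu)
  · intro o ho' o' ho'' hne
    obtain ⟨a, ha, rfl⟩ := Finset.mem_smul_finset.1 ho'
    obtain ⟨b, hb, rfl⟩ := Finset.mem_smul_finset.1 ho''
    rw [smul_eq_image, smul_eq_image, Finset.disjoint_image g.injective]
    exact hd a ha b hb fun e => hne (e ▸ rfl)
where
  smul_eq_image {g : Equiv.Perm GolayPt} {S : Finset GolayPt} : g • S = S.image g := rfl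

theorem exists_node {X : Finset (Finset GolayPt)} (hX : X ∈ trios) : ∃ n ∈ allNodes, tr n = X := by
  classical
  have hsub : ↑(allNodes.toFinset.image tr) ⊆ trios := by
    intro Y hY
    simp only [Finset.coe_image, Set.mem_image, Finset.mem_coe, List.mem_toFinset] at hY
    obtain ⟨n, hn, rfl⟩ := hY
    exact tr_mem hn
  have hc : (allNodes.toFinset.image tr).card = 3795 := by
    rw [Finset.card_image_of_injOn fun a ha b hb => tr_inj (List.mem_toFinset.1 ha) (List.mem_toFinset.1 hb),
      List.toFinset_card_of_nodup nodes_nodup, lengths.2]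
  have e := Set.eq_of_subset_of_ncard_le hsub (by rw [Set.ncard_coe_finset, hc, ncard_trios])
    (Set.toFinite _)
  rw [← e] at hX
  simpa using hX

/-- The sum of the squared intersection sizes. -/
def W (S X : Finset (Finset GolayPt)) : ℕ := ∑ p ∈ S ×ˢ X, (p.1 ∩ p.2).card ^ 2

theorem W_smul (g : Equiv.Perm GolayPt) (S X : Finset (Finset GolayPt)) : W (g • S) (g • X) = W S X := by
  symm
  refine Finset.sum_bij' (fun p _ => (g • p.1, g • p.2)) (fun p _ => (g⁻¹ • p.1, g⁻¹ • p.2))
    ?_ ?_ ?_ ?_ ?_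
  · intro p hp
    simp only [Finset.mem_product] at hp ⊢
    exact ⟨Finset.smul_mem_smul_finset hp.1, Finset.smul_mem_smul_finset hp.2⟩
  · intro p hp
    simp only [Finset.mem_product] at hp ⊢
    exact ⟨Finset.inv_smul_mem_iff.2 hp.1, Finset.inv_smul_mem_iff.2 hp.2⟩
  · intro p _; simp
  · intro p _; simp
  · intro p _; rw [card_inter_smul]

theorem root_values : ∀ i, W (tr base) (tr (rootOf i)) = valOf i := by decide +kernel

/-- The stabiliser of the base trio. -/
abbrev H₀ : Subgroup M24 := MulAction.stabilizer M24 (tr base)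

theorem root_mem : ∀ i, rootOf i ∈ allNodes ∧ ∀ n ∈ nodesOf i, n ∈ allNodes := by
  intro i
  have h : ∀ n ∈ nodesOf i, n ∈ allNodes := fun n hn => by
    refine List.mem_cons_of_mem _ ?_
    fin_cases i <;> simp_all [List.mem_append]
  exact ⟨h _ (List.mem_cons_self ..), h⟩

theorem orbit_nodes {i : Fin 4} {n : ℕ} (hn : n ∈ nodesOf i) :
    tr n ∈ MulAction.orbit H₀ (tr (rootOf i)) := by
  rcases List.mem_cons.1 hn with rfl | hn
  · exact MulAction.mem_orbit_self _
  · obtain ⟨g, hg, h0, he⟩ := sound _ _ (checks i) n hn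
    exact ⟨⟨⟨g, hg⟩, h0⟩, he⟩

theorem W_of_orbit {X Y : Finset (Finset GolayPt)} (h : Y ∈ MulAction.orbit H₀ X) :
    W (tr base) Y = W (tr base) X := by
  obtain ⟨g, rfl⟩ := h
  conv_lhs => rw [← (g.2 : (g : M24) • tr base = tr base)]
  exact W_smul _ _ _

theorem class_of_node {n : ℕ} (hn : n ∈ allNodes) :
    n = base ∨ ∃ i, n ∈ nodesOf i ∧ W (tr base) (tr n) = valOf i := by
  have key : ∀ i, n ∈ nodesOf i → n = base ∨ ∃ i, n ∈ nodesOf i ∧ W (tr base) (tr n) = valOf i :=
    fun i hi => Or.inr ⟨i, hi, (W_of_orbit (orbit_nodes hi)).trans (root_values i)⟩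
  rcases List.mem_cons.1 hn with h | h
  · exact Or.inl h
  rcases List.mem_append.1 h with h | h
  · exact key 0 h
  rcases List.mem_append.1 h with h | h
  · exact key 1 h
  rcases List.mem_append.1 h with h | h
  · exact key 2 h
  · exact key 3 h

theorem valOf_injective : Function.Injective valOf := by decide

theorem base_value : W (tr base) (tr base) = 192 ∧ ∀ i, valOf i ≠ 192 := by decide +kernel

theorem orbit_sub {X : Finset (Finset GolayPt)} (hX : X ∈ trios) : MulAction.orbit H₀ X ⊆ trios := by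
  rintro _ ⟨g, rfl⟩; exact smul_trio (g : M24).2 hX

theorem orbit_eq (i : Fin 4) :
    MulAction.orbit H₀ (tr (rootOf i)) = {X | X ∈ trios ∧ W (tr base) X = valOf i} := by
  refine Set.Subset.antisymm (fun X hX => ⟨orbit_sub (tr_mem (root_mem i).1) hX,
    (W_of_orbit hX).trans (root_values i)⟩) ?_
  rintro X ⟨hX, hW⟩
  obtain ⟨n, hn, rfl⟩ := exists_node hX
  rcases class_of_node hn with rfl | ⟨j, hj, hv⟩
  · exact absurd (hW.symm.trans base_value.1) (base_value.2 i)
  · rw [hv] at hW
    exact valOf_injective hW ▸ orbit_nodes hj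

theorem nd : ∀ i, (nodesOf i).Nodup := by
  have h := (List.nodup_cons.1 nodes_nodup).2
  rw [List.nodup_append'] at h
  obtain ⟨a, h, -⟩ := h
  rw [List.nodup_append'] at h
  obtain ⟨b, h, -⟩ := h
  rw [List.nodup_append'] at h
  intro i
  fin_cases i
  exacts [a, b, h.1, h.2.1]

theorem ncard_class (i : Fin 4) : {X | X ∈ trios ∧ W (tr base) X = valOf i}.ncard = lenOf i := by
  classical
  have e : {X | X ∈ trios ∧ W (tr base) X = valOf i} = ↑((nodesOf i).toFinset.image tr) := by
    ext X
    simp only [Set.mem_ofPred_eq, Finset.coe_image, Set.mem_image, Finset.mem_coe, List.mem_toFinset]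
    constructor
    · rintro ⟨hX, hW⟩
      obtain ⟨n, hn, rfl⟩ := exists_node hX
      rcases class_of_node hn with rfl | ⟨j, hj, hv⟩
      · exact absurd (hW.symm.trans base_value.1) (base_value.2 i)
      · rw [hv] at hW
        exact ⟨n, valOf_injective hW ▸ hj, rfl⟩
    · rintro ⟨n, hn, rfl⟩
      exact ⟨tr_mem ((root_mem i).2 n hn), (W_of_orbit (orbit_nodes hn)).trans (root_values i)⟩
  rw [e, Set.ncard_coe_finset, Finset.card_image_of_injOn, List.toFinset_card_of_nodup (nd i), lengths.1]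
  intro a ha b hb hab
  exact tr_inj ((root_mem i).2 a (List.mem_toFinset.1 ha)) ((root_mem i).2 b (List.mem_toFinset.1 hb)) hab

theorem exists_to_base {X : Finset (Finset GolayPt)} (hX : X ∈ trios) : ∃ a : M24, a • X = tr base := by
  obtain ⟨o, ho⟩ : ∃ o, o ∈ X := Finset.card_pos.1 (by rw [hX.1]; norm_num)
  have hb : tr base ∈ trios := tr_mem (List.mem_cons_self ..)
  have ho₀ : toSet (fstO base) ∈ tr base := by simp [tr]
  obtain ⟨g, hg⟩ := octads_transitive (hX.2.1 o ho) (hb.2.1 _ ho₀)
  set Y := g • X with hY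
  have hYm : Y ∈ trios := smul_trio g.2 hX
  have hoY : toSet (fstO base) ∈ Y := hg ▸ Finset.smul_mem_smul_finset ho
  obtain ⟨u, hu, hune⟩ := Finset.exists_mem_ne (s := Y) (by rw [hYm.1]; norm_num) (toSet (fstO base))
  obtain ⟨v, hv, hvne⟩ := Finset.exists_mem_ne (s := tr base) (by rw [hb.1]; norm_num) (toSet (fstO base))
  have h0 : ∀ {Z : Finset (Finset GolayPt)} {w : Finset GolayPt}, Z ∈ trios → toSet (fstO base) ∈ Z →
      w ∈ Z → w ≠ toSet (fstO base) → (toSet (fstO base) ∩ w).card = 0 := fun hZ h1 h2 h3 => by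
    rw [Finset.card_eq_zero, ← Finset.disjoint_iff_inter_eq_empty]
    exact hZ.2.2 _ h1 _ h2 (Ne.symm h3)
  obtain ⟨k, hk, hk1, hk2⟩ := Cfsg.Agent.S1556.result (toSet (fstO base)) u v (hb.2.1 _ ho₀) (hYm.2.1 u hu)
    (hb.2.1 v hv) ((h0 hYm hoY hu hune).trans (h0 hb ho₀ hv hvne).symm)
  refine ⟨⟨k, hk⟩ * g, ?_⟩
  rw [mul_smul]
  show k • Y = tr base
  have hmem1 : toSet (fstO base) ∈ k • Y := hk1 ▸ Finset.smul_mem_smul_finset hoY
  have hmem2 : v ∈ k • Y := hk2 ▸ Finset.smul_mem_smul_finset hu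
  have hkY := smul_trio hk hYm
  -- the third octad is determined by the other two
  obtain ⟨w, hw, hw1, hw2⟩ : ∃ w ∈ tr base, w ≠ toSet (fstO base) ∧ w ≠ v := by
    obtain ⟨w, hw, hw'⟩ := Finset.exists_mem_notMem_of_card_lt_card (s := {toSet (fstO base), v}) (t := tr base)
      (by rw [hb.1]; exact lt_of_le_of_lt Finset.card_le_two (by norm_num))
    simp only [Finset.mem_insert, Finset.mem_singleton, not_or] at hw'
    exact ⟨w, hw, hw'⟩
  obtain ⟨w', hw', hw1', hw2'⟩ : ∃ w ∈ k • Y, w ≠ toSet (fstO base) ∧ w ≠ v := by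
    obtain ⟨w, hw, hw'⟩ := Finset.exists_mem_notMem_of_card_lt_card (s := {toSet (fstO base), v}) (t := k • Y)
      (by rw [hkY.1]; exact lt_of_le_of_lt Finset.card_le_two (by norm_num))
    simp only [Finset.mem_insert, Finset.mem_singleton, not_or] at hw'
    exact ⟨w, hw, hw'⟩
  have third : ∀ {Z : Finset (Finset GolayPt)} {z : Finset GolayPt}, Z ∈ trios → toSet (fstO base) ∈ Z →
      v ∈ Z → z ∈ Z → z ≠ toSet (fstO base) → z ≠ v → z = (toSet (fstO base) ∪ v)ᶜ := by
    intro Z z hZ h1 h2 hz hz1 hz2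
    refine Finset.eq_of_subset_of_card_le (fun p hp => ?_) ?_
    · simp only [Finset.mem_compl, Finset.mem_union, not_or]
      exact ⟨Finset.disjoint_left.1 (hZ.2.2 z hz _ h1 hz1) hp, Finset.disjoint_left.1 (hZ.2.2 z hz v h2 hz2) hp⟩
    · rw [(third_octad (hZ.2.1 _ h1) (hZ.2.1 v h2) (hZ.2.2 _ h1 v h2 (Ne.symm hvne))).2, (hZ.2.1 z hz).2]
  have hww : w' = w :=
    (third hkY hmem1 hmem2 hw' hw1' hw2').trans (third hb ho₀ hv hw hw1 hw2).symm
  have hsub : ({toSet (fstO base), v, w} : Finset (Finset GolayPt)).card = 3 :=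
    Finset.card_eq_three.2 ⟨_, _, _, Ne.symm hvne, Ne.symm hw1, Ne.symm hw2, rfl⟩
  have e1 : ({toSet (fstO base), v, w} : Finset (Finset GolayPt)) = k • Y :=
    Finset.eq_of_subset_of_card_le (by
      simp only [Finset.insert_subset_iff, Finset.singleton_subset_iff]
      exact ⟨hmem1, hmem2, hww ▸ hw'⟩) (by rw [hsub, hkY.1])
  have e2 : ({toSet (fstO base), v, w} : Finset (Finset GolayPt)) = tr base :=
    Finset.eq_of_subset_of_card_le (by
      simp only [Finset.insert_subset_iff, Finset.singleton_subset_iff]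
      exact ⟨ho₀, hv, hw⟩) (by rw [hsub, hb.1])
  exact e1.symm.trans e2

theorem orbits (T : Finset (Finset GolayPt)) (hT : T ∈ trios) :
    ∃ X₁ ∈ trios, ∃ X₂ ∈ trios, ∃ X₃ ∈ trios, ∃ X₄ ∈ trios,
      (MulAction.orbit ↥(MulAction.stabilizer M24 T) X₁).ncard = 42 ∧
      (MulAction.orbit ↥(MulAction.stabilizer M24 T) X₂).ncard = 56 ∧
      (MulAction.orbit ↥(MulAction.stabilizer M24 T) X₃).ncard = 1008 ∧
      (MulAction.orbit ↥(MulAction.stabilizer M24 T) X₄).ncard = 2688 ∧
      trios = {T} ∪ MulAction.orbit ↥(MulAction.stabilizer M24 T) X₁ ∪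
        MulAction.orbit ↥(MulAction.stabilizer M24 T) X₂ ∪ MulAction.orbit ↥(MulAction.stabilizer M24 T) X₃ ∪
        MulAction.orbit ↥(MulAction.stabilizer M24 T) X₄ ∧
      IsCoatom (MulAction.stabilizer M24 T) := by
  classical
  obtain ⟨a, ha⟩ := exists_to_base hT
  have hT' : a⁻¹ • tr base = T := by rw [← ha, inv_smul_smul]
  have hmemT : ∀ i, a⁻¹ • tr (rootOf i) ∈ trios := fun i => smul_trio (a⁻¹).2 (tr_mem (root_mem i).1)
  have hWT : ∀ X, W T X = W (tr base) (a • X) := fun X => by rw [← ha]; exact (W_smul _ _ _).symm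
  have horb : ∀ i, MulAction.orbit ↥(MulAction.stabilizer M24 T) (a⁻¹ • tr (rootOf i)) =
      {X | X ∈ trios ∧ W T X = valOf i} := by
    intro i
    ext X
    constructor
    · rintro ⟨g, rfl⟩
      refine ⟨smul_trio (g : M24).2 (hmemT i), ?_⟩
      rw [hWT]
      refine (W_of_orbit ⟨⟨a * (g : M24) * a⁻¹, ?_⟩, ?_⟩).trans (root_values i)
      · rw [MulAction.mem_stabilizer_iff, mul_smul, mul_smul, hT', (g.2 : (g : M24) • T = T), ha]
      · show (a * (g : M24) * a⁻¹) • tr (rootOf i) = a • ((g : M24) • (a⁻¹ • tr (rootOf i)))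
        rw [mul_smul, mul_smul]
    · rintro ⟨hX, hW⟩
      have : a • X ∈ MulAction.orbit H₀ (tr (rootOf i)) := by
        rw [orbit_eq]; exact ⟨smul_trio a.2 hX, by rw [← hWT]; exact hW⟩
      obtain ⟨g, hg⟩ := this
      refine ⟨⟨a⁻¹ * (g : M24) * a, ?_⟩, ?_⟩
      · rw [MulAction.mem_stabilizer_iff, mul_smul, mul_smul, ha, (g.2 : (g : M24) • tr base = tr base), hT']
      · show (a⁻¹ * (g : M24) * a) • (a⁻¹ • tr (rootOf i)) = X
        rw [mul_smul, mul_smul, smul_inv_smul, inv_smul_eq_iff]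
        exact hg
  have hn : ∀ i, (MulAction.orbit ↥(MulAction.stabilizer M24 T) (a⁻¹ • tr (rootOf i))).ncard = lenOf i := by
    intro i
    rw [horb, ← ncard_class i]
    refine Set.ncard_congr (fun X _ => a • X) ?_ (fun _ _ _ _ e => MulAction.injective a e) ?_
    · exact fun X hX => ⟨smul_trio a.2 hX.1, (hWT X).symm.trans hX.2⟩
    · exact fun Y hY => ⟨a⁻¹ • Y, ⟨smul_trio (a⁻¹).2 hY.1, by rw [hWT, smul_inv_smul]; exact hY.2⟩,
        smul_inv_smul a Y⟩
  have hcases : ∀ X ∈ trios, X = T ∨ ∃ i, X ≠ T ∧ W T X = valOf i := by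
    intro X hX
    obtain ⟨n, hn, he⟩ := exists_node (X := a • X) (smul_trio a.2 hX)
    by_cases hXT : X = T
    · exact Or.inl hXT
    refine Or.inr ?_
    rcases class_of_node hn with rfl | ⟨i, -, hi⟩
    · exact absurd (MulAction.injective a (he.symm.trans ha.symm)) hXT
    · exact ⟨i, hXT, by rw [hWT, ← he]; exact hi⟩
  have hTT : W T T = 192 := by rw [hWT, ha]; exact base_value.1
  refine ⟨_, hmemT 0, _, hmemT 1, _, hmemT 2, _, hmemT 3, hn 0, hn 1, hn 2, hn 3, ?_, ?_⟩
  · rw [horb, horb, horb, horb]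
    ext X
    constructor
    · intro hX
      rcases hcases X hX with rfl | ⟨i, -, hi⟩
      · simp
      · fin_cases i <;> simp_all
    · rintro ((((rfl | h) | h) | h) | h) <;> first | exact hT | exact h.1
  · let cls : Finset (Finset GolayPt) → Fin 5 := fun X =>
      if X = T then 0 else if W T X = 128 then 1 else if W T X = 96 then 2 else if W T X = 80 then 3 else 4
    have hcls : ∀ X ∈ trios, X ≠ T → ∀ i, W T X = valOf i → cls X = i.succ := by
      intro X _ hne i hi
      fin_cases i <;> simp [cls, hne, hi, valOf] <;> rfl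
    refine SuborbitMaximal.isCoatom_stabilizer (Ω := trios) (Set.toFinite _)
      (fun g X hX => smul_trio g.2 hX) hT ?_ cls ![1, 42, 56, 1008, 2688] ?_ ?_ ?_ (by norm_num)
      (by decide) (by decide)
    · intro X hX
      obtain ⟨b, hb⟩ := exists_to_base hX
      exact ⟨b⁻¹ * a, by rw [mul_smul, ha, ← hb, inv_smul_smul]⟩
    · intro X hX
      refine ⟨fun h => ?_, fun h => by simp [cls, h]⟩
      rcases hcases X hX with h' | ⟨i, hne, hi⟩
      · exact h'
      · rw [hcls X hX hne i hi] at h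
        exact absurd h (Fin.succ_ne_zero i)
    · intro X hX Y hY e
      rcases hcases X hX with rfl | ⟨i, hne, hi⟩
      · rcases hcases Y hY with rfl | ⟨j, hne', hj⟩
        · exact ⟨1, one_smul _ _, one_smul _ _⟩
        · rw [hcls Y hY hne' j hj] at e
          simp [cls] at e
          exact absurd e.symm (Fin.succ_ne_zero j)
      · rcases hcases Y hY with rfl | ⟨j, hne', hj⟩
        · rw [hcls X hX hne i hi] at e
          simp [cls] at e
        · rw [hcls X hX hne i hi, hcls Y hY hne' j hj] at e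
          obtain rfl := Fin.succ_injective _ e
          have h1 : X ∈ MulAction.orbit ↥(MulAction.stabilizer M24 T) (a⁻¹ • tr (rootOf i)) := by
            rw [horb]; exact ⟨hX, hi⟩
          have h2 : Y ∈ MulAction.orbit ↥(MulAction.stabilizer M24 T) (a⁻¹ • tr (rootOf i)) := by
            rw [horb]; exact ⟨hY, hj⟩
          rw [← MulAction.orbit_eq_iff.2 h1] at h2
          obtain ⟨g, hg⟩ := h2
          exact ⟨g, g.2, hg⟩
    · intro j
      induction j using Fin.cases with
      | zero =>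
        refine Eq.trans ?_ (Set.ncard_singleton T)
        congr 1
        ext X
        refine ⟨fun h => ?_, fun h => ?_⟩
        · rcases hcases X h.1 with h' | ⟨i, hne, hi⟩
          · exact h'
          · exact absurd ((hcls X h.1 hne i hi).symm.trans h.2) (Fin.succ_ne_zero i)
        · obtain rfl : X = T := h
          exact ⟨hT, by simp [cls]⟩
      | succ i =>
        have e : {X | X ∈ trios ∧ cls X = i.succ} = {X | X ∈ trios ∧ W T X = valOf i} := by
          ext X
          refine and_congr_right fun hX => ⟨fun h => ?_, fun h => ?_⟩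
          · rcases hcases X hX with rfl | ⟨k, hne, hk⟩
            · simp [cls] at h
              exact absurd h.symm (Fin.succ_ne_zero i)
            · rw [hcls X hX hne k hk] at h
              rwa [← Fin.succ_injective _ h]
          · refine hcls X hX (fun e => ?_) i h
            rw [e, hTT] at h
            exact base_value.2 i h.symm
        rw [e, ← horb, hn]
        fin_cases i <;> rfl

end CfsgLib.Sporadic.M24Trio
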