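import Cfsg.Agent.Lib.Sporadic.FiUnitaryChecks
import Cfsg.Agent.S0280
import Cfsg.Agent.S0283
import Cfsg.Prelude.Def_SporadicB

/-!
# The subgroup of index 3510 of Fi22 is a non-split double cover of U6(2)
-/

set_option maxRecDepth 100000

open Cfsg.Spor Matrix

namespace CfsgLib.Sporadic.CosetCert.FiP

/-- The number of points of the small table. -/
noncomputable abbrev NU : ℕ := FiUnitaryData.table.N

theorem pointOf_lt (u : Fin FiData.table.N) : pointOf u < NU := by
  have h2 := of_allBelow pointOf_bound u u.2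
  simp only [Nat.blt_eq] at h2
  exact h2

/-- The point of a coset. -/
noncomputable def pnt (u : Fin FiData.table.N) : Fin NU := ⟨pointOf u, pointOf_lt u⟩

theorem pnt_surjective : Function.Surjective pnt := by
  intro p
  have h2 := of_allBelow cosetTab_ok p p.2
  simp only [Bool.and_eq_true, Nat.blt_eq] at h2
  exact ⟨⟨_, h2.1⟩, Fin.ext (Nat.eq_of_beq_eq_true h2.2)⟩

/-- The generators of the subgroup. -/
noncomputable def genU (i : ℕ) : grpH :=
  if h : i < wordsH.length then
    ⟨PresentedGroup.mk _ (wordsH[i]), Subgroup.subset_closure ⟨_, List.getElem_mem h, rfl⟩⟩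
  else 1

theorem vecPt_spec (v : VecSix) :
    vecPt v < NU ∧ (∀ k : FieldFour, k ≠ 0 → vecPt (k • v) = vecPt v) ∧
      (Cfsg.hermForm 6 FieldFour 2 v v = 0 → ∃ k : FieldFour, k ≠ 0 ∧ k • v = ptVec (vecPt v)) ∧
      (Cfsg.hermForm 6 FieldFour 2 v v ≠ 0 → vecPt v = 693) := by
  have h := of_allBelow vecs_ok _ (codeVec_vecCode v).2
  simp only [vecCheck, (codeVec_vecCode v).1, Bool.and_eq_true, decide_eq_true_eq,
    List.all_eq_true] at h
  obtain ⟨⟨h1, h2⟩, h3⟩ := h
  refine ⟨h1, fun k hk => h2 k ((mem_units4 k).2 hk), fun h0 => ?_, fun h0 => ?_⟩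
  · rw [show decide (Cfsg.hermForm 6 FieldFour 2 v v = 0) = true from decide_eq_true h0] at h3
    simp only [cond_true, List.any_eq_true, decide_eq_true_eq] at h3
    obtain ⟨k, hk, e⟩ := h3
    exact ⟨k, (mem_units4 k).1 hk, e⟩
  · rw [show decide (Cfsg.hermForm 6 FieldFour 2 v v = 0) = false from decide_eq_false h0] at h3
    simpa using h3

theorem vecPt_ptVec {p : ℕ} (hp : p < NU) : vecPt (ptVec p) = p :=
  Nat.eq_of_beq_eq_true (of_allBelow pts_ok p hp)

attribute [local irreducible] vecPt ptVec matU pointOf rowU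

/-- The special unitary group. -/
noncomputable abbrev SU6 : Type := ↥(Cfsg.SU 6 FieldFour 2)

/-- The matrix of an element. -/
noncomputable abbrev suMat (g : SU6) : Matrix (Fin 6) (Fin 6) FieldFour := Cfsg.slToMat 6 FieldFour g.1

/-- The point of the image of a point. -/
noncomputable def suMap (g : SU6) (p : Fin NU) : Fin NU :=
  ⟨vecPt (suMat g *ᵥ ptVec p), (vecPt_spec _).1⟩

theorem suMap_one (p : Fin NU) : suMap 1 p = p := by
  apply Fin.ext
  show vecPt (Cfsg.slToMat 6 FieldFour 1 *ᵥ ptVec p) = p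
  rw [map_one, Matrix.one_mulVec, vecPt_ptVec p.2]

theorem suMap_mul (g h : SU6) (p : Fin NU) : suMap (g * h) p = suMap g (suMap h p) := by
  apply Fin.ext
  simp only [suMap, suMat, Subgroup.coe_mul, map_mul, ← Matrix.mulVec_mulVec]
  by_cases h0 : Cfsg.hermForm 6 FieldFour 2 (suMat h *ᵥ ptVec p) (suMat h *ᵥ ptVec p) = 0
  · obtain ⟨k, hk, e⟩ := (vecPt_spec (suMat h *ᵥ ptVec p)).2.2.1 h0
    rw [← e, Matrix.mulVec_smul, (vecPt_spec _).2.1 k hk]
  · rw [(vecPt_spec _).2.2.2 h0, ptVec_last.1, Matrix.mulVec_zero, ptVec_last.2]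
    refine (vecPt_spec _).2.2.2 ?_
    show Cfsg.hermForm 6 FieldFour 2 (suMat g *ᵥ _) (suMat g *ᵥ _) ≠ 0
    rw [g.2]
    exact h0

/-- The action of the special unitary group on the points. -/
noncomputable def suAct : SU6 →* Equiv.Perm (Fin NU) where
  toFun g :=
    { toFun := suMap g
      invFun := suMap g⁻¹
      left_inv := fun p => by rw [← suMap_mul, inv_mul_cancel, suMap_one]
      right_inv := fun p => by rw [← suMap_mul, mul_inv_cancel, suMap_one] }
  map_one' := Equiv.ext suMap_one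
  map_mul' g h := Equiv.ext (suMap_mul g h)

theorem hom_genU {i : ℕ} (hi : i < 9) (v : Fin FiData.table.N) :
    ((hom (genU i : Fi22) v : Fin FiData.table.N) : ℕ) = FiData.table.img (rowU i) v := by
  have hi' : i < wordsH.length := hi
  have h := of_allBelow (genCheck_ok i hi) v v.2
  simp only [Bool.and_eq_true] at h
  rw [show ((genU i : grpH) : Fi22) = PresentedGroup.mk _ (wordsH[i]) by rw [genU, dif_pos hi'],
    hom_words _ (List.getElem_mem hi') v, ← Nat.eq_of_beq_eq_true h.1, List.getD_eq_getElem _ _ hi']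

theorem equivU (i : ℕ) (hi : i < 9) :
    ∃ π : Equiv.Perm (Fin NU), (∀ u, pnt (hom (genU i : Fi22) u) = π (pnt u)) ∧
      ∀ p : Fin NU, (π p : ℕ) = FiUnitaryData.table.img i p := by
  have hT : ∀ u < FiUnitaryData.table.N, ∀ x < FiUnitaryData.table.nl,
      FiUnitaryData.table.inv x < FiUnitaryData.table.nl ∧
        FiUnitaryData.table.img x u < FiUnitaryData.table.N ∧
        FiUnitaryData.table.img (FiUnitaryData.table.inv x) (FiUnitaryData.table.img x u) = u :=
    fun u hu x hx => genOK_spec FiUnitaryData.table_gen u (Nat.zero_le _) (Nat.lt_of_lt_of_eq hu rfl) x hx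
  have hi' : i < FiUnitaryData.table.nl := hi
  refine ⟨letterPerm FiUnitaryData.table hT i, fun u => ?_, fun p => ?_⟩
  · apply Fin.ext
    have h := of_allBelow (genCheck_ok i hi) u u.2
    simp only [Bool.and_eq_true] at h
    show pointOf ((hom (genU i : Fi22) u : Fin FiData.table.N) : ℕ) = _
    rw [hom_genU hi, letterPerm, dif_pos hi']
    exact Nat.eq_of_beq_eq_true h.2
  · rw [letterPerm, dif_pos hi']
    rfl

theorem equivU_all : ∀ h ∈ grpH,
    ∃ π : Equiv.Perm (Fin NU), ∀ u, pnt (hom h u) = π (pnt u) := by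
  intro h hh
  induction hh using Subgroup.closure_induction with
  | mem h hh =>
    obtain ⟨r, hr, rfl⟩ := hh
    obtain ⟨i, hi, rfl⟩ := List.mem_iff_getElem.1 hr
    obtain ⟨π, hπ, -⟩ := equivU i hi
    refine ⟨π, fun u => ?_⟩
    rw [← hπ u]
    simp only [genU, dif_pos hi]
  | one => exact ⟨1, by simp⟩
  | mul a b _ _ ha hb =>
    obtain ⟨π, hπ⟩ := ha
    obtain ⟨ρ, hρ⟩ := hb
    exact ⟨π * ρ, fun u => by rw [map_mul, Equiv.Perm.mul_apply, hπ, hρ, Equiv.Perm.mul_apply]⟩
  | inv a _ ha =>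
    obtain ⟨π, hπ⟩ := ha
    refine ⟨π⁻¹, fun u => ?_⟩
    have := hπ ((hom a)⁻¹ u)
    rw [Equiv.Perm.inv_def, Equiv.apply_symm_apply] at this
    rw [map_inv, this, Equiv.Perm.inv_def, Equiv.Perm.inv_def, Equiv.symm_apply_apply]

theorem equivU_unique {π ρ : Equiv.Perm (Fin NU)} {f : Fin FiData.table.N → Fin NU}
    (h₁ : ∀ u, f u = π (pnt u)) (h₂ : ∀ u, f u = ρ (pnt u)) : π = ρ := by
  ext p
  obtain ⟨u, rfl⟩ := pnt_surjective p
  rw [← h₁, ← h₂]

/-- The action on the points. -/
noncomputable def actU : grpH →* Equiv.Perm (Fin NU) :=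
  MonoidHom.mk' (fun h => (equivU_all h h.2).choose) fun a b =>
    equivU_unique (equivU_all _ (a * b).2).choose_spec (fun u => by
      rw [Subgroup.coe_mul, map_mul, Equiv.Perm.mul_apply, (equivU_all a a.2).choose_spec,
        (equivU_all b b.2).choose_spec, Equiv.Perm.mul_apply])

theorem actU_acts : FiUnitaryData.table.Acts actU genU := by
  refine ⟨fun i hi p => ?_⟩
  obtain ⟨π, h₁, h₂⟩ := equivU i hi
  have e : actU (genU i) = π := equivU_unique (equivU_all _ (genU i).2).choose_spec h₁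
  rw [e, h₂]

theorem sq_add4 : ∀ x y : FieldFour, (x + y) ^ 2 = x ^ 2 + y ^ 2 := by decide

theorem sq_zero4 : (0 : FieldFour) ^ 2 = 0 := by decide

/-- Squaring. -/
def sq4 : FieldFour →+ FieldFour where
  toFun x := x ^ 2
  map_zero' := sq_zero4
  map_add' := sq_add4

theorem preserves_of_columns (M : Matrix (Fin 6) (Fin 6) FieldFour)
    (hM : ∀ j k : Fin 6, Cfsg.hermForm 6 FieldFour 2 (fun r => M r j) (fun r => M r k) =
      if j = k then 1 else 0) (u v : VecSix) :
    Cfsg.hermForm 6 FieldFour 2 (M *ᵥ u) (M *ᵥ v) = Cfsg.hermForm 6 FieldFour 2 u v := by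
  have hs : ∀ f : Fin 6 → FieldFour, (∑ k, f k) ^ 2 = ∑ k, (f k) ^ 2 :=
    fun f => map_sum sq4 f Finset.univ
  calc Cfsg.hermForm 6 FieldFour 2 (M *ᵥ u) (M *ᵥ v)
      = ∑ r, ∑ j, ∑ k, (M r j * u j) * (M r k * v k) ^ 2 := by
        rw [Cfsg.hermForm]
        refine Finset.sum_congr rfl fun r _ => ?_
        rw [Matrix.mulVec, Matrix.mulVec, dotProduct, dotProduct, hs, Finset.sum_mul]
        exact Finset.sum_congr rfl fun j _ => Finset.mul_sum _ _ _
    _ = ∑ j, ∑ k, (u j * v k ^ 2) *
          Cfsg.hermForm 6 FieldFour 2 (fun r => M r j) (fun r => M r k) := by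
        rw [Finset.sum_comm]
        refine Finset.sum_congr rfl fun j _ => ?_
        rw [Finset.sum_comm]
        refine Finset.sum_congr rfl fun k _ => ?_
        rw [Cfsg.hermForm, Finset.mul_sum]
        exact Finset.sum_congr rfl fun r _ => by rw [mul_pow]; ac_rfl
    _ = ∑ j, u j * v j ^ 2 := by
        refine Finset.sum_congr rfl fun j _ => ?_
        rw [Finset.sum_eq_single j, hM, if_pos rfl, mul_one]
        · intro k _ hk
          rw [hM, if_neg (Ne.symm hk), mul_zero]
        · intro h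
          exact absurd (Finset.mem_univ j) h
    _ = Cfsg.hermForm 6 FieldFour 2 u v := rfl

theorem matU_preserves (i : ℕ) (hi : i < 9) (u v : VecSix) :
    Cfsg.hermForm 6 FieldFour 2 (matU i *ᵥ u) (matU i *ᵥ v) = Cfsg.hermForm 6 FieldFour 2 u v :=
  preserves_of_columns (matU i) (matU_herm i hi) u v

/-- The unitary matrices of the generators. -/
noncomputable def suGen (i : ℕ) : SU6 :=
  if h : i < 9 then ⟨⟨matU i, matU_det i h⟩, fun u v => matU_preserves i h u v⟩ else 1

theorem suAct_gen (i : ℕ) (hi : i < 9) : suAct (suGen i) = actU (genU i) := by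
  ext p
  rw [actU_acts.img_eq i hi p,
    ← Nat.eq_of_beq_eq_true (of_allBelow (modelCheck_ok i hi) p p.2)]
  simp only [suGen, dif_pos hi]
  rfl

theorem actU_range_le : actU.range ≤ suAct.range := by
  have htop : Subgroup.closure (genU '' Set.Iio 9) = ⊤ := by
    rw [eq_top_iff]
    rintro ⟨h, hh⟩ -
    have : h ∈ (Subgroup.closure (genU '' Set.Iio 9)).map grpH.subtype := by
      refine (Subgroup.closure_le _).2 ?_ hh
      rintro _ ⟨r, hr, rfl⟩
      obtain ⟨i, hi, rfl⟩ := List.mem_iff_getElem.1 hr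
      exact ⟨genU i, Subgroup.subset_closure ⟨i, hi, rfl⟩, by simp [genU, dif_pos hi]⟩
    obtain ⟨⟨h', hh'⟩, hm, e⟩ := this
    simp only [Subgroup.coe_subtype] at e
    subst e
    exact hm
  rw [MonoidHom.range_eq_map, ← htop, MonoidHom.map_closure, Subgroup.closure_le]
  rintro _ ⟨_, ⟨i, hi, rfl⟩, rfl⟩
  exact ⟨suGen i, suAct_gen i hi⟩

theorem card_grpH : Nat.card grpH = 18393661440 := by
  have h := grpH.card_mul_index
  rw [index_H_eq, card_eq.1] at h
  exact Nat.eq_of_mul_eq_mul_right (by norm_num : 0 < 3510) (h.trans (by norm_num))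

theorem card_PSU6 : Nat.card (Cfsg.PSU 6 FieldFour 2) = 9196830720 := by
  have h := Cfsg.Agent.S0280.result (F := FieldFour) (q := 2)
    (FieldFour.card_eq.trans (by norm_num)) 6 (by norm_num)
  norm_num [Finset.prod_range_succ, Nat.even_iff] at h
  omega

theorem simple_PSU6 : IsSimpleGroup (Cfsg.PSU 6 FieldFour 2) :=
  Cfsg.Agent.S0283.result (F := FieldFour) (q := 2) (FieldFour.card_eq.trans (by norm_num)) 6
    (by norm_num) (by norm_num)

theorem card_range_ge : 9196830720 ≤ Nat.card actU.range := by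
  rw [← FiUnitaryData.chainH_prod]
  exact PTab.chainProd_le_card actU_acts FiUnitaryData.table_slp _ [] _ FiUnitaryData.chainH_ok
    fun e _ r _ _ => ⟨_, rfl⟩

theorem ker_ne_bot : suAct.ker ≠ ⊥ := by
  let ζ : FieldFour := FieldFour.ofCode 2
  let M : Matrix (Fin 6) (Fin 6) FieldFour := ζ • 1
  have hd : M.det = 1 := by
    rw [Matrix.det_smul, Matrix.det_one, mul_one]
    decide
  have hp : ∀ u v : VecSix, Cfsg.hermForm 6 FieldFour 2 (M *ᵥ u) (M *ᵥ v) =
      Cfsg.hermForm 6 FieldFour 2 u v := by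
    intro u v
    simp only [M, Matrix.smul_mulVec, Matrix.one_mulVec, Cfsg.hermForm, Pi.smul_apply, smul_eq_mul]
    refine Finset.sum_congr rfl fun r _ => ?_
    have : ∀ a b : FieldFour, ζ * a * (ζ * b) ^ 2 = a * b ^ 2 := by decide
    exact this _ _
  let g : SU6 := ⟨⟨M, hd⟩, hp⟩
  intro h
  have hg : g ∈ suAct.ker := by
    rw [MonoidHom.mem_ker]
    ext p
    show vecPt (M *ᵥ ptVec p) = p
    rw [Matrix.smul_mulVec, Matrix.one_mulVec, (vecPt_spec _).2.1 ζ (by decide), vecPt_ptVec p.2]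
  rw [h, Subgroup.mem_bot] at hg
  have := congrArg (fun x : SU6 => suMat x 0 0) hg
  revert this
  show ¬ (M 0 0 = (Cfsg.slToMat 6 FieldFour 1) 0 0)
  rw [map_one]
  decide

theorem suAct_ker : suAct.ker = Subgroup.center SU6 := by
  have hq := simple_PSU6
  have hge : 9196830720 ≤ Nat.card suAct.range :=
    card_range_ge.trans (Subgroup.card_le_of_le actU_range_le)
  have hc : Nat.card (Subgroup.center SU6) = 3 := by
    rw [CfsgLib.Classical.card_center_SU (F := FieldFour) (q := 2)
      (FieldFour.card_eq.trans (by norm_num)) (by norm_num)]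
    rfl
  have hi : (Subgroup.center SU6).index = 9196830720 := card_PSU6
  have hcard : Nat.card SU6 = 3 * 9196830720 := by
    rw [← hc, ← hi, Subgroup.card_mul_index]
  have hk : Nat.card suAct.ker ≤ 3 := by
    have h := suAct.ker.card_mul_index
    rw [Subgroup.index_ker, hcard] at h
    refine Nat.le_of_mul_le_mul_right ?_ (by norm_num : 0 < 9196830720)
    rw [← h]
    exact Nat.mul_le_mul_left _ hge
  have hle : suAct.ker ≤ Subgroup.center SU6 := by
    rcases hq.eq_bot_or_eq_top_of_normal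
      (suAct.ker.map (QuotientGroup.mk' (Subgroup.center SU6)))
      (Subgroup.Normal.map inferInstance _ (QuotientGroup.mk'_surjective _)) with h | h
    · rwa [Subgroup.map_eq_bot_iff, QuotientGroup.ker_mk'] at h
    · exfalso
      have h2 : Nat.card (Cfsg.PSU 6 FieldFour 2) ≤ Nat.card suAct.ker := by
        rw [← Nat.card_congr (Subgroup.topEquiv (G := Cfsg.PSU 6 FieldFour 2)).toEquiv, ← h]
        exact Nat.card_le_card_of_surjective _
          ((QuotientGroup.mk' (Subgroup.center SU6)).subgroupMap_surjective suAct.ker)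
      rw [card_PSU6] at h2
      omega
  refine Subgroup.eq_of_le_of_card_ge hle ?_
  have hdvd : Nat.card suAct.ker ∣ Nat.card (Subgroup.center SU6) := Subgroup.card_dvd_of_le hle
  rw [hc] at hdvd ⊢
  rcases (Nat.dvd_prime Nat.prime_three).1 hdvd with e | e
  · exact absurd (Subgroup.card_eq_one.1 e) ker_ne_bot
  · omega

theorem card_suAct_range : Nat.card suAct.range = 9196830720 := by
  rw [← Subgroup.index_ker, suAct_ker]
  exact card_PSU6

theorem actU_range : actU.range = suAct.range :=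
  Subgroup.eq_of_le_of_card_ge actU_range_le (by rw [card_suAct_range]; exact card_range_ge)

theorem card_ker_actU : Nat.card actU.ker = 2 := by
  have h := actU.ker.card_mul_index
  rw [Subgroup.index_ker, actU_range, card_suAct_range, card_grpH] at h
  exact Nat.eq_of_mul_eq_mul_right (by norm_num : 0 < 9196830720) (h.trans (by norm_num))

/-- The projection onto the simple quotient. -/
noncomputable def toPSU6 : grpH →* Cfsg.PSU 6 FieldFour 2 :=
  ((QuotientGroup.quotientMulEquivOfEq suAct_ker).toMonoidHom.comp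
    (QuotientGroup.quotientKerEquivRange suAct).symm.toMonoidHom).comp
    ((MulEquiv.subgroupCongr actU_range).toMonoidHom.comp actU.rangeRestrict)

theorem toPSU6_surjective : Function.Surjective toPSU6 := by
  unfold toPSU6
  simp only [MonoidHom.coe_comp, MulEquiv.coe_toMonoidHom]
  exact ((MulEquiv.surjective _).comp (MulEquiv.surjective _)).comp
    ((MulEquiv.surjective _).comp actU.rangeRestrict_surjective)

theorem toPSU6_ker : toPSU6.ker = actU.ker := by
  ext z
  simp only [toPSU6, MonoidHom.mem_ker, MonoidHom.comp_apply, MulEquiv.coe_toMonoidHom,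
    EmbeddingLike.map_eq_one_iff]
  exact Subtype.ext_iff

theorem centerU_eq : Subgroup.center grpH = toPSU6.ker := by
  have := simple_PSU6
  apply le_antisymm
  · intro z hz
    rw [MonoidHom.mem_ker]
    rcases this.eq_bot_or_eq_top_of_normal (Subgroup.center (Cfsg.PSU 6 FieldFour 2)) inferInstance
      with e | e
    · rw [← Subgroup.mem_bot, ← e, Subgroup.mem_center_iff]
      intro x
      obtain ⟨y, rfl⟩ := toPSU6_surjective x
      rw [← map_mul, ← map_mul, Subgroup.mem_center_iff.1 hz y]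
    · exfalso
      let : CommGroup (Cfsg.PSU 6 FieldFour 2) :=
        { (inferInstance : Group (Cfsg.PSU 6 FieldFour 2)) with
          mul_comm := fun x y => Subgroup.mem_center_iff.1
            (show y ∈ Subgroup.center (Cfsg.PSU 6 FieldFour 2) from e ▸ Subgroup.mem_top y) x }
      have hp : (Nat.card (Cfsg.PSU 6 FieldFour 2)).Prime := IsSimpleGroup.prime_card
      rw [card_PSU6] at hp
      norm_num at hp
  · intro z hz
    rw [Subgroup.mem_center_iff]
    intro g
    by_cases hz1 : z = 1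
    · rw [hz1, mul_one, one_mul]
    · have hc : g * z * g⁻¹ ∈ toPSU6.ker := MonoidHom.normal_ker toPSU6 |>.conj_mem z hz g
      have hne : g * z * g⁻¹ ≠ 1 := fun e => hz1 (conj_eq_one_iff.1 e)
      have hu : ∀ k : toPSU6.ker, k ≠ 1 → k = ⟨z, hz⟩ := by
        intro k hk
        obtain ⟨a, ha, hau⟩ := (Nat.card_eq_two_iff' (1 : toPSU6.ker)).1
          (by rw [toPSU6_ker]; exact card_ker_actU)
        rw [hau k hk, hau ⟨z, hz⟩ fun e => hz1 (congrArg Subtype.val e)]
      have e := hu ⟨_, hc⟩ fun e => hne (congrArg Subtype.val e)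
      exact mul_inv_eq_iff_eq_mul.1 (congrArg Subtype.val e)

theorem hom_wordU : ∀ (L : List ℕ), (∀ x ∈ L, x < 9) → ∀ v : Fin FiData.table.N,
    ((hom ((appProd genU L : grpH) : Fi22) v : Fin FiData.table.N) : ℕ) =
      L.foldl (fun w x => FiData.table.img (rowU x) w) v := by
  intro L
  induction L with
  | nil => intro _ v; simp [appProd]
  | cons x t ih =>
    intro hL v
    rw [appProd, Subgroup.coe_mul, map_mul, Equiv.Perm.mul_apply,
      ih (fun y hy => hL y (List.mem_cons_of_mem _ hy)), hom_genU (hL x List.mem_cons_self)]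
    rfl

/-- The words with an odd order. -/
def oddWords : List (List ℕ) := [[5, 4, 7, 8], [7, 8], [2, 3, 4, 8], [0, 2, 8, 8, 0, 0, 3, 8, 0, 8], [4, 7, 4, 8, 2, 0, 0, 5, 6, 0, 5, 8, 0, 1], [2, 3, 2, 7, 0, 2, 3, 3, 0, 1, 7, 3], [2, 2, 6, 2], [2, 3, 3, 6, 4, 0, 1, 3, 4, 5, 4, 8, 4], [5, 1, 4, 3, 7, 6, 2]]

theorem oddWords_lt : ∀ w ∈ oddWords, ∀ x ∈ w, x < 9 := by decide +kernel

theorem word_pow (w : List ℕ) (k : ℕ) (hw : wordCheck w k = true) (hlt : ∀ x ∈ w, x < 9) :
    appProd genU w ^ k = 1 := by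
  rw [← appProd_replicate]
  apply Subtype.ext
  apply card_eq.2
  rw [Subgroup.coe_one, map_one]
  ext u
  have hl : ∀ x ∈ (List.replicate k w).flatten, x < 9 := by
    simp only [List.mem_flatten, List.mem_replicate]
    rintro x ⟨l, ⟨-, rfl⟩, hx⟩
    exact hlt x hx
  rw [hom_wordU _ hl]
  exact Nat.eq_of_beq_eq_true (of_allBelow hw u u.2)

/-- The value of a map to the group of order two on a generator. -/
noncomputable def valU (χ : grpH →* Multiplicative (ZMod 2)) (i : ℕ) : ZMod 2 :=
  Multiplicative.toAdd (χ (genU i))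

theorem valU_word (χ : grpH →* Multiplicative (ZMod 2)) (w : List ℕ) :
    Multiplicative.toAdd (χ (appProd genU w)) = (w.map (valU χ)).sum := by
  induction w with
  | nil => simp [appProd]
  | cons x t ih =>
    rw [appProd, map_mul, toAdd_mul, ih, List.map_cons, List.sum_cons, add_comm]
    rfl

theorem valU_sum (χ : grpH →* Multiplicative (ZMod 2)) (w : List ℕ) (k : ℕ)
    (hw : wordCheck w k = true) (hlt : ∀ x ∈ w, x < 9) (hk : k % 2 = 1) :
    (w.map (valU χ)).sum = 0 := by
  have h := valU_word χ w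
  have h3 : k • Multiplicative.toAdd (χ (appProd genU w)) = 0 := by
    rw [← toAdd_pow, ← map_pow, word_pow w k hw hlt, map_one, toAdd_one]
  rw [h, nsmul_eq_mul, ← ZMod.natCast_mod, hk, Nat.cast_one, one_mul] at h3
  exact h3

theorem valU_zero (χ : grpH →* Multiplicative (ZMod 2)) (i : ℕ) (hi : i < 9) : valU χ i = 0 := by
  have hs : ∀ w ∈ oddWords, (w.map (valU χ)).sum = 0 := by
    unfold oddWords
    simp only [List.forall_mem_cons, List.forall_mem_nil, and_true]
    exact ⟨valU_sum χ [5, 4, 7, 8] 5 word_ok0 (by decide) rfl, valU_sum χ [7, 8] 3 word_ok1 (by decide) rfl, valU_sum χ [2, 3, 4, 8] 5 word_ok2 (by decide) rfl, valU_sum χ [0, 2, 8, 8, 0, 0, 3, 8, 0, 8] 3 word_ok3 (by decide) rfl, valU_sum χ [4, 7, 4, 8, 2, 0, 0, 5, 6, 0, 5, 8, 0, 1] 5 word_ok4 (by decide) rfl, valU_sum χ [2, 3, 2, 7, 0, 2, 3, 3, 0, 1, 7, 3] 3 word_ok5 (by decide) rfl, valU_sum χ [2, 2, 6, 2] 3 word_ok6 (by decide) rfl, valU_sum χ [2, 3, 3, 6, 4, 0, 1, 3, 4, 5, 4, 8, 4] 5 word_ok7 (by decide)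 rfl, valU_sum χ [5, 1, 4, 3, 7, 6, 2] 9 word_ok8 (by decide) rfl, fun _ hx => absurd hx List.not_mem_nil⟩
  have hv := parity_full (fun i : Fin 9 => valU χ i) (by
    intro w hw
    have hw' : w ∈ oddWords := hw
    rw [← hs w hw']
    refine congrArg List.sum (List.map_congr_left fun x hx => ?_)
    show valU χ ((Fin.ofNat 9 x : Fin 9) : ℕ) = valU χ x
    rw [Fin.val_ofNat, Nat.mod_eq_of_lt (oddWords_lt w hw' x hx)])
  exact congrFun hv ⟨i, hi⟩

theorem hom_two_trivial (χ : grpH →* Multiplicative (ZMod 2)) (g : grpH) : χ g = 1 := by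
  obtain ⟨h, hh⟩ := g
  induction hh using Subgroup.closure_induction with
  | mem h hh =>
    obtain ⟨r, hr, rfl⟩ := hh
    obtain ⟨i, hi, rfl⟩ := List.mem_iff_getElem.1 hr
    have h0 := valU_zero χ i hi
    apply Multiplicative.toAdd.injective
    rw [toAdd_one, ← h0]
    unfold valU genU
    rw [dif_pos hi]
  | one => exact map_one χ
  | mul g h hg hh ihg ihh =>
    exact (map_mul χ ⟨g, hg⟩ ⟨h, hh⟩).trans (by rw [ihg, ihh, one_mul])
  | inv g hg ihg =>
    exact (map_inv χ ⟨g, hg⟩).trans (by rw [ihg, inv_one])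

theorem no_complementU (L : Subgroup grpH) : ¬ (Subgroup.center grpH).IsComplement' L := by
  intro hL
  have hi : L.index = 2 := by rw [hL.index_eq_card, centerU_eq, toPSU6_ker, card_ker_actU]
  have : L.Normal := Subgroup.normal_of_index_eq_two hi
  have : Fact (Nat.Prime 2) := ⟨Nat.prime_two⟩
  let E : (grpH ⧸ L) ≃* Multiplicative (ZMod 2) :=
    mulEquivOfPrimeCardEq (p := 2) hi (by simp)
  have htop : L = ⊤ := by
    rw [eq_top_iff]
    intro g _
    have h := hom_two_trivial (E.toMonoidHom.comp (QuotientGroup.mk' L)) g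
    exact (QuotientGroup.eq_one_iff _).1 (E.map_eq_one_iff.1 h)
  rw [htop, Subgroup.index_top] at hi
  omega

theorem nonsplitU : Cfsg.IsNonsplitDoubleCover grpH (Cfsg.PSU 6 FieldFour 2) := by
  refine ⟨by rw [centerU_eq, toPSU6_ker]; exact card_ker_actU, ⟨?_⟩, no_complementU⟩
  exact (QuotientGroup.quotientMulEquivOfEq centerU_eq).trans
    (QuotientGroup.quotientKerEquivOfSurjective toPSU6 toPSU6_surjective)

end CfsgLib.Sporadic.CosetCert.FiP
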