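import Cfsg.Agent.Lib.Sporadic.FischerLayer

/-!
# Primitivity of a class of 3-transpositions
-/

set_option autoImplicit false
set_option linter.style.haveILetI false

namespace CfsgLib.Sporadic.FischerPrimitive

open Relation
open CfsgLib.Sporadic.FischerTransitivity CfsgLib.Sporadic.FischerRankThree
open CfsgLib.Sporadic.FischerCores CfsgLib.Sporadic.FischerLayer
open CfsgLib.Components
open scoped commutatorElement

variable {G : Type*} [Group G] {D : Set G}

theorem graph_connected_iff (hne : D.Nonempty) :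
    (Cfsg.commutingGraph D).Connected ↔ ∀ a ∈ D, ∀ b ∈ D, ReflTransGen (CRel D) a b := by
  constructor
  · intro h a ha b hb
    obtain ⟨w⟩ := h.preconnected ⟨a, ha⟩ ⟨b, hb⟩
    have : ∀ {x y : D}, (Cfsg.commutingGraph D).Walk x y → ReflTransGen (CRel D) x.1 y.1 := by
      intro x y w
      induction w with
      | nil => exact ReflTransGen.refl
      | @cons x y z hxy _ ih =>
        refine ReflTransGen.head ⟨x.2, y.2, ?_⟩ ih
        rcases ((SimpleGraph.fromRel_adj _ _ _).1 hxy).2 with h | h
        · exact h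
        · exact h.symm
    exact this w
  · intro h
    haveI : Nonempty D := hne.to_subtype
    refine ⟨fun x y => ?_⟩
    suffices ∀ b, ReflTransGen (CRel D) x.1 b → ∀ hb : b ∈ D,
        (Cfsg.commutingGraph D).Reachable x ⟨b, hb⟩ from this y.1 (h _ x.2 _ y.2) y.2
    intro b hr
    induction hr with
    | refl => intro hb; exact SimpleGraph.Reachable.refl _
    | @tail p q _ hpq ih =>
      intro hq
      by_cases e : (⟨p, hpq.1⟩ : D) = ⟨q, hq⟩
      · exact e ▸ ih hpq.1
      · exact (ih hpq.1).trans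
          (SimpleGraph.Adj.reachable ((SimpleGraph.fromRel_adj _ _ _).2 ⟨e, Or.inl hpq.2.2⟩))

variable [Finite G] (hG : Cfsg.IsThreeTranspositionGroup D)
  (hclass : ∀ a ∈ D, ∀ b ∈ D, ∃ g : G, g * a * g⁻¹ = b) (hD2 : ∃ a ∈ D, ∃ b ∈ D, a ≠ b)

include hG hclass hD2

theorem commutator_eq {L : Subgroup G} (hL : Cfsg.IsComponent L) (hi : L.index ≤ 2) :
    commutator G = L := by
  haveI := component_normal hG hclass hD2 hL
  refine le_antisymm ?_ ?_
  · rw [commutator_def, Subgroup.commutator_le]
    intro g _ h _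
    rw [← QuotientGroup.eq_one_iff, ← QuotientGroup.mk'_apply, map_commutatorElement,
      commutatorElement_eq_one_iff_mul_comm]
    have hsq : ∀ q : G ⧸ L, q * q = 1 := by
      intro q
      have hpos : 0 < Nat.card (G ⧸ L) := Nat.card_pos
      rw [Subgroup.index_eq_card] at hi
      have := pow_card_eq_one' (x := q)
      rcases (show Nat.card (G ⧸ L) = 1 ∨ Nat.card (G ⧸ L) = 2 by omega) with e | e
      · rw [e, pow_one] at this; rw [this, one_mul]
      · rwa [e, pow_two] at this
    have hinv : ∀ q : G ⧸ L, q⁻¹ = q := fun q => inv_eq_of_mul_eq_one_right (hsq q)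
    calc (QuotientGroup.mk' L g) * QuotientGroup.mk' L h
        = ((QuotientGroup.mk' L g) * QuotientGroup.mk' L h)⁻¹ := (hinv _).symm
      _ = QuotientGroup.mk' L h * QuotientGroup.mk' L g := by rw [mul_inv_rev, hinv, hinv]
  · calc L = ⁅L, L⁆ := (IsComponent.commutator_self hL).symm
      _ ≤ commutator G := Subgroup.commutator_mono le_top le_top

theorem derived_perfect {L : Subgroup G} (hL : Cfsg.IsComponent L) (hi : L.index ≤ 2) :
    ⁅commutator G, commutator G⁆ = commutator G := by
  rw [commutator_eq hG hclass hD2 hL hi, IsComponent.commutator_self hL]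

/-- Rank three gives primitivity. -/
theorem primitive (hperf : ⁅commutator G, commutator G⁆ = commutator G)
    (hsol : ∀ N : Subgroup G, N.Normal → Group.IsSolvable ↥N → N ≤ commutator G →
      N ≤ Subgroup.center G) : Cfsg.IsPrimitiveUnderConj D := by
  refine ⟨hclass, hD2, fun B hBD hB => ?_⟩
  by_contra hne
  push Not at hne
  obtain ⟨hB1, hB2⟩ := hne
  obtain ⟨d, hd, e, he, hde⟩ := hB1
  have hstab : ∀ g : G, ∀ x ∈ B, g * x * g⁻¹ ∈ B → ∀ z ∈ B, g * z * g⁻¹ ∈ B := by
    intro g x hx hgx z hz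
    rcases hB g with h | h
    · exact h.subset ⟨z, hz, rfl⟩
    · exact absurd (Set.disjoint_left.1 h ⟨x, hx, rfl⟩ hgx) id
  apply hB2
  by_cases hc : Commute d e
  · -- the block is closed under commuting
    have hclosed : ∀ x ∈ B, Nb D x ⊆ B := by
      intro x hx z hz
      obtain ⟨g, hgx⟩ := hclass d (hBD hd) x (hBD hx)
      have hz' : g⁻¹ * z * g ∈ Nb D d := by
        have := nb_conj hG g⁻¹ hz
        rw [← hgx] at this
        simpa [mul_assoc] using this
      obtain ⟨k, hk, hke⟩ := exists_conj hG hclass hperf hsol (hBD hd)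
        (y := e) (z := g⁻¹ * z * g) ⟨hBD he, hde.symm, hc⟩ hz'
      have hkd : k * d * k⁻¹ = d := by
        have : Commute d k := by
          clear hke hz'
          induction hk using Subgroup.closure_induction with
          | mem z hz => exact hz.2.2
          | one => exact Commute.one_right _
          | mul _ _ _ _ h1 h2 => exact h1.mul_right h2
          | inv _ _ h => exact h.inv_right
        rw [← this.eq, mul_assoc, mul_inv_cancel, mul_one]
      have h1 := hstab k d hd (by rw [hkd]; exact hd) e he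
      rw [hke] at h1
      have h2 := hstab g d hd (by rw [hgx]; exact hx) _ h1
      simpa [mul_assoc] using h2
    refine Set.Subset.antisymm hBD fun z hz => ?_
    have hr := commuting_connected hG hclass hperf (hBD hd) hz
    clear hz
    induction hr with
    | refl => exact hd
    | @tail p q _ hpq ih =>
      by_cases e' : q = p
      · exact e' ▸ ih
      · exact hclosed p ih ⟨hpq.2.1, e', hpq.2.2⟩
  · have hclosed : ∀ x ∈ B, ∀ z ∈ D, ¬ Commute x z → z ∈ B := by
      intro x hx z hz hxz
      obtain ⟨g, hgx⟩ := hclass d (hBD hd) x (hBD hx)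
      have hn : ¬ Commute d (g⁻¹ * z * g) := by
        intro h
        have := (Commute.conj_iff g).2 h
        rw [hgx] at this
        exact hxz (by simpa [mul_assoc] using this)
      obtain ⟨k, hkd, hke⟩ := adj_transitive hG hclass hperf hsol (hBD hd) (hBD he)
        (by simpa using hG.2.1 g⁻¹ z hz) hc hn
      have h1 := hstab k d hd (by rw [hkd]; exact hd) e he
      rw [hke] at h1
      have h2 := hstab g d hd (by rw [hgx]; exact hx) _ h1
      simpa [mul_assoc] using h2
    refine Set.Subset.antisymm hBD fun z hz => ?_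
    have hr := noncommuting_connected hG hclass (hBD hd) hz
    clear hz
    induction hr with
    | refl => exact hd
    | @tail p q _ hpq ih => exact hclosed p ih q hpq.2.1 hpq.2.2

theorem primitive_of_index {L : Subgroup G} (h2 : Cfsg.pCore 2 G ≤ Subgroup.center G)
    (h3 : Cfsg.pCore 3 G ≤ Subgroup.center G) (hL : Cfsg.IsComponent L) (hi : L.index ≤ 2) :
    Cfsg.IsPrimitiveUnderConj D :=
  primitive hG hclass hD2 (derived_perfect hG hclass hD2 hL hi)
    fun N hN hs _ => solvable_normal_le_center hG h2 h3 N hN hs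

omit hclass hD2

/-- Primitivity and width at least two: central cores and connected commuting graph. -/
theorem of_primitive (hprim : Cfsg.IsPrimitiveUnderConj D)
    (hw : ∃ a ∈ D, ∃ b ∈ D, a ≠ b ∧ Commute a b) :
    Cfsg.pCore 2 G ≤ Subgroup.center G ∧ Cfsg.pCore 3 G ≤ Subgroup.center G ∧
      ∀ a ∈ D, ∀ b ∈ D, ReflTransGen (CRel D) a b := by
  obtain ⟨hclass, hD2, hblock⟩ := hprim
  have himg : ∀ (R : G → G → Prop) (d : G), d ∈ D → (∀ g x y, R x y → R (g * x * g⁻¹) (g * y * g⁻¹)) →
      (∀ x y, R x y → R y x) → (∀ x y z, R x y → R y z → R x z) →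
      ∀ g : G, (fun x => g * x * g⁻¹) '' {v | v ∈ D ∧ R d v} = {v | v ∈ D ∧ R d v} ∨
        Disjoint ((fun x => g * x * g⁻¹) '' {v | v ∈ D ∧ R d v}) {v | v ∈ D ∧ R d v} := by
    intro R d hd hc hs ht g
    by_cases hR : R d (g * d * g⁻¹)
    · left
      refine Set.Subset.antisymm ?_ fun z hz => ?_
      · rintro _ ⟨v, ⟨hv, hdv⟩, rfl⟩
        exact ⟨hG.2.1 g v hv, ht _ _ _ hR (hc g _ _ hdv)⟩
      · refine ⟨g⁻¹ * z * g, ⟨by simpa using hG.2.1 g⁻¹ z hz.1, ?_⟩, by group⟩
        have := hc g⁻¹ _ _ (ht _ _ _ (hs _ _ hR) hz.2)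
        simpa [mul_assoc] using this
    · right
      rw [Set.disjoint_left]
      rintro _ ⟨v, ⟨-, hdv⟩, rfl⟩ ⟨-, h⟩
      exact hR (ht _ _ _ h (hs _ _ (hc g _ _ hdv)))
  obtain ⟨a, ha, b, hb, hab, habc⟩ := hw
  refine ⟨pCore_two_central hG fun d v h => ?_, pCore_three_central hG fun d hd v hv h => ?_, ?_⟩
  · rcases hblock {x | x ∈ D ∧ SameV D d x} (fun x hx => hx.1) (himg (SameV D) d h.1
      (fun g x y hh => sameV_conj hG g hh) (fun x y hh => hh.symm') fun x y z h1 h2 => h1.trans' h2)
      with hB | hB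
    · exact hB ⟨h.1, ⟨h.1, h.1, fun _ _ => Iff.rfl⟩⟩ ⟨h.2.1, h⟩
    · obtain ⟨f, hf, hn⟩ := exists_adj' hG hclass hD2 h.1
      exact absurd ((hB.ge hf).2.commute) hn
  · rcases hblock {x | x ∈ D ∧ Nb D d = Nb D x} (fun x hx => hx.1)
      (himg (fun x y => Nb D x = Nb D y) d hd (fun g x y hh => nb_eq_conj hG g hh)
        (fun x y hh => hh.symm) fun x y z h1 h2 => h1.trans h2) with hB | hB
    · exact hB ⟨hd, rfl⟩ ⟨hv, h⟩
    · exact absurd (eq_of_nb_commute ((hB.ge ha).2.symm.trans (hB.ge hb).2) hb habc) hab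
  · intro x hx y hy
    rcases hblock {z | z ∈ D ∧ ReflTransGen (CRel D) a z} (fun z hz => hz.1)
      (himg (ReflTransGen (CRel D)) a ha (fun g p q hh => crel_conj hG g hh)
        (fun p q hh => crtg_symm hh) fun p q r h1 h2 => h1.trans h2) with hB | hB
    · exact absurd (hB ⟨ha, ReflTransGen.refl⟩ ⟨hb, .single ⟨ha, hb, habc⟩⟩) hab
    · exact (crtg_symm (hB.ge hx).2).trans (hB.ge hy).2

end CfsgLib.Sporadic.FischerPrimitive
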