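import Cfsg.Agent.Lib.Sporadic.FischerForm
import Cfsg.Agent.Lib.Classical.HermMatrixSimple

/-!
# Lines of five points: the unitary groups over the field with four elements

Every member acts on the Hermitian space of a frame as the transvection at its isotropic point, so
the group is the special unitary group modulo its centre.
-/

set_option autoImplicit false
set_option linter.style.haveILetI false
set_option linter.unusedSectionVars false

namespace CfsgLib.Sporadic.FischerCoord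

open CfsgLib.Sporadic.FischerTransitivity CfsgLib.Sporadic.FischerLines
open CfsgLib.Sporadic.FischerFive CfsgLib.Sporadic.FischerTrans CfsgLib.Classical
open Module

attribute [local instance] Fintype.ofFinite

variable {G : Type*} [Group G] {D : Set G} {x z : G} [Finite G] (F : Frame D x z)
  (Cd : Coord D x z)

/-- A member acting as the transvection at its isotropic point. -/
def Tv (d : G) : Prop := ∃ h v, Rep Cd d v ∧ IsUTv h v 1 ∧ Cor Cd h d

include F

theorem exists_tv {v : Tot Cd} (hv : form Cd v v = 0) :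
    ∃ h : isomGroup (form Cd), IsUTv h v 1 :=
  (form_isHermitian F Cd).exists_uTv (form_sepRight F Cd) hv (by rw [map_one]; decide)

theorem tv_x : Tv Cd x := by
  obtain ⟨h, hc, hh⟩ := exists_cor_trans F Cd (x_mem F)
  refine ⟨h, _, rep_x F Cd, ⟨(rep_iso F Cd (rep_x F Cd)).2, by rw [map_one]; decide, fun v => ?_⟩, hc⟩
  rw [hh, vec_x F Cd, quad_x F Cd]
  simp [form_apply, Prod.ext_iff]

theorem tv_z : Tv Cd z := by
  have hG := F.thick.grp
  have hz1 : Rep Cd z ((0, 0, 1) : Tot Cd) := by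
    simpa [quad_one F Cd, vec_one F Cd] using rep_out F Cd (one_mem _)
  obtain ⟨h, hh⟩ := exists_tv F Cd (rep_iso F Cd hz1).2
  refine ⟨h, _, hz1, hh, fun d v hv => ?_⟩
  have hval : ∀ w : Tot Cd, h.1 w = (w.1, w.2.1, w.2.2 + w.1) := fun w => by
    rw [hh.2.2 w]
    simp [form_apply, Prod.ext_iff]
  rw [← cj_conj hG F.hz]
  obtain ⟨l, hl, ⟨hdx, rfl⟩ | ⟨a, y, rfl, rfl⟩ | ⟨g, hg, rfl, rfl⟩⟩ := hv <;>
    rw [map_smul] <;> refine rep_smul F Cd ?_ hl <;> rw [hval]
  · rw [hdx, ← cj_comm hG F.hx F.hz F.hn, cj_conj hG F.hx]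
    simpa [quad_x F Cd, vec_x F Cd] using rep_out F Cd (x_mem F)
  · by_cases hy : y = 0
    · subst hy
      rw [pt_zero F, cj_fix hG F.hz a.2.2.2.2]
      simpa [pt_zero F] using rep_pt F Cd a 0
    have hb := pt_not_commute F Cd a.2 hy
    have he := e_le F Cd a.2 y
    rw [← cj_comm hG (pt_mem F Cd a.2 y).1.1 F.hz hb, cj_pt F Cd a.2 hy]
    have hc : conjF y ≠ 0 := fun e => hy (by rw [← conjF_conjF y, e, map_zero])
    have hq : quad Cd (x * Cd.e (a : G) y) = 1 := by
      rw [(kl_commute F a.2.1 (self_mem_ln F.hx) (Cd.chart.mem (a : G) a.2 y)).eq]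
      exact (quad_e F Cd a.2 y).2
    convert rep_smul F Cd (rep_out F Cd (mul_mem (x_mem F) he)) hc using 1
    rw [hq, vec_mul F Cd (x_mem F) he, vec_x F Cd, vec_e F Cd a.2]
    simp [smul_smul, mul_comm (conjF y), mul_conjF _ hy]
  · by_cases hzw : Commute z (g * z * g⁻¹)
    · rw [cj_fix hG F.hz hzw]
      have h0 := (quad_eq_zero_iff F Cd hg).2 hzw
      simpa [h0] using rep_out F Cd hg
    have huD : cj z (g * z * g⁻¹) ∈ D := cj_mem hG F.hz (hG.2.1 g z F.hz)
    set u := cj z (g * z * g⁻¹) with hu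
    by_cases hxu : Commute x u
    · have hq1 := (quad_eq_one_iff F Cd hg hzw).2 hxu
      by_cases hux : u = x
      · have hgx : g = x := conj_inj_z F hg (x_mem F) (by
          rw [← cj_conj hG F.hx, cj_comm hG F.hx F.hz F.hn, ← hux, hu, cj_cj hG F.hz])
        subst hgx
        rw [hux]
        simpa [vec_x F Cd, quad_x F Cd, add_self'] using rep_x F Cd
      have huN : u ∈ Nb D x := ⟨huD, hux, hxu⟩
      obtain ⟨o, ho, -, hL⟩ := exists_base F huN
      obtain ⟨y, hy⟩ := exists_pt F Cd ho (hL.symm ▸ right_mem_ln huN) hux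
      have hw : g * z * g⁻¹ = cj z u := by rw [hu, cj_cj hG F.hz]
      have hy0 : y ≠ 0 := by
        rintro rfl
        rw [pt_zero F] at hy
        rw [← hy, cj_fix hG F.hz ho.2.2.2] at hw
        exact conj_not_commute F hg (hw.symm ▸ ho.1.2.2)
      have he := e_le F Cd ho y
      have hgxe : g = x * Cd.e o y := conj_inj_z F hg (mul_mem (x_mem F) he) (by
        rw [hw, ← cj_pt F Cd ho hy0, ← hy,
          cj_comm hG (pt_mem F Cd ho y).1.1 F.hz (pt_not_commute F Cd ho hy0)])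
      have hv' : vec Cd g = y • col Cd ⟨o, ho⟩ := by
        rw [hgxe, vec_mul F Cd (x_mem F) he, vec_x F Cd, vec_e F Cd ho, zero_add]
      rw [← hy, hq1, hv']
      convert rep_smul F Cd (rep_pt F Cd ⟨o, ho⟩ y) hy0 using 1
      simp [mul_conjF _ hy0, add_self']
    · obtain ⟨g', hg', hu', hη⟩ := quad_outside F Cd hg hzw hxu
      rw [← hu] at hu'
      have hw : g * z * g⁻¹ = cj z (g' * z * g'⁻¹) := by rw [← hu', hu, cj_cj hG F.hz]
      have hzu : ¬ Commute z (g' * z * g'⁻¹) := fun hc => hzw (by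
        rw [hw, cj_fix hG F.hz hc]; exact hc)
      have hxw : ¬ Commute x (cj z (g' * z * g'⁻¹)) := hw ▸ conj_not_commute F hg
      obtain ⟨g'', hg'', hu'', hη'⟩ := quad_outside F Cd hg' hzu hxw
      obtain rfl := conj_inj_z F hg hg'' (hw.trans hu'')
      set s := quad Cd g with hs
      have hs0 : s ≠ 0 := fun e => hzw ((quad_eq_zero_iff F Cd hg).1 e)
      have hs1 : s ≠ 1 := fun e => hxu ((quad_eq_one_iff F Cd hg hzw).1 e)
      obtain ⟨a, ha, hna⟩ : ∃ a ∈ Cm D x z, eta Cd a g ≠ 0 := by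
        by_contra hall
        push Not at hall
        rcases eq_one_or_x F hg (fun a ha => (eta_eq_zero F Cd ha hg).1 (hall a ha)) with rfl | rfl
        · exact hs0 (quad_one F Cd)
        · exact hs1 (quad_x F Cd)
      have hss : quad Cd g' * s = 1 := by
        have e := hη' a ha
        rw [hη a ha, ← mul_assoc] at e
        exact mul_right_cancel₀ hna (by rw [one_mul]; exact e.symm)
      have hs' : quad Cd g' = conjF s := mul_right_cancel₀ hs0 (by
        rw [hss, mul_comm, mul_conjF _ hs0])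
      have hv' : vec Cd g' = s • vec Cd g := Subtype.ext (funext fun t => by
        rw [vec_apply F Cd hg', Submodule.coe_smul, Pi.smul_apply, vec_apply F Cd hg, smul_eq_mul]
        exact hη t t.2)
      have key : ∀ s : FieldFour, s ≠ 0 → s ≠ 1 →
          1 + s ≠ 0 ∧ (1 + s) * (s * s) = s ∧ (1 + s) * s = 1 := by decide
      obtain ⟨k0, k1, k2⟩ := key s hs0 hs1
      rw [hu']
      convert rep_smul F Cd (rep_out F Cd hg') k0 using 1
      rw [hs', hv', Prod.smul_mk, Prod.smul_mk, smul_smul, k2, one_smul, smul_eq_mul, smul_eq_mul,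
        mul_one, conjF_apply, k1]

theorem exists_rep_of_ne {v : Tot Cd} (hiso : form Cd v v = 0) (hq : v.2.2 ≠ 0) :
    ∃ d, Rep Cd d v := by
  set w := v.2.2⁻¹ • v with hw
  have hw1 : w.2.2 = 1 := by simp [hw, inv_mul_cancel₀ hq]
  have hwiso : form Cd w w = 0 := by rw [(form_isHermitian F Cd).smul_self, hiso, mul_zero]
  obtain ⟨g, hg, e⟩ := vec_surj F Cd w.2.1
  have hn := quad_norm F Cd hg
  rw [form_apply, hw1, map_one, mul_one, one_mul, ← e, ← hn] at hwiso
  have hv : v = v.2.2 • w := by rw [hw, smul_smul, mul_inv_cancel₀ hq, one_smul]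
  suffices H : ∃ d, Rep Cd d w by
    obtain ⟨d, hd⟩ := H
    exact ⟨d, by rw [hv]; exact rep_smul F Cd hd hq⟩
  rcases self_fixed (c := w.1 + quad Cd g) (by rw [map_add]; linear_combination hwiso) with h | h
  · refine ⟨g * z * g⁻¹, ?_⟩
    convert rep_out F Cd hg using 1
    refine Prod.ext ?_ (Prod.ext e.symm hw1)
    linear_combination h - quad Cd g * two_eq_zero
  · refine ⟨g * x * z * (g * x)⁻¹, ?_⟩
    convert rep_out F Cd (mul_mem hg (x_mem F)) using 1
    rw [quad_mul F Cd hg (x_mem F), vec_mul F Cd hg (x_mem F), quad_x F Cd, vec_x F Cd, map_zero,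
      add_zero, add_zero]
    refine Prod.ext ?_ (Prod.ext e.symm hw1)
    linear_combination h - quad Cd g * two_eq_zero

theorem exists_rep {v : Tot Cd} (hv : v ≠ 0) (hiso : form Cd v v = 0) : ∃ d, Rep Cd d v := by
  by_cases hq : v.2.2 = 0
  swap
  · exact exists_rep_of_ne F Cd hiso hq
  have pull : ∀ (h : isomGroup (form Cd)) (g : G), Cor Cd h g → (h.1 v).2.2 ≠ 0 →
      ∃ d, Rep Cd d v := by
    intro h g hc hne
    obtain ⟨d, hd⟩ := exists_rep_of_ne F Cd ((h.2 v v).trans hiso) hne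
    refine ⟨_, by
      have h1 := cor_inv F Cd hc _ _ hd
      change Rep Cd _ (h.1.symm (h.1 v)) at h1
      rwa [LinearEquiv.symm_apply_apply] at h1⟩
  obtain ⟨t, _, hz1, ht, htc⟩ := tv_z F Cd
  obtain ⟨k, hk, e⟩ := rep_unique F Cd hz1
    (by simpa [quad_one F Cd, vec_one F Cd] using rep_out F Cd (one_mem _) :
      Rep Cd z ((0, 0, 1) : Tot Cd))
  have hval : ∀ w : Tot Cd, (t.1 w).2.2 = w.2.2 + w.1 := fun w => by
    have ht' := ht.smul conjF_conjF hk
    rw [← e, mul_conjF k hk, div_one] at ht'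
    rw [ht'.2.2 w]
    simp [form_apply]
  by_cases hp : v.1 = 0
  swap
  · exact pull t z htc (by rw [hval, hq, zero_add]; exact hp)
  by_cases hu : v.2.1 = 0
  · exact absurd (Prod.ext hp (Prod.ext hu hq)) hv
  obtain ⟨u, hu'⟩ : ∃ u, inner Cd u v.2.1 ≠ 0 := by
    by_contra hall
    push Not at hall
    exact hu (inner_sepRight F Cd _ hall)
  obtain ⟨g, hg, rfl⟩ := vec_surj F Cd u
  obtain ⟨h, hc, hh⟩ := exists_cor_trans F Cd hg
  refine pull (t * h) (z * g) (cor_mul F Cd htc hc) ?_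
  change (t.1 (h.1 v)).2.2 ≠ 0
  rw [hval, hh]
  simpa [hp, hq] using hu'

theorem tv_cm (a : ↥(Cm D x z)) : Tv Cd (a : G) := by
  have hG := F.thick.grp
  have haR : Rep Cd (a : G) ((0, col Cd a, 0) : Tot Cd) := by
    simpa [pt_zero F] using rep_pt F Cd a 0
  obtain ⟨h, hh⟩ := exists_tv F Cd (rep_iso F Cd haR).2
  refine ⟨h, _, haR, hh, fun d v hv => ?_⟩
  have hval : ∀ w : Tot Cd, h.1 w = (w.1, w.2.1 + w.2.1.1 a • col Cd a, w.2.2) := fun w => by
    rw [hh.2.2 w]
    simp [form_apply, col_inner F, Prod.ext_iff]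
  have hinv := inv_eq hG a.2.1.1
  have hsq := FischerTransitivity.sq hG a.2.1.1
  obtain ⟨l, hl, ⟨hdx, rfl⟩ | ⟨r, y, rfl, rfl⟩ | ⟨k, hk, rfl, rfl⟩⟩ := hv <;>
    rw [map_smul] <;> refine rep_smul F Cd ?_ hl <;> rw [hval]
  · rw [hdx, ← a.2.1.2.2.eq, mul_inv_cancel_right]
    simpa using rep_x F Cd
  · obtain ⟨k, hk, rfl⟩ := exists_move F Cd r.2 y
    obtain ⟨hq, -⟩ := conj_mem F a.2 hk
    have e : (a : G) * (k * (r : G) * k⁻¹) * (a : G)⁻¹ =
        (a : G) * k * (a : G)⁻¹ * ((a : G) * r * (a : G)⁻¹) * ((a : G) * k * (a : G)⁻¹)⁻¹ := by group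
    have hηk : ∀ t ∈ Cm D x z, eta Cd t ((a : G) * k * (a : G)⁻¹) =
        eta Cd t k + Cd.K t (a : G) * eta Cd (a : G) k := by
      intro t ht
      apply Cd.chart.inj t ht
      rw [Cd.chart.add t ht, ← eta_e F Cd ht a.2]
      simp only [eta, e_co F Cd.chart ht hq, e_co F Cd.chart ht hk,
        e_co F Cd.chart a.2 hk, e_co F Cd.chart ht (kl_le a.2 (tr_mem F a.2 hk))]
      rw [(conj_mem F a.2 hk).2 t ht]
      exact line_mul_comm F ht (kl_le a.2 (tr_mem F a.2 hk)) hk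
    rw [← conj_pt F Cd r.2 hk, e]
    by_cases hc : Commute (a : G) (r : G)
    · rw [hc.eq, mul_inv_cancel_right, conj_pt F Cd r.2 hq, hηk r r.2,
        K_commute F Cd r.2 a.2 hc.symm, zero_mul, add_zero]
      simpa [col_apply, K_commute F Cd a.2 r.2 hc] using rep_pt F Cd r (eta Cd (r : G) k)
    have ho := cm_cj F a.2 r.2
    rw [← cj_conj hG a.2.1.1 (r : G), conj_pt F Cd ho hq, hηk _ ho]
    set o : ↥(Cm D x z) := ⟨cj (a : G) r, ho⟩ with hodef
    have hor : ¬ Commute (cj (a : G) r) (r : G) := fun h' => hc (by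
      rw [cj_comm hG a.2.1.1 r.2.1.1 hc] at h'
      exact (commute_cj' hG r.2.1.1 (Commute.refl (r : G)) (a : G)).1 h')
    have row : ∀ t : ↥(Cm D x z), Cd.K (cj (a : G) r) t =
        Cd.K (cj (a : G) r) r * (Cd.K r t + Cd.K r a * Cd.K a t) := fun t => by
      have h1 := eta_third F Cd a.2 r.2 hc (e_le F Cd t.2 1)
      simpa [eta_e F Cd ho t.2, eta_e F Cd r.2 t.2, eta_e F Cd a.2 t.2] using h1
    have hy' : eta Cd (cj (a : G) r) k + Cd.K (cj (a : G) r) a * eta Cd (a : G) k =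
        Cd.K (cj (a : G) r) r * eta Cd (r : G) k := by
      rw [eta_third F Cd a.2 r.2 hc hk, row a, K_self F Cd a.2]
      linear_combination (Cd.K (cj (a : G) r) r * Cd.K r a * eta Cd (a : G) k) * two_eq_zero
    rw [hy']
    have hK := K_ne_zero F Cd ho r.2 hor
    have hKK := K_mul F Cd ho r.2 hor
    have hcol : col Cd r + Cd.K (a : G) r • col Cd a = Cd.K (cj (a : G) r) r • col Cd o := by
      refine Subtype.ext (funext fun t => ?_)
      simp only [Submodule.coe_add, Submodule.coe_smul, Pi.add_apply, Pi.smul_apply, col_apply,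
        smul_eq_mul, hodef]
      rw [← K_conj F Cd ho t.2, row t, map_mul, map_add, map_mul, K_conj F Cd ho r.2,
        K_conj F Cd r.2 t.2, K_conj F Cd r.2 a.2, K_conj F Cd a.2 t.2]
      linear_combination -(Cd.K (t : G) r + Cd.K (a : G) r * Cd.K (t : G) a) * hKK
    convert rep_smul F Cd (rep_pt F Cd o (Cd.K (cj (a : G) r) r * eta Cd (r : G) k)) hK using 1
    rw [Prod.smul_mk, Prod.smul_mk, smul_zero, smul_eq_mul, ← hcol, col_apply, map_mul, ← mul_assoc,
      mul_conjF _ hK, one_mul]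
  · rw [show (a : G) * (k * z * k⁻¹) * (a : G)⁻¹ = (a : G) * k * (a : G)⁻¹ * ((a : G) * z *
      (a : G)⁻¹) * ((a : G) * k * (a : G)⁻¹)⁻¹ by group, a.2.2.2.2.symm.eq, mul_inv_cancel_right]
    obtain ⟨hq, -⟩ := conj_mem F a.2 hk
    have hva : (vec Cd k).1 a = eta Cd (a : G) k := vec_apply F Cd hk a
    have e : (a : G) * k * (a : G)⁻¹ = (a : G) * (k * a * k⁻¹) * k := by rw [hinv]; group
    by_cases hy : eta Cd (a : G) k = 0
    · rw [e, (eta_eq_zero F Cd a.2 hk).1 hy, hsq, one_mul]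
      simpa [hva, hy] using rep_out F Cd hk
    have ht := e_le F Cd a.2 (eta Cd (a : G) k)
    have e2 : (a : G) * k * (a : G)⁻¹ = x * Cd.e (a : G) (eta Cd (a : G) k) * k := by
      rw [e, conj_pt F Cd a.2 hk, pt, if_neg hy, ← mul_assoc (a : G), ← mul_assoc (a : G),
        ← a.2.1.2.2.eq, mul_assoc x, hsq, mul_one]
    have hq1 : quad Cd (x * Cd.e (a : G) (eta Cd (a : G) k)) = 1 := by
      rw [(kl_commute F a.2.1 (self_mem_ln F.hx) (Cd.chart.mem (a : G) a.2 _)).eq]
      exact (quad_e F Cd a.2 _).2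
    convert rep_out F Cd hq using 1
    rw [e2, quad_mul F Cd (mul_mem (x_mem F) ht) hk, vec_mul F Cd (mul_mem (x_mem F) ht) hk,
      vec_mul F Cd (x_mem F) ht, vec_x F Cd, vec_e F Cd a.2, zero_add, hq1, map_smulₛₗ,
      LinearMap.smul_apply, col_inner F, hva, smul_eq_mul, mul_comm (conjF _), mul_conjF _ hy]
    refine Prod.ext ?_ (Prod.ext (add_comm _ _) rfl)
    linear_combination -two_eq_zero

theorem tv_conj {h : isomGroup (form Cd)} {g d : G} (hc : Cor Cd h g) (hd : Tv Cd d) :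
    Tv Cd (g * d * g⁻¹) := by
  obtain ⟨t, v, hv, ht, htc⟩ := hd
  exact ⟨h * t * h⁻¹, h.1 v, hc d v hv, ht.conj h,
    cor_mul F Cd (cor_mul F Cd hc htc) (cor_inv F Cd hc)⟩

theorem tv_all {d : G} (hd : d ∈ D) : Tv Cd d := by
  rcases cases_mem F hd with rfl | hd | ⟨g, hg, rfl⟩
  · exact tv_x F Cd
  · obtain ⟨a, ha, -, hL⟩ := exists_base F hd
    obtain ⟨y, rfl⟩ := exists_pt F Cd ha (hL.symm ▸ right_mem_ln hd) hd.2.1
    obtain ⟨g, hg, rfl⟩ := exists_move F Cd ha y
    obtain ⟨h, hc, -⟩ := exists_cor_trans F Cd hg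
    rw [← conj_pt F Cd ha hg]
    exact tv_conj F Cd hc (tv_cm F Cd ⟨a, ha⟩)
  · obtain ⟨h, hc, -⟩ := exists_cor_trans F Cd hg
    exact tv_conj F Cd hc (tv_z F Cd)

theorem exists_cor {h : isomGroup (form Cd)} (hh : h ∈ tGroup (form Cd)) : ∃ g, Cor Cd h g := by
  induction hh using Subgroup.closure_induction with
  | mem k hk =>
    obtain ⟨v, c, hk⟩ := hk
    have triv : (c = 0 ∨ v = 0) → k = 1 := fun h0 => Subtype.ext (LinearEquiv.ext fun y => by
      rw [hk.2.2]; rcases h0 with rfl | rfl <;> simp)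
    by_cases hv : v = 0
    · exact ⟨1, triv (Or.inr hv) ▸ cor_one F Cd⟩
    rcases self_fixed hk.2.1 with rfl | rfl
    · exact ⟨1, triv (Or.inl rfl) ▸ cor_one F Cd⟩
    obtain ⟨d, hd⟩ := exists_rep F Cd hv hk.1
    obtain ⟨t, v₀, hv₀, ht, htc⟩ := tv_all F Cd (rep_mem F Cd hd)
    obtain ⟨l, hl, rfl⟩ := rep_unique F Cd hv₀ hd
    have ht' := ht.smul conjF_conjF hl
    rw [mul_conjF l hl, div_one] at ht'
    exact ⟨d, (Subtype.ext (LinearEquiv.ext fun y => by rw [hk.2.2, ht'.2.2]) : k = t) ▸ htc⟩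
  | one => exact ⟨1, cor_one F Cd⟩
  | mul _ _ _ _ h1 h2 =>
    obtain ⟨g, hg⟩ := h1
    obtain ⟨g', hg'⟩ := h2
    exact ⟨_, cor_mul F Cd hg hg'⟩
  | inv _ _ h =>
    obtain ⟨g, hg⟩ := h
    exact ⟨_, cor_inv F Cd hg⟩

theorem commute_iff {d d' : G} {v w : Tot Cd} (hv : Rep Cd d v) (hw : Rep Cd d' w) :
    Commute d d' ↔ form Cd v w = 0 := by
  obtain ⟨t, v₀, hv₀, ht, htc⟩ := tv_all F Cd (rep_mem F Cd hv)
  obtain ⟨l, hl, rfl⟩ := rep_unique F Cd hv₀ hv
  have ht' := ht.smul conjF_conjF hl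
  rw [mul_conjF l hl, div_one] at ht'
  set v := l • v₀
  have h1 : Rep Cd (d * d' * d⁻¹) (w + form Cd v w • v) := by
    have := htc d' w hw
    rwa [ht'.2.2, one_mul] at this
  constructor
  · intro hc
    rw [hc.eq, mul_inv_cancel_right] at h1
    obtain ⟨c, -, e⟩ := rep_unique F Cd hw h1
    by_contra hne
    have e2 : v = ((c - 1) / form Cd v w) • w := by
      have h3 : form Cd v w • v = (c - 1) • w := by linear_combination (norm := module) e
      rw [div_eq_inv_mul, ← smul_smul, ← h3, smul_smul, inv_mul_cancel₀ hne, one_smul]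
    refine hne ?_
    rw [e2, map_smulₛₗ, LinearMap.smul_apply, (rep_iso F Cd hw).2, smul_zero]
  · intro h0
    rw [h0, zero_smul, add_zero] at h1
    exact mul_inv_eq_iff_eq_mul.1 (rep_inj F Cd h1 hw)

theorem finrank_sp : 2 ≤ finrank FieldFour (Sp Cd) := by
  obtain ⟨a, ha⟩ := cm_nonempty F
  obtain ⟨r, hr, har⟩ := exists_adj_cm F ha
  have hli : LinearIndependent FieldFour ![col Cd ⟨a, ha⟩, col Cd ⟨r, hr⟩] := by
    rw [LinearIndependent.pair_iff]
    intro s t e
    have e1 := congrArg (fun u : Sp Cd => u.1 ⟨a, ha⟩) e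
    have e2 := congrArg (fun u : Sp Cd => u.1 ⟨r, hr⟩) e
    simp [col_apply, K_self F Cd ha, K_self F Cd hr] at e1 e2
    exact ⟨e2.resolve_right (K_ne_zero F Cd hr ha fun e => har e.symm),
      e1.resolve_right (K_ne_zero F Cd ha hr har)⟩
  simpa using hli.fintype_card_le_finrank

theorem finrank_tot : finrank FieldFour (Tot Cd) = finrank FieldFour (Sp Cd) + 2 := by
  simp only [Module.finrank_prod, Module.finrank_self]
  omega

theorem exists_hom : ∃ Φ : sIsom (form Cd) →* G, Function.Surjective Φ ∧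
    Φ.ker = Subgroup.center (sIsom (form Cd)) := by
  have hH := form_isHermitian F Cd
  have hN := form_sepRight F Cd
  have h4 : 4 ≤ finrank FieldFour (Tot Cd) := by
    have := finrank_sp F Cd
    have := finrank_tot F Cd
    omega
  have hT := hH.sIsom_eq_tGroup hN fun _ => Or.inr h4
  choose φ hφ using fun h : sIsom (form Cd) => exists_cor F Cd (hT ▸ h.2 : h.1 ∈ tGroup (form Cd))
  let Φ : sIsom (form Cd) →* G := MonoidHom.mk' φ fun h k =>
    cor_eq F Cd (hφ (h * k)) (cor_mul F Cd (hφ h) (hφ k))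
  have hsurj : Function.Surjective Φ := by
    rw [← MonoidHom.range_eq_top, eq_top_iff, ← F.thick.grp.2.2, Subgroup.closure_le]
    intro d hd
    obtain ⟨t, v, -, ht, htc⟩ := tv_all F Cd hd
    exact ⟨⟨t, hT.symm ▸ ht.mem⟩, cor_eq F Cd (hφ _) htc⟩
  refine ⟨Φ, hsurj, le_antisymm (fun k hk => ?_) fun k hk => ?_⟩
  · refine hH.mem_center_of_fix_isoPts hN (fun _ => Or.inr h4) fun p => ?_
    obtain ⟨v, hv, h0, rfl⟩ := isoPt_surjective p
    obtain ⟨d, hd⟩ := exists_rep F Cd hv h0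
    have h1 := hφ k d v hd
    rw [show φ k = 1 from hk, one_mul, inv_one, mul_one] at h1
    obtain ⟨c, hc, e⟩ := rep_unique F Cd hd h1
    exact smul_isoPt_eq k hv h0 hv h0 e
  · rw [MonoidHom.mem_ker, ← Subgroup.mem_bot, ← center_eq_bot F.thick, Subgroup.mem_center_iff]
    intro g
    obtain ⟨h, rfl⟩ := hsurj g
    rw [← map_mul, ← map_mul, Subgroup.mem_center_iff.1 hk h]

omit F in
/-- Isometric spaces have isomorphic special isometry groups. -/
theorem exists_sIsom_equiv {V' : Type*} [AddCommGroup V'] [Module FieldFour V']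
    {B : Tot Cd →ₛₗ[conjF] Tot Cd →ₗ[FieldFour] FieldFour}
    {B' : V' →ₛₗ[conjF] V' →ₗ[FieldFour] FieldFour} (e : Tot Cd ≃ₗ[FieldFour] V')
    (he : ∀ u w, B' (e u) (e w) = B u w) : Nonempty (sIsom B ≃* sIsom B') := by
  refine ⟨(((isomGroupCongr e he).subgroupMap (sIsom B)).trans (MulEquiv.subgroupCongr ?_))⟩
  have hdet : ∀ g, idet B' (isomGroupCongr e he g) = idet B g := fun g => by
    show LinearMap.det ((isomGroupCongr e he g).1 : V' →ₗ[FieldFour] V') = LinearMap.det _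
    rw [show ((isomGroupCongr e he g).1 : V' →ₗ[FieldFour] V') =
      (e : Tot Cd →ₗ[FieldFour] V') ∘ₗ (g.1 : Tot Cd →ₗ[FieldFour] Tot Cd) ∘ₗ
        (e.symm : V' →ₗ[FieldFour] Tot Cd) from LinearMap.ext fun w => rfl, LinearMap.det_conj]
  ext g
  constructor
  · rintro ⟨k, hk, rfl⟩
    exact MonoidHom.mem_ker.2 ((hdet k).trans (MonoidHom.mem_ker.1 hk))
  · intro hg
    exact ⟨(isomGroupCongr e he).symm g, MonoidHom.mem_ker.2 (by
      rw [← hdet, MulEquiv.apply_symm_apply]; exact MonoidHom.mem_ker.1 hg),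
      MulEquiv.apply_symm_apply _ _⟩

/-- A path of four members with no other non-commuting pairs, in large dimension. -/
theorem exists_path (h4 : 4 ≤ finrank FieldFour (Sp Cd)) :
    ∃ p q r s, p ∈ Nb D x ∧ q ∈ Nb D x ∧ r ∈ Nb D x ∧ s ∈ Nb D x ∧ ¬ Commute p q ∧
      ¬ Commute q r ∧ ¬ Commute r s ∧ Commute p r ∧ Commute p s ∧ Commute q s := by
  have hS : IsHermitian (inner Cd) := ⟨conjF_conj, inner_symm F Cd⟩
  obtain ⟨b, hb⟩ := hS.exists_orthonormal (inner_sepRight F Cd)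
  let i : Fin 4 → Fin (finrank FieldFour (Sp Cd)) := Fin.castLE h4
  have hi : ∀ m n, inner Cd (b (i m)) (b (i n)) = if m = n then 1 else 0 := fun m n => by
    rw [hb]; simp [i, (Fin.castLE_injective h4).eq_iff]
  let w : FieldFour := ⟨0, 1⟩
  have hiso : ∀ u : Sp Cd, u ≠ 0 → inner Cd u u = 0 →
      ∃ d ∈ Nb D x, Rep Cd d ((0, u, 0) : Tot Cd) := by
    intro u hu h0
    obtain ⟨d, hd⟩ := exists_rep F Cd (v := (0, u, 0)) (fun e => hu (congrArg (fun v : Tot Cd => v.2.1) e))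
      (by simp [form_apply, h0])
    refine ⟨d, ⟨rep_mem F Cd hd, ?_, ?_⟩, hd⟩
    · rintro rfl
      obtain ⟨c, hc, e⟩ := rep_unique F Cd (rep_x F Cd) hd
      exact hu (by simpa using congrArg (fun v : Tot Cd => v.2.1) e)
    · exact ((commute_iff F Cd (rep_x F Cd) hd).2 (by simp [form_apply]))
  have hne : ∀ (u : Sp Cd) (v : Sp Cd), inner Cd v u ≠ 0 → u ≠ 0 := fun u v h e => h (by rw [e, map_zero])
  obtain ⟨p, hp, hpr⟩ := hiso (b (i 0) + b (i 1)) (hne _ (b (i 0)) (by simp [hi]))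
    (by simp [hi, add_self'])
  obtain ⟨q, hq, hqr⟩ := hiso (b (i 1) + b (i 2)) (hne _ (b (i 1)) (by simp [hi]))
    (by simp [hi, add_self'])
  obtain ⟨r, hr, hrr⟩ := hiso (b (i 2) + b (i 3)) (hne _ (b (i 2)) (by simp [hi]))
    (by simp [hi, add_self'])
  obtain ⟨s, hs, hsr⟩ := hiso (b (i 0) + b (i 1) + b (i 2) + w • b (i 3))
    (hne _ (b (i 0)) (by simp [hi]))
    (by simp [hi, w]; decide)
  refine ⟨p, q, r, s, hp, hq, hr, hs, ?_, ?_, ?_, ?_, ?_, ?_⟩
  · rw [commute_iff F Cd hpr hqr]; simp [form_apply, hi]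
  · rw [commute_iff F Cd hqr hrr]; simp [form_apply, hi]
  · rw [commute_iff F Cd hrr hsr]; simp [form_apply, hi, w]; decide
  · rw [commute_iff F Cd hpr hrr]; simp [form_apply, hi]
  · rw [commute_iff F Cd hpr hsr]; simp [form_apply, hi, add_self']
  · rw [commute_iff F Cd hqr hsr]; simp [form_apply, hi, add_self']

omit F

/-- A thick class with lines of five points comes from a unitary group. -/
theorem main (F : Frame D x z) : ∃ n, 4 ≤ n ∧ Nonempty (G ≃* Cfsg.PSU n FieldFour 2) ∧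
    (6 ≤ n → ∃ p q r s, p ∈ Nb D x ∧ q ∈ Nb D x ∧ r ∈ Nb D x ∧ s ∈ Nb D x ∧ ¬ Commute p q ∧
      ¬ Commute q r ∧ ¬ Commute r s ∧ Commute p r ∧ Commute p s ∧ Commute q s) := by
  obtain ⟨Cd⟩ := exists_coord F
  have h2 := finrank_sp F Cd
  have ht := finrank_tot F Cd
  refine ⟨finrank FieldFour (Tot Cd), by omega, ?_, fun h6 => exists_path F Cd (by omega)⟩
  obtain ⟨Φ, hΦ, hker⟩ := exists_hom F Cd
  obtain ⟨e, he⟩ := (form_isHermitian F Cd).exists_isometry
    (stdHerm_isHermitian conjF_conj (finrank FieldFour (Tot Cd))) (form_sepRight F Cd)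
    (stdHerm_sepRight _) (Module.finrank_fin_fun _).symm
  obtain ⟨E⟩ := exists_sIsom_equiv Cd e he
  let E' : sIsom (form Cd) ≃* Cfsg.SU (finrank FieldFour (Tot Cd)) FieldFour 2 :=
    E.trans (suEquiv conjF_eq_pow).symm
  refine ⟨((QuotientGroup.quotientKerEquivOfSurjective Φ hΦ).symm.trans
    (QuotientGroup.congr _ _ E' ?_))⟩
  rw [hker]
  ext k
  simp only [Subgroup.mem_map, Subgroup.mem_center_iff]
  constructor
  · rintro ⟨l, hl, rfl⟩ g
    obtain ⟨m, rfl⟩ := E'.surjective g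
    change E' m * E' l = E' l * E' m
    rw [← map_mul, hl m, map_mul]
  · intro hk
    refine ⟨E'.symm k, fun g => E'.injective ?_, by simp⟩
    simp [hk (E' g)]

end CfsgLib.Sporadic.FischerCoord
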