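import Cfsg.Agent.Lib.Sporadic.LatticeModTwo

/-!
Every class modulo 2 of such a lattice is met by a vector of norm at most 8, when the classes are
counted out exactly.
-/

set_option autoImplicit false

namespace CfsgLib.Sporadic.LatticeModTwo

variable {n : ℕ} {B : Matrix (Fin n) (Fin n) ℤ}

theorem exists_short (hB : EvenRootless B) {N4 N6 N8 : ℕ}
    (h4 : {x : Fin n → ℤ | nrm B x = 4}.ncard = N4) (h6 : {x : Fin n → ℤ | nrm B x = 6}.ncard = N6)
    (h8 : {x : Fin n → ℤ | nrm B x = 8}.ncard = N8) (hN4 : N4 ≠ 0) (hN6 : N6 ≠ 0) (hN8 : N8 ≠ 0)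
    (hn : n ≠ 0) (htot : n * (2 + N4 + N6) + N8 = n * 2 ^ (n + 1)) (c : Fin n → ZMod 2) :
    ∃ y : Fin n → ℤ, nrm B y ≤ 8 ∧ red y = c := by
  classical
  have hclass := fun x hx => class_card_eq hB h4 h6 h8 hN4 hN6 hN8 htot (x := x) hx
  have f4 := finite_of_ncard h4 hN4
  have f6 := finite_of_ncard h6 hN6
  have f8 := finite_of_ncard h8 hN8
  rw [Set.ncard_eq_toFinset_card _ f4] at h4
  rw [Set.ncard_eq_toFinset_card _ f6] at h6
  rw [Set.ncard_eq_toFinset_card _ f8] at h8
  set S4 := f4.toFinset with hS4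
  set S6 := f6.toFinset with hS6
  set S8 := f8.toFinset with hS8
  have m4 : ∀ y, y ∈ S4 ↔ nrm B y = 4 := fun y => f4.mem_toFinset
  have m6 : ∀ y, y ∈ S6 ↔ nrm B y = 6 := fun y => f6.mem_toFinset
  have m8 : ∀ y, y ∈ S8 ↔ nrm B y = 8 := fun y => f8.mem_toFinset
  have c4 := card_image_small hB (by norm_num) (by norm_num) S4 m4
  have c6 := card_image_small hB (by norm_num) (by norm_num) S6 m6
  have c8 : S8.card = 2 * n * (S8.image red).card := by
    rw [Finset.card_eq_sum_card_image red S8, Finset.sum_const_nat (m := 2 * n), mul_comm]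
    intro b hb
    obtain ⟨x, hx, rfl⟩ := Finset.mem_image.1 hb
    rw [← hclass x ((m8 x).1 hx), ← Set.ncard_coe_finset]
    congr 1
    ext y
    simp only [Finset.coe_filter, Set.mem_ofPred_eq, m8]
    exact and_congr_right fun _ => eq_comm.trans red_eq_iff
  have hz : ∀ y ∈ ({0} : Finset (Fin n → ℤ)), nrm B y = 0 := by
    simp [nrm]
  have d04 := disjoint_image hB (by norm_num) (by norm_num) {0} S4 hz fun y => (m4 y).1
  have d06 := disjoint_image hB (by norm_num) (by norm_num) {0} S6 hz fun y => (m6 y).1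
  have d08 := disjoint_image hB (by norm_num) (by norm_num) {0} S8 hz fun y => (m8 y).1
  have d46 := disjoint_image hB (by norm_num) (by norm_num) S4 S6 (fun y => (m4 y).1) fun y => (m6 y).1
  have d48 := disjoint_image hB (by norm_num) (by norm_num) S4 S8 (fun y => (m4 y).1) fun y => (m8 y).1
  have d68 := disjoint_image hB (by norm_num) (by norm_num) S6 S8 (fun y => (m6 y).1) fun y => (m8 y).1
  set U := ({0} : Finset (Fin n → ℤ)).image red ∪ S4.image red ∪ S6.image red ∪ S8.image red with hU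
  have hUu : U = Finset.univ := by
    apply Finset.eq_univ_of_card
    rw [hU, Finset.card_union_of_disjoint
        (Finset.disjoint_union_left.2 ⟨Finset.disjoint_union_left.2 ⟨d08, d48⟩, d68⟩),
      Finset.card_union_of_disjoint (Finset.disjoint_union_left.2 ⟨d06, d46⟩),
      Finset.card_union_of_disjoint d04, Finset.image_singleton, Finset.card_singleton,
      Fintype.card_fun, ZMod.card, Fintype.card_fin]
    have e8 : N8 = 2 * n * (S8.image red).card := h8.symm.trans c8
    apply Nat.eq_of_mul_eq_mul_left (show 0 < 2 * n by omega)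
    rw [pow_succ] at htot
    nlinarith
  have hc : c ∈ U := hUu ▸ Finset.mem_univ c
  simp only [hU, Finset.mem_union, Finset.mem_image, Finset.mem_singleton] at hc
  rcases hc with ((⟨y, hy, e⟩ | ⟨y, hy, e⟩) | ⟨y, hy, e⟩) | ⟨y, hy, e⟩
  · exact ⟨y, by subst hy; simp [nrm], e⟩
  · exact ⟨y, ((m4 y).1 hy).le.trans (by norm_num), e⟩
  · exact ⟨y, ((m6 y).1 hy).le.trans (by norm_num), e⟩
  · exact ⟨y, ((m8 y).1 hy).le, e⟩

end CfsgLib.Sporadic.LatticeModTwo
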