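import Cfsg.Prelude.Def_SporadicCombinatorics
import Cfsg.Agent.Lib.SmallGroups.LeechBasic
import Cfsg.Agent.Lib.SmallGroups.LeechCount
import Cfsg.Agent.Lib.Sporadic.LatticeModTwoRep

/-!
Coordinates for the rank 24 lattice, and its classes modulo twice the lattice.
-/

set_option autoImplicit false

namespace CfsgLib.Sporadic.LeechModTwo

open Cfsg CfsgLib.SmallGroups Matrix

theorem single_eight_good (i : GolayPt) : LeechBasic.Good (Pi.single i (8 : ℤ)) := by
  refine ⟨0, fun j => ?_, ?_, ?_⟩
  · rcases eq_or_ne j i with rfl | h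
    · simp [Int.ModEq]
    · simp [h]
  · rw [Finset.sum_pi_single']
    simp [Int.ModEq]
  · have : LeechBasic.wd (Pi.single i (8 : ℤ)) 0 = 0 := by
      funext j
      rcases eq_or_ne j i with rfl | h
      · simp [LeechBasic.wd]; decide
      · simp [LeechBasic.wd, h]
    rw [this]
    exact zero_mem _

/-- The lattice as a module over the integers. -/
abbrev L : Submodule ℤ (GolayPt → ℤ) := AddSubgroup.toIntSubmodule leechLattice

theorem mem_L {x : GolayPt → ℤ} : x ∈ L ↔ x ∈ leechLattice := Iff.rfl

theorem finrank_L : Module.finrank ℤ L = 24 := by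
  refine le_antisymm ?_ ?_
  · refine (Submodule.finrank_le L).trans ?_
    rw [Module.finrank_pi, GolayOctads.card_golayPt]
  · let v : GolayPt → L := fun i => ⟨Pi.single i 8, LeechBasic.mem_lattice.2 (single_eight_good i)⟩
    have hv : LinearIndependent ℤ v := by
      rw [Fintype.linearIndependent_iff]
      intro g hg i
      have := congrFun (congrArg Subtype.val hg) i
      simp only [AddSubmonoidClass.coe_finsetSum, Submodule.coe_smul, v, Finset.sum_apply,
        Pi.smul_apply, Pi.single_apply, smul_eq_mul, mul_ite, mul_zero, Finset.sum_ite_eq,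
        Finset.mem_univ, if_true, ZeroMemClass.coe_zero, Pi.zero_apply] at this
      omega
    have := hv.fintype_card_le_finrank
    rwa [GolayOctads.card_golayPt] at this

/-- A basis of the lattice. -/
noncomputable def basis : Module.Basis (Fin 24) ℤ L := Module.finBasisOfFinrankEq ℤ L finrank_L

/-- The vector with the given coordinates. -/
noncomputable def emb : (Fin 24 → ℤ) →ₗ[ℤ] (GolayPt → ℤ) :=
  L.subtype ∘ₗ (basis.equivFun.symm : (Fin 24 → ℤ) →ₗ[ℤ] L)

theorem emb_injective : Function.Injective emb :=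
  Subtype.val_injective.comp basis.equivFun.symm.injective

theorem emb_mem (a : Fin 24 → ℤ) : emb a ∈ leechLattice := (basis.equivFun.symm a).2

theorem exists_emb {x : GolayPt → ℤ} (hx : x ∈ leechLattice) : ∃ a, emb a = x :=
  ⟨basis.equivFun ⟨x, hx⟩, by simp [emb]⟩

theorem eight_dvd_dot {x y : GolayPt → ℤ} (hx : x ∈ leechLattice) (hy : y ∈ leechLattice) :
    (8 : ℤ) ∣ x ⬝ᵥ y := by
  have h1 := LeechBasic.sixteen_dvd (LeechBasic.mem_lattice.1 hx)
  have h2 := LeechBasic.sixteen_dvd (LeechBasic.mem_lattice.1 hy)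
  have h3 := LeechBasic.sixteen_dvd (LeechBasic.mem_lattice.1 (add_mem hx hy))
  have e : sqNorm (x + y) = sqNorm x + sqNorm y + 2 * (x ⬝ᵥ y) := by
    simp only [sqNorm, dotProduct, Finset.mul_sum, ← Finset.sum_add_distrib, Pi.add_apply]
    exact Finset.sum_congr rfl fun i _ => by ring
  omega

/-- The Gram matrix, in the customary normalisation. -/
noncomputable def gram : Matrix (Fin 24) (Fin 24) ℤ :=
  .of fun i j => ((basis i : GolayPt → ℤ) ⬝ᵥ (basis j : GolayPt → ℤ)) / 8

theorem emb_apply (a : Fin 24 → ℤ) : emb a = ∑ i, a i • (basis i : GolayPt → ℤ) := by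
  simp [emb, Module.Basis.equivFun_symm_apply]

theorem sqNorm_emb (a : Fin 24 → ℤ) : sqNorm (emb a) = 8 * LatticeModTwo.nrm gram a := by
  have e : sqNorm (emb a) = emb a ⬝ᵥ emb a := Finset.sum_congr rfl fun i _ => sq _
  rw [e, emb_apply, sum_dotProduct, LatticeModTwo.nrm]
  simp only [dotProduct_sum, smul_dotProduct, dotProduct_smul, smul_eq_mul]
  rw [show a ⬝ᵥ (gram *ᵥ a) = ∑ i, a i * ∑ j, gram i j * a j from rfl, Finset.mul_sum]
  refine Finset.sum_congr rfl fun i _ => ?_
  simp only [Finset.mul_sum]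
  refine Finset.sum_congr rfl fun j _ => ?_
  obtain ⟨k, hk⟩ := eight_dvd_dot (basis i).2 (basis j).2
  rw [gram, Matrix.of_apply, hk, Int.mul_ediv_cancel_left _ (by norm_num)]
  ring

theorem evenRootless : LatticeModTwo.EvenRootless gram where
  symm := Matrix.IsSymm.ext fun i j => by simp only [gram, Matrix.of_apply, dotProduct_comm]
  pos a ha := by
    have h0 : emb a ≠ 0 := fun h => ha (emb_injective (h.trans (map_zero emb).symm))
    have := LeechBasic.thirtytwo_le (LeechBasic.mem_lattice.1 (emb_mem a)) h0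
    rw [sqNorm_emb] at this
    simp only [LatticeModTwo.nrm] at this
    omega
  even a := by
    have := LeechBasic.sixteen_dvd (LeechBasic.mem_lattice.1 (emb_mem a))
    rw [sqNorm_emb] at this
    simp only [LatticeModTwo.nrm] at this
    omega
  no_two a h2 := by
    have h0 : emb a ≠ 0 := fun h => by
      have : a = 0 := emb_injective (h.trans (map_zero emb).symm)
      simp [this] at h2
    have := LeechBasic.thirtytwo_le (LeechBasic.mem_lattice.1 (emb_mem a)) h0
    rw [sqNorm_emb] at this
    simp only [LatticeModTwo.nrm] at this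
    omega

/-- Sets of lattice vectors transfer to coordinates. -/
theorem ncard_emb (P : (GolayPt → ℤ) → Prop) :
    {x : GolayPt → ℤ | x ∈ leechLattice ∧ P x}.ncard = {a | P (emb a)}.ncard := by
  rw [← Set.ncard_image_of_injective _ emb_injective]
  congr 1
  ext x
  simp only [Set.mem_image, Set.mem_ofPred_eq]
  constructor
  · rintro ⟨hx, hp⟩
    obtain ⟨a, rfl⟩ := exists_emb hx
    exact ⟨a, hp, rfl⟩
  · rintro ⟨a, hp, rfl⟩
    exact ⟨emb_mem a, hp⟩

theorem congr_iff {a b : Fin 24 → ℤ} :
    (∃ z ∈ leechLattice, emb a - emb b = 2 • z) ↔ ∀ i, (2 : ℤ) ∣ (a - b) i := by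
  constructor
  · rintro ⟨z, hz, h⟩
    obtain ⟨c, rfl⟩ := exists_emb hz
    rw [← map_sub, ← map_nsmul] at h
    intro i
    rw [emb_injective h]
    exact ⟨c i, by simp⟩
  · intro h
    choose c hc using h
    exact ⟨emb c, emb_mem c, by
      rw [← map_sub, ← map_nsmul]; congr 1; funext i; simp [hc i]⟩

theorem count {n a b N : ℕ} {k : ℤ} (hn : (8 : ℤ) * k = n) (ha : n = 4 * a) (hb : n = 24 + 8 * b)
    (hk : n ≤ 64)
    (hc : LeechCount.parityCount (fun _ => true) 0 a + LeechCount.parityCount (fun _ => true) 1 b = N) :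
    {v : Fin 24 → ℤ | LatticeModTwo.nrm gram v = k}.ncard = N := by
  have h := LeechCount.count (fun _ => true) n a b (by omega) (by omega) (by omega)
  have e : {v : Fin 24 → ℤ | LatticeModTwo.nrm gram v = k} = {v | sqNorm (emb v) = n} :=
    Set.ext fun v => by simp only [Set.mem_ofPred_eq, sqNorm_emb]; omega
  rw [e, ← ncard_emb fun x => sqNorm x = n]
  simpa [hc] using h

theorem count4 : {v : Fin 24 → ℤ | LatticeModTwo.nrm gram v = 4}.ncard = 196560 :=
  count (n := 32) (a := 8) (b := 1) (by norm_num) (by norm_num) (by norm_num) (by norm_num)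
    (by decide +kernel)

theorem count6 : {v : Fin 24 → ℤ | LatticeModTwo.nrm gram v = 6}.ncard = 16773120 :=
  count (n := 48) (a := 12) (b := 3) (by norm_num) (by norm_num) (by norm_num) (by norm_num)
    (by decide +kernel)

theorem count8 : {v : Fin 24 → ℤ | LatticeModTwo.nrm gram v = 8}.ncard = 398034000 :=
  count (n := 64) (a := 16) (b := 5) (by norm_num) (by norm_num) (by norm_num) (by norm_num)
    (by decide +kernel)

/-- A vector of norm 8 has exactly 48 vectors in its class. -/
theorem cross_card {x : GolayPt → ℤ} (hx : x ∈ leechLattice) (hxn : sqNorm x = 64) :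
    (cross x).ncard = 48 := by
  obtain ⟨a, rfl⟩ := exists_emb hx
  have h8 : LatticeModTwo.nrm gram a = 8 := by rw [sqNorm_emb] at hxn; omega
  have h := LatticeModTwo.class_card_eq evenRootless count4 count6 count8 (by norm_num)
    (by norm_num) (by norm_num) (by norm_num) h8
  rw [cross, hxn, ncard_emb fun y => sqNorm y = 64 ∧ ∃ z ∈ leechLattice, emb a - y = 2 • z]
  refine Eq.trans ?_ h
  congr 1
  ext b
  simp only [Set.mem_ofPred_eq, congr_iff, sqNorm_emb]
  exact and_congr_left fun _ => by omega

/-- Every class contains a vector of norm at most 8. -/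
theorem exists_short {x : GolayPt → ℤ} (hx : x ∈ leechLattice) :
    ∃ y ∈ leechLattice, sqNorm y ≤ 64 ∧ ∃ z ∈ leechLattice, x - y = 2 • z := by
  obtain ⟨a, rfl⟩ := exists_emb hx
  obtain ⟨b, hb, hr⟩ := LatticeModTwo.exists_short evenRootless count4 count6 count8 (by norm_num)
    (by norm_num) (by norm_num) (by norm_num) (by norm_num) (LatticeModTwo.red a)
  exact ⟨emb b, emb_mem b, by rw [sqNorm_emb]; omega,
    congr_iff.2 (LatticeModTwo.red_eq_iff.1 hr.symm)⟩

end CfsgLib.Sporadic.LeechModTwo
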