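import Cfsg.Agent.Lib.Sporadic.FieldFour
import Cfsg.Prelude.Def_ChevG2

/-!
# Packed vectors of the adjoint module of G2 over the field with four elements

A vector is a natural number with two bits for each of the fourteen coordinates.
-/

set_option maxRecDepth 100000

open Cfsg.Lie Matrix

namespace CfsgLib.Sporadic.G2Four

/-- The index set. -/
abbrev Idx : Type := chevG2.Idx

/-- Vectors. -/
abbrev VecG : Type := Idx → FieldFour

/-- Matrices. -/
abbrev MatG : Type := Matrix Idx Idx FieldFour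

/-- The position of a coordinate. -/
def posI : Idx → ℕ := Sum.elim (fun i => i.val) fun s => 2 + s.val

/-- The coordinate at a position. -/
def idxI (n : ℕ) : Idx :=
  if n < 2 then Sum.inl ⟨n % 2, Nat.mod_lt _ (by decide)⟩ else Sum.inr ⟨(n - 2) % 12, Nat.mod_lt _ (by decide)⟩

theorem idxI_posI : ∀ i, idxI (posI i) = i := by decide

theorem posI_idxI : ∀ n < 14, posI (idxI n) = n := by decide

theorem posI_lt : ∀ i, posI i < 14 := by decide

/-- The element of a code. -/
def ofN (n : ℕ) : FieldFour := FieldFour.ofCode (Fin.ofNat 4 n)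

/-- A coordinate of a code. -/
def coordN (c j : ℕ) : ℕ := Nat.mod (Nat.shiftRight c (2 * j)) 4

/-- The product of two codes. -/
def mulN (a b : ℕ) : ℕ := Nat.mod (Nat.shiftRight 0x9c78e400 (2 * (4 * a + b))) 4

theorem ofN_mulN : ∀ a < 4, ∀ b < 4, ofN (mulN a b) = ofN a * ofN b ∧ mulN a b < 4 := by
  decide +kernel

theorem ofN_xor : ∀ a < 4, ∀ b < 4, ofN (a ^^^ b) = ofN a + ofN b := by decide +kernel

theorem ofN_zero : ofN 0 = 0 := by decide

/-- The vector of a code. -/
def toVecG (c : ℕ) : VecG := fun i => ofN (coordN c (posI i))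

theorem coordN_lt (c j : ℕ) : coordN c j < 4 := Nat.mod_lt _ (by norm_num)

theorem coordN_shift {x : ℕ} (hx : x < 4) (r j : ℕ) :
    coordN (x <<< (2 * r)) j = if j = r then x else 0 := by
  show (x <<< (2 * r)) >>> (2 * j) % 4 = _
  rw [Nat.shiftLeft_eq, Nat.shiftRight_eq_div_pow]
  rcases Nat.lt_trichotomy j r with h | rfl | h
  · rw [if_neg (by omega)]
    obtain ⟨d, rfl⟩ : ∃ d, r = j + 1 + d := ⟨r - j - 1, by omega⟩
    rw [show 2 * (j + 1 + d) = 2 * j + (2 + 2 * d) by ring, pow_add, ← mul_assoc,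
      mul_comm x (2 ^ (2 * j)), mul_assoc, Nat.mul_div_cancel_left _ (by positivity), pow_add,
      ← mul_assoc, mul_comm x (2 ^ 2), mul_assoc]
    exact Nat.mul_mod_right 4 _
  · rw [if_pos rfl, Nat.mul_div_cancel _ (by positivity), Nat.mod_eq_of_lt hx]
  · rw [if_neg (by omega)]
    obtain ⟨d, rfl⟩ : ∃ d, j = r + 1 + d := ⟨j - r - 1, by omega⟩
    rw [show 2 * (r + 1 + d) = 2 * r + (2 + 2 * d) by ring, pow_add, ← Nat.div_div_eq_div_mul,
      Nat.mul_div_cancel _ (by positivity), Nat.div_eq_of_lt, Nat.zero_mod]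
    rw [pow_add]
    calc x < 4 := hx
      _ ≤ 2 ^ 2 * 2 ^ (2 * d) := Nat.le_mul_of_pos_right _ (by positivity)

theorem coordN_xor (a b j : ℕ) : coordN (a ^^^ b) j = coordN a j ^^^ coordN b j := by
  show (a ^^^ b) >>> (2 * j) % 2 ^ 2 = _
  rw [Nat.shiftRight_xor_distrib, Nat.xor_mod_two_pow]
  rfl

theorem toVecG_add (c : ℕ) {x : ℕ} (hx : x < 4) {r : ℕ} (hr : r < 14) :
    toVecG (c ^^^ (x <<< (2 * r))) = toVecG c + Pi.single (idxI r) (ofN x) := by
  funext i
  rw [Pi.add_apply, Pi.single_apply]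
  show ofN (coordN (c ^^^ (x <<< (2 * r))) (posI i)) = ofN (coordN c (posI i)) + _
  rw [coordN_xor, coordN_shift hx]
  by_cases h : posI i = r
  · rw [if_pos h, if_pos (by rw [← h, idxI_posI]), ofN_xor _ (coordN_lt _ _) _ hx]
  · rw [if_neg h, if_neg (fun e => h (by rw [e, posI_idxI r hr])), Nat.xor_zero, add_zero]

/-- Sparse entries `(row, column, value)` in range. -/
def entsOK (es : List (ℕ × ℕ × ℕ)) : Bool :=
  es.all fun e => decide (e.1 < 14) && decide (e.2.1 < 14) && decide (e.2.2 < 4)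

/-- Apply one plus sparse entries to a code. -/
def opN : List (ℕ × ℕ × ℕ) → ℕ → ℕ → ℕ
  | [], _, acc => acc
  | e :: t, c, acc => opN t c (acc ^^^ (mulN e.2.2 (coordN c e.2.1) <<< (2 * e.1)))

/-- The matrix of one plus sparse entries. -/
def entMat : List (ℕ × ℕ × ℕ) → MatG
  | [] => 1
  | e :: t => Matrix.single (idxI e.1) (idxI e.2.1) (ofN e.2.2) + entMat t

theorem toVecG_opN : ∀ (es : List (ℕ × ℕ × ℕ)), entsOK es = true → ∀ c acc : ℕ,
    toVecG (opN es c acc) + toVecG c = toVecG acc + entMat es *ᵥ toVecG c := by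
  intro es
  induction es with
  | nil =>
    intro _ c acc
    rw [entMat, Matrix.one_mulVec]
    rfl
  | cons e t ih =>
    intro h c acc
    simp only [entsOK, List.all_cons, Bool.and_eq_true, decide_eq_true_eq] at h
    obtain ⟨⟨⟨h1, h2⟩, h3⟩, ht⟩ := h
    have hm := ofN_mulN _ h3 _ (coordN_lt c e.2.1)
    rw [opN, ih ht, toVecG_add _ hm.2 h1, entMat, Matrix.add_mulVec, Matrix.single_mulVec, hm.1,
      show toVecG c (idxI e.2.1) = ofN (coordN c e.2.1) by rw [toVecG, posI_idxI _ h2], add_assoc]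
    congr 1

theorem toVecG_opN_self (es : List (ℕ × ℕ × ℕ)) (h : entsOK es = true) (c : ℕ) :
    toVecG (opN es c c) = entMat es *ᵥ toVecG c := by
  have e := toVecG_opN es h c c
  rw [add_comm] at e
  exact add_left_cancel e

/-- The entries of a scalar `k`, as one plus diagonal entries. -/
def scalEnts (k : ℕ) : List (ℕ × ℕ × ℕ) := (List.range 14).map fun j => (j, j, k ^^^ 1)

/-- A multiple of a code. -/
def scalN (k c : ℕ) : ℕ := opN (scalEnts k) c c

theorem entMat_scalEnts : ∀ k : Fin 4, entMat (scalEnts k.val) = ofN k.val • (1 : MatG) := by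
  decide +kernel

theorem toVecG_scalN {k : ℕ} (hk : k < 4) (c : ℕ) : toVecG (scalN k c) = ofN k • toVecG c := by
  have h : ∀ j : Fin 4, entsOK (scalEnts j.val) = true := by decide
  rw [scalN, toVecG_opN_self _ (h ⟨k, hk⟩), entMat_scalEnts ⟨k, hk⟩, Matrix.smul_mulVec,
    Matrix.one_mulVec]

/-- The code of a vector. -/
def ofVecG (v : VecG) : ℕ :=
  ((List.range 14).map fun j => FieldFour.code (v (idxI j)) * 4 ^ j).sum

end CfsgLib.Sporadic.G2Four
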