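import Cfsg.Agent.Lib.Sporadic.J3Group

/-!
# The third Janko group over any field with four elements
-/

open Matrix Cfsg.Spor CfsgLib.Sporadic.G2Four

namespace CfsgLib.Sporadic.J3Mat

variable {F : Type*} [Field F] [Fintype F] (hF : Fintype.card F = 4) {ω : F}
  (hω : ω ^ 2 + ω + 1 = 0)

include hF in
theorem two_eq_zero : (2 : F) = 0 := by
  have h : (4 : F) = 0 := by
    have := Nat.cast_card_eq_zero F
    rwa [hF] at this
  have h2 : (2 : F) * 2 = 0 := by rw [← h]; norm_num
  exact (mul_self_eq_zero).1 h2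

/-- The map of coordinates. -/
def toF (ω : F) (x : FieldFour) : F := (x.re.val : F) + (x.im.val : F) * ω

theorem four_cases : ∀ x : FieldFour, x = 0 ∨ x = 1 ∨ x = w4 ∨ x = w4 + 1 := by decide +kernel

theorem four_table : (1 + 1 = (0 : FieldFour) ∧ w4 + w4 = 0 ∧ w4 + 1 + (w4 + 1) = 0) ∧
    (1 + w4 = w4 + 1 ∧ 1 + (w4 + 1) = w4 ∧ w4 + (w4 + 1) = 1 ∧ w4 + 1 + 1 = w4 ∧ w4 + 1 + w4 = 1) ∧
    (w4 * w4 = w4 + 1 ∧ w4 * (w4 + 1) = 1 ∧ (w4 + 1) * w4 = 1 ∧ (w4 + 1) * (w4 + 1) = w4) := by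
  decide +kernel

theorem toF_values : toF ω 0 = 0 ∧ toF ω 1 = 1 ∧ toF ω w4 = ω ∧ toF ω (w4 + 1) = ω + 1 := by
  have h : ((0 : FieldFour).re.val = 0 ∧ (0 : FieldFour).im.val = 0) ∧
      ((1 : FieldFour).re.val = 1 ∧ (1 : FieldFour).im.val = 0) ∧
      (w4.re.val = 0 ∧ w4.im.val = 1) ∧ ((w4 + 1).re.val = 1 ∧ (w4 + 1).im.val = 1) := by
    decide +kernel
  obtain ⟨⟨a1, a2⟩, ⟨b1, b2⟩, ⟨c1, c2⟩, d1, d2⟩ := h
  simp only [toF, a1, a2, b1, b2, c1, c2, d1, d2, Nat.cast_zero, Nat.cast_one]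
  refine ⟨by ring, by ring, by ring, by ring⟩

include hF hω in
theorem toF_hom : (toF ω 1 = 1 ∧ toF ω 0 = 0) ∧ (∀ x y, toF ω (x + y) = toF ω x + toF ω y) ∧
    ∀ x y, toF ω (x * y) = toF ω x * toF ω y := by
  have h2 := two_eq_zero hF
  have hw : ω * ω = ω + 1 := by linear_combination hω - (ω + 1) * h2
  obtain ⟨⟨s1, s2, s3⟩, ⟨t1, t2, t3, t4, t5⟩, m1, m2, m3, m4⟩ := four_table
  obtain ⟨v0, v1, v2, v3⟩ := toF_values (ω := ω)
  refine ⟨⟨v1, v0⟩, fun x y => ?_, fun x y => ?_⟩
  · rcases four_cases x with rfl | rfl | rfl | rfl <;>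
      rcases four_cases y with rfl | rfl | rfl | rfl <;>
      simp only [zero_add, add_zero, s1, s2, s3, t1, t2, t3, t4, t5, v0, v1, v2, v3] <;>
      first | ring1 | linear_combination h2 | linear_combination -h2 |
        linear_combination -ω * h2 | linear_combination -(ω + 1) * h2
  · rcases four_cases x with rfl | rfl | rfl | rfl <;>
      rcases four_cases y with rfl | rfl | rfl | rfl <;>
      simp only [zero_mul, mul_zero, one_mul, mul_one, m1, m2, m3, m4, v0, v1, v2, v3] <;>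
      first | ring1 | linear_combination -hw | linear_combination -hw - ω * h2 |
        linear_combination -hw - h2 | linear_combination -hw - (ω + 1) * h2

/-- The isomorphism of the fixed field with the given one. -/
noncomputable def fieldEquiv : FieldFour ≃+* F :=
  RingEquiv.ofBijective
    ({ toFun := toF ω
       map_one' := (toF_hom hF hω).1.1
       map_zero' := (toF_hom hF hω).1.2
       map_add' := (toF_hom hF hω).2.1
       map_mul' := (toF_hom hF hω).2.2 } : FieldFour →+* F)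
    ((Fintype.bijective_iff_injective_and_card _).2 ⟨RingHom.injective _, by
      rw [hF, FieldFour.card_eq]⟩)

theorem fieldEquiv_w4 : fieldEquiv hF hω w4 = ω := by
  exact toF_values.2.2.1

/-- Matrices over the two fields. -/
noncomputable def glEquiv : GL F9 FieldFour ≃* GL F9 F :=
  Units.mapEquiv (fieldEquiv hF hω).mapMatrix.toMulEquiv

theorem glEquiv_val (g : GL F9 FieldFour) :
    (glEquiv hF hω g : Matrix F9 F9 F) = (g : MatJ).map (fieldEquiv hF hω) := rfl

theorem omegaPow_map (n : ZMod 3) :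
    fieldEquiv hF hω (omegaPow FieldFour w4 n) = omegaPow F ω n := by
  rw [omegaPow, omegaPow, map_pow, fieldEquiv_w4]

theorem gens_map :
    (fun M : MatJ => M.map (fieldEquiv hF hω)) '' j3Gens FieldFour w4 = j3Gens F ω := by
  have hA : ∀ Z, (j3A FieldFour w4 Z).map (fieldEquiv hF hω) = j3A F ω Z := fun Z => by
    rw [j3A, j3A, Matrix.diagonal_map (map_zero _)]
    exact congrArg _ (funext fun z => omegaPow_map hF hω _)
  have hE : ∀ Z, (j3E FieldFour w4 Z).map (fieldEquiv hF hω) = j3E F ω Z := fun Z => by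
    rw [j3E, j3E, Matrix.diagonal_map (map_zero _)]
    exact congrArg _ (funext fun z => omegaPow_map hF hω _)
  have hD : ∀ Z, (j3D FieldFour w4 Z).map (fieldEquiv hF hω) = j3D F ω Z := fun Z => by
    refine Matrix.ext fun w z => ?_
    simp only [j3D, Matrix.map_apply, Matrix.of_apply, j3Lam]
    split_ifs <;> simp [fieldEquiv_w4]
  have hB : ∀ Z, (j3B FieldFour Z).map (fieldEquiv hF hω) = j3B F Z := fun Z => by
    refine Matrix.ext fun w z => ?_
    simp only [j3B, Matrix.map_apply, Matrix.of_apply]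
    split_ifs <;> simp
  have hC : ∀ Z, (j3C FieldFour Z).map (fieldEquiv hF hω) = j3C F Z := fun Z => by
    refine Matrix.ext fun w z => ?_
    simp only [j3C, Matrix.map_apply, Matrix.of_apply]
    split_ifs <;> simp
  simp only [j3Gens, Set.image_union, ← Set.range_comp, Function.comp_def, hA, hE, hD]
  congr 1
  · congr 1
    ext M
    constructor
    · rintro ⟨_, ⟨Z, hZ, rfl⟩, rfl⟩; exact ⟨Z, hZ, hB Z⟩
    · rintro ⟨Z, hZ, rfl⟩; exact ⟨_, ⟨Z, hZ, rfl⟩, hB Z⟩
  · ext M
    constructor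
    · rintro ⟨_, ⟨Z, hZ, rfl⟩, rfl⟩; exact ⟨Z, hZ, hC Z⟩
    · rintro ⟨Z, hZ, rfl⟩; exact ⟨_, ⟨Z, hZ, rfl⟩, hC Z⟩

theorem map_T3 : T3.map (glEquiv hF hω).toMonoidHom = threeJ3 F ω := by
  rw [T3, threeJ3, MonoidHom.map_closure, threeJ3]
  congr 1
  ext g
  constructor
  · rintro ⟨a, ha, rfl⟩
    show (glEquiv hF hω a : Matrix F9 F9 F) ∈ j3Gens F ω
    rw [← gens_map hF hω]
    exact ⟨_, ha, rfl⟩
  · intro hg
    refine ⟨(glEquiv hF hω).symm g, ?_, (glEquiv hF hω).apply_symm_apply g⟩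
    have hg' : (g : Matrix F9 F9 F) ∈ j3Gens F ω := hg
    rw [← gens_map hF hω] at hg'
    obtain ⟨M, hM, e⟩ := hg'
    have : ((glEquiv hF hω).symm g : MatJ) = M := by
      have h1 := glEquiv_val hF hω ((glEquiv hF hω).symm g)
      rw [MulEquiv.apply_symm_apply] at h1
      exact Matrix.map_injective (fieldEquiv hF hω).injective (h1.symm.trans e.symm)
    show (((glEquiv hF hω).symm g : GL F9 FieldFour) : MatJ) ∈ j3Gens FieldFour w4
    rw [this]
    exact hM

/-- The triple covers over the two fields. -/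
noncomputable def coverEquiv : T3 ≃* threeJ3 F ω :=
  ((glEquiv hF hω).subgroupMap T3).trans (MulEquiv.subgroupCongr (map_T3 hF hω))

theorem map_center :
    (Subgroup.center T3).map (coverEquiv hF hω).toMonoidHom = Subgroup.center (threeJ3 F ω) := by
  ext g
  rw [Subgroup.mem_map_equiv, Subgroup.mem_center_iff, Subgroup.mem_center_iff]
  constructor
  · intro h x
    have := congrArg (coverEquiv hF hω) (h ((coverEquiv hF hω).symm x))
    simpa using this
  · intro h x
    apply (coverEquiv hF hω).injective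
    simpa using h (coverEquiv hF hω x)

/-- The simple groups over the two fields. -/
noncomputable def j3Equiv : Q3 ≃* J3 F ω :=
  QuotientGroup.congr _ _ (coverEquiv hF hω) (map_center hF hω)

end CfsgLib.Sporadic.J3Mat
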