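import Cfsg.Agent.Lib.Sporadic.J3Coding
import Cfsg.Agent.Lib.Sporadic.CosetCertSubgroup
import Cfsg.Agent.Lib.Sporadic.J3Data.J3TableChecks
import Cfsg.Agent.Lib.Sporadic.J3Data.J3Relators
import Cfsg.Agent.Lib.Sporadic.J3Data.J3Chain
import Cfsg.Agent.Lib.Sporadic.J3Data.J3Suborbits
import Cfsg.Agent.Lib.Sporadic.J3Data.J3SearchAll

/-!
# The presented third Janko group: order, simplicity, the action on 6156 points
-/

set_option maxRecDepth 100000

open Cfsg.Spor

namespace CfsgLib.Sporadic.CosetCert.J3P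

open J3Data (table)

theorem exists_hom : ∃ φ : PG →* Equiv.Perm (Fin table.N), table.Acts φ coding.gen :=
  coding.exists_acts table J3Data.certG J3Data.certG_valid rfl rfl rfl
    (fun u hu x hx => J3Data.table_gen u hu x hx)
    (coding.tableOK_of_map_eq (by decide +kernel) (by decide +kernel) (by decide +kernel)
      J3Data.table_relators)

/-- The action on 6156 points. -/
noncomputable def hom : PG →* Equiv.Perm (Fin table.N) := exists_hom.choose

theorem hom_acts : table.Acts hom coding.gen := exists_hom.choose_spec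

theorem table_N : table.N = 6156 := rfl

theorem two_le : 2 ≤ table.N := by rw [table_N]; norm_num

/-- The base point. -/
noncomputable def pt : Fin table.N := ⟨0, lt_of_lt_of_le Nat.two_pos two_le⟩

theorem map_sub {l : List ℕ} (hl : ∀ x ∈ l, x < table.nl) :
    (sub l).map hom = Subgroup.closure (table.rowSet hom coding.gen l) :=
  map_closure_letters hom coding.gen hl

theorem table_slp : table.slpOK = true := by
  rfl

theorem rows_lt {l : List ℕ} (hl : ∀ x ∈ l, x < table.nl) :
    ∀ x ∈ l, x < table.nl + table.slp.length := fun x hx =>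
  lt_of_lt_of_le (hl x hx) (Nat.le_add_right _ _)

theorem hom_word : ∀ (L : List ℕ), (∀ x ∈ L, x < table.nl) → ∀ v : Fin table.N,
    ((hom (appProd coding.gen L) v : Fin table.N) : ℕ) =
      L.foldl (fun w x => table.img x w) v := by
  intro L
  induction L with
  | nil => intro _ v; simp [appProd]
  | cons x t ih =>
    intro hL v
    rw [appProd, map_mul, Equiv.Perm.mul_apply,
      ih (fun y hy => hL y (List.mem_cons_of_mem _ hy)),
      hom_acts.img_eq x (hL x List.mem_cons_self) v]
    rfl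

theorem hom_eq_one {L : List ℕ} (hL : ∀ x ∈ L, x < table.nl)
    (h : ∀ v < table.N, L.foldl (fun w x => table.img x w) v = v) :
    hom (appProd coding.gen L) = 1 := by
  ext u
  rw [hom_word L hL u, Equiv.Perm.one_apply]
  exact h u u.2

theorem finite : Finite PG := Nat.finite_of_card_ne_zero card_le.2

theorem card_eq : Nat.card PG = 50232960 ∧ Function.Injective hom := by
  have := finite
  have h1 : 50232960 ≤ Nat.card hom.range := by
    rw [← J3Data.chainG_prod]
    have := PTab.chainW_le_card hom_acts ⊥ _ [] hom.range J3Data.chainG_ok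
      (fun e _ w _ _ => ⟨_, rfl⟩) bot_le (fun e _ u _ z hz => by
        rw [Subgroup.mem_bot] at hz; rw [hz]; rfl)
    rwa [Subgroup.card_bot, one_mul] at this
  have h2 : Nat.card hom.range ≤ Nat.card PG :=
    Nat.card_le_card_of_surjective _ hom.rangeRestrict_surjective
  have hc : Nat.card PG = 50232960 := le_antisymm card_le.1 (h1.trans h2)
  refine ⟨hc, ?_⟩
  have hb : Function.Bijective hom.rangeRestrict :=
    (Nat.bijective_iff_surjective_and_card _).2 ⟨hom.rangeRestrict_surjective, by omega⟩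
  intro a b e
  exact hb.1 (Subtype.ext e)

theorem bases : ∀ e ∈ J3Data.chainG, e.1 = 0 ∨ e.1 = 2 ∨ e.1 = 1 ∨ e.1 = 3 := by decide +kernel

theorem eq_one_of_fix (g : PG) (h : ∀ u : Fin table.N,
    ((u : ℕ) = 0 ∨ (u : ℕ) = 2 ∨ (u : ℕ) = 1 ∨ (u : ℕ) = 3) → hom g u = u) : g = 1 := by
  have := finite
  by_contra hne
  have hx : hom g ≠ 1 := fun e => hne (card_eq.2 (e.trans (map_one hom).symm))
  have h2 := PTab.chainW_le_card hom_acts (Subgroup.zpowers (hom g)) _ [] hom.range
    J3Data.chainG_ok (fun e _ w _ _ => ⟨_, rfl⟩)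
    (Subgroup.zpowers_le.2 ⟨g, rfl⟩)
    (fun e he u hu z hz => by
      have hz' : z ∈ MulAction.stabilizer (Equiv.Perm (Fin table.N)) u :=
        Subgroup.zpowers_le.2 (show hom g u = u from h u (hu ▸ bases e he)) hz
      exact hz')
  have h4 : 2 ≤ Nat.card (Subgroup.zpowers (hom g)) := by
    have : Nontrivial (Subgroup.zpowers (hom g)) :=
      ⟨⟨⟨hom g, Subgroup.mem_zpowers _⟩, 1, fun e => hx (congrArg Subtype.val e)⟩⟩
    exact Finite.one_lt_card
  have h3 : Nat.card hom.range ≤ Nat.card PG :=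
    Nat.card_le_card_of_surjective _ hom.rangeRestrict_surjective
  replace h2 := le_trans (Nat.mul_le_mul_right _ h4) h2
  rw [J3Data.chainG_prod] at h2
  rw [card_eq.1] at h3
  omega

/-- The point stabiliser. -/
noncomputable abbrev grpH : Subgroup PG := sub [0, 1, 2]

theorem hom_fix : ∀ k ∈ grpH, hom k pt = pt := by
  intro k hk
  induction hk using Subgroup.closure_induction with
  | mem k hk =>
    obtain ⟨x, hx, rfl⟩ := hk
    refine Fin.ext ?_
    have hlt : ∀ y ∈ [0, 1, 2], y < table.nl ∧ table.img y 0 = 0 := by decide +kernel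
    rw [hom_acts.img_eq x (hlt x hx).1 pt]
    exact (hlt x hx).2
  | one => simp
  | mul a b _ _ ha hb => rw [map_mul, Equiv.Perm.mul_apply, hb, ha]
  | inv a _ ha => rw [map_inv, Equiv.Perm.inv_def, Equiv.symm_apply_eq, ha]

theorem transitive : ∀ u, ∃ a, hom a pt = u := by
  intro u
  have hl : ∀ x ∈ [0, 1, 2, 3], x < table.nl := by decide +kernel
  obtain ⟨h1, h2⟩ := PTab.orbit_eq hom_acts table_slp (rows_lt hl) pt
    J3Data.searchAll J3Data.searchAll_ok
  have h3 : table.maskSet (table.orbitMask [0, 1, 2, 3] pt J3Data.searchAll) = Finset.univ := by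
    apply Finset.eq_univ_of_card
    rw [h2, Fintype.card_fin, J3Data.searchAll_length, table_N]
  have hu : u ∈ MulAction.orbit
      (Subgroup.closure (table.rowSet hom coding.gen [0, 1, 2, 3])) pt := by
    rw [h1, h3]; simp
  obtain ⟨⟨π, hπ⟩, rfl⟩ := hu
  rw [← map_sub hl, Subgroup.mem_map] at hπ
  obtain ⟨a, -, rfl⟩ := hπ
  exact ⟨a, rfl⟩

theorem suborbit {b : ℕ} (hb : b < table.N) {L : List (ℕ × ℕ × ℕ)}
    (hL : table.orbitOK [0, 1, 2] b L = true) :
    ∃ O : Finset (Fin table.N),
      (O : Set _) = MulAction.orbit (grpH.map hom) (⟨b, hb⟩ : Fin table.N) ∧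
        O = table.maskSet (table.orbitMask [0, 1, 2] b L) ∧ O.card = L.length + 1 := by
  have hl : ∀ x ∈ [0, 1, 2], x < table.nl := by decide +kernel
  obtain ⟨h1, h2⟩ := PTab.orbit_eq hom_acts table_slp (rows_lt hl) ⟨b, hb⟩ L hL
  exact ⟨_, by rw [map_sub hl]; exact h1.symm, rfl, h2⟩

theorem disjoint_of_not_mem {b b' : ℕ} (hb : b < table.N) (hb' : b' < table.N)
    {O O' : Finset (Fin table.N)}
    (hO : (O : Set _) = MulAction.orbit (grpH.map hom) (⟨b, hb⟩ : Fin table.N))
    (hO' : (O' : Set _) = MulAction.orbit (grpH.map hom) (⟨b', hb'⟩ : Fin table.N))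
    (hne : (⟨b', hb'⟩ : Fin table.N) ∉ O) : Disjoint O O' := by
  rw [← Finset.disjoint_coe, hO, hO']
  refine (MulAction.orbit.eq_or_disjoint _ _).resolve_left fun e => hne ?_
  rw [← Finset.mem_coe, hO, e]
  exact MulAction.mem_orbit_self _

theorem not_mem_of_testBit {O : Finset (Fin table.N)} {m : ℕ} (e : O = table.maskSet m) {b : ℕ}
    (hb : b < table.N) (h : Nat.testBit m b = false) : (⟨b, hb⟩ : Fin table.N) ∉ O := by
  rw [e, PTab.mem_maskSet]
  simp [h]

attribute [local irreducible] J3Data.table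

set_option maxHeartbeats 4000000 in
theorem isSimple : IsSimpleGroup PG := by
  have := finite
  obtain ⟨O0, hO0, e0, hc0⟩ := suborbit (b := 1) (by decide +kernel) J3Data.search0_ok
  obtain ⟨O1, hO1, e1, hc1⟩ := suborbit (b := 102) (by decide +kernel) J3Data.search1_ok
  obtain ⟨O2, hO2, e2, hc2⟩ := suborbit (b := 121) (by decide +kernel) J3Data.search2_ok
  obtain ⟨O3, hO3, e3, hc3⟩ := suborbit (b := 19) (by decide +kernel) J3Data.search3_ok
  obtain ⟨O4, hO4, e4, hc4⟩ := suborbit (b := 5) (by decide +kernel) J3Data.search4_ok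
  obtain ⟨O5, hO5, e5, hc5⟩ := suborbit (b := 14) (by decide +kernel) J3Data.search5_ok
  obtain ⟨O6, hO6, e6, hc6⟩ := suborbit (b := 57) (by decide +kernel) J3Data.search6_ok
  rw [show J3Data.search0.length = 84 by decide +kernel] at hc0
  rw [show J3Data.search1.length = 119 by decide +kernel] at hc1
  rw [show J3Data.search2.length = 509 by decide +kernel] at hc2
  rw [show J3Data.search3.length = 679 by decide +kernel] at hc3
  rw [show J3Data.search4.length = 1359 by decide +kernel] at hc4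
  rw [show J3Data.search5.length = 1359 by decide +kernel] at hc5
  rw [show J3Data.search6.length = 2039 by decide +kernel] at hc6
  have n0 : ∀ b ∈ ([0, 102, 121, 19, 5, 14, 57] : List ℕ),
      Nat.testBit (table.orbitMask [0, 1, 2] 1 J3Data.search0) b = false := by decide +kernel
  have n1 : ∀ b ∈ ([0, 121, 19, 5, 14, 57] : List ℕ),
      Nat.testBit (table.orbitMask [0, 1, 2] 102 J3Data.search1) b = false := by decide +kernel
  have n2 : ∀ b ∈ ([0, 19, 5, 14, 57] : List ℕ),
      Nat.testBit (table.orbitMask [0, 1, 2] 121 J3Data.search2) b = false := by decide +kernel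
  have n3 : ∀ b ∈ ([0, 5, 14, 57] : List ℕ),
      Nat.testBit (table.orbitMask [0, 1, 2] 19 J3Data.search3) b = false := by decide +kernel
  have n4 : ∀ b ∈ ([0, 14, 57] : List ℕ),
      Nat.testBit (table.orbitMask [0, 1, 2] 5 J3Data.search4) b = false := by decide +kernel
  have n5 : ∀ b ∈ ([0, 57] : List ℕ),
      Nat.testBit (table.orbitMask [0, 1, 2] 14 J3Data.search5) b = false := by decide +kernel
  have n6 : ∀ b ∈ ([0] : List ℕ),
      Nat.testBit (table.orbitMask [0, 1, 2] 57 J3Data.search6) b = false := by decide +kernel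
  have d01 := disjoint_of_not_mem _ _ hO0 hO1 (not_mem_of_testBit e0 _ (n0 102 (by simp)))
  have d02 := disjoint_of_not_mem _ _ hO0 hO2 (not_mem_of_testBit e0 _ (n0 121 (by simp)))
  have d03 := disjoint_of_not_mem _ _ hO0 hO3 (not_mem_of_testBit e0 _ (n0 19 (by simp)))
  have d04 := disjoint_of_not_mem _ _ hO0 hO4 (not_mem_of_testBit e0 _ (n0 5 (by simp)))
  have d05 := disjoint_of_not_mem _ _ hO0 hO5 (not_mem_of_testBit e0 _ (n0 14 (by simp)))
  have d06 := disjoint_of_not_mem _ _ hO0 hO6 (not_mem_of_testBit e0 _ (n0 57 (by simp)))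
  have d12 := disjoint_of_not_mem _ _ hO1 hO2 (not_mem_of_testBit e1 _ (n1 121 (by simp)))
  have d13 := disjoint_of_not_mem _ _ hO1 hO3 (not_mem_of_testBit e1 _ (n1 19 (by simp)))
  have d14 := disjoint_of_not_mem _ _ hO1 hO4 (not_mem_of_testBit e1 _ (n1 5 (by simp)))
  have d15 := disjoint_of_not_mem _ _ hO1 hO5 (not_mem_of_testBit e1 _ (n1 14 (by simp)))
  have d16 := disjoint_of_not_mem _ _ hO1 hO6 (not_mem_of_testBit e1 _ (n1 57 (by simp)))
  have d23 := disjoint_of_not_mem _ _ hO2 hO3 (not_mem_of_testBit e2 _ (n2 19 (by simp)))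
  have d24 := disjoint_of_not_mem _ _ hO2 hO4 (not_mem_of_testBit e2 _ (n2 5 (by simp)))
  have d25 := disjoint_of_not_mem _ _ hO2 hO5 (not_mem_of_testBit e2 _ (n2 14 (by simp)))
  have d26 := disjoint_of_not_mem _ _ hO2 hO6 (not_mem_of_testBit e2 _ (n2 57 (by simp)))
  have d34 := disjoint_of_not_mem _ _ hO3 hO4 (not_mem_of_testBit e3 _ (n3 5 (by simp)))
  have d35 := disjoint_of_not_mem _ _ hO3 hO5 (not_mem_of_testBit e3 _ (n3 14 (by simp)))
  have d36 := disjoint_of_not_mem _ _ hO3 hO6 (not_mem_of_testBit e3 _ (n3 57 (by simp)))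
  have d45 := disjoint_of_not_mem _ _ hO4 hO5 (not_mem_of_testBit e4 _ (n4 14 (by simp)))
  have d46 := disjoint_of_not_mem _ _ hO4 hO6 (not_mem_of_testBit e4 _ (n4 57 (by simp)))
  have d56 := disjoint_of_not_mem _ _ hO5 hO6 (not_mem_of_testBit e5 _ (n5 57 (by simp)))
  have ht : appProd coding.gen lettersT ^ 19 ^ 1 = 1 := by
    rw [← appProd_replicate]
    refine eq_one_of_fix _ fun u hu => Fin.ext ?_
    rw [hom_word _ (by decide +kernel) u]
    have e : ∀ v ∈ ([0, 2, 1, 3] : List ℕ),
        ((List.replicate (19 ^ 1) lettersT).flatten).foldl (fun w x => table.img x w) v = v := by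
      decide +kernel
    exact e u (by simpa using hu)
  refine isSimpleGroup_of hom pt card_eq.2 transitive grpH hom_fix [O0, O1, O2, O3, O4, O5, O6]
    ?_ ?_ ?_ ?_ ?_ (p := 19) (k := 1) (m := 2643840) (by norm_num) ?_ (by norm_num)
    (by decide +kernel) _ 1 ht (fun M hM h => eq_top_of_T_mem M hM h) two_le
  · intro O hO
    simp only [List.mem_cons, List.not_mem_nil, or_false] at hO
    rcases hO with rfl | rfl | rfl | rfl | rfl | rfl | rfl
    exacts [⟨_, hO0⟩, ⟨_, hO1⟩, ⟨_, hO2⟩, ⟨_, hO3⟩, ⟨_, hO4⟩, ⟨_, hO5⟩, ⟨_, hO6⟩]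
  · intro O hO
    simp only [List.mem_cons, List.not_mem_nil, or_false] at hO
    rcases hO with rfl | rfl | rfl | rfl | rfl | rfl | rfl
    exacts [not_mem_of_testBit e0 _ (n0 0 (by simp)), not_mem_of_testBit e1 _ (n1 0 (by simp)), not_mem_of_testBit e2 _ (n2 0 (by simp)), not_mem_of_testBit e3 _ (n3 0 (by simp)), not_mem_of_testBit e4 _ (n4 0 (by simp)), not_mem_of_testBit e5 _ (n5 0 (by simp)), not_mem_of_testBit e6 _ (n6 0 (by simp))]
  · simp [d01, d02, d03, d04, d05, d06, d12, d13, d14, d15, d16, d23, d24, d25, d26, d34, d35, d36, d45, d46, d56]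
  · have e := table_N
    simp [hc0, hc1, hc2, hc3, hc4, hc5, hc6]
    omega
  · intro I hI hne hlen
    have hmap : I.map Finset.card ∈ ([O0, O1, O2, O3, O4, O5, O6].map Finset.card).sublists :=
      List.mem_sublists.2 ((List.mem_sublists.1 hI).map _)
    have hl2 : (I.map Finset.card).length ≠ ([O0, O1, O2, O3, O4, O5, O6].map Finset.card).length := by simpa using hlen
    have hne2 : I.map Finset.card ≠ [] := by simpa using hne
    have key : ∀ J ∈ ([85, 120, 510, 680, 1360, 1360, 2040] : List ℕ).sublists, J ≠ [] → J.length ≠ 7 →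
        ¬ (J.sum + 1) ∣ 6156 := by decide +kernel
    intro hd
    refine key _ ?_ hne2 (by simpa using hlen) (hd.trans table_N.dvd)
    simpa [hc0, hc1, hc2, hc3, hc4, hc5, hc6] using hmap
  · rw [card_eq.1]; norm_num

end CfsgLib.Sporadic.CosetCert.J3P
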