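import Cfsg.Agent.Lib.Sporadic.J3Mat
import Cfsg.Agent.Lib.Sporadic.J3Presented

/-!
# The triple cover of the third Janko group over a fixed field with four elements
-/

set_option maxRecDepth 100000

open Matrix Cfsg.Spor CfsgLib.Sporadic.G2Four CfsgLib.Sporadic.CosetCert

namespace CfsgLib.Sporadic.J3Mat

open CosetCert (appProd)

/-- The code of an involution. -/
def xCode (i : ℕ) : List ℕ := invCodes.getD (i % 4) []

theorem xCode_sq (i : ℕ) : toMatJ (xCode i) * toMatJ (xCode i) = 1 := by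
  rw [← toMatJ_mulJ, xCode, invCodes_sq _ (Nat.mod_lt _ (by norm_num)), toMatJ_oneJ]

/-- The four involutions as units. -/
def xUnit (i : ℕ) : GL F9 FieldFour := ⟨toMatJ (xCode i), toMatJ (xCode i), xCode_sq i, xCode_sq i⟩

theorem xUnit_inv (i : ℕ) : (xUnit i)⁻¹ = xUnit i := Units.ext rfl

/-- The scalar units. -/
def scalU : FieldFourˣ →* GL F9 FieldFour := Units.map (Matrix.scalar F9).toMonoidHom

theorem scalU_val (c : FieldFourˣ) :
    (scalU c : MatJ) = (c : FieldFour) • (1 : MatJ) := by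
  show Matrix.scalar F9 (c : FieldFour) = _
  rw [Matrix.scalar_apply, Matrix.smul_one_eq_diagonal]

theorem scalU_comm (c : FieldFourˣ) (g : GL F9 FieldFour) : scalU c * g = g * scalU c := by
  apply Units.ext
  rw [Units.val_mul, Units.val_mul, scalU_val, smul_mul_assoc, mul_smul_comm, one_mul, mul_one]

theorem eval_from (B : List (List ℕ)) (f : ℕ → GL F9 FieldFour) :
    ∀ (L : List ℕ), (∀ a ∈ L, (f a : MatJ) = toMatJ (B.getD a [])) → ∀ acc : List ℕ,
      toMatJ (L.foldl (fun t a => mulJ (B.getD a []) t) acc) =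
        ((appProd f L : GL F9 FieldFour) : MatJ) * toMatJ acc := by
  intro L
  induction L with
  | nil => intro _ acc; simp [appProd]
  | cons x t ih =>
    intro h acc
    rw [List.foldl_cons, ih (fun a ha => h a (List.mem_cons_of_mem _ ha)), toMatJ_mulJ, appProd,
      Units.val_mul, mul_assoc, h x List.mem_cons_self]

theorem toMatJ_evalJ (B : List (List ℕ)) (f : ℕ → GL F9 FieldFour) (L : List ℕ)
    (h : ∀ a ∈ L, (f a : MatJ) = toMatJ (B.getD a [])) :
    toMatJ (evalJ B L) = ((appProd f L : GL F9 FieldFour) : MatJ) := by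
  rw [evalJ, eval_from B f L h, toMatJ_oneJ, mul_one]

theorem xUnit_val {a : ℕ} (ha : a < 4) : (xUnit a : MatJ) = toMatJ (invCodes.getD a []) := by
  show toMatJ (xCode a) = _
  rw [xCode, Nat.mod_eq_of_lt ha]

/-- A nonzero scalar given by its code. -/
def kUnit (k : ℕ) : FieldFourˣ := if h : ofN k ≠ 0 then Units.mk0 (ofN k) h else 1

theorem ofN_ne_zero : ∀ k < 4, 0 < k → ofN k ≠ 0 := by decide

theorem kUnit_val {k : ℕ} (hk : k < 4) (h0 : 0 < k) : (kUnit k : FieldFour) = ofN k := by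
  rw [kUnit, dif_pos (ofN_ne_zero k hk h0), Units.val_mk0]

theorem scalU_inv_mul {k : ℕ} (hk : k < 4) (h0 : 0 < k) {g : GL F9 FieldFour} {M : List ℕ}
    (h : (g : MatJ) = toMatJ (smulJ k M)) :
    ((scalU (kUnit k)⁻¹ * g : GL F9 FieldFour) : MatJ) = toMatJ M := by
  rw [Units.val_mul, scalU_val, h, toMatJ_smulJ hk, smul_mul_assoc, one_mul, ← kUnit_val hk h0,
    smul_smul, Units.inv_mul, one_smul]

/-- A member of the five families as a unit. -/
def famUnit (n : ℕ) : GL F9 FieldFour :=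
  scalU (kUnit (famWords.getD n ([], 0)).2)⁻¹ * appProd xUnit (famWords.getD n ([], 0)).1

theorem famUnit_val {n : ℕ} (hn : n < 43) : (famUnit n : MatJ) = famMat n := by
  obtain ⟨h1, h2, h3, h4⟩ := famWords_ok n hn
  simp only [List.all_eq_true, decide_eq_true_eq] at h4
  rw [famMat_eq n hn, famUnit]
  refine scalU_inv_mul h3 h2 ?_
  rw [← h1, toMatJ_evalJ invCodes xUnit _ fun a ha => xUnit_val (h4 a ha)]

/-- The group generated by the five families. -/
abbrev T3 : Subgroup (GL F9 FieldFour) := threeJ3 FieldFour w4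

theorem famMat_mem : ∀ n < 43, n < 9 ∨ (9 ≤ n ∧ n < 18) ∨ (18 ≤ n ∧ n < 27) ∨
    (27 ≤ n ∧ n < 35 ∧ idxJ (n - 26) ≠ 0) ∨ (35 ≤ n ∧ idxJ (n - 34) ≠ 0) := by decide +kernel

theorem famUnit_mem {n : ℕ} (hn : n < 43) : famUnit n ∈ T3 := by
  refine Subgroup.subset_closure ?_
  show (famUnit n : MatJ) ∈ j3Gens FieldFour w4
  rw [famUnit_val hn, j3Gens, famMat]
  rcases famMat_mem n hn with h | ⟨h, h'⟩ | ⟨h, h'⟩ | ⟨h, h', h''⟩ | ⟨h, h''⟩
  · rw [if_pos h]; exact Or.inl (Or.inl (Or.inl (Or.inl ⟨_, rfl⟩)))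
  · rw [if_neg (by omega), if_pos h']; exact Or.inl (Or.inl (Or.inl (Or.inr ⟨_, rfl⟩)))
  · rw [if_neg (by omega), if_neg (by omega), if_pos h']
    exact Or.inl (Or.inl (Or.inr ⟨_, rfl⟩))
  · rw [if_neg (by omega), if_neg (by omega), if_neg (by omega), if_pos h']
    exact Or.inl (Or.inr ⟨_, h'', rfl⟩)
  · rw [if_neg (by omega), if_neg (by omega), if_neg (by omega), if_neg (by omega)]
    exact Or.inr ⟨_, h'', rfl⟩

theorem famMat_cases : ∀ Z : F9,
    (famMat (posJ Z) = j3A FieldFour w4 Z) ∧ (famMat (9 + posJ Z) = j3E FieldFour w4 Z) ∧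
      (famMat (18 + posJ Z) = j3D FieldFour w4 Z) ∧
      (Z ≠ 0 → famMat (26 + posJ Z) = j3B FieldFour Z ∧ famMat (34 + posJ Z) = j3C FieldFour Z) := by
  decide +kernel

theorem T3_eq : T3 = Subgroup.closure (famUnit '' Set.Iio 43) := by
  refine le_antisymm ((Subgroup.closure_le _).2 ?_) ((Subgroup.closure_le _).2 ?_)
  · intro g hg
    suffices ∃ n < 43, (g : MatJ) = famMat n by
      obtain ⟨n, hn, e⟩ := this
      rw [show g = famUnit n from Units.ext (e.trans (famUnit_val hn).symm)]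
      exact Subgroup.subset_closure ⟨n, hn, rfl⟩
    simp only [Set.mem_ofPred_eq, j3Gens, Set.mem_union, Set.mem_range] at hg
    rcases hg with (((⟨Z, e⟩ | ⟨Z, e⟩) | ⟨Z, e⟩) | ⟨Z, hZ, e⟩) | ⟨Z, hZ, e⟩
    · exact ⟨_, by have := posJ_lt Z; omega, e ▸ (famMat_cases Z).1.symm⟩
    · exact ⟨_, by have := posJ_lt Z; omega, e ▸ (famMat_cases Z).2.1.symm⟩
    · exact ⟨_, by have := posJ_lt Z; omega, e ▸ (famMat_cases Z).2.2.1.symm⟩
    · exact ⟨_, by have := posJ_lt Z; omega, e ▸ ((famMat_cases Z).2.2.2 hZ).1.symm⟩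
    · exact ⟨_, by have := posJ_lt Z; omega, e ▸ ((famMat_cases Z).2.2.2 hZ).2.symm⟩
  · rintro _ ⟨n, hn, rfl⟩
    exact famUnit_mem hn

theorem famMat_scalar : famMat 12 = w4 • (famMat 3 * famMat 9) := by decide +kernel

theorem w4_ne_zero : w4 ≠ 0 := by decide

theorem scalU_w4_mem : scalU (Units.mk0 w4 w4_ne_zero) ∈ T3 := by
  have e : scalU (Units.mk0 w4 w4_ne_zero) = famUnit 12 * (famUnit 3 * famUnit 9)⁻¹ := by
    rw [eq_mul_inv_iff_mul_eq]
    apply Units.ext
    rw [Units.val_mul, scalU_val, Units.val_mul, famUnit_val (by norm_num),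
      famUnit_val (by norm_num), famUnit_val (by norm_num), famMat_scalar, smul_mul_assoc, one_mul,
      Units.val_mk0]
  rw [e]
  exact mul_mem (famUnit_mem (by norm_num))
    (inv_mem (mul_mem (famUnit_mem (by norm_num)) (famUnit_mem (by norm_num))))

theorem scalU_mem (c : FieldFourˣ) : scalU c ∈ T3 := by
  have key : ∀ x : FieldFour, x = 0 ∨ x = w4 ^ 0 ∨ x = w4 ^ 1 ∨ x = w4 ^ 2 := by decide +kernel
  have h : ∀ n : ℕ, (c : FieldFour) = w4 ^ n → scalU c ∈ T3 := by
    intro n hn
    rw [show c = Units.mk0 w4 w4_ne_zero ^ n from Units.ext (by simpa using hn), map_pow]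
    exact pow_mem scalU_w4_mem n
  rcases key c with h0 | h0 | h0 | h0
  · exact absurd h0 c.ne_zero
  · exact h 0 h0
  · exact h 1 h0
  · exact h 2 h0

theorem appProd_mem {H : Type*} [Group H] (S : Subgroup H) (f : ℕ → H) :
    ∀ L : List ℕ, (∀ a ∈ L, f a ∈ S) → appProd f L ∈ S := by
  intro L
  induction L with
  | nil => intro _; exact one_mem _
  | cons x t ih =>
    intro h
    exact mul_mem (ih fun a ha => h a (List.mem_cons_of_mem _ ha)) (h x List.mem_cons_self)

theorem appProd_hom {H H' : Type*} [Group H] [Group H'] (φ : H →* H') (f : ℕ → H) :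
    ∀ L : List ℕ, φ (appProd f L) = appProd (fun x => φ (f x)) L := by
  intro L
  induction L with
  | nil => simp [appProd]
  | cons x t ih => simp [appProd, ih]

theorem xUnit_mem (i : ℕ) : xUnit i ∈ T3 := by
  have hlt : i % 4 < 4 := Nat.mod_lt _ (by norm_num)
  obtain ⟨h1, h2, h3, h4⟩ := invWords_ok (i % 4) hlt
  simp only [List.all_eq_true, decide_eq_true_eq] at h4
  have e : xUnit i = scalU (kUnit (invWords.getD (i % 4) ([], 0)).2)⁻¹ *
      appProd famUnit (invWords.getD (i % 4) ([], 0)).1 := by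
    apply Units.ext
    refine (scalU_inv_mul h3 h2 ?_).symm
    rw [xCode, ← h1, toMatJ_evalJ famCodes famUnit _ fun a ha => by
      rw [famUnit_val (h4 a ha), famMat_eq a (h4 a ha)]]
  rw [e]
  exact mul_mem (scalU_mem _) (appProd_mem _ _ _ fun a ha => famUnit_mem (h4 a ha))

/-- The involutions inside the group. -/
def xEl (i : ℕ) : T3 := ⟨xUnit i, xUnit_mem i⟩

/-- The scalars inside the group. -/
def scalEl : FieldFourˣ →* T3 := scalU.codRestrict T3 scalU_mem

theorem scalEl_central (c : FieldFourˣ) : scalEl c ∈ Subgroup.center T3 :=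
  Subgroup.mem_center_iff.2 fun g => Subtype.ext (scalU_comm c g.1).symm

/-- The quotient by the centre. -/
abbrev Q3 : Type := J3 FieldFour w4

/-- The image of an involution in the quotient. -/
noncomputable def xBar (i : ℕ) : Q3 := QuotientGroup.mk (xEl i)

theorem xBar_inv (i : ℕ) : (xBar i)⁻¹ = xBar i := by
  rw [xBar, ← QuotientGroup.mk_inv]
  exact congrArg _ (Subtype.ext (xUnit_inv i))

theorem rels_scalar : ∀ r ∈ relList J3P.edges J3P.extra J3P.coding.pairs,
    (appWord J3P.code J3P.code r).all (fun a => decide (a < 4)) = true ∧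
      ∃ k ∈ [1, 2, 3], evalJ invCodes (appWord J3P.code J3P.code r) = smulJ k oneJ := by
  decide +kernel

theorem appProd_xBar_one {L : List ℕ} (hL : ∀ a ∈ L, a < 4) {k : ℕ} (hk : k < 4) (h0 : 0 < k)
    (h : evalJ invCodes L = smulJ k oneJ) : appProd xBar L = 1 := by
  have e : appProd xBar L = QuotientGroup.mk' (Subgroup.center T3) (appProd xEl L) :=
    (appProd_hom (QuotientGroup.mk' (Subgroup.center T3)) xEl L).symm
  rw [e, QuotientGroup.mk'_apply, QuotientGroup.eq_one_iff]
  have e2 : appProd xEl L = scalEl (kUnit k) := by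
    apply Subtype.ext
    show (T3.subtype (appProd xEl L)) = scalU (kUnit k)
    rw [appProd_hom]
    apply Units.ext
    show ((appProd xUnit L : GL F9 FieldFour) : MatJ) = _
    rw [← toMatJ_evalJ invCodes xUnit L fun a ha => xUnit_val (hL a ha), h, toMatJ_smulJ hk,
      toMatJ_oneJ, scalU_val, kUnit_val hk h0]
  rw [e2]
  exact scalEl_central _

theorem rels_one : ∀ r ∈ coxRelators J3P.edges ∪ {r | r ∈ J3P.extra},
    FreeGroup.lift (fun a => xBar (J3P.code a)) r = 1 := by
  refine lift_cox_eq_one _ J3P.coding.pairs_cover ?_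
  intro r hr
  rw [lift_eq_appProd _ xBar J3P.code J3P.code (fun _ => rfl) (fun x => (xBar_inv _).symm)]
  obtain ⟨h1, k, hk, h2⟩ := rels_scalar r hr
  simp only [List.all_eq_true, decide_eq_true_eq] at h1
  simp only [List.mem_cons, List.not_mem_nil, or_false] at hk
  exact appProd_xBar_one h1 (by omega) (by omega) h2

/-- The map from the presented group. -/
noncomputable def ofPG : J3P.PG →* Q3 := PresentedGroup.toGroup rels_one

theorem ofPG_gen : ∀ i < 4, ofPG (J3P.coding.gen i) = xBar i := by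
  intro i hi
  have hg : ∀ j < 4, j = J3P.code (J3P.gens.getD j J3P.Gen.a) := by decide
  rw [hg i hi]
  show ofPG (J3P.coding.gen (J3P.coding.code _)) = _
  rw [Coding.gen_code, ofPG, PresentedGroup.toGroup.of]

theorem ofPG_surjective : Function.Surjective ofPG := by
  suffices h : ∀ g (hg : g ∈ T3), (QuotientGroup.mk (⟨g, hg⟩ : T3) : Q3) ∈ ofPG.range by
    intro q
    obtain ⟨⟨g, hg⟩, rfl⟩ := QuotientGroup.mk_surjective q
    exact h g hg
  intro g hg
  let S : Subgroup T3 := ofPG.range.comap (QuotientGroup.mk' (Subgroup.center T3))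
  suffices h : T3 ≤ S.map T3.subtype by
    obtain ⟨y, hy, e⟩ := h hg
    rw [show (⟨g, hg⟩ : T3) = y from Subtype.ext e.symm]
    exact hy
  nth_rewrite 1 [T3_eq]
  rw [Subgroup.closure_le]
  rintro _ ⟨n, hn, rfl⟩
  refine ⟨⟨famUnit n, famUnit_mem hn⟩, ?_, rfl⟩
  obtain ⟨-, h2, h3, h4⟩ := famWords_ok n hn
  simp only [List.all_eq_true, decide_eq_true_eq] at h4
  have e : (⟨famUnit n, famUnit_mem hn⟩ : T3) =
      scalEl (kUnit (famWords.getD n ([], 0)).2)⁻¹ * appProd xEl (famWords.getD n ([], 0)).1 := by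
    apply Subtype.ext
    show famUnit n = scalU (kUnit (famWords.getD n ([], 0)).2)⁻¹ *
      T3.subtype (appProd xEl (famWords.getD n ([], 0)).1)
    rw [appProd_hom]
    rfl
  rw [e]
  refine mul_mem ?_ (appProd_mem S xEl _ fun a ha => ⟨J3P.coding.gen a, ofPG_gen a (h4 a ha)⟩)
  show QuotientGroup.mk' _ (scalEl _) ∈ ofPG.range
  rw [QuotientGroup.mk'_apply, (QuotientGroup.eq_one_iff _).2 (scalEl_central _)]
  exact one_mem _

theorem fam_diag3_all :
    ((Finset.univ : Finset (F9 × F9)).filter fun p => p.1 ≠ p.2 ∧ famMat 3 p.1 p.2 ≠ 0) = ∅ := by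
  decide +kernel

theorem fam_diag3 (z w : F9) (h : z ≠ w) : famMat 3 z w = 0 := by
  by_contra h'
  exact Finset.filter_eq_empty_iff.1 fam_diag3_all (Finset.mem_univ (z, w)) ⟨h, h'⟩

theorem fam_diag1_all :
    ((Finset.univ : Finset (F9 × F9)).filter fun p => p.1 ≠ p.2 ∧ famMat 1 p.1 p.2 ≠ 0) = ∅ := by
  decide +kernel

theorem fam_diag1 (z w : F9) (h : z ≠ w) : famMat 1 z w = 0 := by
  by_contra h'
  exact Finset.filter_eq_empty_iff.1 fam_diag1_all (Finset.mem_univ (z, w)) ⟨h, h'⟩

theorem fam_separate :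
    ∀ z w : F9, z ≠ w → famMat 3 z z ≠ famMat 3 w w ∨ famMat 1 z z ≠ famMat 1 w w := by
  decide +kernel

theorem fam_shift_one : ∀ Z : F9, famMat (18 + posJ Z) Z 0 = 1 := by decide +kernel

theorem fam_shift_zero : ∀ Z u : F9, u ≠ Z → famMat (18 + posJ Z) u 0 = 0 := by decide +kernel

theorem fam_shift_row : ∀ Z u : F9, u ≠ 0 → famMat (18 + posJ Z) Z u = 0 := by decide +kernel

theorem center_scalar (g : T3) (hg : g ∈ Subgroup.center T3) : ∃ c : FieldFourˣ, scalEl c = g := by
  have f13 := fam_diag3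
  have f11 := fam_diag1
  have f2 := fam_separate
  have f3 : ∀ Z : F9, famMat (18 + posJ Z) Z 0 = 1 ∧
      ∀ u : F9, u ≠ Z → famMat (18 + posJ Z) u 0 = 0 := fun Z => ⟨fam_shift_one Z, fam_shift_zero Z⟩
  have f4 := fam_shift_row
  have f1 : ∀ n ∈ ([3, 1] : List ℕ), ∀ z w : F9, z ≠ w → famMat n z w = 0 := by
    intro n hn
    simp only [List.mem_cons, List.not_mem_nil, or_false] at hn
    rcases hn with rfl | rfl
    exacts [f13, f11]
  let M : MatJ := (g.1 : MatJ)
  have hc : ∀ n < 43, M * famMat n = famMat n * M := by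
    intro n hn
    have h := congrArg (fun y : T3 => ((y.1 : GL F9 FieldFour) : MatJ))
      (Subgroup.mem_center_iff.1 hg ⟨famUnit n, famUnit_mem hn⟩)
    simpa [famUnit_val hn, M] using h.symm
  have hd : ∀ z w : F9, z ≠ w → M z w = 0 := by
    intro z w hzw
    have key : ∀ n ∈ ([3, 1] : List ℕ), M z w * famMat n w w = famMat n z z * M z w := by
      intro n hn
      have hn' : n < 43 := by simp at hn; omega
      have h := congrFun (congrFun (hc n hn') z) w
      rw [Matrix.mul_apply, Matrix.mul_apply, Finset.sum_eq_single w, Finset.sum_eq_single z] at h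
      · exact h
      · intro b _ hb; rw [f1 n hn z b (Ne.symm hb), zero_mul]
      · simp
      · intro b _ hb; rw [f1 n hn b w hb, mul_zero]
      · simp
    by_contra h
    rcases f2 z w hzw with h' | h'
    · exact h' (mul_left_cancel₀ h ((key 3 (by simp)).trans (mul_comm _ _))).symm
    · exact h' (mul_left_cancel₀ h ((key 1 (by simp)).trans (mul_comm _ _))).symm
  have he : ∀ Z : F9, M Z Z = M 0 0 := by
    intro Z
    have h := congrFun (congrFun (hc (18 + posJ Z) (by have := posJ_lt Z; omega)) Z) 0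
    rw [Matrix.mul_apply, Matrix.mul_apply, Finset.sum_eq_single Z, Finset.sum_eq_single 0,
      (f3 Z).1, mul_one, one_mul] at h
    · exact h
    · intro b _ hb; rw [hd b 0 hb, mul_zero]
    · simp
    · intro b _ hb; rw [(f3 Z).2 b hb, mul_zero]
    · simp
  have hM : M = M 0 0 • (1 : MatJ) := by
    refine Matrix.ext fun z w => ?_
    rw [Matrix.smul_apply, Matrix.one_apply]
    by_cases h : z = w
    · subst h; simp [he z]
    · rw [hd z w h, if_neg h, smul_zero]
  have h0 : M 0 0 ≠ 0 := by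
    intro h
    rw [h, zero_smul] at hM
    have hu : M * ((g.1⁻¹ : GL F9 FieldFour) : MatJ) = 1 := Units.mul_inv _
    rw [hM, zero_mul] at hu
    exact zero_ne_one hu
  refine ⟨Units.mk0 _ h0, Subtype.ext (Units.ext ?_)⟩
  show (scalU (Units.mk0 _ h0) : MatJ) = M
  rw [scalU_val, Units.val_mk0, ← hM]

theorem center_card : Nat.card (Subgroup.center T3) = 3 := by
  have hb : Function.Bijective
      (fun c : FieldFourˣ => (⟨scalEl c, scalEl_central c⟩ : Subgroup.center T3)) := by
    refine ⟨fun a b e => ?_, fun g => ?_⟩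
    · have h := congrFun (congrFun (congrArg
        (fun y : Subgroup.center T3 => (((y : T3) : GL F9 FieldFour) : MatJ)) e) 0) 0
      simp only [scalEl, MonoidHom.codRestrict_apply] at h
      rw [scalU_val, scalU_val] at h
      exact Units.ext (by simpa using h)
    · obtain ⟨c, hc⟩ := center_scalar g.1 g.2
      exact ⟨c, Subtype.ext hc⟩
  rw [← Nat.card_congr (Equiv.ofBijective _ hb), Nat.card_eq_fintype_card]
  decide

instance : Nontrivial Q3 := by
  rw [QuotientGroup.nontrivial_iff]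
  intro h
  obtain ⟨c, hc⟩ := center_scalar ⟨famUnit 3, famUnit_mem (by norm_num)⟩ (h ▸ Subgroup.mem_top _)
  have e := congrArg (fun y : T3 => ((y.1 : GL F9 FieldFour) : MatJ)) hc
  simp only [scalEl, MonoidHom.codRestrict_apply] at e
  rw [scalU_val, famUnit_val (by norm_num)] at e
  have hdiag : ∀ c : FieldFour, c • (1 : MatJ) ≠ famMat 3 := by decide +kernel
  exact hdiag _ e

theorem ofPG_bijective : Function.Bijective ofPG := by
  refine ⟨?_, ofPG_surjective⟩
  have := J3P.isSimple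
  rw [← MonoidHom.ker_eq_bot_iff]
  refine (IsSimpleGroup.eq_bot_or_eq_top_of_normal ofPG.ker (MonoidHom.normal_ker _)).resolve_right
    fun h => ?_
  obtain ⟨a, b, hab⟩ := exists_pair_ne Q3
  obtain ⟨a', rfl⟩ := ofPG_surjective a
  obtain ⟨b', rfl⟩ := ofPG_surjective b
  refine hab ?_
  rw [MonoidHom.mem_ker.1 (h ▸ Subgroup.mem_top a'), MonoidHom.mem_ker.1 (h ▸ Subgroup.mem_top b')]

/-- The presented group is the quotient by the centre. -/
noncomputable def equivPG : J3P.PG ≃* Q3 := MulEquiv.ofBijective ofPG ofPG_bijective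

theorem q3_simple : IsSimpleGroup Q3 := by
  have := J3P.isSimple
  exact IsSimpleGroup.isSimpleGroup_of_surjective ofPG ofPG_surjective

theorem q3_card : Nat.card Q3 = 50232960 := by
  rw [← Nat.card_congr equivPG.toEquiv]
  exact J3P.card_eq.1

theorem t3_card : Nat.card T3 = 150698880 := by
  rw [Subgroup.card_eq_card_quotient_mul_card_subgroup (Subgroup.center T3), center_card]
  show Nat.card Q3 * 3 = _
  rw [q3_card]

end CfsgLib.Sporadic.J3Mat
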