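import Cfsg.Agent.Lib.Sporadic.ONPresented
import Mathlib.GroupTheory.Sylow

/-!
# Small subgroups of the presented O'Nan group

An element of the O'Nan group is determined by the images of three base points. A set of triples
closed under the generators of a subgroup bounds its order; explicit Sylow subgroups give the
matching lower bound and simplicity.
-/

set_option maxRecDepth 100000

open Cfsg.Spor

namespace CfsgLib.Sporadic.CosetCert.ONP

open ONData (table)

/-- A function evaluated at a value that is brought to a numeral first. -/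
noncomputable def applyV (c : ℕ → ℕ) (v : ℕ) : ℕ :=
  Nat.rec (motive := fun _ => ℕ) (c 0) (fun w _ => c (Nat.succ w)) v

theorem applyV_eq (c : ℕ → ℕ) (v : ℕ) : applyV c v = c v := by cases v <;> rfl

/-- Fast rows carry the coordinate `c` of `n` nodes from `s` to the coordinate of the next node. -/
noncomputable def stepT (fs : List (ℕ → ℕ)) (c nx : ℕ → ℕ) (M s n : ℕ) : Bool :=
  Nat.rec (motive := fun _ => Bool) true
    (fun i ih => Nat.beq (PTab.runL fs (c (Nat.add s i))) (applyV c (nx (Nat.add s i))) &&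
      Nat.blt (c (Nat.add s i)) 122760 && Nat.blt (nx (Nat.add s i)) M && ih) n

theorem stepT_spec {fs : List (ℕ → ℕ)} {c nx : ℕ → ℕ} {M s n : ℕ}
    (h : stepT fs c nx M s n = true) :
    ∀ u, s ≤ u → u < s + n → PTab.runL fs (c u) = c (nx u) ∧ c u < 122760 ∧ nx u < M := by
  induction n with
  | zero => intro u hu hu'; omega
  | succ n ih =>
    intro u hu hu'
    change ((Nat.beq (PTab.runL fs (c (s + n))) (applyV c (nx (s + n))) &&
      Nat.blt (c (s + n)) 122760 && Nat.blt (nx (s + n)) M) && stepT fs c nx M s n) = true at h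
    rw [Bool.and_eq_true, Bool.and_eq_true, Bool.and_eq_true, Nat.beq_eq, Nat.blt_eq, Nat.blt_eq,
      applyV_eq] at h
    rcases Nat.lt_or_eq_of_le (Nat.le_of_lt_succ hu') with h' | rfl
    · exact ih h.2 u hu h'
    · exact ⟨h.1.1.1, h.1.1.2, h.1.2⟩

/-- The base points. -/
abbrev bases : List ℕ := [0, 12, 93720]

/-- The images of the base points under a word. -/
noncomputable def key (L : List ℕ) : List ℕ := bases.map (table.imgW L)

/-- The element of a word. -/
noncomputable abbrev elem (L : List ℕ) : ON := appProd coding.gen L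

theorem elem_append (L L' : List ℕ) : elem (L ++ L') = elem L' * elem L := appProd_append _ _ _

theorem chain_bases : ONData.chainH.map Prod.fst = [12, 93720] := by decide +kernel

theorem eq_of_bases {a b : ON}
    (h : ∀ i ∈ bases, ∀ v : Fin table.N, (v : ℕ) = i → hom a v = hom b v) : a = b := by
  have h' : ∀ i ∈ bases, ∀ v : Fin table.N, (v : ℕ) = i → hom (b⁻¹ * a) v = v := by
    intro i hi v hv
    rw [map_mul, map_inv, Equiv.Perm.mul_apply, h i hi v hv, Equiv.Perm.inv_def,
      Equiv.symm_apply_apply]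
  have h1 : b⁻¹ * a = 1 := by
    refine eq_one_of_fix (h' 0 (by simp) pt rfl) fun e he u hu => h' e.1 ?_ u hu
    have : e.1 ∈ ONData.chainH.map Prod.fst := List.mem_map.2 ⟨e, he, rfl⟩
    rw [chain_bases] at this
    simp only [List.mem_cons, List.not_mem_nil, or_false] at this ⊢
    exact Or.inr this
  exact (inv_mul_eq_one.1 h1).symm

theorem eq_of_key {L L' : List ℕ} (hL : ∀ x ∈ L, x < table.nl) (hL' : ∀ x ∈ L', x < table.nl)
    (h : key L = key L') : elem L = elem L' := by
  refine eq_of_bases fun i hi v hv => Fin.ext ?_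
  rw [PTab.hom_imgW hom_acts L hL v, PTab.hom_imgW hom_acts L' hL' v, hv]
  exact List.map_inj_left.1 h i hi

theorem key_of_eq {L L' : List ℕ} (hL : ∀ x ∈ L, x < table.nl) (hL' : ∀ x ∈ L', x < table.nl)
    (h : elem L = elem L') : key L = key L' := by
  refine List.map_inj_left.2 fun i hi => ?_
  have hi' : i < table.N := by
    revert i
    decide +kernel
  have h' : appProd coding.gen L = appProd coding.gen L' := h
  rw [← PTab.hom_imgW hom_acts L hL ⟨i, hi'⟩, ← PTab.hom_imgW hom_acts L' hL' ⟨i, hi'⟩, h']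

/-- Spell a word in two generators in the letters. -/
def spell (X Y : List ℕ) (w : List ℕ) : List ℕ :=
  w.flatMap fun z => bif Nat.beq z 0 then X else Y

theorem spell_lt {X Y : List ℕ} (hX : ∀ x ∈ X, x < table.nl) (hY : ∀ x ∈ Y, x < table.nl)
    (w : List ℕ) : ∀ x ∈ spell X Y w, x < table.nl := by
  intro x hx
  obtain ⟨z, -, hz⟩ := List.mem_flatMap.1 hx
  cases hb : Nat.beq z 0 <;> rw [hb] at hz
  · exact hY x hz
  · exact hX x hz

/-- The subgroup generated by two words. -/
noncomputable abbrev gen2 (X Y : List ℕ) : Subgroup ON := Subgroup.closure {elem X, elem Y}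

theorem spell_mem (X Y : List ℕ) : ∀ w, elem (spell X Y w) ∈ gen2 X Y := by
  intro w
  induction w with
  | nil => exact one_mem _
  | cons z t ih =>
    show elem ((bif Nat.beq z 0 then X else Y) ++ spell X Y t) ∈ _
    rw [elem_append]
    refine mul_mem ih ?_
    cases Nat.beq z 0
    · exact Subgroup.subset_closure (Or.inr rfl)
    · exact Subgroup.subset_closure (Or.inl rfl)

theorem spell_replicate (X Y u : List ℕ) :
    ∀ k, spell X Y (List.replicate k u).flatten = (List.replicate k (spell X Y u)).flatten := by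
  intro k
  induction k with
  | zero => rfl
  | succ k ih =>
    rw [List.replicate_succ, List.flatten_cons, List.replicate_succ, List.flatten_cons, ← ih,
      spell, spell, spell, List.flatMap_append]

/-- Follow the node maps along a word in two generators. -/
noncomputable def node (nX nY : ℕ → ℕ) (w : List ℕ) (b : ℕ) : ℕ :=
  PTab.runL (w.map fun z => bif Nat.beq z 0 then nX else nY) b

/-- Words whose elements form a subgroup, with a key for each word. -/
noncomputable def groupOK (kf : List ℕ → List ℕ) (L : List (List ℕ)) : Bool :=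
  (L.any fun u => kf u == key []) &&
    (L.all fun u => L.all fun v => L.any fun w => kf (u ++ v) == kf w) &&
    decide ((L.map kf).Nodup)

theorem exists_subgroup {X Y : List ℕ} (hX : ∀ x ∈ X, x < table.nl) (hY : ∀ x ∈ Y, x < table.nl)
    {kf : List ℕ → List ℕ} (hk : ∀ w, key (spell X Y w) = kf w)
    {L : List (List ℕ)} (h : groupOK kf L = true) :
    ∃ S : Subgroup (gen2 X Y), Nat.card S = L.length ∧
      ∀ s ∈ S, ∃ w ∈ L, (s : ON) = elem (spell X Y w) := by
  simp only [groupOK, Bool.and_eq_true, List.any_eq_true, List.all_eq_true, beq_iff_eq,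
    decide_eq_true_eq, ← hk] at h
  obtain ⟨⟨⟨u0, hu0, h0⟩, hm⟩, hnd⟩ := h
  have := finite
  have hl := spell_lt hX hY
  let e : List ℕ → gen2 X Y := fun w => ⟨elem (spell X Y w), spell_mem X Y w⟩
  let S : Submonoid (gen2 X Y) :=
    { carrier := {s | ∃ w ∈ L, s = e w}
      one_mem' := ⟨u0, hu0, Subtype.ext (eq_of_key (L := []) (by simp) (hl u0) h0.symm)⟩
      mul_mem' := by
        rintro _ _ ⟨u, hu, rfl⟩ ⟨v, hv, rfl⟩
        obtain ⟨w, hw, hkw⟩ := hm v hv u hu
        refine ⟨w, hw, Subtype.ext ?_⟩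
        have := eq_of_key (hl _) (hl w) hkw
        rw [spell, List.flatMap_append, elem_append] at this
        exact this }
  let T : Subgroup (gen2 X Y) :=
    { S with
      inv_mem' := fun {s} hs => by
        have : s⁻¹ = s ^ (orderOf s - 1) := by
          rw [inv_eq_iff_mul_eq_one, ← pow_succ', Nat.sub_add_cancel (orderOf_pos s),
            pow_orderOf_eq_one]
        exact this ▸ S.pow_mem hs _ }
  refine ⟨T, ?_, fun s hs => ?_⟩
  · have hinj : ∀ u ∈ L, ∀ v ∈ L, e u = e v → u = v := by
      intro u hu v hv huv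
      refine List.inj_on_of_nodup_map hnd hu hv ?_
      rw [← hk, ← hk]
      exact key_of_eq (hl u) (hl v) (congrArg Subtype.val huv)
    classical
    have hset : (T : Set (gen2 X Y)) = ↑(L.map e).toFinset := by
      refine Set.ext fun z => ?_
      show (∃ w ∈ L, z = e w) ↔ z ∈ ((L.map e).toFinset : Set (gen2 X Y))
      simp only [Finset.mem_coe, List.mem_toFinset, List.mem_map]
      exact ⟨fun ⟨w, hw, h⟩ => ⟨w, hw, h.symm⟩, fun ⟨w, hw, h⟩ => ⟨w, hw, h.symm⟩⟩
    show Nat.card (T : Set (gen2 X Y)) = _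
    rw [Nat.card_coe_set_eq, hset, Set.ncard_coe_finset,
      List.toFinset_card_of_nodup (hnd.of_map.map_on hinj), List.length_map]
  · obtain ⟨w, hw, rfl⟩ := hs
    exact ⟨w, hw, rfl⟩

theorem dvd_card {X Y : List ℕ} (hX : ∀ x ∈ X, x < table.nl) (hY : ∀ x ∈ Y, x < table.nl)
    {kf : List ℕ → List ℕ} (hk : ∀ w, key (spell X Y w) = kf w)
    {L : List (List ℕ)} (h : groupOK kf L = true) : L.length ∣ Nat.card (gen2 X Y) := by
  obtain ⟨S, hS, -⟩ := exists_subgroup hX hY hk h
  exact hS ▸ S.card_subgroup_dvd_card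

theorem card_gen2_le {X Y : List ℕ} (hX : ∀ x ∈ X, x < table.nl) (hY : ∀ x ∈ Y, x < table.nl)
    {M : ℕ} (c : Fin 3 → ℕ → ℕ) (nX nY : ℕ → ℕ) {b : ℕ} (hb : b < M)
    (hbase : ∀ i, c i b = bases.getD i 0)
    (hsX : ∀ i, ∀ n < M, table.imgW X (c i n) = c i (nX n) ∧ c i n < table.N ∧ nX n < M)
    (hsY : ∀ i, ∀ n < M, table.imgW Y (c i n) = c i (nY n) ∧ c i n < table.N ∧ nY n < M) :
    Nat.card (gen2 X Y) ≤ M := by
  have := finite
  let A : Submonoid ON :=
    { carrier := {a | ∀ n < M, ∃ m < M, ∀ i, ∀ v : Fin table.N, (v : ℕ) = c i n →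
        ((hom a v : Fin table.N) : ℕ) = c i m}
      one_mem' := fun n hn => ⟨n, hn, fun i v hv => by rw [map_one]; exact hv⟩
      mul_mem' := by
        intro a a' ha ha' n hn
        obtain ⟨m, hm, h1⟩ := ha' n hn
        obtain ⟨m', hm', h2⟩ := ha m hm
        refine ⟨m', hm', fun i v hv => ?_⟩
        rw [map_mul, Equiv.Perm.mul_apply]
        exact h2 i _ (h1 i v hv) }
  have hX' : elem X ∈ A := fun n hn => ⟨nX n, (hsX 0 n hn).2.2, fun i v hv => by
    rw [PTab.hom_imgW hom_acts X hX v, hv]; exact (hsX i n hn).1⟩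
  have hY' : elem Y ∈ A := fun n hn => ⟨nY n, (hsY 0 n hn).2.2, fun i v hv => by
    rw [PTab.hom_imgW hom_acts Y hY v, hv]; exact (hsY i n hn).1⟩
  have hle : ∀ k ∈ gen2 X Y, k ∈ A := by
    intro k hk
    induction hk using Subgroup.closure_induction with
    | mem k hk => rcases hk with rfl | rfl; exacts [hX', hY']
    | one => exact A.one_mem
    | mul a a' _ _ ha ha' => exact A.mul_mem ha ha'
    | inv a _ ha =>
      have : a⁻¹ = a ^ (orderOf a - 1) := by
        rw [inv_eq_iff_mul_eq_one, ← pow_succ', Nat.sub_add_cancel (orderOf_pos a),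
          pow_orderOf_eq_one]
      exact this ▸ A.pow_mem ha _
  choose m hm hmv using fun k : gen2 X Y => hle k.1 k.2 b hb
  have hinj : Function.Injective fun k => (⟨m k, hm k⟩ : Fin M) := by
    intro k k' e
    have e' : m k = m k' := congrArg Fin.val e
    refine Subtype.ext (eq_of_bases fun i hi v hv => Fin.ext ?_)
    obtain ⟨j, hj, rfl⟩ := List.mem_iff_getElem.1 hi
    have hv' : (v : ℕ) = c ⟨j, hj⟩ b := by
      rw [hbase, hv, List.getD_eq_getElem _ _ hj]
    rw [hmv k ⟨j, hj⟩ v hv', hmv k' ⟨j, hj⟩ v hv', e']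
  simpa using Nat.card_le_card_of_injective _ hinj

/-- A finite group is simple when each prime divisor of its order has a Sylow subgroup all whose
elements of that order normally generate. -/
theorem isSimpleGroup_of_sylow {G : Type*} [Group G] [Finite G] [Nontrivial G]
    (h : ∀ p, p.Prime → p ∣ Nat.card G → ∃ S : Subgroup G,
      Nat.card S = p ^ (Nat.card G).factorization p ∧
      ∀ s ∈ S, s ≠ 1 → s ^ p = 1 → ∀ M : Subgroup G, M.Normal → s ∈ M → M = ⊤) :
    IsSimpleGroup G := by
  refine ⟨fun M hM => ?_⟩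
  by_cases hbot : M = ⊥
  · exact Or.inl hbot
  refine Or.inr ?_
  have h1 : Nat.card M ≠ 1 := fun e => hbot (Subgroup.card_eq_one.1 e)
  obtain ⟨p, hp, hpM⟩ := Nat.exists_prime_and_dvd h1
  have : Fact p.Prime := ⟨hp⟩
  obtain ⟨x, hx⟩ := exists_prime_orderOf_dvd_card' p hpM
  obtain ⟨S, hS, hgen⟩ := h p hp (hpM.trans M.card_subgroup_dvd_card)
  have hx' : orderOf (x : G) = p := (orderOf_injective M.subtype M.subtype_injective x).trans hx
  have hP : IsPGroup p (Subgroup.zpowers (x : G)) :=
    IsPGroup.of_card (n := 1) (by rw [Nat.card_zpowers, hx', pow_one])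
  obtain ⟨Q, hQ⟩ := hP.exists_le_sylow
  obtain ⟨a, ha⟩ := MulAction.exists_smul_eq G Q (Sylow.ofCard S hS)
  have hs : a * (x : G) * a⁻¹ ∈ S := by
    have h2 : MulAut.conj a (x : G) ∈ ((a • Q : Sylow p G) : Subgroup G) := by
      rw [Sylow.coe_subgroup_smul, Subgroup.mem_pointwise_smul_iff_inv_smul_mem]
      convert hQ (Subgroup.mem_zpowers (x : G)) using 1
      simp [MulAut.smul_def, mul_assoc]
    rw [ha] at h2
    simpa [Sylow.coe_ofCard] using h2
  have hord : orderOf (a * (x : G) * a⁻¹) = p := by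
    rw [← MulAut.conj_apply]
    exact (orderOf_injective (MulAut.conj a).toMonoidHom (MulAut.conj a).injective _).trans hx'
  refine hgen _ hs (fun e => hp.ne_one (by rw [← hord, e, orderOf_one]))
    (by rw [← hord, pow_orderOf_eq_one]) M hM (hM.conj_mem _ x.2 a)

/-- Factors whose product is the word `t`, each a conjugate of a power of `u`. -/
noncomputable def factorOK (kf : List ℕ → List ℕ) (u t : List ℕ)
    (F : List (List ℕ × List ℕ × ℕ)) : Bool :=
  (F.all fun f => kf (f.1 ++ f.2.1) == key []) &&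
    kf (F.flatMap fun f => f.1 ++ (List.replicate f.2.2 u).flatten ++ f.2.1) == kf t

theorem mem_of_factorOK {X Y : List ℕ} (hX : ∀ x ∈ X, x < table.nl) (hY : ∀ x ∈ Y, x < table.nl)
    {kf : List ℕ → List ℕ} (hk : ∀ w, key (spell X Y w) = kf w)
    {u t : List ℕ} {F : List (List ℕ × List ℕ × ℕ)} (h : factorOK kf u t F = true)
    {M : Subgroup (gen2 X Y)} (hM : M.Normal)
    (hu : (⟨elem (spell X Y u), spell_mem X Y u⟩ : gen2 X Y) ∈ M) :
    (⟨elem (spell X Y t), spell_mem X Y t⟩ : gen2 X Y) ∈ M := by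
  simp only [factorOK, Bool.and_eq_true, List.all_eq_true, beq_iff_eq, ← hk] at h
  obtain ⟨hc, ht⟩ := h
  have hl := spell_lt hX hY
  let e : List ℕ → gen2 X Y := fun w => ⟨elem (spell X Y w), spell_mem X Y w⟩
  have he : ∀ v w, e (v ++ w) = e w * e v := fun v w => Subtype.ext (by
    show elem (spell X Y (v ++ w)) = elem (spell X Y w) * elem (spell X Y v)
    rw [spell, List.flatMap_append, elem_append]; rfl)
  have hpow : ∀ k, e (List.replicate k u).flatten ∈ M := by
    intro k
    induction k with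
    | zero => exact one_mem M
    | succ k ih => rw [List.replicate_succ, List.flatten_cons, he]; exact mul_mem ih hu
  have hmem : e (F.flatMap fun f => f.1 ++ (List.replicate f.2.2 u).flatten ++ f.2.1) ∈ M := by
    clear ht
    induction F with
    | nil => exact one_mem M
    | cons f t ih =>
      rw [List.flatMap_cons, he]
      refine mul_mem (ih fun g hg => hc g (List.mem_cons_of_mem _ hg)) ?_
      have h1 : e f.2.1 * e f.1 = 1 := by
        rw [← he]
        exact Subtype.ext (eq_of_key (L' := []) (hl _) (by simp) (hc f List.mem_cons_self))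
      rw [he, he, eq_inv_of_mul_eq_one_left h1, ← mul_assoc]
      simpa using hM.conj_mem' _ (hpow f.2.2) (e f.1)
  have : e t = e (F.flatMap fun f => f.1 ++ (List.replicate f.2.2 u).flatten ++ f.2.1) :=
    Subtype.ext (eq_of_key (hl _) (hl _) ht.symm)
  show e t ∈ M
  rw [this]
  exact hmem

/-- An element of order at most two of a Sylow subgroup, or one that generates normally. -/
noncomputable def genOKAll (kf : List ℕ → List ℕ) (p : ℕ) (L : List (List ℕ))
    (F : List (List (List ℕ × List ℕ × ℕ) × List (List ℕ × List ℕ × ℕ))) : Bool :=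
  (List.range L.length).all fun i =>
    kf (L.getD i []) == key [] ||
      !(kf (List.replicate p (L.getD i [])).flatten == key []) ||
      (factorOK kf (L.getD i []) [0] (F.getD i ([], [])).1 &&
        factorOK kf (L.getD i []) [1] (F.getD i ([], [])).2)

theorem sylow_cond {X Y : List ℕ} (hX : ∀ x ∈ X, x < table.nl) (hY : ∀ x ∈ Y, x < table.nl)
    {kf : List ℕ → List ℕ} (hk : ∀ w, key (spell X Y w) = kf w) {p : ℕ} {L : List (List ℕ)}
    {F : List (List (List ℕ × List ℕ × ℕ) × List (List ℕ × List ℕ × ℕ))}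
    (hL : groupOK kf L = true) (hF : genOKAll kf p L F = true) :
    ∃ S : Subgroup (gen2 X Y), Nat.card S = L.length ∧
      ∀ s ∈ S, s ≠ 1 → s ^ p = 1 → ∀ M : Subgroup (gen2 X Y), M.Normal → s ∈ M → M = ⊤ := by
  obtain ⟨S, hS, hmem⟩ := exists_subgroup hX hY hk hL
  refine ⟨S, hS, fun s hs h1 hp M hM hsM => ?_⟩
  have hl := spell_lt hX hY
  obtain ⟨w, hw, hsw⟩ := hmem s hs
  have hse : s = ⟨elem (spell X Y w), spell_mem X Y w⟩ := Subtype.ext hsw
  subst hse
  obtain ⟨i, hi, rfl⟩ := List.mem_iff_getElem.1 hw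
  simp only [genOKAll, List.all_eq_true, List.mem_range, Bool.or_eq_true, Bool.and_eq_true,
    Bool.not_eq_true', beq_eq_false_iff_ne, beq_iff_eq] at hF
  have hF' := hF i hi
  rw [List.getD_eq_getElem _ _ hi] at hF'
  rcases hF' with (h | h) | ⟨hx, hy⟩ <;> (try rw [← hk] at h)
  · exact absurd (Subtype.ext (eq_of_key (L' := []) (hl _) (by simp) h)) h1
  · refine absurd (key_of_eq (hl _) (L' := []) (by simp) ?_) h
    have := congrArg Subtype.val hp
    rw [SubgroupClass.coe_pow] at this
    rw [spell_replicate]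
    exact (appProd_replicate _ _ _).trans this
  · rw [eq_top_iff]
    rintro ⟨k, hk2⟩ -
    have hmX := mem_of_factorOK hX hY hk hx hM hsM
    have hmY := mem_of_factorOK hX hY hk hy hM hsM
    have hle : gen2 X Y ≤ M.map (gen2 X Y).subtype := by
      rw [Subgroup.closure_le]
      rintro z (rfl | rfl)
      · exact ⟨_, hmX, by simp [spell]⟩
      · exact ⟨_, hmY, by simp [spell]; rfl⟩
    obtain ⟨⟨k', hk'⟩, hkM, e⟩ := hle hk2
    simp only [Subgroup.coe_subtype] at e
    subst e
    exact hkM

theorem key_spell {X Y : List ℕ} {M : ℕ} (c : Fin 3 → ℕ → ℕ) (nX nY : ℕ → ℕ) {b : ℕ} (hb : b < M)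
    (hbase : ∀ i, c i b = bases.getD i 0)
    (hsX : ∀ i, ∀ n < M, table.imgW X (c i n) = c i (nX n) ∧ c i n < table.N ∧ nX n < M)
    (hsY : ∀ i, ∀ n < M, table.imgW Y (c i n) = c i (nY n) ∧ c i n < table.N ∧ nY n < M)
    (w : List ℕ) : key (spell X Y w) =
      [c 0 (node nX nY w b), c 1 (node nX nY w b), c 2 (node nX nY w b)] := by
  have h : ∀ w n, n < M → ∀ i, table.imgW (spell X Y w) (c i n) = c i (node nX nY w n) := by
    intro w
    induction w with
    | nil => intro n _ i; rfl
    | cons z t ih =>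
      intro n hn i
      rw [node, List.map_cons, PTab.runL_cons, ← node]
      show table.imgW ((bif Nat.beq z 0 then X else Y) ++ spell X Y t) _ = _
      rw [PTab.imgW, List.foldl_append, ← PTab.imgW, ← PTab.imgW]
      cases Nat.beq z 0
      · show table.imgW _ (table.imgW Y _) = _
        rw [(hsY i n hn).1]; exact ih _ (hsY i n hn).2.2 i
      · show table.imgW _ (table.imgW X _) = _
        rw [(hsX i n hn).1]; exact ih _ (hsX i n hn).2.2 i
  have h0 := hbase 0
  have h1 := hbase 1
  have h2 := hbase 2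
  rw [← h w b hb 0, ← h w b hb 1, ← h w b hb 2, h0, h1, h2]
  rfl

end CfsgLib.Sporadic.CosetCert.ONP
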