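import Cfsg.Agent.Lib.Sporadic.CosetCertSound

/-!
# Permutation tables for coset certificates

A table holds the images of the points under some rows: first the letters, then products of two
earlier rows. Orbit certificates list breadth first searches in such a table, and chains of them
give lower bounds for orders of groups.
-/

namespace CfsgLib.Sporadic.CosetCert

/-- Packed permutations of `N` points. -/
structure PTab where
  /-- number of points -/
  N : ℕ
  /-- number of letters -/
  nl : ℕ
  /-- bits for a point -/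
  wb : ℕ
  /-- inverse letters, 4 bits each -/
  iv : ℕ
  /-- the further rows, each the product of two earlier rows -/
  slp : List (ℕ × ℕ)
  /-- the images -/
  tab : Tr

namespace PTab

variable (T : PTab)

/-- Image of the point `u` under row `r`. -/
noncomputable def img (r u : ℕ) : ℕ := T.tab.get T.wb (Nat.add (Nat.mul r T.N) u)

/-- The inverse of a letter. -/
def inv (x : ℕ) : ℕ := Nat.mod (Nat.shiftRight T.iv (Nat.mul 4 x)) 16

/-- The letters are permutations: check `n` points from `s`. -/
noncomputable def genOK (s n : ℕ) : Bool :=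
  Nat.rec (motive := fun _ => Bool) true
    (fun i ih =>
      Nat.rec (motive := fun _ => Bool) true
        (fun x ih' => Nat.blt (T.inv x) T.nl && Nat.blt (T.img x (Nat.add s i)) T.N &&
          Nat.beq (T.img (T.inv x) (T.img x (Nat.add s i))) (Nat.add s i) && ih')
        T.nl && ih)
    n

/-- Row `r` is the product of rows `i` and `j`. -/
noncomputable def rowOK (r i j : ℕ) : Bool :=
  Nat.blt i r && Nat.blt j r &&
    Nat.rec (motive := fun _ => Bool) true
      (fun u ih => Nat.beq (T.img r u) (T.img i (T.img j u)) && ih) T.N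

/-- All product rows check. -/
noncomputable def slpOK : Bool :=
  (List.range T.slp.length).all fun k =>
    T.rowOK (T.nl + k) (T.slp.getD k (0, 0)).1 (T.slp.getD k (0, 0)).2

/-- The table agrees with a certificate: check `n` points from `s`. -/
noncomputable def agreeOK (C : Cert) (top s n : ℕ) : Bool :=
  Nat.rec (motive := fun _ => Bool) true
    (fun i ih =>
      Nat.rec (motive := fun _ => Bool) true
        (fun x ih' => Nat.beq (C.look top (Nat.add s i) x) (Nat.succ (T.img x (Nat.add s i))) &&
          Nat.blt (T.img x (Nat.add s i)) C.N && ih')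
        C.nl && ih)
    n

/-- Run the word `(len, bits)` from `u`. -/
noncomputable def run (len bits u : ℕ) : ℕ :=
  Nat.rec (motive := fun _ => ℕ) u
    (fun i ih => T.img (Nat.mod (Nat.shiftRight bits (Nat.mul 4 i)) 16) ih) len

/-- A word fixes `n` points from `s`. -/
noncomputable def wordOK (w : ℕ × ℕ) (s n : ℕ) : Bool :=
  Nat.rec (motive := fun _ => Bool) true
    (fun i ih => Nat.beq (T.run w.1 w.2 (Nat.add s i)) (Nat.add s i) && ih) n

/-- Breadth first search: each step `(point, predecessor, row)` adds a new point. -/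
noncomputable def bfs (S : List ℕ) : List (ℕ × ℕ × ℕ) → ℕ → Option ℕ
  | [], m => some m
  | (p, q, r) :: t, m =>
    bif S.contains r && Nat.testBit m q && !Nat.testBit m p && Nat.blt p T.N &&
        Nat.blt q T.N && Nat.beq (T.img r q) p
    then bfs S t (m ||| 2 ^ p) else none

/-- The marked points are closed under the rows in `S`. -/
noncomputable def closedUnder (S : List ℕ) (m : ℕ) : Bool :=
  Nat.rec (motive := fun _ => Bool) true
    (fun u ih => (!Nat.testBit m u || S.all fun r => Nat.testBit m (T.img r u)) && ih) T.N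

variable {T}

/-- The table describes `φ` on the letters. -/
structure Acts {G : Type*} [Group G] (T : PTab) (φ : G →* Equiv.Perm (Fin T.N)) (g : ℕ → G) :
    Prop where
  img_eq : ∀ x < T.nl, ∀ u : Fin T.N, ((φ (g x) u : Fin T.N) : ℕ) = T.img x u

/-- The element of a row. -/
noncomputable def el {G : Type*} [Group G] (T : PTab) (g : ℕ → G) (r : ℕ) : G :=
  if r < T.nl then g r
  else if h : (T.slp.getD (r - T.nl) (0, 0)).1 < r ∧ (T.slp.getD (r - T.nl) (0, 0)).2 < r then
    el T g (T.slp.getD (r - T.nl) (0, 0)).1 * el T g (T.slp.getD (r - T.nl) (0, 0)).2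
  else 1
termination_by r
decreasing_by
  · exact h.1
  · exact h.2

theorem el_mem {G : Type*} [Group G] (g : ℕ → G) :
    ∀ r, T.el g r ∈ Subgroup.closure (g '' Set.Iio T.nl) := by
  intro r
  induction r using Nat.strong_induction_on with
  | _ r ih =>
    rw [el]
    split_ifs with h1 h2
    · exact Subgroup.subset_closure ⟨r, h1, rfl⟩
    · exact mul_mem (ih _ h2.1) (ih _ h2.2)
    · exact one_mem _

theorem rowOK_spec {r i j : ℕ} (h : T.rowOK r i j = true) :
    i < r ∧ j < r ∧ ∀ u < T.N, T.img r u = T.img i (T.img j u) := by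
  unfold rowOK at h
  simp only [Bool.and_eq_true, Nat.blt_eq] at h
  refine ⟨h.1.1, h.1.2, ?_⟩
  have key : ∀ m, Nat.rec (motive := fun _ => Bool) true
      (fun u ih => Nat.beq (T.img r u) (T.img i (T.img j u)) && ih) m = true →
      ∀ u < m, T.img r u = T.img i (T.img j u) := by
    intro m
    induction m with
    | zero => intro _ u hu; omega
    | succ m ih =>
      intro hm u hu
      simp only [Bool.and_eq_true, Nat.beq_eq] at hm
      rcases Nat.lt_or_eq_of_le (Nat.le_of_lt_succ hu) with hu | rfl
      · exact ih hm.2 u hu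
      · exact hm.1
  exact key _ h.2

theorem Acts.el_img {G : Type*} [Group G] {φ : G →* Equiv.Perm (Fin T.N)} {g : ℕ → G}
    (hA : T.Acts φ g) (hS : T.slpOK = true) :
    ∀ r < T.nl + T.slp.length, ∀ u : Fin T.N, ((φ (T.el g r) u : Fin T.N) : ℕ) = T.img r u := by
  intro r
  induction r using Nat.strong_induction_on with
  | _ r ih =>
    intro hr u
    rw [el]
    by_cases h1 : r < T.nl
    · rw [if_pos h1]; exact hA.img_eq r h1 u
    · rw [if_neg h1]
      unfold slpOK at hS
      rw [List.all_eq_true] at hS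
      have hk := rowOK_spec (hS (r - T.nl) (List.mem_range.2 (by omega)))
      rw [show T.nl + (r - T.nl) = r by omega] at hk
      obtain ⟨hi, hj, he⟩ := hk
      rw [dif_pos ⟨hi, hj⟩, map_mul, Equiv.Perm.mul_apply, ih _ hi (by omega), ih _ hj (by omega),
        he u u.2]

/-- The permutations of the rows in `S`. -/
def rowSet {G : Type*} [Group G] (T : PTab) (φ : G →* Equiv.Perm (Fin T.N)) (g : ℕ → G)
    (S : List ℕ) : Set (Equiv.Perm (Fin T.N)) :=
  (fun r => φ (T.el g r)) '' {r | r ∈ S}

/-- The points of a mask. -/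
def maskSet (T : PTab) (m : ℕ) : Finset (Fin T.N) :=
  Finset.univ.filter fun u => Nat.testBit m u

theorem mem_maskSet {m : ℕ} {u : Fin T.N} : u ∈ T.maskSet m ↔ Nat.testBit m u = true := by
  simp [maskSet]

theorem bfs_spec {G : Type*} [Group G] {φ : G →* Equiv.Perm (Fin T.N)} {g : ℕ → G}
    (hA : T.Acts φ g) (hS : T.slpOK = true) {P : Subgroup (Equiv.Perm (Fin T.N))} {S : List ℕ}
    (hSr : ∀ r ∈ S, r < T.nl + T.slp.length) (hP : T.rowSet φ g S ⊆ P) (b : Fin T.N) :
    ∀ L m m', T.bfs S L m = some m' → (∀ u ∈ T.maskSet m, u ∈ MulAction.orbit P b) →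
      (∀ u ∈ T.maskSet m', u ∈ MulAction.orbit P b) ∧
        (T.maskSet m').card = (T.maskSet m).card + L.length := by
  intro L
  induction L with
  | nil =>
    intro m m' h hm
    simp only [bfs, Option.some.injEq] at h
    subst h
    exact ⟨hm, rfl⟩
  | cons e t ih =>
    obtain ⟨p, q, r⟩ := e
    intro m m' h hm
    simp only [bfs] at h
    rcases hc : (S.contains r && Nat.testBit m q && !Nat.testBit m p && Nat.blt p T.N &&
        Nat.blt q T.N && Nat.beq (T.img r q) p)
    · rw [hc] at h; simp at h
    rw [hc] at h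
    simp only [cond_true] at h
    simp only [Bool.and_eq_true, List.contains_iff_mem, Bool.not_eq_true', Nat.blt_eq,
      Nat.beq_eq] at hc
    obtain ⟨⟨⟨⟨⟨hr, hq⟩, hp⟩, hpN⟩, hqN⟩, himg⟩ := hc
    have hnew : T.maskSet (m ||| 2 ^ p) = insert ⟨p, hpN⟩ (T.maskSet m) := by
      ext u
      simp only [mem_maskSet, Finset.mem_insert, Nat.testBit_or, Bool.or_eq_true,
        Nat.testBit_two_pow, decide_eq_true_eq, Fin.ext_iff]
      tauto
    have hpnot : (⟨p, hpN⟩ : Fin T.N) ∉ T.maskSet m := by simp [mem_maskSet, hp]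
    have horb : (⟨p, hpN⟩ : Fin T.N) ∈ MulAction.orbit P b := by
      have h1 := hm ⟨q, hqN⟩ (mem_maskSet.2 hq)
      have h2 : φ (T.el g r) ∈ P := hP ⟨r, hr, rfl⟩
      have h3 : (⟨p, hpN⟩ : Fin T.N) = φ (T.el g r) ⟨q, hqN⟩ :=
        Fin.ext (by rw [hA.el_img hS r (hSr r hr) ⟨q, hqN⟩]; exact himg.symm)
      rw [h3]
      obtain ⟨⟨a, ha⟩, hab⟩ := h1
      exact ⟨⟨φ (T.el g r) * a, mul_mem h2 ha⟩, congrArg (φ (T.el g r)) hab⟩
    obtain ⟨h1, h2⟩ := ih _ _ h (by
      intro u hu
      rw [hnew, Finset.mem_insert] at hu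
      rcases hu with rfl | hu
      · exact horb
      · exact hm u hu)
    refine ⟨h1, ?_⟩
    rw [h2, hnew, Finset.card_insert_of_notMem hpnot, List.length_cons]
    ring

/-- The set of points reached by a search from `b`, when it checks. -/
noncomputable def orbitMask (T : PTab) (S : List ℕ) (b : ℕ) (L : List (ℕ × ℕ × ℕ)) : ℕ :=
  (T.bfs S L (2 ^ b)).getD 0

/-- The search checks and its result is closed. -/
noncomputable def orbitOK (T : PTab) (S : List ℕ) (b : ℕ) (L : List (ℕ × ℕ × ℕ)) : Bool :=
  (T.bfs S L (2 ^ b)).isSome && T.closedUnder S (T.orbitMask S b L)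

theorem maskSet_two_pow (b : Fin T.N) : T.maskSet (2 ^ (b : ℕ)) = {b} := by
  ext u
  simp [mem_maskSet, Nat.testBit_two_pow, Fin.ext_iff, eq_comm]

theorem closedUnder_spec {S : List ℕ} {m : ℕ} (h : T.closedUnder S m = true) :
    ∀ u < T.N, Nat.testBit m u = true → ∀ r ∈ S, Nat.testBit m (T.img r u) = true := by
  unfold closedUnder at h
  have key : ∀ n, Nat.rec (motive := fun _ => Bool) true
      (fun u ih => (!Nat.testBit m u || S.all fun r => Nat.testBit m (T.img r u)) && ih) n = true →
      ∀ u < n, Nat.testBit m u = true → ∀ r ∈ S, Nat.testBit m (T.img r u) = true := by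
    intro n
    induction n with
    | zero => intro _ u hu; omega
    | succ n ih =>
      intro hn u hu hb r hr
      simp only [Bool.and_eq_true, Bool.or_eq_true, Bool.not_eq_true', List.all_eq_true] at hn
      rcases Nat.lt_or_eq_of_le (Nat.le_of_lt_succ hu) with hu | rfl
      · exact ih hn.2 u hu hb r hr
      · rcases hn.1 with h1 | h1
        · rw [hb] at h1; exact absurd h1 (by simp)
        · exact h1 r hr
  exact key _ h

/-- An orbit found by a checked search. -/
theorem orbit_eq {G : Type*} [Group G] {φ : G →* Equiv.Perm (Fin T.N)} {g : ℕ → G}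
    (hA : T.Acts φ g) (hS : T.slpOK = true) {S : List ℕ}
    (hSr : ∀ r ∈ S, r < T.nl + T.slp.length) (b : Fin T.N) (L : List (ℕ × ℕ × ℕ))
    (hL : T.orbitOK S b L = true) :
    MulAction.orbit (Subgroup.closure (T.rowSet φ g S)) b = ↑(T.maskSet (T.orbitMask S b L)) ∧
      (T.maskSet (T.orbitMask S b L)).card = L.length + 1 := by
  simp only [orbitOK, Bool.and_eq_true] at hL
  obtain ⟨h1, h2⟩ := hL
  obtain ⟨m, hm⟩ := Option.isSome_iff_exists.1 h1
  have em : T.orbitMask S b L = m := by simp [orbitMask, hm]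
  rw [em] at h2 ⊢
  obtain ⟨hsub, hcard⟩ := bfs_spec hA hS hSr Subgroup.subset_closure b L _ m hm (by
    intro u hu
    rw [maskSet_two_pow, Finset.mem_singleton] at hu
    subst hu
    exact MulAction.mem_orbit_self _)
  refine ⟨Set.Subset.antisymm ?_ (fun u hu => hsub u hu), by
    rw [hcard, maskSet_two_pow, Finset.card_singleton, add_comm]⟩
  have hcl := closedUnder_spec h2
  have hmap : ∀ r ∈ S, ∀ u ∈ T.maskSet m, φ (T.el g r) u ∈ T.maskSet m := by
    intro r hr u hu
    rw [mem_maskSet, hA.el_img hS r (hSr r hr) u]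
    exact hcl u u.2 (mem_maskSet.1 hu) r hr
  have hb : b ∈ T.maskSet m := by
    have hmono : ∀ (L : List (ℕ × ℕ × ℕ)) (m₀ m₁ : ℕ), T.bfs S L m₀ = some m₁ →
        Nat.testBit m₀ b = true → Nat.testBit m₁ b = true := by
      intro L
      induction L with
      | nil => intro m₀ m₁ h hb; simp only [bfs, Option.some.injEq] at h; rwa [← h]
      | cons e t ih =>
        obtain ⟨p, q, r⟩ := e
        intro m₀ m₁ h hb
        simp only [bfs] at h
        rcases hc : (S.contains r && Nat.testBit m₀ q && !Nat.testBit m₀ p && Nat.blt p T.N &&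
            Nat.blt q T.N && Nat.beq (T.img r q) p)
        · rw [hc] at h; simp at h
        · rw [hc] at h; exact ih _ _ h (by rw [Nat.testBit_or, hb]; rfl)
    exact mem_maskSet.2 (hmono L _ m hm (by simp))
  rintro u ⟨⟨a, ha⟩, rfl⟩
  show a b ∈ (T.maskSet m : Set (Fin T.N))
  suffices ∀ v ∈ T.maskSet m, a v ∈ T.maskSet m from this b hb
  induction ha using Subgroup.closure_induction'' with
  | mem a ha =>
    obtain ⟨r, hr, rfl⟩ := ha
    exact hmap r hr
  | inv_mem a ha =>
    obtain ⟨r, hr, rfl⟩ := ha
    intro v hv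
    have himg : (T.maskSet m).image (φ (T.el g r)) = T.maskSet m := by
      apply Finset.eq_of_subset_of_card_le (Finset.image_subset_iff.2 (hmap r hr))
      rw [Finset.card_image_of_injective _ (φ (T.el g r)).injective]
    rw [← himg, Finset.mem_image] at hv
    obtain ⟨w, hw, rfl⟩ := hv
    simpa using hw
  | one => simp
  | mul a b _ _ iha ihb => exact fun v hv => iha _ (ihb v hv)

/-- A chain of orbit certificates: base point, rows, search. -/
noncomputable def chainOK (T : PTab) :
    List (ℕ × List ℕ × List (ℕ × ℕ × ℕ)) → List ℕ → Bool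
  | [], _ => true
  | (b, S, L) :: t, fixed =>
    Nat.blt b T.N &&
      (S.all fun r => Nat.blt r (T.nl + T.slp.length) && fixed.all fun c => Nat.beq (T.img r c) c) &&
      (T.bfs S L (2 ^ b)).isSome && chainOK T t (b :: fixed)

/-- The product of the orbit sizes of a chain. -/
def chainProd : List (ℕ × List ℕ × List (ℕ × ℕ × ℕ)) → ℕ
  | [] => 1
  | (_, _, L) :: t => (L.length + 1) * chainProd t

/-- A chain gives a lower bound for the order of a group of permutations. -/
theorem chainProd_le_card {G : Type*} [Group G] {φ : G →* Equiv.Perm (Fin T.N)} {g : ℕ → G}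
    (hA : T.Acts φ g) (hS : T.slpOK = true) :
    ∀ (L : List (ℕ × List ℕ × List (ℕ × ℕ × ℕ))) (fixed : List ℕ)
      (P : Subgroup (Equiv.Perm (Fin T.N))), T.chainOK L fixed = true →
      (∀ e ∈ L, ∀ r ∈ e.2.1, (∀ c ∈ fixed, T.img r c = c) → φ (T.el g r) ∈ P) →
      chainProd L ≤ Nat.card P := by
  intro L
  induction L with
  | nil => intro _ P _ _; exact Nat.card_pos
  | cons e t ih =>
    obtain ⟨b, S, O⟩ := e
    intro fixed P h hmem
    simp only [chainOK, Bool.and_eq_true, Nat.blt_eq, List.all_eq_true, Nat.beq_eq] at h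
    obtain ⟨⟨⟨hb, hSS⟩, h1⟩, h3⟩ := h
    obtain ⟨m, hm⟩ := Option.isSome_iff_exists.1 h1
    obtain ⟨hsub, hcard⟩ := bfs_spec hA hS (fun r hr => (hSS r hr).1) (P := P)
      (by
        rintro _ ⟨r, hr, rfl⟩
        exact hmem _ List.mem_cons_self r hr (hSS r hr).2) ⟨b, hb⟩ O _ m hm (by
      intro u hu
      rw [show (2 : ℕ) ^ b = 2 ^ ((⟨b, hb⟩ : Fin T.N) : ℕ) from rfl, maskSet_two_pow,
        Finset.mem_singleton] at hu
      subst hu
      exact MulAction.mem_orbit_self _)
    rw [show (2 : ℕ) ^ b = 2 ^ ((⟨b, hb⟩ : Fin T.N) : ℕ) from rfl, maskSet_two_pow,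
      Finset.card_singleton] at hcard
    have horb : O.length + 1 ≤ Nat.card (MulAction.orbit P (⟨b, hb⟩ : Fin T.N)) := by
      rw [Nat.card_coe_set_eq, add_comm, ← hcard, ← Set.ncard_coe_finset]
      exact Set.ncard_le_ncard (fun u hu => hsub u hu) (Set.toFinite _)
    have hst := ih (b :: fixed) (P ⊓ MulAction.stabilizer _ (⟨b, hb⟩ : Fin T.N)) h3 (by
      intro e he r hr hfix
      have hmemS : r < T.nl + T.slp.length := by
        have key : ∀ (L : List (ℕ × List ℕ × List (ℕ × ℕ × ℕ))) (fx : List ℕ),
            T.chainOK L fx = true → ∀ e ∈ L, ∀ r ∈ e.2.1, r < T.nl + T.slp.length := by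
          intro L
          induction L with
          | nil => intro _ _ e he; simp at he
          | cons e' t' ih' =>
            obtain ⟨b', S', O'⟩ := e'
            intro fx hfx e he r hr
            simp only [chainOK, Bool.and_eq_true, Nat.blt_eq, List.all_eq_true] at hfx
            rcases List.mem_cons.1 he with rfl | he
            · exact (hfx.1.1.2 r hr).1
            · exact ih' _ hfx.2 e he r hr
        exact key t _ h3 e he r hr
      refine ⟨hmem e (List.mem_cons_of_mem _ he) r hr
        (fun c hc => hfix c (List.mem_cons_of_mem _ hc)), ?_⟩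
      exact Fin.ext (by
        show ((φ (T.el g r) ⟨b, hb⟩ : Fin T.N) : ℕ) = b
        rw [hA.el_img hS r hmemS ⟨b, hb⟩]
        exact hfix b List.mem_cons_self))
    have hos : Nat.card (MulAction.orbit P (⟨b, hb⟩ : Fin T.N)) *
        Nat.card (MulAction.stabilizer P (⟨b, hb⟩ : Fin T.N)) = Nat.card P := by
      rw [← Nat.card_prod]
      exact Nat.card_congr (MulAction.orbitProdStabilizerEquivGroup P _)
    have hle : Nat.card (P ⊓ MulAction.stabilizer (Equiv.Perm (Fin T.N)) (⟨b, hb⟩ : Fin T.N) :
        Subgroup _) ≤ Nat.card (MulAction.stabilizer P (⟨b, hb⟩ : Fin T.N)) :=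
      Nat.card_le_card_of_injective (fun a => ⟨⟨a.1, a.2.1⟩, a.2.2⟩)
        fun a a' e => by
          obtain ⟨a, _⟩ := a
          obtain ⟨a', _⟩ := a'
          cases e
          rfl
    calc (O.length + 1) * chainProd t
        ≤ _ * _ := Nat.mul_le_mul horb (hst.trans hle)
      _ = Nat.card P := hos

end PTab

end CfsgLib.Sporadic.CosetCert
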