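import Cfsg.Agent.Lib.Sporadic.CosetCertCox
import Cfsg.Agent.Lib.Sporadic.CosetCertPerm

/-!
# Certificates and tables for a presented group

A coding assigns to the letters of certificates generators or inverses of generators of a
presented group. From checked data we get index bounds, the homomorphism to permutations and
lower bounds for orders.
-/

namespace CfsgLib.Sporadic.CosetCert

variable {α : Type*} [DecidableEq α]

/-- Combine checks of consecutive ranges. -/
theorem range_split {p : ℕ → Prop} {s m n : ℕ} (h1 : ∀ k, s ≤ k → k < m → p k)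
    (h2 : ∀ k, m ≤ k → k < n → p k) : ∀ k, s ≤ k → k < n → p k := fun k hk hk' =>
  if h : k < m then h1 k hk h else h2 k (by omega) hk'

theorem keysOK_spec {C : Cert} {s n : ℕ} (h : C.keysOK s n = true) :
    ∀ k, s ≤ k → k < s + n → C.keyOK k = true := by
  induction n with
  | zero => intro k hk hk'; omega
  | succ n ih =>
    intro k hk hk'
    change (C.keyOK (s + n) && C.keysOK s n) = true at h
    simp only [Bool.and_eq_true] at h
    rcases Nat.lt_or_eq_of_le (Nat.le_of_lt_succ hk') with h' | rfl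
    · exact ih h.2 k hk h'
    · exact h.1

theorem closedFrom_spec {C : Cert} {top s n : ℕ} (h : C.closedFrom top s n = true) :
    ∀ u, s ≤ u → u < s + n → ∀ x < C.nl, ∃ w, C.look top u x = w + 1 ∧ w < C.N := by
  induction n with
  | zero => intro k hk hk'; omega
  | succ n ih =>
    intro k hk hk'
    change (C.closedAt top (s + n) C.nl && C.closedFrom top s n) = true at h
    simp only [Bool.and_eq_true] at h
    rcases Nat.lt_or_eq_of_le (Nat.le_of_lt_succ hk') with h' | rfl
    · exact ih h.2 k hk h'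
    · have key : ∀ m, C.closedAt top (s + n) m = true →
          ∀ x < m, ∃ w, C.look top (s + n) x = w + 1 ∧ w < C.N := by
        intro m
        induction m with
        | zero => intro _ x hx; omega
        | succ m ihm =>
          intro hm x hx
          change Nat.rec (motive := fun _ => Bool) false
            (fun t _ => Nat.blt t C.N && C.closedAt top (s + n) m) (C.look top (s + n) m) = true at hm
          rcases hl : C.look top (s + n) m with _ | t
          · rw [hl] at hm; simp at hm
          · rw [hl] at hm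
            simp only [Bool.and_eq_true, Nat.blt_eq] at hm
            rcases Nat.lt_or_eq_of_le (Nat.le_of_lt_succ hx) with hx | rfl
            · exact ihm hm.2 x hx
            · exact ⟨t, hl, hm.1⟩
      exact key _ h.1

theorem agreeOK_spec {T : PTab} {C : Cert} {top s n : ℕ} (h : T.agreeOK C top s n = true) :
    ∀ u, s ≤ u → u < s + n → ∀ x < C.nl,
      C.look top u x = T.img x u + 1 ∧ T.img x u < C.N := by
  induction n with
  | zero => intro k hk hk'; omega
  | succ n ih =>
    intro k hk hk'
    unfold PTab.agreeOK at h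
    simp only [Nat.add_eq, Bool.and_eq_true] at h
    rcases Nat.lt_or_eq_of_le (Nat.le_of_lt_succ hk') with h' | rfl
    · exact ih h.2 k hk h'
    · have key : ∀ m, Nat.rec (motive := fun _ => Bool) true
          (fun x ih' => Nat.beq (C.look top (s + n) x) (Nat.succ (T.img x (s + n))) &&
            Nat.blt (T.img x (s + n)) C.N && ih') m = true →
          ∀ x < m, C.look top (s + n) x = T.img x (s + n) + 1 ∧ T.img x (s + n) < C.N := by
        intro m
        induction m with
        | zero => intro _ x hx; omega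
        | succ m ihm =>
          intro hm x hx
          simp only [Bool.and_eq_true, Nat.blt_eq, Nat.beq_eq] at hm
          rcases Nat.lt_or_eq_of_le (Nat.le_of_lt_succ hx) with hx | rfl
          · exact ihm hm.2 x hx
          · exact hm.1
      exact key _ h.1

theorem genOK_spec {T : PTab} {s n : ℕ} (h : T.genOK s n = true) :
    ∀ u, s ≤ u → u < s + n → ∀ x < T.nl,
      T.inv x < T.nl ∧ T.img x u < T.N ∧ T.img (T.inv x) (T.img x u) = u := by
  induction n with
  | zero => intro k hk hk'; omega
  | succ n ih =>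
    intro k hk hk'
    unfold PTab.genOK at h
    simp only [Nat.add_eq, Bool.and_eq_true] at h
    rcases Nat.lt_or_eq_of_le (Nat.le_of_lt_succ hk') with h' | rfl
    · exact ih h.2 k hk h'
    · have key : ∀ m, Nat.rec (motive := fun _ => Bool) true
          (fun x ih' => Nat.blt (T.inv x) T.nl && Nat.blt (T.img x (s + n)) T.N &&
            Nat.beq (T.img (T.inv x) (T.img x (s + n))) (s + n) && ih') m = true →
          ∀ x < m, T.inv x < T.nl ∧ T.img x (s + n) < T.N ∧
            T.img (T.inv x) (T.img x (s + n)) = s + n := by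
        intro m
        induction m with
        | zero => intro _ x hx; omega
        | succ m ihm =>
          intro hm x hx
          simp only [Bool.and_eq_true, Nat.blt_eq, Nat.beq_eq] at hm
          rcases Nat.lt_or_eq_of_le (Nat.le_of_lt_succ hx) with hx | rfl
          · exact ihm hm.2 x hx
          · exact ⟨hm.1.1.1, hm.1.1.2, hm.1.2⟩
      exact key _ h.1

theorem wordOK_spec {T : PTab} {w : ℕ × ℕ} {s n : ℕ} (h : T.wordOK w s n = true) :
    ∀ u, s ≤ u → u < s + n → T.run w.1 w.2 u = u := by
  induction n with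
  | zero => intro k hk hk'; omega
  | succ n ih =>
    intro k hk hk'
    unfold PTab.wordOK at h
    simp only [Nat.add_eq, Bool.and_eq_true, Nat.beq_eq] at h
    rcases Nat.lt_or_eq_of_le (Nat.le_of_lt_succ hk') with h' | rfl
    · exact ih h.2 k hk h'
    · exact h.1

/-- All letters of a certificate are in range. -/
noncomputable def lettersOK (C : Cert) : Bool :=
  (List.range C.words.length).all fun i =>
    Nat.blt 0 (C.word i).1 && (List.range (C.word i).1).all fun j =>
      Nat.blt (Cert.letterAt (C.word i).1 (C.word i).2 0 j) C.nl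

/-- The inverse letters are in range. -/
noncomputable def invOK (C : Cert) : Bool :=
  (List.range C.nl).all fun x => Nat.blt (C.inv x) C.nl

theorem valid_of {C : Cert} (hk : ∀ k < C.M * (C.nl + 1), C.keyOK k = true)
    (hc : ∀ u < C.N, ∃ top, ∀ x < C.nl, ∃ w, C.look top u x = w + 1 ∧ w < C.N)
    (hi : invOK C = true) (hl : lettersOK C = true) : C.Valid where
  keys := hk
  closed := hc
  inv_lt := fun x hx => by
    simp only [invOK, List.all_eq_true, List.mem_range, Nat.blt_eq] at hi
    exact hi x hx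
  letter_lt := fun i hi' o j => by
    simp only [lettersOK, List.all_eq_true, List.mem_range, Bool.and_eq_true, Nat.blt_eq] at hl
    obtain ⟨hpos, hl⟩ := hl i hi'
    have := hl ((o + j) % (C.word i).1) (Nat.mod_lt _ hpos)
    simp only [Cert.letterAt, Nat.add_eq, zero_add] at this ⊢
    rwa [show Nat.mod ((o + j) % (C.word i).1) (C.word i).1 = Nat.mod (o + j) (C.word i).1 from
      Nat.mod_mod _ _] at this

/-- What letters mean: generators with a sign. -/
def letterVal {H : Type*} [Group H] (lets : List (α × Bool)) (f : α → H) (x : ℕ) : H :=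
  match lets[x]? with
  | some p => cond p.2 (f p.1) (f p.1)⁻¹
  | none => 1

theorem map_letterVal {H H' : Type*} [Group H] [Group H'] (ψ : H →* H') (lets : List (α × Bool))
    (f : α → H) (x : ℕ) : ψ (letterVal lets f x) = letterVal lets (fun a => ψ (f a)) x := by
  unfold letterVal
  rcases lets[x]? with _ | ⟨a, _ | _⟩ <;> simp

theorem lift_eq_of_lets {H : Type*} [Group H] (f : α → H) (g : ℕ → H) (code cinv : α → ℕ)
    (hc : ∀ a, g (code a) = f a) (hi : ∀ a, g (cinv a) = (f a)⁻¹) {C : Cert} {i : ℕ}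
    {r : FreeGroup α} (he : appWord code cinv r = C.letters i) :
    FreeGroup.lift f r = appProd g (C.letters i) := by
  rw [lift_eq_appProd f g code cinv hc hi, he]

section Pres

variable {edges : List (α × ℕ × α)} {extra : List (FreeGroup α)}

/-- A coding of letters by generators and their inverses. -/
structure Coding (edges : List (α × ℕ × α)) (extra : List (FreeGroup α)) (nl iv : ℕ) where
  lets : List (α × Bool)
  code : α → ℕ
  cinv : α → ℕ
  pairs : List (α × α)
  len : lets.length = nl
  code_eq : ∀ a, lets[code a]? = some (a, true)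
  cinv_eq : ∀ a, lets[cinv a]? = some (a, false) ∨
    (cinv a = code a ∧ a ∈ Cfsg.Spor.coxNodes edges)
  inv_eq : ∀ x < nl,
    (∃ a, (lets[x]? = some (a, true) ∧ Nat.mod (Nat.shiftRight iv (Nat.mul 4 x)) 16 = cinv a) ∨
      (lets[x]? = some (a, false) ∧ Nat.mod (Nat.shiftRight iv (Nat.mul 4 x)) 16 = code a))
  pairs_mem : ∀ p ∈ pairs, p.1 ∈ Cfsg.Spor.coxNodes edges ∧ p.2 ∈ Cfsg.Spor.coxNodes edges
  pairs_cover : ∀ x ∈ Cfsg.Spor.coxNodes edges, ∀ y ∈ Cfsg.Spor.coxNodes edges,
    (x, y) ∈ pairs ∨
      ((y, x) ∈ pairs ∧ Cfsg.Spor.coxLabel edges y x = Cfsg.Spor.coxLabel edges x y)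

variable {nl iv : ℕ} (K : Coding edges extra nl iv)

/-- The value of a letter in the presented group. -/
noncomputable def Coding.gen (x : ℕ) : Cfsg.Spor.CoxPresented α edges extra :=
  letterVal K.lets PresentedGroup.of x

theorem node_inv {a : α} (ha : a ∈ Cfsg.Spor.coxNodes edges) :
    (PresentedGroup.of a : Cfsg.Spor.CoxPresented α edges extra)⁻¹ = PresentedGroup.of a := by
  apply inv_eq_of_mul_eq_one_right
  have h : PresentedGroup.mk (Cfsg.Spor.coxRelators edges ∪ {r | r ∈ extra})
      ((FreeGroup.of a * FreeGroup.of a) ^ Cfsg.Spor.coxLabel edges a a) = 1 :=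
    PresentedGroup.one_of_mem (Or.inl ⟨a, ha, a, ha, rfl⟩)
  simpa [Cfsg.Spor.coxLabel, PresentedGroup.of] using h

theorem Coding.gen_code (a : α) : K.gen (K.code a) = PresentedGroup.of a := by
  simp [Coding.gen, letterVal, K.code_eq a]

theorem Coding.gen_cinv (a : α) :
    K.gen (K.cinv a) = (PresentedGroup.of a : Cfsg.Spor.CoxPresented α edges extra)⁻¹ := by
  rcases K.cinv_eq a with h | ⟨h, ha⟩
  · simp [Coding.gen, letterVal, h]
  · rw [h, K.gen_code, node_inv ha]

theorem Coding.gen_nl : K.gen nl = 1 := by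
  have : K.lets[nl]? = none := List.getElem?_eq_none K.len.le
  simp [Coding.gen, letterVal, this]

theorem Coding.gen_inv {x : ℕ} (hx : x < nl) :
    K.gen (Nat.mod (Nat.shiftRight iv (Nat.mul 4 x)) 16) = (K.gen x)⁻¹ := by
  obtain ⟨a, ⟨h1, h2⟩ | ⟨h1, h2⟩⟩ := K.inv_eq x hx
  · rw [h2, K.gen_cinv]; simp [Coding.gen, letterVal, h1]
  · rw [h2, K.gen_code]; simp [Coding.gen, letterVal, h1]

theorem Coding.mk_eq (r : FreeGroup α) :
    PresentedGroup.mk (Cfsg.Spor.coxRelators edges ∪ {r | r ∈ extra}) r =
      appProd K.gen (appWord K.code K.cinv r) :=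
  mk_eq_appProd K.gen K.code K.cinv K.gen_code K.gen_cinv r

theorem Coding.gen_mem_image (x : ℕ) (hx : x < nl) :
    ∃ a, K.gen x = PresentedGroup.of a ∨
      K.gen x = (PresentedGroup.of a : Cfsg.Spor.CoxPresented α edges extra)⁻¹ := by
  obtain ⟨a, ⟨h1, -⟩ | ⟨h1, -⟩⟩ := K.inv_eq x hx
  · exact ⟨a, Or.inl (by simp [Coding.gen, letterVal, h1])⟩
  · exact ⟨a, Or.inr (by simp [Coding.gen, letterVal, h1])⟩

theorem Coding.closure_gen_eq_top : Subgroup.closure (K.gen '' Set.Iio nl) = ⊤ := by
  rw [eq_top_iff, ← PresentedGroup.closure_range_of, Subgroup.closure_le]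
  rintro _ ⟨a, rfl⟩
  refine Subgroup.subset_closure ⟨K.code a, ?_, K.gen_code a⟩
  have := List.getElem?_eq_some_iff.1 (K.code_eq a)
  obtain ⟨h, -⟩ := this
  exact (Nat.lt_of_lt_of_eq h K.len)

/-- Reading a certificate with a map `σ` of its letters to the letters of the coding. -/
noncomputable def Coding.interp (C : Cert) (σ : List ℕ)
    (hσ : ∀ x < C.nl, σ.getD x nl < nl ∧
      σ.getD (C.inv x) nl = Nat.mod (Nat.shiftRight iv (Nat.mul 4 (σ.getD x nl))) 16)
    (hlen : σ.length = C.nl) (S : Subgroup (Cfsg.Spor.CoxPresented α edges extra)) :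
    C.Interp (Cfsg.Spor.CoxPresented α edges extra)
      (Cfsg.Spor.CoxPresented α edges extra ⧸ S) where
  g x := K.gen (σ.getD x nl)
  base := ((1 : Cfsg.Spor.CoxPresented α edges extra) : _ ⧸ S)
  g_nl := by
    have : σ.getD C.nl nl = nl := List.getD_eq_default _ _ hlen.le
    show K.gen (σ.getD C.nl nl) = 1
    rw [this, K.gen_nl]
  g_inv x hx := by
    show K.gen (σ.getD (C.inv x) nl) = (K.gen (σ.getD x nl))⁻¹
    rw [(hσ x hx).2, K.gen_inv (hσ x hx).1]

/-- The words of a certificate are relators or lie in the subgroup. -/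
def Coding.WordsOK (C : Cert) (σ : List ℕ) (rels subs : List (FreeGroup α)) : Prop :=
  ∀ i < C.words.length,
    (i < C.nr → ∃ r ∈ rels, appWord K.code K.cinv r = (C.letters i).map (σ.getD · nl)) ∧
      (¬ i < C.nr → ∃ r ∈ subs, appWord K.code K.cinv r = (C.letters i).map (σ.getD · nl))

theorem appProd_map {H : Type*} [Group H] (g : ℕ → H) (s : ℕ → ℕ) (L : List ℕ) :
    appProd g (L.map s) = appProd (fun x => g (s x)) L := by
  induction L with
  | nil => rfl
  | cons x t ih => simp [appProd, ih]

/-- A certificate bounds a relative index in the presented group. -/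
theorem Coding.relIndex_le (C : Cert) (hV : C.Valid) (hN : 0 < C.N) (σ : List ℕ)
    (hσ : ∀ x < C.nl, σ.getD x nl < nl ∧
      σ.getD (C.inv x) nl = Nat.mod (Nat.shiftRight iv (Nat.mul 4 (σ.getD x nl))) 16)
    (hlen : σ.length = C.nl) (rels subs : List (FreeGroup α))
    (hrels : ∀ r ∈ rels,
      PresentedGroup.mk (Cfsg.Spor.coxRelators edges ∪ {r | r ∈ extra}) r = 1)
    (hW : K.WordsOK C σ rels subs)
    (S : Subgroup (Cfsg.Spor.CoxPresented α edges extra))
    (hS : ∀ r ∈ subs, PresentedGroup.mk (Cfsg.Spor.coxRelators edges ∪ {r | r ∈ extra}) r ∈ S) :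
    S.relIndex (Subgroup.closure ((fun x => K.gen (σ.getD x nl)) '' Set.Iio C.nl)) ≤ C.N ∧
      S.relIndex (Subgroup.closure ((fun x => K.gen (σ.getD x nl)) '' Set.Iio C.nl)) ≠ 0 := by
  refine Cert.relIndex_le (K.interp C σ hσ hlen S) rfl hV ?_ hN
  intro i hi
  have e : (K.interp C σ hσ hlen S).prod (C.word i).1 (C.word i).2 0 (C.word i).1 =
      appProd K.gen ((C.letters i).map (σ.getD · nl)) := by
    rw [Cert.Interp.prod_eq_appProd, appProd_map K.gen (fun x => σ.getD x nl)]
    rfl
  have h1 : i < C.nr →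
      (K.interp C σ hσ hlen S).prod (C.word i).1 (C.word i).2 0 (C.word i).1 = 1 := by
    intro hlt
    obtain ⟨r, hr, he⟩ := (hW i hi).1 hlt
    rw [e, ← he, ← K.mk_eq, hrels r hr]
  refine ⟨h1, ?_⟩
  by_cases hlt : i < C.nr
  · rw [h1 hlt, one_smul]
  · obtain ⟨r, hr, he⟩ := (hW i hi).2 hlt
    rw [e, ← he, ← K.mk_eq]
    show ((PresentedGroup.mk _ r * 1 : Cfsg.Spor.CoxPresented α edges extra) :
      Cfsg.Spor.CoxPresented α edges extra ⧸ S) = ((1 : Cfsg.Spor.CoxPresented α edges extra) :
      Cfsg.Spor.CoxPresented α edges extra ⧸ S)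
    rw [mul_one, QuotientGroup.eq, mul_one]
    exact inv_mem (hS r hr)

/-- The permutation of a letter. -/
noncomputable def letterPerm (T : PTab)
    (hT : ∀ u < T.N, ∀ x < T.nl,
      T.inv x < T.nl ∧ T.img x u < T.N ∧ T.img (T.inv x) (T.img x u) = u)
    (x : ℕ) : Equiv.Perm (Fin T.N) :=
  if hx : x < T.nl then
    Equiv.ofBijective (fun u => ⟨T.img x u, (hT u u.2 x hx).2.1⟩) (by
      refine Finite.injective_iff_bijective.1 ?_
      intro u v e
      have e' : T.img x u = T.img x v := congrArg Fin.val e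
      apply Fin.ext
      rw [← (hT u u.2 x hx).2.2, e', (hT v v.2 x hx).2.2])
  else 1

theorem appProd_perm_apply (T : PTab) (p : ℕ → Equiv.Perm (Fin T.N))
    (hp : ∀ x < T.nl, ∀ u : Fin T.N, ((p x u : Fin T.N) : ℕ) = T.img x u) (n bits : ℕ)
    (hb : ∀ j < n, Cert.letterAt n bits 0 j < T.nl) (u : Fin T.N) :
    ∀ m ≤ n, ((appProd p ((List.range m).map fun j => Cert.letterAt n bits 0 j) u : Fin T.N) : ℕ) =
      T.run m bits u := by
  intro m
  induction m with
  | zero => intro _; rfl
  | succ m ih =>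
    intro hm
    rw [List.range_succ, List.map_append, appProd_append, Equiv.Perm.mul_apply]
    simp only [List.map_cons, List.map_nil, appProd, one_mul]
    rw [hp _ (hb m (by omega)), ih (by omega)]
    show T.img (Cert.letterAt n bits 0 m) _ = T.img (Nat.mod (Nat.shiftRight bits (Nat.mul 4 m)) 16) _
    rw [Cert.letterAt, show Nat.mod (Nat.add 0 m) n = m by
      simp only [Nat.add_eq, zero_add]; exact Nat.mod_eq_of_lt (by omega)]
    rfl

/-- The relators of the coding act trivially in a table. -/
def Coding.TableOK (T : PTab) (C : Cert) : Prop :=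
  ∀ r ∈ relList edges extra K.pairs, ∃ i < C.nr, i < C.words.length ∧
    appWord K.code K.cinv r = C.letters i ∧
    ∀ u < T.N, T.run (C.word i).1 (C.word i).2 u = u

theorem Coding.exists_acts (T : PTab) (C : Cert) (hV : C.Valid) (hnl : T.nl = nl)
    (hiv : T.iv = iv) (hCnl : C.nl = nl)
    (hT : ∀ u < T.N, ∀ x < T.nl,
      T.inv x < T.nl ∧ T.img x u < T.N ∧ T.img (T.inv x) (T.img x u) = u)
    (hR : K.TableOK T C) :
    ∃ φ : Cfsg.Spor.CoxPresented α edges extra →* Equiv.Perm (Fin T.N), T.Acts φ K.gen := by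
  have hp : ∀ x < T.nl, ∀ u : Fin T.N, ((letterPerm T hT x u : Fin T.N) : ℕ) = T.img x u := by
    intro x hx u
    rw [letterPerm, dif_pos hx]
    rfl
  have hcode : ∀ a, K.code a < T.nl := fun a => by
    obtain ⟨h, -⟩ := List.getElem?_eq_some_iff.1 (K.code_eq a)
    exact Nat.lt_of_lt_of_eq h (K.len.trans hnl.symm)
  have hinv : ∀ x < T.nl, letterPerm T hT (T.inv x) = (letterPerm T hT x)⁻¹ := by
    intro x hx
    symm
    apply inv_eq_of_mul_eq_one_left
    ext u
    rw [Equiv.Perm.mul_apply, hp _ (hT u u.2 x hx).1, hp _ hx, (hT u u.2 x hx).2.2]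
    rfl
  have hinv_a : ∀ a, T.inv (K.code a) = K.cinv a := by
    intro a
    have hlt := hcode a
    rw [hnl] at hlt
    obtain ⟨b, ⟨h1, h2⟩ | ⟨h1, h2⟩⟩ := K.inv_eq _ hlt
    · rw [K.code_eq a] at h1
      simp only [Option.some.injEq, Prod.mk.injEq, and_true] at h1
      subst h1
      rw [PTab.inv, hiv]
      exact h2
    · rw [K.code_eq a] at h1; simp at h1
  let f : α → Equiv.Perm (Fin T.N) := fun a => letterPerm T hT (K.code a)
  have hrel : ∀ r ∈ Cfsg.Spor.coxRelators edges ∪ {r | r ∈ extra}, FreeGroup.lift f r = 1 := by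
    apply lift_cox_eq_one f K.pairs_cover
    intro r hr
    obtain ⟨i, -, hi2, he, hrun⟩ := hR r hr
    rw [lift_eq_of_lets f (letterPerm T hT) K.code K.cinv (fun a => rfl)
      (fun a => by rw [← hinv_a, hinv _ (hcode a)]) he]
    ext u
    have hb : ∀ j < (C.word i).1, Cert.letterAt (C.word i).1 (C.word i).2 0 j < T.nl := fun j _ => by
      rw [hnl, ← hCnl]; exact hV.letter_lt i hi2 0 j
    rw [Cert.letters, appProd_perm_apply T _ hp _ _ hb u _ le_rfl]
    exact hrun u u.2
  refine ⟨PresentedGroup.toGroup hrel, ⟨fun x hx u => ?_⟩⟩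
  have hx' : x < nl := hnl ▸ hx
  have : PresentedGroup.toGroup hrel (K.gen x) = letterPerm T hT x := by
    obtain ⟨a, ⟨h1, h2⟩ | ⟨h1, h2⟩⟩ := K.inv_eq x hx'
    · rw [Coding.gen, map_letterVal]
      simp only [letterVal, h1, cond_true, PresentedGroup.toGroup.of]
      have e : T.inv x = K.cinv a := by rw [PTab.inv, hiv]; exact h2
      have e2 := hinv x hx
      rw [e, ← hinv_a, hinv _ (hcode a)] at e2
      exact inv_injective e2
    · rw [Coding.gen, map_letterVal]
      simp only [letterVal, h1, cond_false, PresentedGroup.toGroup.of]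
      have e : T.inv x = K.code a := by rw [PTab.inv, hiv]; exact h2
      have e2 := hinv x hx
      rw [e] at e2
      show (letterPerm T hT (K.code a))⁻¹ = _
      rw [e2, inv_inv]
  rw [this, hp x hx u]

/-- The subgroup generated by some letters. -/
noncomputable def Coding.sub (l : List ℕ) : Subgroup (Cfsg.Spor.CoxPresented α edges extra) :=
  Subgroup.closure (K.gen '' {x | x ∈ l})

theorem Coding.sub_mono {l l' : List ℕ} (h : l ⊆ l') : K.sub l ≤ K.sub l' :=
  Subgroup.closure_mono (Set.image_mono fun _ hx => h hx)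

theorem Coding.sub_eq_top {l : List ℕ} (h : ∀ x < nl, x ∈ l) : K.sub l = ⊤ := by
  rw [eq_top_iff, ← K.closure_gen_eq_top]
  exact Subgroup.closure_mono (Set.image_mono fun x hx => h x hx)

theorem Coding.appProd_mem_sub {l L : List ℕ} (h : ∀ x ∈ L, x ∈ l) :
    appProd K.gen L ∈ K.sub l := by
  induction L with
  | nil => exact one_mem _
  | cons x t ih =>
    exact mul_mem (ih fun y hy => h y (List.mem_cons_of_mem _ hy))
      (Subgroup.subset_closure ⟨x, h x List.mem_cons_self, rfl⟩)

theorem Coding.mk_mem_sub {l : List ℕ} {r : FreeGroup α}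
    (h : (appWord K.code K.cinv r).all (fun x => decide (x ∈ l)) = true) :
    PresentedGroup.mk (Cfsg.Spor.coxRelators edges ∪ {r | r ∈ extra}) r ∈ K.sub l := by
  rw [K.mk_eq]
  exact K.appProd_mem_sub fun x hx => of_decide_eq_true (List.all_eq_true.1 h x hx)

theorem Coding.wordsOK_of_map_eq {C : Cert} {σ : List ℕ} {rels subs : List (FreeGroup α)}
    (hlen : rels.length = C.nr)
    (h : (rels ++ subs).map (appWord K.code K.cinv) =
      (List.range C.words.length).map fun i => (C.letters i).map (σ.getD · nl)) :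
    K.WordsOK C σ rels subs := by
  intro i hi
  have h' := congrArg (fun L => L[i]?) h
  simp only [List.getElem?_map, List.getElem?_range hi, Option.map_some] at h'
  obtain ⟨r, hr, he⟩ := Option.map_eq_some_iff.1 h'
  refine ⟨fun hlt => ⟨r, ?_, he⟩, fun hge => ⟨r, ?_, he⟩⟩
  · rw [List.getElem?_append_left (by omega)] at hr
    exact List.mem_of_getElem? hr
  · rw [List.getElem?_append_right (by omega)] at hr
    exact List.mem_of_getElem? hr

theorem Coding.tableOK_of_map_eq {T : PTab} {C : Cert} (hlen : (relList edges extra K.pairs).length = C.nr)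
    (hw : C.nr ≤ C.words.length)
    (h : (relList edges extra K.pairs).map (appWord K.code K.cinv) =
      (List.range C.nr).map C.letters)
    (hrun : ∀ i < C.nr, ∀ u < T.N, T.run (C.word i).1 (C.word i).2 u = u) :
    K.TableOK T C := by
  intro r hr
  obtain ⟨i, hi, rfl⟩ := List.mem_iff_getElem.1 hr
  have hi' : i < C.nr := hlen ▸ hi
  refine ⟨i, hi', lt_of_lt_of_le hi' hw, ?_, hrun i hi'⟩
  have h' := congrArg (fun L => L[i]?) h
  simpa [List.getElem?_map, List.getElem?_range hi', List.getElem?_eq_getElem hi] using h'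

theorem Coding.relIndex_sub_le (C : Cert) (hV : C.Valid) (hN : 0 < C.N) (σ : List ℕ)
    (hσ : ∀ x < C.nl, σ.getD x nl < nl ∧
      σ.getD (C.inv x) nl = Nat.mod (Nat.shiftRight iv (Nat.mul 4 (σ.getD x nl))) 16)
    (hlen : σ.length = C.nl) (rels subs : List (FreeGroup α))
    (hrels : ∀ r ∈ rels,
      PresentedGroup.mk (Cfsg.Spor.coxRelators edges ∪ {r | r ∈ extra}) r = 1)
    (hW : K.WordsOK C σ rels subs) (S : Subgroup (Cfsg.Spor.CoxPresented α edges extra))
    (hS : ∀ r ∈ subs, PresentedGroup.mk (Cfsg.Spor.coxRelators edges ∪ {r | r ∈ extra}) r ∈ S) :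
    S.relIndex (K.sub σ) ≤ C.N ∧ S.relIndex (K.sub σ) ≠ 0 := by
  have e : (fun x => K.gen (σ.getD x nl)) '' Set.Iio C.nl = K.gen '' {x | x ∈ σ} := by
    ext z
    constructor
    · rintro ⟨x, hx, rfl⟩
      have hx' : x < σ.length := hlen ▸ hx
      exact ⟨σ[x], List.getElem_mem hx', by simp [List.getD_eq_getElem?_getD, hx']⟩
    · rintro ⟨y, hy, rfl⟩
      obtain ⟨x, hx, rfl⟩ := List.mem_iff_getElem.1 hy
      exact ⟨x, hlen ▸ hx, by simp [List.getD_eq_getElem?_getD, hx]⟩
  have := K.relIndex_le C hV hN σ hσ hlen rels subs hrels hW S hS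
  rwa [e] at this

end Pres

end CfsgLib.Sporadic.CosetCert
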