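import Cfsg.Agent.Lib.Sporadic.SuzCoding
import Cfsg.Agent.Lib.Sporadic.CosetCertSubgroup
import Cfsg.Agent.Lib.Sporadic.SuzData.SuzRelators

/-!
# The presented Suzuki group: order, index, suborbits
-/

open Cfsg.Spor

namespace CfsgLib.Sporadic.CosetCert.SuzP

open SuzData (table)

theorem exists_hom : ∃ φ : Suz →* Equiv.Perm (Fin table.N), table.Acts φ coding.gen :=
  coding.exists_acts table SuzData.certH SuzData.certH_valid rfl rfl rfl
    (fun u hu x hx => genOK_spec SuzData.table_gen u (Nat.zero_le _) hu x hx)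
    (coding.tableOK_of_map_eq (by decide +kernel) (by decide +kernel) (by decide +kernel)
      SuzData.table_relators)

/-- The action on 1782 points. -/
noncomputable def hom : Suz →* Equiv.Perm (Fin table.N) := exists_hom.choose

theorem hom_acts : table.Acts hom coding.gen := exists_hom.choose_spec

theorem two_le : 2 ≤ table.N := by decide +kernel

/-- The base point. -/
noncomputable def pt : Fin table.N := ⟨0, lt_of_lt_of_le Nat.two_pos two_le⟩

theorem hom_fix : ∀ k ∈ sub [0, 1, 2, 3, 4, 5], hom k pt = pt := by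
  intro k hk
  induction hk using Subgroup.closure_induction with
  | mem k hk =>
    obtain ⟨x, hx, rfl⟩ := hk
    refine Fin.ext ?_
    have h : ∀ x ∈ [0, 1, 2, 3, 4, 5], x < table.nl ∧ table.img x 0 = 0 := by decide +kernel
    rw [hom_acts.img_eq x (h x hx).1 pt]
    exact (h x hx).2
  | one => simp
  | mul a b _ _ ha hb => rw [map_mul, Equiv.Perm.mul_apply, hb, ha]
  | inv a _ ha => rw [map_inv, Equiv.Perm.inv_def, Equiv.symm_apply_eq, ha]

theorem map_sub {l : List ℕ} (hl : ∀ x ∈ l, x < table.nl) :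
    (sub l).map hom = Subgroup.closure (table.rowSet hom coding.gen l) :=
  map_closure_letters hom coding.gen hl

theorem rows_lt {l : List ℕ} (hl : ∀ x ∈ l, x < table.nl) :
    ∀ x ∈ l, x < table.nl + table.slp.length := fun x hx =>
  lt_of_lt_of_le (hl x hx) (Nat.le_add_right _ _)

theorem hom_word : ∀ (L : List ℕ), (∀ x ∈ L, x < table.nl) → ∀ v : Fin table.N,
    ((hom (appProd coding.gen L) v : Fin table.N) : ℕ) =
      L.foldl (fun w x => table.img x w) v := by
  intro L
  induction L with
  | nil => intro _ v; simp [appProd]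
  | cons x t ih =>
    intro hL v
    rw [appProd, map_mul, Equiv.Perm.mul_apply,
      ih (fun y hy => hL y (List.mem_cons_of_mem _ hy)),
      hom_acts.img_eq x (hL x List.mem_cons_self) v]
    rfl

theorem transitive : ∀ u, ∃ a, hom a pt = u := by
  intro u
  have hl : ∀ x ∈ [0, 1, 2, 3, 4, 5, 6], x < table.nl := by decide +kernel
  obtain ⟨h1, h2⟩ := PTab.orbit_eq hom_acts SuzData.table_slp (rows_lt hl) pt
    SuzData.searchAll SuzData.searchAll_ok
  have h3 : table.maskSet (table.orbitMask [0, 1, 2, 3, 4, 5, 6] pt SuzData.searchAll) =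
      Finset.univ := by
    apply Finset.eq_univ_of_card
    rw [h2, Fintype.card_fin]
    decide +kernel
  have hu : u ∈ MulAction.orbit
      (Subgroup.closure (table.rowSet hom coding.gen [0, 1, 2, 3, 4, 5, 6])) pt := by
    rw [h1, h3]; simp
  obtain ⟨⟨π, hπ⟩, rfl⟩ := hu
  rw [← map_sub hl, Subgroup.mem_map] at hπ
  obtain ⟨a, -, rfl⟩ := hπ
  exact ⟨a, rfl⟩

theorem finite : Finite Suz := Nat.finite_of_card_ne_zero card_le.2

theorem card_eq : Nat.card Suz = 448345497600 ∧ Function.Injective hom := by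
  have := finite
  have h1 : 448345497600 ≤ Nat.card hom.range := by
    rw [← SuzData.chainG_prod]
    exact PTab.chainProd_le_card hom_acts SuzData.table_slp _ [] _ SuzData.chainG_ok
      fun e _ r _ _ => ⟨_, rfl⟩
  have h2 : Nat.card hom.range ≤ Nat.card Suz :=
    Nat.card_le_card_of_surjective _ hom.rangeRestrict_surjective
  have hc : Nat.card Suz = 448345497600 := le_antisymm card_le.1 (h1.trans h2)
  refine ⟨hc, ?_⟩
  have hb : Function.Bijective hom.rangeRestrict :=
    (Nat.bijective_iff_surjective_and_card _).2 ⟨hom.rangeRestrict_surjective, by omega⟩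
  intro a b e
  exact hb.1 (Subtype.ext e)

theorem index_H_eq : (sub [0, 1, 2, 3, 4, 5]).index = 1782 := by
  have h := (exists_quotient_equiv hom pt _ hom_fix transitive
    ⟨le_trans index_H.1 (by decide +kernel), index_H.2⟩).1
  rw [h]
  rfl

theorem suborbit {b : ℕ} (hb : b < table.N) {L : List (ℕ × ℕ × ℕ)}
    (hL : table.orbitOK [0, 1, 2, 3, 4, 5] b L = true) :
    ∃ O : Finset (Fin table.N),
      (O : Set _) = MulAction.orbit ((sub [0, 1, 2, 3, 4, 5]).map hom) (⟨b, hb⟩ : Fin table.N) ∧
        O = table.maskSet (table.orbitMask [0, 1, 2, 3, 4, 5] b L) ∧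
        O.card = L.length + 1 := by
  have hl : ∀ x ∈ [0, 1, 2, 3, 4, 5], x < table.nl := by decide +kernel
  obtain ⟨h1, h2⟩ := PTab.orbit_eq hom_acts SuzData.table_slp (rows_lt hl) ⟨b, hb⟩ L hL
  exact ⟨_, by rw [map_sub hl]; exact h1.symm, rfl, h2⟩

theorem coset_orbit {b : ℕ} (hb : b < table.N) {L : List (ℕ × ℕ × ℕ)}
    (hL : table.orbitOK [0, 1, 2, 3, 4, 5] b L = true) :
    ∃ q : Suz ⧸ sub [0, 1, 2, 3, 4, 5],
      (MulAction.orbit (sub [0, 1, 2, 3, 4, 5]) q).ncard = L.length + 1 := by
  obtain ⟨-, e, -, he⟩ := exists_quotient_equiv hom pt _ hom_fix transitive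
    ⟨le_trans index_H.1 (by decide +kernel), index_H.2⟩
  obtain ⟨O, hO, -, hc⟩ := suborbit hb hL
  refine ⟨e.symm ⟨b, hb⟩, ?_⟩
  rw [orbit_ncard_eq hom _ he _ _ rfl, Equiv.apply_symm_apply, ← hO, Set.ncard_coe_finset, hc]

theorem isSimple : IsSimpleGroup Suz := by
  have := finite
  obtain ⟨O₁, hO₁, e₁, hc₁⟩ := suborbit (b := 47) (by decide +kernel) SuzData.search416_ok
  obtain ⟨O₂, hO₂, e₂, hc₂⟩ := suborbit (b := 1) (by decide +kernel) SuzData.search1365_ok
  have hl₁ : SuzData.search416.length = 415 := by decide +kernel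
  have hl₂ : SuzData.search1365.length = 1364 := by decide +kernel
  rw [hl₁] at hc₁
  rw [hl₂] at hc₂
  have hp₁ : pt ∉ O₁ := by
    rw [e₁, PTab.mem_maskSet]
    show ¬ Nat.testBit _ 0 = true
    decide +kernel
  have hp₂ : pt ∉ O₂ := by
    rw [e₂, PTab.mem_maskSet]
    show ¬ Nat.testBit _ 0 = true
    decide +kernel
  have hdisj : Disjoint O₁ O₂ := by
    rw [← Finset.disjoint_coe, hO₁, hO₂]
    refine (MulAction.orbit.eq_or_disjoint _ _).resolve_left fun e => ?_
    rw [← hO₁, ← hO₂] at e
    have := congrArg Finset.card (Finset.coe_injective e)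
    omega
  let t : Suz := PresentedGroup.mk (coxRelators Suz.edges ∪ {r | r ∈ Suz.extra}) wordT
  have ht : t ^ 11 ^ 1 = 1 := by
    apply card_eq.2
    rw [map_pow, map_one]
    have e : hom t = hom (appProd coding.gen [6, 5, 4, 3, 2, 1]) := by
      congr 1
    rw [e, ← map_pow]
    ext u
    have hpow : appProd coding.gen [6, 5, 4, 3, 2, 1] ^ 11 ^ 1 =
        appProd coding.gen (List.replicate (11 ^ 1) [6, 5, 4, 3, 2, 1]).flatten := by
      exact (appProd_replicate coding.gen _ _).symm
    rw [hpow, hom_word _ (by decide +kernel)]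
    have hall : ∀ v < table.N,
        (List.replicate (11 ^ 1) [6, 5, 4, 3, 2, 1]).flatten.foldl (fun w x => table.img x w) v = v := by
      decide +kernel
    simpa using hall u u.2
  refine isSimpleGroup_of hom pt card_eq.2 transitive (sub [0, 1, 2, 3, 4, 5]) hom_fix [O₁, O₂]
    ?_ ?_ ?_ ?_ ?_ (p := 11) (k := 1) (m := 40758681600) (by norm_num) ?_ (by norm_num)
    (by decide +kernel) t 1 ht (fun M hM h => eq_top_of_wordT_mem M hM h) two_le
  · intro O hO
    simp only [List.mem_cons, List.not_mem_nil, or_false] at hO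
    rcases hO with rfl | rfl
    exacts [⟨_, hO₁⟩, ⟨_, hO₂⟩]
  · intro O hO
    simp only [List.mem_cons, List.not_mem_nil, or_false] at hO
    rcases hO with rfl | rfl
    exacts [hp₁, hp₂]
  · simp [hdisj]
  · have : table.N = 1782 := rfl
    simp [hc₁, hc₂, this]
  · have hN : table.N = 1782 := rfl
    intro I hI hne hlen
    simp [List.sublists] at hI
    rcases hI with rfl | rfl | rfl | rfl <;> simp_all
  · rw [card_eq.1]; norm_num

theorem index_U_eq : (sub [0, 1, 2, 3, 5, 6]).index = 22880 := by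
  have := finite
  have hx : PresentedGroup.mk (coxRelators Suz.edges ∪ {r | r ∈ Suz.extra}) extraRel = 1 := by
    apply card_eq.2
    rw [map_one]
    ext u
    rw [coding.mk_eq]
    rw [hom_word _ (by decide +kernel)]
    have hall : ∀ v < table.N, (appWord coding.code coding.cinv extraRel).foldl
        (fun w x => table.img x w) v = v := by decide +kernel
    simpa using hall u u.2
  have hup := card_U_le hx
  have hlo : 19595520 ≤ Nat.card ((sub [0, 1, 2, 3, 5, 6]).map hom) := by
    rw [← SuzData.chainU_prod]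
    refine PTab.chainProd_le_card hom_acts SuzData.table_slp _ [] _ SuzData.chainU_ok
      fun e he r hr _ => Subgroup.mem_map_of_mem hom ?_
    have hm : ∀ e ∈ SuzData.chainU, ∀ r ∈ e.2.1, r < table.nl + table.slp.length ∧
        Nat.testBit (rowMask table.nl table.slp [0, 1, 2, 3, 5, 6]) r = true := by decide +kernel
    exact el_mem_of_rowMask coding.gen (l := [0, 1, 2, 3, 5, 6])
      (m := rowMask table.nl table.slp [0, 1, 2, 3, 5, 6]) (by decide +kernel) r
      (hm e he r hr).1 (hm e he r hr).2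
  rw [Subgroup.card_map_of_injective card_eq.2] at hlo
  have hc : Nat.card (sub [0, 1, 2, 3, 5, 6]) = 19595520 := le_antisymm hup.1 hlo
  have := (sub [0, 1, 2, 3, 5, 6]).card_mul_index
  rw [hc, card_eq.1] at this
  omega

theorem map_closure_mk (S : Set (FreeGroup Suz.Gen)) :
    (Subgroup.closure S).map (PresentedGroup.mk (coxRelators Suz.edges ∪ {r | r ∈ Suz.extra})) =
      Subgroup.closure (PresentedGroup.mk _ '' S) :=
  MonoidHom.map_closure _ _

theorem map_closure_H :
    (Subgroup.closure ({Suz.a, Suz.b, Suz.c, Suz.d, Suz.e, Suz.f} : Set (FreeGroup Suz.Gen))).map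
      (PresentedGroup.mk (coxRelators Suz.edges ∪ {r | r ∈ Suz.extra})) =
      sub [0, 1, 2, 3, 4, 5] := by
  rw [map_closure_mk]
  show _ = Subgroup.closure _
  congr 1
  simp only [List.mem_cons, List.not_mem_nil, or_false, Set.setOf_or, Set.image_union,
    Set.setOf_eq_eq_singleton, Set.image_singleton, Set.image_insert_eq, Set.insert_eq]
  rfl

theorem map_closure_U :
    (Subgroup.closure ({Suz.a, Suz.b, Suz.c, Suz.d, Suz.f, Suz.g} : Set (FreeGroup Suz.Gen))).map
      (PresentedGroup.mk (coxRelators Suz.edges ∪ {r | r ∈ Suz.extra})) =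
      sub [0, 1, 2, 3, 5, 6] := by
  rw [map_closure_mk]
  show _ = Subgroup.closure _
  congr 1
  simp only [List.mem_cons, List.not_mem_nil, or_false, Set.setOf_or, Set.image_union,
    Set.setOf_eq_eq_singleton, Set.image_singleton, Set.image_insert_eq, Set.insert_eq]
  rfl

end CfsgLib.Sporadic.CosetCert.SuzP
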