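import Mathlib

/-!
Classes modulo 2 of the short vectors of a positive definite even lattice `ℤ^n` without
vectors of norm 2.
-/

set_option autoImplicit false

namespace CfsgLib.Sporadic.LatticeModTwo

open Matrix

variable {n : ℕ} (B : Matrix (Fin n) (Fin n) ℤ)

/-- The norm attached to a Gram matrix. -/
def nrm (x : Fin n → ℤ) : ℤ := x ⬝ᵥ (B *ᵥ x)

/-- Reduction modulo 2. -/
def red (x : Fin n → ℤ) : Fin n → ZMod 2 := fun i => (x i : ZMod 2)

/-- The hypotheses: symmetric, positive definite, even, no vectors of norm 2. -/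
structure EvenRootless : Prop where
  symm : B.IsSymm
  pos : ∀ x : Fin n → ℤ, x ≠ 0 → 0 < x ⬝ᵥ (B *ᵥ x)
  even : ∀ x : Fin n → ℤ, (2 : ℤ) ∣ x ⬝ᵥ (B *ᵥ x)
  no_two : ∀ x : Fin n → ℤ, x ⬝ᵥ (B *ᵥ x) ≠ 2

variable {B}

theorem red_eq_iff {x y : Fin n → ℤ} : red x = red y ↔ ∀ i, (2 : ℤ) ∣ (x - y) i := by
  refine funext_iff.trans (forall_congr' fun i => ?_)
  rw [red, red, eq_comm, ZMod.intCast_eq_intCast_iff_dvd_sub]
  rfl

theorem dot_comm (h : B.IsSymm) (x y : Fin n → ℤ) : x ⬝ᵥ (B *ᵥ y) = y ⬝ᵥ (B *ᵥ x) := by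
  rw [dotProduct_mulVec, ← mulVec_transpose, h.eq, dotProduct_comm]

theorem nrm_add (h : B.IsSymm) (x y : Fin n → ℤ) :
    nrm B (x + y) = nrm B x + nrm B y + 2 * (x ⬝ᵥ (B *ᵥ y)) := by
  simp only [nrm, mulVec_add, dotProduct_add, add_dotProduct, dot_comm h y x]
  ring

theorem nrm_neg (x : Fin n → ℤ) : nrm B (-x) = nrm B x := by
  simp [nrm, mulVec_neg]

theorem nrm_sub (h : B.IsSymm) (x y : Fin n → ℤ) :
    nrm B (x - y) = nrm B x + nrm B y - 2 * (x ⬝ᵥ (B *ᵥ y)) := by
  rw [sub_eq_add_neg, nrm_add h, nrm_neg, mulVec_neg, dotProduct_neg]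
  ring

theorem four_le (hB : EvenRootless B) {x : Fin n → ℤ} (hx : x ≠ 0) : 4 ≤ nrm B x := by
  have h1 := hB.pos x hx
  have h2 := hB.even x
  have h3 := hB.no_two x
  unfold nrm
  omega

theorem sixteen_le (hB : EvenRootless B) {w : Fin n → ℤ} (hw : w ≠ 0) (h2 : ∀ i, (2 : ℤ) ∣ w i) :
    16 ≤ nrm B w := by
  choose z hz using h2
  have hwz : w = (2 : ℤ) • z := funext fun i => by simp [hz i]
  have hz0 : z ≠ 0 := fun h => hw (by rw [hwz, h, smul_zero])
  have := four_le hB hz0
  rw [hwz]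
  simp only [nrm, mulVec_smul, dotProduct_smul, smul_dotProduct, smul_eq_mul] at this ⊢
  linarith

/-- Congruent vectors that are neither equal nor opposite have norm sum at least 16, with
orthogonality in case of equality. -/
theorem congr_dichotomy (hB : EvenRootless B) {x y : Fin n → ℤ} (hc : ∀ i, (2 : ℤ) ∣ (x - y) i) :
    y = x ∨ y = -x ∨
      (16 ≤ nrm B x + nrm B y ∧ (nrm B x + nrm B y = 16 → x ⬝ᵥ (B *ᵥ y) = 0)) := by
  by_cases h1 : y = x
  · exact Or.inl h1
  by_cases h2 : y = -x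
  · exact Or.inr (Or.inl h2)
  refine Or.inr (Or.inr ?_)
  have e1 := sixteen_le hB (sub_ne_zero.mpr (Ne.symm h1)) hc
  have e2 : 16 ≤ nrm B (x + y) := by
    refine sixteen_le hB (fun h => h2 ?_) fun i => ?_
    · exact eq_neg_of_add_eq_zero_right h
    · have := hc i
      simp only [Pi.sub_apply, Pi.add_apply] at this ⊢
      omega
  rw [nrm_sub hB.symm] at e1
  rw [nrm_add hB.symm] at e2
  exact ⟨by linarith, fun h => by linarith⟩

theorem ne_zero_of_nrm {x : Fin n → ℤ} {a : ℤ} (h : nrm B x = a) (ha : a ≠ 0) : x ≠ 0 := by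
  rintro rfl
  exact ha (by simpa [nrm] using h.symm)

/-- A congruence class holds at most `2n` vectors of norm 8. -/
theorem card_class_le (hB : EvenRootless B) (T : Finset (Fin n → ℤ))
    (hn : ∀ x ∈ T, nrm B x = 8) (hc : ∀ x ∈ T, ∀ y ∈ T, red x = red y) : T.card ≤ 2 * n := by
  classical
  let p : (Fin n → ℤ) → Finset (Fin n → ℤ) := fun x => {x, -x}
  have h1 : T.card ≤ 2 * (T.image p).card := by
    refine Finset.card_le_mul_card_image T 2 fun b hb => ?_
    obtain ⟨x, -, rfl⟩ := Finset.mem_image.1 hb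
    calc (T.filter fun a => p a = p x).card ≤ (p x).card := by
          refine Finset.card_le_card fun a ha => ?_
          rw [← (Finset.mem_filter.1 ha).2]
          simp [p]
      _ ≤ 2 := Finset.card_le_two
  have hrep : ∀ b : (T.image p), ∃ x ∈ T, p x = b := fun b => Finset.mem_image.1 b.2
  choose r hrT hrp using hrep
  have horth : ∀ b c : (T.image p), b ≠ c → r b ⬝ᵥ (B *ᵥ r c) = 0 := by
    intro b c hbc
    rcases congr_dichotomy hB (red_eq_iff.1 (hc _ (hrT b) _ (hrT c))) with h | h | h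
    · exact absurd (Subtype.ext (by rw [← hrp b, ← hrp c, h])) hbc
    · refine absurd (Subtype.ext ?_) hbc
      rw [← hrp b, ← hrp c, h]
      simp [p, Finset.pair_comm]
    · exact h.2 (by rw [hn _ (hrT b), hn _ (hrT c)]; norm_num)
  have hli : LinearIndependent ℤ r := by
    rw [Fintype.linearIndependent_iff]
    intro g hg b
    have h0 : r b ⬝ᵥ (B *ᵥ ∑ c, g c • r c) = 0 := by rw [hg, mulVec_zero, dotProduct_zero]
    simp only [mulVec_sum, mulVec_smul, dotProduct_sum, dotProduct_smul, smul_eq_mul] at h0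
    rw [Finset.sum_eq_single b (fun c _ hcb => by rw [horth b c (Ne.symm hcb), mul_zero])
      (fun h => absurd (Finset.mem_univ b) h)] at h0
    have h8 : r b ⬝ᵥ (B *ᵥ r b) = 8 := hn _ (hrT b)
    rw [h8] at h0
    omega
  have h2 := hli.fintype_card_le_finrank
  simp only [Fintype.card_coe, Module.finrank_fin_fun] at h2
  omega

/-- A finite set of vectors of norm 4 or 6 reduces two-to-one. -/
theorem card_image_small (hB : EvenRootless B) {a : ℤ} (ha0 : a ≠ 0) (ha : a + a < 16)
    (S : Finset (Fin n → ℤ)) (hS : ∀ x, x ∈ S ↔ nrm B x = a) : 2 * (S.image red).card = S.card := by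
  classical
  rw [Finset.card_eq_sum_card_image red S, Finset.sum_const_nat (m := 2), mul_comm]
  intro b hb
  obtain ⟨x, hx, rfl⟩ := Finset.mem_image.1 hb
  have hxa := (hS x).1 hx
  have : S.filter (fun y => red y = red x) = {x, -x} := by
    ext y
    simp only [Finset.mem_filter, Finset.mem_insert, Finset.mem_singleton]
    constructor
    · rintro ⟨hy, hr⟩
      rcases congr_dichotomy hB (red_eq_iff.1 hr.symm) with h | h | h
      · exact Or.inl h
      · exact Or.inr h
      · exact absurd h.1 (by rw [hxa, (hS y).1 hy]; omega)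
    · rintro (rfl | rfl)
      · exact ⟨hx, rfl⟩
      · refine ⟨(hS _).2 (by rw [nrm_neg, hxa]), funext fun i => ?_⟩
        simp [red, ZMod.neg_eq_self_mod_two]
  rw [this, Finset.card_pair]
  intro h
  exact ne_zero_of_nrm hxa ha0 (funext fun i => by have := congrFun h i; simp at this ⊢; omega)

/-- Images of norm strata are disjoint. -/
theorem disjoint_image (hB : EvenRootless B) {a b : ℤ} (hab : a ≠ b) (h16 : a + b < 16)
    (S T : Finset (Fin n → ℤ)) (hS : ∀ x ∈ S, nrm B x = a) (hT : ∀ x ∈ T, nrm B x = b) :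
    Disjoint (S.image red) (T.image red) := by
  classical
  rw [Finset.disjoint_left]
  intro c hc hc'
  obtain ⟨x, hx, rfl⟩ := Finset.mem_image.1 hc
  obtain ⟨y, hy, hr⟩ := Finset.mem_image.1 hc'
  rcases congr_dichotomy hB (red_eq_iff.1 hr.symm) with h | h | h
  · exact hab (by rw [← hS x hx, ← hT y hy, h])
  · exact hab (by rw [← hS x hx, ← hT y hy, h, nrm_neg])
  · exact absurd h.1 (by rw [hS x hx, hT y hy]; omega)

/-- Finiteness from a nonzero count. -/
theorem finite_of_ncard {α : Type*} {s : Set α} {k : ℕ} (h : s.ncard = k) (hk : k ≠ 0) : s.Finite :=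
  Set.finite_of_ncard_ne_zero (by omega)

/-- If the classes are counted out exactly, every class of a norm 8 vector has exactly `2n` of them. -/
theorem class_card_eq (hB : EvenRootless B) {N4 N6 N8 : ℕ}
    (h4 : {x : Fin n → ℤ | nrm B x = 4}.ncard = N4) (h6 : {x : Fin n → ℤ | nrm B x = 6}.ncard = N6)
    (h8 : {x : Fin n → ℤ | nrm B x = 8}.ncard = N8) (hN4 : N4 ≠ 0) (hN6 : N6 ≠ 0) (hN8 : N8 ≠ 0)
    (htot : n * (2 + N4 + N6) + N8 = n * 2 ^ (n + 1)) {x : Fin n → ℤ} (hx : nrm B x = 8) :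
    {y : Fin n → ℤ | nrm B y = 8 ∧ ∀ i, (2 : ℤ) ∣ (x - y) i}.ncard = 2 * n := by
  classical
  have f4 := finite_of_ncard h4 hN4
  have f6 := finite_of_ncard h6 hN6
  have f8 := finite_of_ncard h8 hN8
  rw [Set.ncard_eq_toFinset_card _ f4] at h4
  rw [Set.ncard_eq_toFinset_card _ f6] at h6
  rw [Set.ncard_eq_toFinset_card _ f8] at h8
  set S4 := f4.toFinset with hS4
  set S6 := f6.toFinset with hS6
  set S8 := f8.toFinset with hS8
  have m4 : ∀ y, y ∈ S4 ↔ nrm B y = 4 := fun y => f4.mem_toFinset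
  have m6 : ∀ y, y ∈ S6 ↔ nrm B y = 6 := fun y => f6.mem_toFinset
  have m8 : ∀ y, y ∈ S8 ↔ nrm B y = 8 := fun y => f8.mem_toFinset
  have c4 := card_image_small hB (by norm_num) (by norm_num) S4 m4
  have c6 := card_image_small hB (by norm_num) (by norm_num) S6 m6
  have hz : ∀ y ∈ ({0} : Finset (Fin n → ℤ)), nrm B y = 0 := by
    simp [nrm]
  have d04 := disjoint_image hB (by norm_num) (by norm_num) {0} S4 hz fun y => (m4 y).1
  have d06 := disjoint_image hB (by norm_num) (by norm_num) {0} S6 hz fun y => (m6 y).1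
  have d08 := disjoint_image hB (by norm_num) (by norm_num) {0} S8 hz fun y => (m8 y).1
  have d46 := disjoint_image hB (by norm_num) (by norm_num) S4 S6 (fun y => (m4 y).1) fun y => (m6 y).1
  have d48 := disjoint_image hB (by norm_num) (by norm_num) S4 S8 (fun y => (m4 y).1) fun y => (m8 y).1
  have d68 := disjoint_image hB (by norm_num) (by norm_num) S6 S8 (fun y => (m6 y).1) fun y => (m8 y).1
  have htotal : (({0} : Finset (Fin n → ℤ)).image red).card + (S4.image red).card
      + (S6.image red).card + (S8.image red).card ≤ 2 ^ n := by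
    rw [← Finset.card_union_of_disjoint d04,
      ← Finset.card_union_of_disjoint (Finset.disjoint_union_left.2 ⟨d06, d46⟩),
      ← Finset.card_union_of_disjoint
        (Finset.disjoint_union_left.2 ⟨Finset.disjoint_union_left.2 ⟨d08, d48⟩, d68⟩)]
    exact le_trans (Finset.card_le_univ _) (le_of_eq (by simp))
  simp only [Finset.image_singleton, Finset.card_singleton] at htotal
  have hfib : ∀ b ∈ S8.image red, (S8.filter fun y => red y = b).card ≤ 2 * n := by
    intro b _
    refine card_class_le hB _ (fun y hy => (m8 y).1 (Finset.mem_filter.1 hy).1) ?_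
    intro y hy z hz'
    rw [(Finset.mem_filter.1 hy).2, (Finset.mem_filter.1 hz').2]
  have hxb : red x ∈ S8.image red := Finset.mem_image_of_mem _ ((m8 x).2 hx)
  have hset : {y : Fin n → ℤ | nrm B y = 8 ∧ ∀ i, (2 : ℤ) ∣ (x - y) i}
      = ↑(S8.filter fun y => red y = red x) := by
    ext y
    simp only [Set.mem_ofPred_eq, Finset.coe_filter, m8]
    exact and_congr_right fun _ => red_eq_iff.symm.trans eq_comm
  rw [hset, Set.ncard_coe_finset]
  refine le_antisymm (hfib _ hxb) ?_
  by_contra hlt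
  have hlt' : N8 < 2 * n * (S8.image red).card := by
    rw [← h8, Finset.card_eq_sum_card_image red S8, mul_comm, ← smul_eq_mul, ← Finset.sum_const]
    exact Finset.sum_lt_sum hfib ⟨red x, hxb, not_le.1 hlt⟩
  have hle : n * (2 + N4 + N6 + 2 * (S8.image red).card) ≤ n * 2 ^ (n + 1) := by
    refine Nat.mul_le_mul_left n ?_
    rw [pow_succ]
    omega
  nlinarith

end CfsgLib.Sporadic.LatticeModTwo
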