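import Cfsg.Agent.Lib.Sporadic.M24Orbits

/-!
Orbits of the stabiliser of the base octad on the octads: certified trees.
-/

set_option autoImplicit false
set_option maxRecDepth 20000

namespace CfsgLib.Sporadic.CertOctad

open CfsgLib.SmallGroups.Golay CfsgLib.SmallGroups.M24Group CfsgLib.Sporadic.M24Orbits

/-- Generators. -/
def gens : List (List ℕ) := [[18, 19, 4, 9, 20, 3, 1, 11, 21, 2, 7, 5, 16, 13, 17, 10, 22, 23, 12, 8, 6, 15, 0, 14], [0, 5, 8, 1, 6, 13, 15, 11, 20, 4, 19, 7, 17, 21, 16, 3, 12, 18, 22, 9, 10, 2, 23, 14]]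

/-- Spanning tree, intersection 4. -/
def tree4 : Tree := (.node 0 4924673 (.node 0 14950785 (.node 0 2422785 (.node 0 504864 (.node 0 12661896 (.node 0 4287105 (.node 0 4597797 (.node 0 8663097 .leaf .leaf) (.node 1 10557585 (.node 0 5621792 (.node 0 4330601 (.node 0 8716939 (.node 0 5003780 .leaf .leaf) .leaf) .leaf) (.node 1 153797 (.node 0 8849458 .leaf (.node 1 493953 .leaf .leaf)) .leaf)) .leaf)) (.node 1 11163650 (.node 0 9158944 (.node 1 1405448 .leaf .leaf) (.node 1 475812 (.node 0 12720156 .leaf (.node 1 4536592 .leaf .leaf)) .leaf)) .leaf)) (.node 1 7221256 (.node 0 8499969 (.node 0 6644740 (.node 0 4370577 .leaf (.node 1 15274244 (.node 0 6406417 (.node 0 7767041 .leaf .leaf) .leaf) .leaf)) (.node 1 3297305 .leaf .leaf)) (.node 1 15073798 (.node 1 12861748 .leaf .leaf) .leaf)) .leaf)) (.node 1 6488205 (.node 0 12880401 (.node 0 1332261 (.node 0 463064 (.node 0 13703682 .leaf (.node 1 4626498 (.node 1 13009064 .leaf .leaf) .leaf)) .leaf) (.node 1 12599513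 (.node 0 1460739 (.node 1 4523185 (.node 0 5511305 .leaf .leaf) .leaf) (.node 1 8505411 (.node 1 118953 (.node 1 210955 .leaf .leaf) .leaf) .leaf)) .leaf)) (.node 1 8657159 (.node 0 2969648 (.node 1 4403780 (.node 0 12656663 (.node 0 6053905 .leaf .leaf) (.node 1 10916112 .leaf .leaf)) .leaf) (.node 1 5390753 (.node 0 10881097 .leaf (.node 1 9776129 (.node 0 4485344 (.node 1 14919680 (.node 1 10768524 .leaf .leaf) .leaf) (.node 1 6837377 (.node 1 9112069 (.node 1 283537 .leaf .leaf) .leaf) .leaf)) .leaf)) .leaf)) .leaf)) .leaf)) (.node 1 15747077 (.node 0 442481 (.node 0 9835530 (.node 0 8999616 (.node 0 4409606 (.node 1 9769376 (.node 0 6379592 .leaf (.node 1 5405696 (.node 1 11469952 .leaf .leaf) .leaf)) .leaf) (.node 1 252432 .leaf .leaf)) (.node 1 5129250 (.node 0 9048457 (.node 0 10832640 (.node 0 6475812 (.node 1 8855820 .leaf .leaf) .leaf) .leaf) (.node 1 13443616 (.node 1 14709264 (.node 0 1302533 .leaf .leaf) .leaf) .leaf)) .leaf)) (.node 1 4563017 (.node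 0 4470275 (.node 0 864389 (.node 1 6429441 .leaf .leaf) (.node 1 15335473 (.node 1 8675909 .leaf .leaf) .leaf)) .leaf) .leaf)) (.node 1 8471941 (.node 0 6703248 (.node 0 9607201 (.node 0 8733800 (.node 0 4346506 .leaf .leaf) (.node 1 418953 (.node 0 8796800 (.node 0 8484900 .leaf .leaf) (.node 1 7145475 (.node 1 12587685 .leaf .leaf) .leaf)) .leaf)) (.node 1 12912836 (.node 0 4216883 (.node 0 2031657 .leaf (.node 1 8593633 (.node 0 12871690 .leaf .leaf) .leaf)) (.node 1 12638592 (.node 0 2313249 .leaf (.node 1 9652360 (.node 1 351362 (.node 0 4921504 .leaf .leaf) .leaf) .leaf)) .leaf)) .leaf)) (.node 1 1661185 (.node 1 1250945 (.node 1 924689 (.node 1 5112513 .leaf .leaf) .leaf) .leaf) .leaf)) .leaf)) .leaf)) (.node 1 12325377 (.node 0 381252 (.node 0 6493202 (.node 0 14254209 (.node 1 8412681 (.node 1 737427 (.node 1 334433 (.node 0 4526126 (.node 1 12726562 .leaf .leaf) .leaf) .leaf) .leaf) .leaf) (.node 1 9310308 (.node 1 4645632 (.node 0 10630149 (.node 0 8773776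 .leaf .leaf) (.node 1 16056344 (.node 1 12604486 .leaf .leaf) .leaf)) .leaf) .leaf)) (.node 1 5476616 (.node 0 14747201 (.node 0 4505735 (.node 1 12650793 (.node 1 9465987 (.node 0 1009728 .leaf .leaf) .leaf) .leaf) (.node 1 8966165 (.node 0 1525008 (.node 0 15864000 .leaf (.node 1 6100032 (.node 1 13276672 .leaf .leaf) .leaf)) (.node 1 213833 (.node 1 1413139 .leaf .leaf) .leaf)) .leaf)) .leaf) .leaf)) (.node 1 4343317 (.node 0 9830549 (.node 0 9721936 (.node 1 4441280 (.node 0 12717187 (.node 0 9193633 .leaf .leaf) (.node 1 9279496 .leaf .leaf)) .leaf) (.node 1 4476225 (.node 0 2494627 .leaf .leaf) .leaf)) (.node 1 9240913 (.node 0 7622914 (.node 0 2854977 (.node 0 12944642 (.node 1 14176296 (.node 1 8611330 .leaf .leaf) .leaf) (.node 1 430605 (.node 1 4587803 .leaf .leaf) .leaf)) (.node 1 13829156 (.node 1 9204992 (.node 0 2322816 (.node 1 3610628 .leaf .leaf) .leaf) .leaf) .leaf)) (.node 1 5296705 (.node 0 459847 (.node 0 13373586 (.node 1 12733024 .leaf .leaf)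 (.node 1 5017889 (.node 0 2430217 (.node 0 6656640 .leaf .leaf) (.node 1 13771273 .leaf .leaf)) .leaf)) (.node 1 8619033 (.node 0 13911680 .leaf (.node 1 806987 (.node 1 4424227 (.node 0 13370381 .leaf .leaf) .leaf) .leaf)) .leaf)) .leaf)) .leaf)) .leaf)) .leaf)) (.node 1 10687016 (.node 0 12698124 (.node 1 8474906 (.node 0 8077824 (.node 0 12747077 (.node 0 10765331 (.node 0 2019456 (.node 1 4656648 .leaf .leaf) (.node 1 4800613 .leaf .leaf)) (.node 1 9748745 (.node 1 5325835 (.node 1 8983587 (.node 1 684577 .leaf .leaf) .leaf) .leaf) .leaf)) (.node 1 8721940 (.node 0 5329044 (.node 0 5441617 (.node 0 13893731 (.node 1 12641313 (.node 1 11100169 .leaf .leaf) .leaf) (.node 1 8688833 (.node 1 4900873 .leaf .leaf) .leaf)) (.node 1 8592704 (.node 0 14762146 .leaf .leaf) .leaf)) (.node 1 4870480 (.node 0 11731203 (.node 0 15515712 (.node 0 185603 .leaf .leaf) .leaf) (.node 1 9929280 .leaf .leaf)) .leaf)) .leaf)) (.node 1 1265762 (.node 0 13303882 (.node 0 13124355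 (.node 0 3031301 .leaf (.node 1 9519665 (.node 0 5652556 .leaf .leaf) .leaf)) (.node 1 8704546 (.node 1 4415544 (.node 1 10825794 .leaf .leaf) .leaf) .leaf)) .leaf) .leaf)) .leaf) (.node 1 421910 (.node 0 10170384 (.node 0 13721920 (.node 0 6447171 (.node 0 9347075 (.node 1 6570537 .leaf .leaf) (.node 1 10846245 (.node 0 4510744 .leaf (.node 1 4223245 (.node 0 2564625 .leaf .leaf) .leaf)) .leaf)) (.node 1 11654144 (.node 1 742412 (.node 0 12780432 .leaf (.node 1 987906 (.node 1 5640752 (.node 0 9506893 .leaf (.node 1 12985424 .leaf .leaf)) .leaf) .leaf)) .leaf) .leaf)) (.node 1 2512448 (.node 0 8622214 (.node 0 13192208 .leaf (.node 1 416040 .leaf .leaf)) (.node 1 5210132 (.node 0 13636881 (.node 0 3489985 (.node 1 4299781 .leaf .leaf) (.node 1 10110017 (.node 0 8798658 .leaf .leaf) .leaf)) (.node 1 12849992 (.node 0 2183687 (.node 1 201013 (.node 1 1454401 .leaf .leaf) .leaf) (.node 1 13811730 .leaf .leaf)) .leaf)) .leaf)) .leaf)) (.node 1 6750560 (.node 0 14716939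 (.node 0 902657 (.node 0 4593028 (.node 1 14551296 (.node 0 10506593 (.node 0 2605066 .leaf .leaf) .leaf) .leaf) (.node 1 4788761 (.node 0 5571333 (.node 0 6557781 .leaf .leaf) (.node 1 8524371 .leaf .leaf)) .leaf)) (.node 1 8536111 (.node 0 9323032 (.node 0 9589508 (.node 0 10698836 .leaf .leaf) (.node 1 4538962 (.node 0 5902343 (.node 1 8783649 .leaf .leaf) (.node 1 12685424 (.node 1 8581192 .leaf .leaf) .leaf)) .leaf)) (.node 1 352547 (.node 1 7417889 .leaf .leaf) .leaf)) .leaf)) (.node 1 13938692 (.node 0 95313 (.node 0 5709954 (.node 0 13121601 .leaf (.node 1 14949408 (.node 1 13262980 (.node 0 8546577 (.node 0 11952160 .leaf .leaf) .leaf) .leaf) .leaf)) .leaf) (.node 1 14828808 (.node 0 10666625 (.node 0 8834052 (.node 0 8541360 .leaf (.node 1 5063048 .leaf .leaf)) (.node 1 346141 (.node 1 4264387 .leaf .leaf) .leaf)) (.node 1 10305542 (.node 1 4282144 .leaf .leaf) .leaf)) .leaf)) .leaf)) .leaf)) .leaf)) .leaf))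

theorem cert4 : cert gens [octB] 4845570 tree4 cwKey enc
    ((cwOfWeight 8).filter fun n => pc (n &&& octB) == 4) = true := by
  decide +kernel

/-- Spanning tree, intersection 2. -/
def tree2 : Tree := (.node 0 8439632 (.node 0 3294342 (.node 0 9078992 (.node 0 9456930 (.node 0 2769128 (.node 0 8555274 (.node 0 11028004 (.node 0 180636 (.node 1 1378634 (.node 0 6820450 .leaf .leaf) .leaf) .leaf) (.node 1 1327290 (.node 1 4271202 .leaf .leaf) .leaf)) (.node 1 371206 (.node 0 4731956 (.node 1 11150144 .leaf .leaf) .leaf) .leaf)) (.node 1 1664160 (.node 0 4336072 (.node 0 10496547 (.node 0 843820 (.node 0 145176 (.node 0 11608708 .leaf .leaf) (.node 1 6365962 (.node 0 6857221 .leaf .leaf) .leaf)) (.node 1 2121909 .leaf .leaf)) (.node 1 11831426 (.node 0 580704 (.node 1 762504 .leaf .leaf) (.node 1 4213932 (.node 0 133817 (.node 0 9701932 .leaf .leaf) (.node 1 8989058 (.node 0 6842656 .leaf .leaf) .leaf)) .leaf)) .leaf)) (.node 1 2702848 (.node 0 4301220 (.node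 0 6302745 .leaf .leaf) .leaf) .leaf)) .leaf)) (.node 1 314056 (.node 0 138790 (.node 0 8978620 (.node 0 5262104 (.node 0 3277413 (.node 1 304405 .leaf .leaf) (.node 1 9503954 .leaf .leaf)) (.node 1 31554 (.node 0 2826278 .leaf (.node 1 3375280 (.node 1 277580 (.node 1 6979970 .leaf .leaf) .leaf) .leaf)) .leaf)) (.node 1 926128 (.node 0 11548936 .leaf (.node 1 7612992 (.node 0 45159 (.node 0 861210 .leaf (.node 1 2269481 (.node 0 10790408 .leaf .leaf) .leaf)) (.node 1 14714004 (.node 1 8931660 (.node 1 1164162 .leaf .leaf) .leaf) .leaf)) .leaf)) .leaf)) (.node 1 4294810 (.node 0 5770785 (.node 0 262637 (.node 0 2365978 (.node 0 1675812 .leaf (.node 1 4325622 .leaf .leaf)) (.node 1 5286147 (.node 0 2892897 (.node 0 307594 .leaf .leaf) (.node 1 11535529 (.node 1 551943 .leaf .leaf) .leaf)) .leaf)) (.node 1 8922769 (.node 0 1337732 (.node 0 2242672 .leaf .leaf) (.node 1 2640465 (.node 0 1474854 (.node 0 11015256 .leaf .leaf) .leaf) .leaf)) .leaf)) (.node 1 8394986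 (.node 0 608810 (.node 1 78514 .leaf .leaf) (.node 1 190626 (.node 0 9055272 .leaf (.node 1 2435240 (.node 1 6305926 .leaf .leaf) .leaf)) .leaf)) .leaf)) .leaf)) .leaf)) (.node 1 855332 (.node 0 6295992 (.node 0 3246601 (.node 0 4490852 (.node 1 13148440 (.node 1 11551306 (.node 0 705094 (.node 1 361272 .leaf .leaf) .leaf) .leaf) .leaf) (.node 1 5279 (.node 0 1903248 (.node 0 5249380 (.node 0 2162811 .leaf .leaf) (.node 1 4202192 .leaf .leaf)) (.node 1 657763 (.node 0 11272490 .leaf (.node 1 1352353 .leaf .leaf)) .leaf)) .leaf)) (.node 1 9578566 (.node 0 8937586 (.node 0 1728778 (.node 1 3474978 .leaf .leaf) (.node 1 2220640 (.node 0 4367374 .leaf (.node 1 2207772 (.node 0 5350928 .leaf (.node 1 2232654 .leaf .leaf)) .leaf)) .leaf)) (.node 1 2409888 (.node 0 2268296 (.node 0 8490656 (.node 1 555160 .leaf .leaf) .leaf) (.node 1 5842956 (.node 0 4203377 (.node 0 3416079 .leaf (.node 1 11575377 .leaf .leaf)) (.node 1 10491778 (.node 1 1722420 .leaf .leaf) .leaf))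 .leaf)) .leaf)) .leaf)) (.node 1 5780352 (.node 0 2173253 (.node 0 6594610 (.node 0 1618953 (.node 0 337856 (.node 1 7903248 (.node 1 8521420 .leaf .leaf) .leaf) (.node 1 2754059 (.node 0 9208708 (.node 0 2120980 .leaf .leaf) .leaf) .leaf)) (.node 1 14688364 (.node 0 57883 .leaf (.node 1 10543366 .leaf .leaf)) .leaf)) (.node 1 3182981 (.node 0 2460752 (.node 0 5280930 .leaf (.node 1 4755660 (.node 0 69395 .leaf .leaf) .leaf)) (.node 1 1182989 (.node 1 1836419 (.node 0 2890176 .leaf .leaf) .leaf) .leaf)) .leaf)) (.node 1 11669008 (.node 0 9486564 (.node 0 150618 (.node 0 10093218 (.node 1 290352 .leaf .leaf) .leaf) (.node 1 126216 (.node 0 6432416 (.node 0 8431757 .leaf .leaf) (.node 1 3739786 .leaf .leaf)) .leaf)) .leaf) .leaf)) .leaf)) .leaf)) (.node 1 1687640 (.node 0 5375810 (.node 0 11010247 (.node 0 837906 (.node 0 3806496 (.node 0 10584520 (.node 0 6344194 .leaf .leaf) (.node 1 1975812 (.node 0 8401364 (.node 1 3328320 (.node 0 10650722 .leaf .leaf) .leaf)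 (.node 1 7079696 .leaf .leaf)) .leaf)) (.node 1 5309160 (.node 0 4196943 (.node 0 786999 .leaf (.node 1 8421811 (.node 1 1075305 .leaf .leaf) .leaf)) (.node 1 8436754 .leaf .leaf)) .leaf)) (.node 1 52005 (.node 0 2491452 (.node 0 9474712 (.node 0 1134148 .leaf .leaf) (.node 1 4989254 (.node 0 2634003 .leaf (.node 1 15762208 (.node 0 2147405 (.node 1 622863 .leaf .leaf) (.node 1 9462812 (.node 1 2704706 .leaf .leaf) .leaf)) .leaf)) .leaf)) (.node 1 1122713 .leaf .leaf)) .leaf)) (.node 1 10257456 (.node 1 4744776 (.node 0 140167 (.node 0 11282452 (.node 0 1110320 (.node 0 3351624 (.node 0 12624578 .leaf .leaf) .leaf) .leaf) .leaf) (.node 1 11108882 (.node 0 5817604 (.node 0 2229713 (.node 1 1869893 .leaf .leaf) .leaf) (.node 1 21116 (.node 1 237906 (.node 0 16262146 (.node 0 582081 .leaf .leaf) .leaf) .leaf) .leaf)) .leaf)) .leaf) .leaf)) (.node 1 104010 (.node 0 4785798 (.node 0 4721045 (.node 0 3410225 (.node 0 3444840 .leaf (.node 1 5252293 (.node 0 272595 (.node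 0 1849378 .leaf .leaf) (.node 1 11046145 (.node 1 1589901 .leaf .leaf) .leaf)) .leaf)) (.node 1 9440193 (.node 0 2377830 .leaf (.node 1 1100945 (.node 1 593097 (.node 1 563843 .leaf .leaf) .leaf) .leaf)) .leaf)) (.node 1 8919856 (.node 0 3227948 (.node 0 6455896 (.node 1 8683614 .leaf .leaf) (.node 1 1127686 (.node 0 6889680 .leaf .leaf) .leaf)) (.node 1 1204944 .leaf .leaf)) .leaf)) (.node 1 692282 (.node 0 10028808 (.node 0 6308804 (.node 0 2263063 .leaf .leaf) (.node 1 1594898 (.node 0 1769924 (.node 0 14682450 .leaf (.node 1 1351424 (.node 0 2168036 .leaf (.node 1 5899416 .leaf .leaf)) .leaf)) (.node 1 722544 (.node 0 13631886 .leaf (.node 1 832080 .leaf .leaf)) .leaf)) .leaf)) (.node 1 402026 (.node 0 8925710 (.node 0 615188 (.node 0 7479572 (.node 1 11797828 .leaf .leaf) (.node 1 3216208 (.node 1 1217620 .leaf .leaf) .leaf)) (.node 1 2245426 (.node 1 1384564 (.node 0 5255258 .leaf .leaf) .leaf) .leaf)) .leaf) .leaf)) .leaf)) .leaf)) .leaf)) (.node 1 280334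 (.node 0 2757268 (.node 0 9537812 (.node 0 7357552 (.node 0 1212619 (.node 0 9178690 (.node 0 545190 (.node 0 2820376 .leaf (.node 1 1256224 (.node 1 3421328 (.node 0 1161408 .leaf (.node 1 6949956 .leaf .leaf)) .leaf) .leaf)) (.node 1 4768432 .leaf .leaf)) (.node 1 298027 (.node 1 4726955 .leaf .leaf) .leaf)) (.node 1 9020484 (.node 0 4220306 (.node 0 3811457 (.node 0 8694112 (.node 0 2126890 .leaf (.node 1 7397512 .leaf .leaf)) (.node 1 2363013 .leaf .leaf)) (.node 1 12126304 (.node 0 4243818 (.node 1 9543722 .leaf .leaf) (.node 1 63108 (.node 0 208020 .leaf .leaf) .leaf)) .leaf)) (.node 1 2675464 (.node 0 2328324 (.node 1 1839388 .leaf .leaf) (.node 1 1245726 (.node 0 14156372 .leaf (.node 1 267634 (.node 1 5939296 .leaf .leaf) .leaf)) .leaf)) .leaf)) .leaf)) (.node 1 1070536 (.node 0 2296514 (.node 0 13142054 (.node 1 8414120 (.node 0 2255372 (.node 0 8561204 .leaf (.node 1 2425238 .leaf .leaf)) (.node 1 3237906 .leaf .leaf)) .leaf) (.node 1 301236 (.node 0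 1121336 (.node 1 668866 .leaf .leaf) .leaf) .leaf)) (.node 1 1805314 (.node 0 13108704 (.node 0 2115979 (.node 0 3050016 (.node 0 8426796 .leaf (.node 1 4465308 .leaf .leaf)) (.node 1 1116327 (.node 0 4982904 (.node 0 1053483 .leaf .leaf) (.node 1 15777 .leaf .leaf)) .leaf)) (.node 1 10021376 (.node 1 2180760 (.node 0 5409412 .leaf .leaf) .leaf) .leaf)) (.node 1 792232 (.node 0 72588 (.node 0 6359604 .leaf .leaf) .leaf) .leaf)) .leaf)) .leaf)) (.node 1 396116 (.node 0 11538486 (.node 1 157028 (.node 0 10625178 .leaf (.node 1 4038912 (.node 0 6337856 (.node 0 2204803 (.node 1 2627629 .leaf .leaf) .leaf) (.node 1 7345676 (.node 0 99029 (.node 1 39257 .leaf .leaf) (.node 1 9045270 (.node 0 12075408 .leaf (.node 1 1852256 .leaf .leaf)) .leaf)) .leaf)) .leaf)) .leaf) (.node 1 5538256 (.node 0 3152963 (.node 0 884962 (.node 0 4726026 (.node 0 2687905 (.node 0 6588684 .leaf (.node 1 1063445 .leaf .leaf)) .leaf) (.node 1 4241960 (.node 0 75309 .leaf .leaf) .leaf)) (.node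 1 689317 (.node 0 8654232 (.node 0 3168928 (.node 0 231532 (.node 0 12584506 .leaf .leaf) .leaf) (.node 1 5785794 .leaf .leaf)) (.node 1 797449 (.node 0 2372388 .leaf (.node 1 7340691 (.node 1 8391797 .leaf .leaf) .leaf)) .leaf)) .leaf)) (.node 1 13667400 (.node 0 18147 (.node 0 919694 (.node 1 4459426 (.node 1 13641904 .leaf .leaf) .leaf) (.node 1 632881 (.node 0 5514536 .leaf (.node 1 2110153 .leaf .leaf)) .leaf)) (.node 1 8963210 (.node 0 675712 (.node 0 10619300 (.node 0 10537016 (.node 0 1230376 .leaf .leaf) .leaf) .leaf) .leaf) .leaf)) .leaf)) .leaf)) .leaf)) (.node 1 5833010 (.node 0 7864649 (.node 0 2392899 (.node 0 2921478 (.node 0 628112 (.node 0 7409024 (.node 0 6326497 .leaf (.node 1 9968772 (.node 0 84464 (.node 0 7473194 .leaf .leaf) .leaf) .leaf)) (.node 1 1710664 (.node 0 8455014 (.node 0 6832158 .leaf .leaf) (.node 1 427666 .leaf .leaf)) .leaf)) (.node 1 4850476 (.node 0 10486557 (.node 0 3457556 (.node 1 4261212 (.node 1 9998658 .leaf .leaf) .leaf)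 (.node 1 1065303 (.node 0 4063314 .leaf (.node 1 1148257 .leaf .leaf)) .leaf)) (.node 1 9708306 (.node 0 3698756 .leaf .leaf) .leaf)) .leaf)) (.node 1 5275709 (.node 0 1312345 (.node 0 1315526 (.node 0 596054 .leaf (.node 1 4361520 (.node 1 10232008 .leaf .leaf) .leaf)) (.node 1 4752467 (.node 1 8946281 .leaf .leaf) .leaf)) (.node 1 8398155 (.node 0 2908802 (.node 0 702724 (.node 0 10560816 .leaf .leaf) .leaf) (.node 1 3719203 (.node 0 951624 (.node 1 6062602 .leaf .leaf) .leaf) .leaf)) .leaf)) .leaf)) (.node 1 9471495 (.node 0 804052 (.node 0 1186194 (.node 1 1445088 (.node 1 5024896 (.node 1 15207048 (.node 1 8407702 .leaf .leaf) .leaf) .leaf) .leaf) (.node 1 4819776 (.node 0 6292775 (.node 0 2916505 .leaf .leaf) .leaf) .leaf)) (.node 1 542009 (.node 0 3539848 (.node 0 10525252 (.node 0 115766 (.node 1 602472 .leaf .leaf) .leaf) (.node 1 5508118 (.node 0 1577201 (.node 1 175681 (.node 0 8660134 .leaf .leaf) .leaf) .leaf) .leaf)) (.node 1 1647171 (.node 1 2135601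 (.node 0 1410188 .leaf (.node 1 663645 .leaf .leaf)) .leaf) .leaf)) .leaf)) .leaf)) (.node 1 9451104 (.node 0 90318 (.node 0 4860434 (.node 0 9969957 (.node 0 2384216 (.node 0 3322370 .leaf (.node 1 7438406 .leaf .leaf)) (.node 1 3172097 (.node 0 2531524 .leaf .leaf) .leaf)) (.node 1 10748656 (.node 0 1103886 (.node 1 198058 .leaf .leaf) (.node 1 4253780 (.node 0 1188915 .leaf .leaf) .leaf)) .leaf)) (.node 1 2201890 (.node 0 6915112 (.node 0 4229001 (.node 1 9963547 .leaf .leaf) .leaf) (.node 1 1192108 (.node 0 8464984 (.node 0 5268006 .leaf (.node 1 2150610 .leaf .leaf)) (.node 1 2501890 (.node 0 11055264 .leaf (.node 1 8126628 (.node 1 12594948 .leaf .leaf) .leaf)) .leaf)) .leaf)) .leaf)) (.node 1 2810896 (.node 0 9610624 (.node 0 10513600 (.node 1 2738308 .leaf .leaf) (.node 1 3951624 (.node 0 168928 (.node 0 10554382 .leaf (.node 1 1484824 (.node 1 6554826 .leaf .leaf) .leaf)) .leaf) .leaf)) (.node 1 2949708 (.node 0 4231958 (.node 0 3736597 (.node 1 530245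 (.node 1 1737489 .leaf .leaf) .leaf) (.node 1 9568632 (.node 1 1369154 .leaf .leaf) .leaf)) .leaf) .leaf)) .leaf)) .leaf)) .leaf)) .leaf))

theorem cert2 : cert gens [octB] 12222476 tree2 cwKey enc
    ((cwOfWeight 8).filter fun n => pc (n &&& octB) == 2) = true := by
  decide +kernel

/-- Spanning tree, intersection 0. -/
def tree0 : Tree := (.node 0 1584464 (.node 0 3154402 (.node 0 2664522 (.node 0 567074 .leaf .leaf) (.node 1 3189796 (.node 0 42232 (.node 0 1060490 .leaf .leaf) (.node 1 2631052 (.node 0 2141072 .leaf (.node 1 3672838 (.node 0 2654580 .leaf .leaf) .leaf)) .leaf)) .leaf)) (.node 1 3704512 (.node 0 36294 (.node 0 2624690 (.node 1 535268 .leaf .leaf) (.node 1 1608104 .leaf .leaf)) (.node 1 560668 (.node 0 1050548 (.node 0 3147996 .leaf .leaf) (.node 1 525274 (.node 1 1084018 (.node 0 1573998 .leaf .leaf) .leaf) .leaf)) .leaf)) .leaf)) (.node 1 2101096 (.node 0 2130606 (.node 1 10558 (.node 0 3678776 (.node 0 1090380 (.node 1 3179802 .leaf .leaf)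 (.node 1 2106966 .leaf .leaf)) .leaf) .leaf) .leaf) .leaf))

theorem cert0 : cert gens [octB] 1613974 tree0 cwKey enc
    ((cwOfWeight 8).filter fun n => pc (n &&& octB) == 0) = true := by
  decide +kernel

end CfsgLib.Sporadic.CertOctad
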