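import Mathlib.Data.Matrix.Mul
import Mathlib.Data.ZMod.Basic
import Mathlib.Algebra.BigOperators.Fin
import Mathlib.Data.Nat.Bitwise
import Mathlib.Data.List.GetD
import Mathlib.Tactic.Ring

/-!
# Square matrices over the field with two elements, fast for kernel evaluation

Rows are bit strings; for a product all rows of the left factor are put into one number.
-/

set_option autoImplicit false

namespace CfsgLib.Sporadic.BitMatrix

variable (n : ℕ)

/-- All rows in one number. -/
noncomputable def pack (A : List ℕ) : ℕ :=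
  List.rec (motive := fun _ => ℕ) 0 (fun a _ ih => Nat.add (Nat.mul (2 ^ n) ih) a) A

/-- Cut a number into rows. -/
noncomputable def unpack : ℕ → ℕ → List ℕ := fun m =>
  Nat.rec (motive := fun _ => ℕ → List ℕ) (fun _ => [])
    (fun _ ih P => Nat.mod P (2 ^ n) :: ih (Nat.div P (2 ^ n))) m

/-- The lowest bit in each row. -/
noncomputable def comb : ℕ := pack n (List.replicate n 1)

/-- The packed product. -/
noncomputable def appP (C P : ℕ) (B : List ℕ) : ℕ → ℕ :=
  List.rec (motive := fun _ => ℕ → ℕ) (fun _ => 0)
    (fun b _ ih k => Nat.xor (Nat.mul b (Nat.land (Nat.shiftRight P k) C)) (ih (Nat.succ k))) B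

/-- Feed a numeral to a function. -/
noncomputable def forced {α : Type} (g : ℕ → α) (m : ℕ) : α :=
  Nat.rec (motive := fun _ => α) (g 0) (fun k _ => g (k + 1)) m

theorem forced_eq {α : Type} (g : ℕ → α) (m : ℕ) : forced g m = g m := by
  cases m <;> rfl

/-- The product of the packed left factor and rows. -/
noncomputable def mulP (P : ℕ) (B : List ℕ) : ℕ :=
  forced (fun C => appP C P B 0) (comb n)

/-- The product of packed matrices from the left. -/
noncomputable def prodP (L : List (List ℕ)) : ℕ → ℕ :=
  List.rec (motive := fun _ => ℕ → ℕ) (fun P => P) (fun B _ ih P => forced ih (mulP n P B)) L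

/-- The rows of the identity. -/
def one : List ℕ := (List.range n).map fun i => 2 ^ i

/-- The test that a product of matrices is one. -/
noncomputable def isOne (L : List (List ℕ)) : Bool :=
  Nat.beq (forced (prodP n L) (pack n (one n))) (pack n (one n))

/-- Rows within bounds. -/
noncomputable def ok (A : List ℕ) : Bool := Nat.beq A.length n && A.all fun a => Nat.blt a (2 ^ n)

/-- The image of a bit string. -/
def apL : List ℕ → ℕ → ℕ
  | [], _ => 0
  | b :: B, v => (if v % 2 = 1 then b else 0) ^^^ apL B (v / 2)

/-- The matrix with the given rows. -/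
def dec (A : List ℕ) : Matrix (Fin n) (Fin n) (ZMod 2) :=
  fun i j => if (A.getD i 0).testBit j then 1 else 0

variable {n}

theorem pack_cons (a : ℕ) (A : List ℕ) : pack n (a :: A) = 2 ^ n * pack n A + a := rfl

theorem ok_iff {A : List ℕ} : ok n A = true ↔ A.length = n ∧ ∀ a ∈ A, a < 2 ^ n := by
  simp only [ok, Bool.and_eq_true, List.all_eq_true]
  exact and_congr ⟨Nat.eq_of_beq_eq_true, fun e => by rw [e]; exact Nat.beq_refl _⟩
    ⟨fun h c hc => Nat.le_of_ble_eq_true (h c hc), fun h c hc => Nat.ble_eq_true_of_le (h c hc)⟩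

theorem testBit_pack_cons {b : ℕ} (hb : b < 2 ^ n) (l : List ℕ) (i : ℕ) :
    (pack n (b :: l)).testBit i = if i < n then b.testBit i else (pack n l).testBit (i - n) := by
  rw [pack_cons]
  exact Nat.testBit_two_pow_mul_add (pack n l) hb i

theorem pack_xor {α : Type*} (f g : α → ℕ) : ∀ l : List α, (∀ a ∈ l, f a < 2 ^ n ∧ g a < 2 ^ n) →
    pack n (l.map f) ^^^ pack n (l.map g) = pack n (l.map fun a => f a ^^^ g a) := by
  intro l
  induction l with
  | nil => intro _; simp [pack]
  | cons a l ih =>
    intro h
    obtain ⟨hf, hg⟩ := h a List.mem_cons_self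
    have hx : f a ^^^ g a < 2 ^ n := Nat.xor_lt_two_pow hf hg
    refine Nat.eq_of_testBit_eq fun i => ?_
    simp only [List.map_cons, Nat.testBit_xor, testBit_pack_cons hf, testBit_pack_cons hg, testBit_pack_cons hx]
    rw [← ih fun b hb => h b (List.mem_cons_of_mem _ hb), Nat.testBit_xor]
    split_ifs <;> rfl

theorem pack_map_mul {α : Type*} (a : ℕ) (f : α → ℕ) (l : List α) :
    a * pack n (l.map f) = pack n (l.map fun b => a * f b) := by
  induction l with
  | nil => rfl
  | cons b l ih => rw [List.map_cons, List.map_cons, pack_cons, pack_cons, ← ih]; ring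

theorem bit_land {k : ℕ} (hk : k < n) : ∀ l : List ℕ, (∀ b ∈ l, b < 2 ^ n) →
    (pack n l >>> k) &&& pack n (List.replicate l.length 1) =
      pack n (l.map fun b => if b.testBit k then 1 else 0) := by
  intro l
  induction l with
  | nil => intro _; simp [pack]
  | cons b l ih =>
    intro h
    have hb := h b List.mem_cons_self
    have h1 : (1 : ℕ) < 2 ^ n := Nat.one_lt_two_pow (by omega)
    have hc : (if b.testBit k then 1 else 0 : ℕ) < 2 ^ n := by split <;> omega
    refine Nat.eq_of_testBit_eq fun i => ?_
    simp only [List.length_cons, List.replicate_succ, List.map_cons, Nat.testBit_and, Nat.testBit_shiftRight,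
      testBit_pack_cons hb, testBit_pack_cons h1, testBit_pack_cons hc]
    by_cases hi : i < n
    · rw [if_pos hi, if_pos hi]
      by_cases h0 : i = 0
      · subst h0
        rw [if_pos (by omega), Nat.add_zero]
        cases b.testBit k <;> simp
      · have ht : Nat.testBit 1 i = false :=
          Bool.eq_false_iff.mpr fun e => h0 (Nat.testBit_one_eq_true_iff_self_eq_zero.mp e)
        cases b.testBit k <;> simp [ht]
    · rw [if_neg hi, if_neg hi, if_neg (by omega), show k + i - n = k + (i - n) by omega,
        ← ih fun c hc => h c (List.mem_cons_of_mem _ hc), Nat.testBit_and, Nat.testBit_shiftRight]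

theorem apL_lt : ∀ {B : List ℕ}, (∀ b ∈ B, b < 2 ^ n) → ∀ v, apL B v < 2 ^ n := by
  intro B
  induction B with
  | nil => intro _ v; simpa [apL] using Nat.two_pow_pos n
  | cons b B ih =>
    intro h v
    refine Nat.xor_lt_two_pow ?_ (ih (fun c hc => h c (List.mem_cons_of_mem _ hc)) _)
    split
    · exact h b List.mem_cons_self
    · exact Nat.two_pow_pos n

theorem appP_eq {A : List ℕ} (hAl : A.length = n) (hA : ∀ a ∈ A, a < 2 ^ n) : ∀ (B : List ℕ) (k : ℕ),
    k + B.length ≤ n → (∀ b ∈ B, b < 2 ^ n) →
      appP (comb n) (pack n A) B k = pack n (A.map fun a => apL B (a >>> k)) := by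
  intro B
  induction B with
  | nil =>
    intro k _ _
    show 0 = _
    clear hAl hA
    induction A with
    | nil => rfl
    | cons a l ih => rw [List.map_cons, pack_cons, ← ih, apL]; ring
  | cons b B ih =>
    intro k hk hB
    rw [List.length_cons] at hk
    have hB' : ∀ x ∈ B, x < 2 ^ n := fun x hx => hB x (List.mem_cons_of_mem _ hx)
    show (b * ((pack n A >>> k) &&& comb n)) ^^^ appP (comb n) (pack n A) B (k + 1) = _
    have hcomb : comb n = pack n (List.replicate A.length 1) := by rw [comb, hAl]
    rw [ih (k + 1) (by omega) hB', hcomb, bit_land (show k < n by omega) A hA, pack_map_mul,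
      pack_xor _ _ _ fun a _ => ⟨?_, apL_lt hB' _⟩]
    · congr 1
      refine List.map_congr_left fun a _ => ?_
      rw [apL, show a >>> k / 2 = a >>> (k + 1) from (Nat.shiftRight_succ a k).symm]
      have : a.testBit k = decide ((a >>> k) % 2 = 1) := by
        rw [Nat.testBit_eq_decide_div_mod_eq, Nat.shiftRight_eq_div_pow]
      rw [this]
      by_cases hm : (a >>> k) % 2 = 1 <;> simp [hm]
    · have := hB b List.mem_cons_self
      split <;> simp [this, Nat.two_pow_pos]

theorem testBit_apL (B : List ℕ) (v i : ℕ) :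
    (if (apL B v).testBit i then (1 : ZMod 2) else 0) =
      ∑ k ∈ Finset.range B.length, (if v.testBit k then (1 : ZMod 2) else 0) *
        (if (B.getD k 0).testBit i then 1 else 0) := by
  induction B generalizing v with
  | nil => simp [apL]
  | cons b B ih =>
    rw [List.length_cons, Finset.sum_range_succ', apL, Nat.testBit_xor, List.getD_cons_zero]
    simp only [List.getD_cons_succ, Nat.testBit_succ]
    rw [← ih (v / 2), Nat.testBit_zero]
    by_cases hv : v % 2 = 1
    · simp only [hv, if_true, decide_true, one_mul]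
      cases (apL B (v / 2)).testBit i <;> cases b.testBit i <;> decide
    · simp [hv]

/-- A number packing a matrix. -/
def Good (n : ℕ) (P : ℕ) (M : Matrix (Fin n) (Fin n) (ZMod 2)) : Prop :=
  ∃ A : List ℕ, A.length = n ∧ (∀ a ∈ A, a < 2 ^ n) ∧ P = pack n A ∧ dec n A = M

theorem Good.mul {P : ℕ} {M : Matrix (Fin n) (Fin n) (ZMod 2)} (h : Good n P M) {B : List ℕ}
    (hB : ok n B = true) : Good n (mulP n P B) (M * dec n B) := by
  obtain ⟨A, hAl, hA, rfl, rfl⟩ := h
  obtain ⟨hBl, hBb⟩ := ok_iff.1 hB
  refine ⟨A.map (apL B), by simpa using hAl, fun a ha => ?_, ?_, ?_⟩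
  · obtain ⟨c, -, rfl⟩ := List.mem_map.1 ha
    exact apL_lt hBb c
  · rw [mulP, forced_eq, appP_eq hAl hA B 0 (by omega) hBb]
    simp [Nat.shiftRight_zero]
  · ext i j
    have hi : (i : ℕ) < A.length := by rw [hAl]; exact i.2
    rw [Matrix.mul_apply]
    simp only [dec]
    rw [List.getD_eq_getElem _ _ (show (i : ℕ) < (A.map (apL B)).length by simpa using hi), List.getElem_map,
      testBit_apL, hBl, Finset.sum_range, List.getD_eq_getElem _ _ hi]

theorem Good.prodP : ∀ (L : List (List ℕ)), (∀ B ∈ L, ok n B = true) →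
    ∀ {P : ℕ} {M : Matrix (Fin n) (Fin n) (ZMod 2)}, Good n P M →
      Good n (BitMatrix.prodP n L P) (M * (L.map (dec n)).prod) := by
  intro L
  induction L with
  | nil => intro _ P M h; show Good n P _; simpa using h
  | cons B t ih =>
    intro hL P M h
    show Good n (forced (BitMatrix.prodP n t) (mulP n P B)) _
    rw [forced_eq, List.map_cons, List.prod_cons, ← mul_assoc]
    exact ih (fun H hH => hL H (List.mem_cons_of_mem _ hH)) (h.mul (hL B List.mem_cons_self))

theorem unpack_pack : ∀ l : List ℕ, (∀ b ∈ l, b < 2 ^ n) → unpack n l.length (pack n l) = l := by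
  intro l
  induction l with
  | nil => intro _; rfl
  | cons b l ih =>
    intro h
    have hb := h b List.mem_cons_self
    show (2 ^ n * pack n l + b) % 2 ^ n :: unpack n l.length ((2 ^ n * pack n l + b) / 2 ^ n) = _
    rw [Nat.mul_add_mod, Nat.mod_eq_of_lt hb, Nat.mul_add_div (Nat.two_pow_pos n), Nat.div_eq_of_lt hb, add_zero,
      ih fun c hc => h c (List.mem_cons_of_mem _ hc)]

theorem dec_one : dec n (one n) = 1 := by
  ext i j
  have e : (one n).getD i 0 = 2 ^ (i : ℕ) := by
    rw [one, List.getD_eq_getElem _ _ (by simp), List.getElem_map, List.getElem_range]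
  simp only [dec, e, Nat.testBit_two_pow, Matrix.one_apply]
  by_cases h : i = j
  · subst h; simp
  · rw [if_neg h, if_neg]
    simpa using fun e => h (Fin.ext e)

theorem one_lt : ∀ a ∈ one n, a < 2 ^ n := fun a ha => by
  obtain ⟨i, hi, rfl⟩ := List.mem_map.1 ha
  exact Nat.pow_lt_pow_right (by norm_num) (List.mem_range.1 hi)

theorem ok_one : ok n (one n) = true := ok_iff.2 ⟨by simp [one], one_lt⟩

theorem isOne_spec {L : List (List ℕ)} (hL : ∀ B ∈ L, ok n B = true) (h : isOne n L = true) :
    (L.map (dec n)).prod = 1 := by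
  rw [isOne, Nat.beq_eq, forced_eq] at h
  have h0 : Good n (pack n (one n)) 1 := ⟨one n, by simp [one], one_lt, rfl, dec_one⟩
  obtain ⟨A, hAl, hA, hP, hM⟩ := Good.prodP L hL h0
  rw [one_mul] at hM
  have e : A = one n := by
    have h1 := unpack_pack A hA
    have h2 := unpack_pack (one n) (one_lt (n := n))
    rw [hAl, ← hP, h] at h1
    rw [show (one n).length = n by simp [one]] at h2
    exact h1.symm.trans h2
  rw [← hM, e, dec_one]

end CfsgLib.Sporadic.BitMatrix
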