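import Cfsg.Agent.Lib.Sporadic.LeechE8Rep
import Cfsg.Agent.Lib.Classical.OrthPOmega
import Cfsg.Agent.Lib.Components.GenFitting
import Cfsg.Agent.Lib.ThreeTransp.Simplicity

/-!
# An involution centraliser in the lattice automorphism group modulo its centre

The sign change on an octad becomes an involution whose centraliser is an extension of an extraspecial
group of order 512 by the simple orthogonal group of plus type in dimension 8.
-/

set_option autoImplicit false
set_option maxRecDepth 10000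

open scoped commutatorElement

namespace CfsgLib.Sporadic.Co1Centralizer

open Cfsg CfsgLib.SmallGroups.Golay CfsgLib.SmallGroups.GolayOctads CfsgLib.SmallGroups
  CfsgLib.SmallGroups.LeechBasic CfsgLib.SmallGroups.MathieuSets CfsgLib.Sporadic.LeechE8
  CfsgLib.Sporadic.LeechE8Data CfsgLib.Sporadic.M24Orbits
open CfsgLib.Sporadic.LeechSuborbits (smul_neg')
open CfsgLib.SmallGroups.LeechGroup (monoSub sgn sgn_apply sgn_add sgn_conj moved)
open LeechMonomial (mono)
open scoped Pointwise

/-- The commutator subgroup of the orthogonal group of plus type in dimension 8 over two elements. -/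
abbrev L8 : Type := ↥(commutator (CfsgLib.Orth.orthGroup Q8))

theorem center_cases {c : Co0} (hc : c ∈ Subgroup.center Co0) : c = 1 ∨ c = negC := by
  have h2 := LeechCenter.card_center_Co0
  rw [Nat.card_eq_two_iff' (⟨1, one_mem _⟩ : Subgroup.center Co0)] at h2
  obtain ⟨y, -, hy⟩ := h2
  by_cases h : c = 1
  · exact Or.inl h
  · right
    have e1 := hy ⟨c, hc⟩ fun e => h (congrArg Subtype.val e)
    have e2 := hy ⟨negC, LeechGroup.sgn_one_central⟩ fun e => negC_not_mem
      (by rw [show negC = 1 from congrArg Subtype.val e]; exact one_mem _)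
    exact congrArg Subtype.val (e1.trans e2.symm)

/-- The projection. -/
noncomputable abbrev proj : Co0 →* Cfsg.Spor.Co1 := QuotientGroup.mk' (Subgroup.center Co0)

theorem proj_eq_iff {g h : Co0} : proj g = proj h ↔ h = g ∨ h = g * negC := by
  rw [QuotientGroup.mk'_eq_mk']
  constructor
  · rintro ⟨c, hc, rfl⟩
    rcases center_cases hc with rfl | rfl
    · exact Or.inl (mul_one g)
    · exact Or.inr rfl
  · rintro (rfl | rfl)
    · exact ⟨1, one_mem _, mul_one _⟩
    · exact ⟨negC, LeechGroup.sgn_one_central, rfl⟩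

theorem sgn_injective : Function.Injective sgn := by
  intro w u h
  refine Subtype.ext (funext fun i => ?_)
  have hi := congrArg (fun m : monoSub => (((m : Co0) • LeechCenter.unitVec i : leechLattice) :
    GolayPt → ℤ) i) h
  simp only [sgn_apply, show ((LeechCenter.unitVec i : leechLattice) : GolayPt → ℤ) i = 8 from
    Pi.single_eq_same i 8] at hi
  have key : ∀ z : ZMod 2, z = 0 ∨ z = 1 := by decide
  rcases key ((w : GolayPt → ZMod 2) i) with e | e <;>
    rcases key ((u : GolayPt → ZMod 2) i) with e' | e' <;> simp [e, e'] at hi ⊢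

/-- The word of the octad. -/
def wO : golayCode := ⟨word octX, mem_code_iff_isCW.2 (by decide +kernel)⟩

theorem tOct_eq : tOct = ((sgn wO : monoSub) : Co0) := by
  refine congrArg mono (Prod.ext rfl (Subtype.ext ?_))
  exact (support₂_word octX).symm

/-- The involution. -/
noncomputable def z1 : Cfsg.Spor.Co1 := proj tOct

theorem not_anti (g : Co0) : g * tOct ≠ tOct * g * negC := by
  intro h
  have hflip : ∀ v : leechLattice, g • tOct • v = -(tOct • g • v) := fun v => by
    rw [smul_smul, h, mul_smul, negC_apply, mul_smul, smul_neg', smul_neg']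
  let pts : Fin 9 → GolayPt := fun i => pt ([3, 5, 6, 7, 8, 9, 10, 11, 12].getD i 0)
  have hpts : Function.Injective pts ∧ ∀ i, pts i ∉ oc := by
    simp only [oc, mem_toSet, Function.Injective]
    decide +kernel
  have hin : ∀ i, g • LeechCenter.unitVec (pts i) ∈ sub8 := fun i => by
    rw [mem_sub8_iff]
    have e : tOct • LeechCenter.unitVec (pts i) = LeechCenter.unitVec (pts i) := by
      refine Subtype.ext (funext fun q => ?_)
      rw [tOct_apply]
      split_ifs with hq
      · show -(Pi.single (pts i) (8 : ℤ) : GolayPt → ℤ) q = (Pi.single (pts i) (8 : ℤ) : GolayPt → ℤ) q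
        rw [Pi.single_eq_of_ne fun e : q = pts i => hpts.2 i (e ▸ hq), neg_zero]
      · rfl
    conv_rhs => rw [← e, hflip, neg_neg]
  let x : Fin 9 → Fin 8 → ℚ := fun i k =>
    (((g • LeechCenter.unitVec (pts i) : leechLattice) : GolayPt → ℤ) (at8 k) : ℚ)
  have hdot : ∀ i j, ∑ k, x i k * x j k = if i = j then 64 else 0 := fun i j => by
    have h1 := LeechEnum.dot_smul g (LeechCenter.unitVec (pts i)) (LeechCenter.unitVec (pts j))
    have h2 : dotInt ((LeechCenter.unitVec (pts i) : leechLattice) : GolayPt → ℤ)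
        ((LeechCenter.unitVec (pts j) : leechLattice) : GolayPt → ℤ) = if i = j then 64 else 0 := by
      show dotInt (Pi.single (pts i) 8) (Pi.single (pts j) 8) = _
      rw [dotInt, Finset.sum_eq_single (pts i) (fun q _ hq => by simp [hq]) (by simp), Pi.single_eq_same]
      by_cases e : i = j
      · subst e; simp
      · rw [Pi.single_eq_of_ne fun e' => e (hpts.1 e'), if_neg e, mul_zero]
    rw [h2, dotInt, sum_oc _ fun q hq => by rw [hin i q hq, zero_mul]] at h1
    have h3 := congrArg (fun n : ℤ => (n : ℚ)) h1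
    simpa [x, apply_ite (fun n : ℤ => (n : ℚ))] using h3
  have hli : LinearIndependent ℚ x := by
    rw [Fintype.linearIndependent_iff]
    intro c hc i
    have h0 : ∑ k, x i k * (∑ j, c j • x j) k = 0 := by rw [hc]; simp
    simp only [Finset.sum_apply, Pi.smul_apply, smul_eq_mul, Finset.mul_sum] at h0
    rw [Finset.sum_comm] at h0
    have h4 : ∀ j, ∑ k, x i k * (c j * x j k) = c j * if i = j then 64 else 0 := fun j => by
      rw [← hdot i j, Finset.mul_sum]
      exact Finset.sum_congr rfl fun k _ => by ring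
    simp only [h4, mul_ite, mul_zero, Finset.sum_ite_eq, Finset.mem_univ, if_true] at h0
    linarith
  have := hli.fintype_card_le_finrank
  simp at this

/-- The centraliser of the involution. -/
noncomputable abbrev C1 : Subgroup Cfsg.Spor.Co1 := Subgroup.centralizer {z1}

/-- The projection of the centraliser. -/
noncomputable def fC : cen →* C1 :=
  MonoidHom.mk' (fun g => ⟨proj g, Subgroup.mem_centralizer_singleton_iff.2 (by
    rw [z1, ← map_mul, ← map_mul, Subgroup.mem_centralizer_singleton_iff.1 g.2])⟩)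
    fun a b => Subtype.ext (map_mul proj (a : Co0) b)

theorem fC_surjective : Function.Surjective fC := by
  rintro ⟨x, hx⟩
  obtain ⟨g, rfl⟩ := QuotientGroup.mk'_surjective _ x
  have h := Subgroup.mem_centralizer_singleton_iff.1 hx
  rw [z1, ← map_mul, ← map_mul] at h
  rcases proj_eq_iff.1 h with e | e
  · exact ⟨⟨g, Subgroup.mem_centralizer_singleton_iff.2 e.symm⟩, rfl⟩
  · exfalso
    apply not_anti g
    rw [e, mul_assoc, negC_mul_self, mul_one]

theorem fC_eq_one {g : cen} (h : fC g = 1) : (g : Co0) = 1 ∨ (g : Co0) = negC :=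
  center_cases ((QuotientGroup.eq_one_iff _).1 (congrArg Subtype.val h))

/-- The representation onto the commutator subgroup. -/
noncomputable def repL : cen →* L8 := rep.codRestrict _ fun g => range_rep ▸ ⟨g, rfl⟩

theorem repL_surjective : Function.Surjective repL := fun x => by
  have hx : (x : CfsgLib.Orth.orthGroup Q8) ∈ rep.range := range_rep.symm ▸ x.2
  obtain ⟨g, hg⟩ := hx
  exact ⟨g, Subtype.ext hg⟩

theorem fC_ker_le : fC.ker ≤ repL.ker := by
  intro g hg
  refine Subtype.ext ?_
  show rep g = 1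
  rw [rep_eq_one_iff]
  rcases fC_eq_one hg with h | h <;> rw [h]
  · exact Or.inl (one_mem _)
  · exact Or.inr (by rw [negC_mul_self]; exact one_mem _)

/-- The map of the centraliser onto the orthogonal group. -/
noncomputable def psi : C1 →* L8 := fC.liftOfSurjective fC_surjective ⟨repL, fC_ker_le⟩

theorem psi_fC (g : cen) : psi (fC g) = repL g :=
  MonoidHom.liftOfRightInverse_comp_apply fC _ _ ⟨repL, fC_ker_le⟩ g

theorem psi_surjective : Function.Surjective psi := fun x => by
  obtain ⟨g, rfl⟩ := repL_surjective x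
  exact ⟨fC g, psi_fC g⟩

/-- The extraspecial group in the centraliser. -/
noncomputable def incQ : qCo →* psi.ker :=
  (fC.comp (Subgroup.inclusion qCo_le)).codRestrict _ fun q => by
    rw [MonoidHom.mem_ker, MonoidHom.comp_apply, psi_fC]
    exact Subtype.ext ((rep_eq_one_iff _).2 (Or.inl q.2))

theorem incQ_bijective : Function.Bijective incQ := by
  constructor
  · rw [injective_iff_map_eq_one]
    intro q hq
    rcases fC_eq_one (g := Subgroup.inclusion qCo_le q) (congrArg Subtype.val hq) with h | h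
    · exact Subtype.ext h
    · exact absurd (h ▸ q.2) negC_not_mem
  · rintro ⟨x, hx⟩
    obtain ⟨g, rfl⟩ := fC_surjective x
    rw [MonoidHom.mem_ker, psi_fC] at hx
    rcases (rep_eq_one_iff g).1 (congrArg Subtype.val hx) with h | h
    · exact ⟨⟨_, h⟩, rfl⟩
    · refine ⟨⟨_, h⟩, Subtype.ext (Subtype.ext ?_)⟩
      show proj (negC * g) = proj g
      rw [proj_eq_iff]
      exact Or.inr (by rw [mul_assoc, negC_central, ← mul_assoc, negC_mul_self, one_mul])

/-- The kernel is the extraspecial group. -/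
noncomputable def kerEquiv : qCo ≃* psi.ker := MulEquiv.ofBijective incQ incQ_bijective

theorem isExtraspecial_ker : Cfsg.IsExtraspecial 2 psi.ker := by
  have : Finite qCo := Nat.finite_of_card_ne_zero (by rw [card_qCo]; norm_num)
  exact ThreeTransp.Simplicity.isExtraspecial_of_equiv kerEquiv isExtraspecial_qCo

theorem card_ker : Nat.card psi.ker = 2 ^ 9 := by
  rw [← Nat.card_congr kerEquiv.toEquiv, card_qCo]; norm_num

theorem card_L8 : Nat.card L8 = 174182400 := by
  show Nat.card ↥(commutator (CfsgLib.Orth.orthGroup Q8)) = _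
  rw [← range_rep, card_range_rep]

theorem isSimple_L8 : IsSimpleGroup L8 := by
  have hp : CfsgLib.Classical.HypPairs Q8 := CfsgLib.Classical.hypPairs_plus 4 (by norm_num)
  have hn : 5 ≤ Module.finrank (ZMod 2) (J8 → ZMod 2) := by simp [Module.finrank_fintype_fun_eq_card]
  have hQ := CfsgLib.Orth.plusForm_nondeg (F := ZMod 2) 4
  have hs := CfsgLib.Classical.commutator_quotient_simple hQ good8 hp hn
  have hc := CfsgLib.Classical.card_center_two (Q := Q8) hQ good8 (by omega) hp
  have hb : Subgroup.center L8 = ⊥ := Subgroup.eq_bot_of_card_eq _ hc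
  exact ((QuotientGroup.quotientMulEquivOfEq hb).trans QuotientGroup.quotientBot).symm.isSimpleGroup

theorem exists_witness : ∃ (σ : ptStab oc) (w : golayCode),
    w + moved (toM σ) w ≠ 0 ∧ w + moved (toM σ) w ≠ wC.1 ∧
      w + moved (toM σ) w ≠ (⟨1, one_mem_code⟩ : golayCode) ∧
        w + moved (toM σ) w ≠ (⟨1, one_mem_code⟩ : golayCode) + wC.1 := by
  obtain ⟨t, ht, ⟨q1, h1⟩, ⟨q2, h2⟩, ⟨q3, h3⟩, ⟨q4, h4⟩⟩ : ∃ t, t ∈ ptTables ∧
      (∃ q, word (enc 1) q + word (enc 1) (tblFun t q) ≠ 0) ∧
      (∃ q, word (enc 1) q + word (enc 1) (tblFun t q) ≠ (if octX.testBit (idx q) = true then 0 else 1)) ∧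
      (∃ q, word (enc 1) q + word (enc 1) (tblFun t q) ≠ 1) ∧
      ∃ q, word (enc 1) q + word (enc 1) (tblFun t q) ≠
        1 + (if octX.testBit (idx q) = true then 0 else 1) := by
    refine ⟨[0, 1, 2, 6, 4, 21, 3, 14, 10, 11, 8, 9, 20, 13, 7, 18, 16, 19, 15, 17, 12, 5, 22, 23], ?_⟩
    decide +kernel
  obtain ⟨h1', h2'⟩ := tables_ok.2.2.1 t ht
  obtain ⟨g, hg, hidx⟩ := exists_elt h1'
  have hτ : g ∈ ptStab oc := mem_ptStab.2 ⟨hg, fun p hp => idx_injective (by
    rw [oc, mem_toSet] at hp
    rw [hidx, h2' p hp])⟩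
  have eg : ∀ q, g q = tblFun t q := fun q => idx_injective (by
    rw [hidx, tblFun, idx_pt]; exact hidx q ▸ idx_lt _)
  have e : ∀ q, ((⟨word (enc 1), word_enc_mem 1⟩ + moved (toM ⟨g, hτ⟩) ⟨word (enc 1), word_enc_mem 1⟩ :
      golayCode) : GolayPt → ZMod 2) q = word (enc 1) q + word (enc 1) (tblFun t q) := fun q => by
    show word (enc 1) q + word (enc 1) ((g : Equiv.Perm GolayPt)⁻¹ q) = _
    rw [inv_eq_of_mul_eq_one_right ((ptStab_octad oc_mem).2 g hτ), eg]
  refine ⟨⟨g, hτ⟩, ⟨word (enc 1), word_enc_mem 1⟩, fun he => h1 ?_, fun he => h2 ?_, fun he => h3 ?_,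
    fun he => h4 ?_⟩
  · rw [← e, he]; rfl
  · rw [← e, he, wC_apply]
  · rw [← e, he]; rfl
  · rw [← e, he, ← wC_apply]; rfl

theorem central_qCo {c : qCo} (hc : c ∈ Subgroup.center qCo) : c = 1 ∨ c = zQ := by
  have h2 := isExtraspecial_qCo.2
  rw [Nat.card_eq_two_iff' (⟨1, one_mem _⟩ : Subgroup.center qCo)] at h2
  obtain ⟨y, -, hy⟩ := h2
  by_cases h : c = 1
  · exact Or.inl h
  · right
    have e1 := hy ⟨c, hc⟩ fun e => h (congrArg Subtype.val e)
    have e2 := hy ⟨zQ, zQ_central⟩ fun e => zQ_ne_one (congrArg Subtype.val e)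
    exact congrArg Subtype.val (e1.trans e2.symm)

theorem centralizer_le : Subgroup.centralizer (psi.ker : Set C1) ≤ psi.ker := by
  have : (Subgroup.centralizer (psi.ker : Set C1)).Normal := inferInstance
  have hn := Subgroup.Normal.map (f := psi) (H := Subgroup.centralizer (psi.ker : Set C1)) inferInstance
    psi_surjective
  have := isSimple_L8
  rcases hn.eq_bot_or_eq_top with h | h
  · exact (Subgroup.map_eq_bot_iff _).1 h
  exfalso
  obtain ⟨σ, w, hw0, hwC, hw1, hw1C⟩ := exists_witness
  let gs : cen := ⟨(sgn w : monoSub), mono_mem_cen 1 _ fun q => Iff.rfl⟩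
  obtain ⟨d, hd, hde⟩ := (h ▸ Subgroup.mem_top (psi (fC gs)) :
    psi (fC gs) ∈ (Subgroup.centralizer (psi.ker : Set C1)).map psi)
  obtain ⟨q, hq⟩ := incQ_bijective.2 ⟨d⁻¹ * fC gs, by
    rw [MonoidHom.mem_ker, map_mul, map_inv, hde, inv_mul_cancel]⟩
  have hgs : fC gs = d * (incQ q : C1) := by rw [hq]; show _ = d * (d⁻¹ * _); rw [mul_inv_cancel_left]
  let p : qCo := eqv (σ, wzero)
  have hcd : ∀ r : qCo, d * (incQ r : C1) = (incQ r : C1) * d := fun r =>
    ((Subgroup.mem_centralizer_iff.1 hd) _ (incQ r).2).symm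
  have hconj : fC gs * (incQ p : C1) * (fC gs)⁻¹ = (incQ (q * p * q⁻¹) : C1) := by
    have h := hcd (q * p * q⁻¹)
    simp only [map_mul, map_inv, Subgroup.coe_mul, Subgroup.coe_inv] at h ⊢
    rw [hgs]
    calc d * (incQ q : C1) * (incQ p : C1) * (d * (incQ q : C1))⁻¹
        = d * ((incQ q : C1) * (incQ p : C1) * (incQ q : C1)⁻¹) * d⁻¹ := by group
      _ = _ := by rw [h]; group
  have hpe : ((p : Co0)) = ((pS σ : monoSub) : Co0) := by
    show ((elt σ wzero : monoSub) : Co0) = _
    rw [elt, show (wzero : W0).1 = 0 from rfl, LeechGroup.sgn_zero, one_mul]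
  have hlhs : (gs : Co0) * (p : Co0) * (gs : Co0)⁻¹ =
      ((sgn (w + moved (toM σ) w) : monoSub) : Co0) * (p : Co0) := by
    rw [hpe]
    show ((sgn w : monoSub) : Co0) * (pS σ : monoSub) * ((sgn w : monoSub) : Co0)⁻¹ = _
    rw [← Subgroup.coe_mul, ← Subgroup.coe_inv, ← Subgroup.coe_mul, ← Subgroup.coe_mul]
    congr 1
    have h2 := sgn_conj (pS σ) w
    rw [permOf_pS, mul_inv_eq_iff_eq_mul] at h2
    have hinv : (sgn w)⁻¹ = sgn w := inv_eq_of_mul_eq_one_right (by
      rw [← sgn_add, ← LeechGroup.sgn_zero]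
      congr 1
      exact Subtype.ext (funext fun i => CharTwo.add_self_eq_zero _))
    rw [hinv, sgn_add, mul_assoc, h2, mul_assoc]
  obtain ⟨c, hc, hrhs⟩ : ∃ c : qCo, (c = 1 ∨ c = zQ) ∧ q * p * q⁻¹ = c * p := by
    refine ⟨⁅q, p⁆, central_qCo ?_, by rw [commutatorElement_def]; group⟩
    rw [← isExtraspecial_qCo.1.2.2]
    exact Subgroup.commutator_mem_commutator (Subgroup.mem_top _) (Subgroup.mem_top _)
  have hp : proj ((gs : Co0) * (p : Co0) * (gs : Co0)⁻¹) = proj (((c * p : qCo)) : Co0) := by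
    rw [← hrhs, map_mul, map_mul, map_inv]
    exact congrArg Subtype.val hconj
  rw [proj_eq_iff, hlhs] at hp
  have key : ((c : Co0)) = ((sgn (w + moved (toM σ) w) : monoSub) : Co0) ∨
      ((c : Co0)) = ((sgn (w + moved (toM σ) w) : monoSub) : Co0) * negC := by
    rcases hp with e | e
    · exact Or.inl (mul_right_cancel (show (c : Co0) * (p : Co0) = _ from e))
    · refine Or.inr (mul_right_cancel (b := (p : Co0)) ?_)
      rw [show (c : Co0) * (p : Co0) = _ from e, mul_assoc, mul_assoc, negC_central]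
  obtain ⟨u, hu, hcu⟩ : ∃ u : golayCode, (u = 0 ∨ u = wC.1) ∧ (c : Co0) = ((sgn u : monoSub) : Co0) := by
    rcases hc with rfl | rfl
    · exact ⟨0, Or.inl rfl, by rw [LeechGroup.sgn_zero]; rfl⟩
    · refine ⟨wC.1, Or.inr rfl, ?_⟩
      show ((elt 1 wC : monoSub) : Co0) = _
      rw [elt, map_one, mul_one]
  rw [hcu] at key
  have hone : ∀ a : golayCode, ((sgn a : monoSub) : Co0) * negC =
      ((sgn (a + ⟨1, one_mem_code⟩) : monoSub) : Co0) := fun a => by
    rw [sgn_add, Subgroup.coe_mul]; rfl
  rw [hone] at key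
  have two : ∀ x y o : GolayPt → ZMod 2, x = y + o → y = o + x := fun x y o e => by
    funext i
    rw [e, Pi.add_apply, Pi.add_apply, ← add_assoc, add_comm (o i) (y i), add_assoc,
      CharTwo.add_self_eq_zero, add_zero]
  rcases key with e | e <;> have e' := sgn_injective (Subtype.ext e) <;> rcases hu with rfl | rfl
  · exact hw0 e'.symm
  · exact hwC e'.symm
  · exact hw1 (Subtype.ext ((two _ _ _ (congrArg Subtype.val e')).trans (add_zero _)))
  · exact hw1C (Subtype.ext (two _ _ _ (congrArg Subtype.val e')))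

theorem genFitting_eq : Cfsg.generalizedFittingSubgroup C1 = psi.ker := by
  have : Finite Co0 := Nat.finite_of_card_ne_zero (by rw [LeechOrder.card_Co0]; norm_num)
  have : Finite Cfsg.Spor.Co1 := Quotient.finite _
  have : Fact (Nat.Prime 2) := ⟨Nat.prime_two⟩
  have hpg : IsPGroup 2 psi.ker := isExtraspecial_ker.1.1
  refine le_antisymm (Components.generalizedFitting_le_of_centralizer_le psi.ker ?_ centralizer_le) ?_
  · have := isSimple_L8
    have hn := Subgroup.Normal.map (f := psi) (H := Cfsg.fittingSubgroup C1) inferInstance psi_surjective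
    rcases hn.eq_bot_or_eq_top with h | h
    · exact (Subgroup.map_eq_bot_iff _).1 h
    · exfalso
      have : Group.IsNilpotent ↥((Cfsg.fittingSubgroup C1).map psi) :=
        Group.nilpotent_of_surjective _ (MonoidHom.subgroupMap_surjective psi _)
      have : Group.IsNilpotent L8 := by
        rw [h] at *
        exact Group.nilpotent_of_mulEquiv (Subgroup.topEquiv (G := L8))
      have : Group.IsSolvable L8 := inferInstance
      let : CommGroup L8 := { (inferInstance : Group L8) with mul_comm := IsSimpleGroup.comm_iff_isSolvable.2 inferInstance }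
      have hp := IsSimpleGroup.prime_card (α := L8)
      rw [card_L8] at hp
      norm_num at hp
  · have : Group.IsNilpotent psi.ker := hpg.isNilpotent
    exact (Solvable.Cores.le_fittingSubgroup inferInstance).trans
      Components.fittingSubgroup_le_generalizedFittingSubgroup

/-- The quotient by the extraspecial group. -/
noncomputable def quotEquiv :
    (C1 ⧸ psi.ker) ≃* Cfsg.Omega (ZMod 2) (Cfsg.quadFormPlus 4 (ZMod 2)) :=
  (QuotientGroup.quotientKerEquivOfSurjective psi psi_surjective).trans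
    (CfsgLib.Classical.omegaEquiv Q8 (CfsgLib.Orth.plusForm_apply 4)).symm

theorem orderOf_z1 : orderOf z1 = 2 := by
  refine orderOf_eq_prime ?_ fun h => ?_
  · rw [z1, ← map_pow, pow_two, tOct_eq, ← Subgroup.coe_mul, ← sgn_add]
    rw [show wO + wO = (0 : golayCode) from Subtype.ext (funext fun i => CharTwo.add_self_eq_zero _),
      LeechGroup.sgn_zero]
    exact map_one proj
  · rw [z1, ← map_one proj, tOct_eq, proj_eq_iff] at h
    rcases h with e | e
    · have := sgn_injective (a₁ := 0) (a₂ := wO) (by rw [LeechGroup.sgn_zero]; exact Subtype.ext e)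
      have := congrArg (fun x : golayCode => (x : GolayPt → ZMod 2) none) this
      revert this
      simp only [wO]
      decide +kernel
    · have e2 : negC = ((sgn wO : monoSub) : Co0) := by
        rw [← mul_one ((sgn wO : monoSub) : Co0), e, ← mul_assoc, ← Subgroup.coe_mul, ← sgn_add,
          show wO + wO = (0 : golayCode) from Subtype.ext (funext fun i => CharTwo.add_self_eq_zero _),
          LeechGroup.sgn_zero, Subgroup.coe_one, one_mul]
      have := congrArg (fun x : golayCode => (x : GolayPt → ZMod 2) (pt 3))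
        (sgn_injective (a₁ := ⟨1, one_mem_code⟩) (a₂ := wO) (Subtype.ext e2))
      revert this
      simp only [wO]
      decide +kernel

theorem exists_conjugate : ∃ g : Cfsg.Spor.Co1, (∃ hq : g * z1 * g⁻¹ ∈ C1,
    (⟨g * z1 * g⁻¹, hq⟩ : C1) ∈ psi.ker) ∧ g * z1 * g⁻¹ ≠ z1 := by
  have hn : ∃ n ∈ wl, pc n = 8 := by decide +kernel
  obtain ⟨n, hn, hpc⟩ := hn
  obtain ⟨h1, h2⟩ := List.mem_filter.1 hn
  obtain ⟨k, hk, rfl⟩ := mem_cw.1 h1
  have hoct : toSet (enc k) ∈ octads := mem_octads.2 ⟨enc k, mem_cwOfWeight.2 ⟨h1, hpc⟩, rfl⟩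
  obtain ⟨σ, hσ⟩ := Mathieu.octads_transitive oc_mem hoct
  let u : W0 := ⟨⟨word (enc k), word_enc_mem k⟩, fun q hq => by
    rw [beq_iff_eq] at h2
    rw [oc, mem_toSet] at hq
    have := congrArg (fun m => Nat.testBit m (idx q)) h2
    simp only [Nat.testBit_and, hq, Bool.and_true, Nat.zero_testBit] at this
    simp [word, this]⟩
  let m : monoSub := ⟨mono (σ, ⟨∅, LeechReach.empty_mem_CS⟩), LeechGroup.mono_mem _⟩
  have hmv : moved σ wO = u.1 := by
    refine Subtype.ext (funext fun q => ?_)
    show word octX ((σ : Equiv.Perm GolayPt)⁻¹ q) = word (enc k) q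
    have e : (σ : Equiv.Perm GolayPt)⁻¹ q ∈ oc ↔ q ∈ toSet (enc k) := by
      rw [← hσ, ← Finset.inv_smul_mem_iff]
      rfl
    simp only [oc, mem_toSet] at e
    simp only [word, e]
  have hc : (m : Co0) * tOct * (m : Co0)⁻¹ = ((sgn u.1 : monoSub) : Co0) := by
    rw [tOct_eq, ← Subgroup.coe_inv, ← Subgroup.coe_mul, ← Subgroup.coe_mul, sgn_conj,
      show LeechGroup.permOf m = σ from LeechGroup.permOf_spec (g := m) (p := (σ, ⟨∅, _⟩)) rfl, hmv]
  have hu : ((sgn u.1 : monoSub) : Co0) ∈ qCo := by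
    have := elt_mem 1 u
    rwa [elt, map_one, mul_one] at this
  have hg : proj (m : Co0) * z1 * (proj (m : Co0))⁻¹ = (fC ⟨_, qCo_le hu⟩ : Cfsg.Spor.Co1) := by
    rw [z1, ← map_inv, ← map_mul, ← map_mul, hc]
    rfl
  refine ⟨proj (m : Co0), ⟨hg ▸ (fC ⟨_, qCo_le hu⟩).2, ?_⟩, ?_⟩
  · rw [MonoidHom.mem_ker]
    refine Eq.trans (congrArg psi (Subtype.ext hg)) ?_
    rw [psi_fC]
    exact Subtype.ext ((rep_eq_one_iff _).2 (Or.inl hu))
  · intro e
    rw [z1, ← map_inv, ← map_mul, ← map_mul, hc, tOct_eq, proj_eq_iff] at e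
    have hz : ((u.1 : golayCode) : GolayPt → ZMod 2) none = 0 :=
      u.2 none (by rw [oc, mem_toSet]; decide +kernel)
    rcases e with e | e
    · have := congrArg (fun x : golayCode => (x : GolayPt → ZMod 2) none) (sgn_injective (Subtype.ext e))
      simp only [hz] at this
      revert this
      decide +kernel
    · have e2 : sgn wO = sgn (u.1 + ⟨1, one_mem_code⟩) := by
        rw [sgn_add]; exact Subtype.ext e
      have h3 := sgn_injective e2
      obtain ⟨q, hq1, hq2⟩ : ∃ q, q ∉ oc ∧ (u.1 : GolayPt → ZMod 2) q = 0 := by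
        by_contra hall
        push Not at hall
        have hsub : ocᶜ ⊆ toSet (enc k) := fun q hq => by
          have := hall q (Finset.mem_compl.1 hq)
          simp only [u, word] at this
          rw [mem_toSet]
          by_contra hh
          simp [hh] at this
        have := Finset.card_le_card hsub
        rw [Finset.card_compl, card_golayPt, oc_mem.2, hoct.2] at this
        omega
      have := congrArg (fun x : golayCode => (x : GolayPt → ZMod 2) q) h3
      simp only [wO, Submodule.coe_add, Pi.add_apply, hq2] at this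
      rw [oc, mem_toSet] at hq1
      simp [word, hq1] at this

theorem main : ∃ z : Cfsg.Spor.Co1, orderOf z = 2 ∧
    ∃ (Q : Subgroup (Subgroup.centralizer ({z} : Set Cfsg.Spor.Co1))) (_ : Q.Normal),
      Cfsg.generalizedFittingSubgroup (Subgroup.centralizer ({z} : Set Cfsg.Spor.Co1)) = Q ∧
      Cfsg.IsExtraspecial 2 Q ∧ Nat.card Q = 2 ^ 9 ∧
      Nonempty ((Subgroup.centralizer ({z} : Set Cfsg.Spor.Co1)) ⧸ Q ≃*
        Cfsg.Omega (ZMod 2) (Cfsg.quadFormPlus 4 (ZMod 2))) ∧
      ∃ g : Cfsg.Spor.Co1, (∃ hq : g * z * g⁻¹ ∈ Subgroup.centralizer ({z} : Set Cfsg.Spor.Co1),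
        (⟨g * z * g⁻¹, hq⟩ : Subgroup.centralizer ({z} : Set Cfsg.Spor.Co1)) ∈ Q) ∧ g * z * g⁻¹ ≠ z :=
  ⟨z1, orderOf_z1, psi.ker, inferInstance, genFitting_eq, isExtraspecial_ker, card_ker, ⟨quotEquiv⟩,
    exists_conjugate⟩

end CfsgLib.Sporadic.Co1Centralizer
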