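import Cfsg.Agent.Lib.Sporadic.Co1Centralizer
import Cfsg.Agent.Lib.Classical.SympMatrixSimple

/-!
# An involution centraliser in the stabiliser of a minimal vector

The negative of the sign change on an octad fixes a minimal vector supported on the octad.  The part of
its centraliser fixing that vector acts on the orthogonal complement of a non-singular vector modulo
that vector, as the symplectic group in dimension 6, with kernel the extraspecial group.
-/

set_option autoImplicit false
set_option maxRecDepth 10000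

namespace CfsgLib.Sporadic.Co2Centralizer

open Cfsg CfsgLib.SmallGroups.Golay CfsgLib.SmallGroups CfsgLib.Sporadic.LeechE8
  CfsgLib.Sporadic.LeechE8Data CfsgLib.Sporadic.Co1Centralizer
open CfsgLib.SmallGroups.LeechGroup (sgn)
open scoped Pointwise

/-- The index set in dimension 6. -/
abbrev J6 : Type := Fin 3 ⊕ Fin 3

/-- The anisotropic vector. -/
def u8 : J8 → ZMod 2 := Sum.elim (fun i => if i = 0 then 1 else 0) fun i => if i = 0 then 1 else 0

/-- The last six coordinates as vectors. -/
def inj6 : (J6 → ZMod 2) →ₗ[ZMod 2] (J8 → ZMod 2) where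
  toFun w := Sum.elim (Fin.cases 0 fun k => w (.inl k)) (Fin.cases 0 fun k => w (.inr k))
  map_add' a b := by
    funext i
    rcases i with i | i <;> refine Fin.cases ?_ (fun k => ?_) i <;> simp
  map_smul' c a := by
    funext i
    rcases i with i | i <;> refine Fin.cases ?_ (fun k => ?_) i <;> simp

/-- The last six coordinates. -/
def prj6 : (J8 → ZMod 2) →ₗ[ZMod 2] (J6 → ZMod 2) where
  toFun x := Sum.elim (fun k => x (.inl k.succ)) fun k => x (.inr k.succ)
  map_add' a b := by funext i; rcases i with i | i <;> rfl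
  map_smul' c a := by funext i; rcases i with i | i <;> rfl

theorem prj_inj (w : J6 → ZMod 2) : prj6 (inj6 w) = w := by
  funext i; rcases i with i | i <;> simp [prj6, inj6]

theorem prj_u8 : prj6 u8 = 0 := by
  funext i; rcases i with i | i <;> simp [prj6, u8]

/-- The pairing. -/
def pol (x y : J8 → ZMod 2) : ZMod 2 := ∑ j, x j * y j.swap

theorem pol_eq (x y : J8 → ZMod 2) : pol x y = QuadraticMap.polar Q8 x y := by
  rw [QuadraticMap.polar, plus_polar, pol]
  abel

theorem pol_split (x y : J8 → ZMod 2) :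
    pol x y = x (.inl 0) * y (.inr 0) + x (.inr 0) * y (.inl 0) + Cfsg.sympForm 3 (ZMod 2) (prj6 x) (prj6 y) := by
  rw [CfsgLib.Classical.sympForm_eq]
  simp only [pol, Fintype.sum_sum_type, Sum.swap_inl, Sum.swap_inr, Fin.sum_univ_four,
    Fin.sum_univ_three, prj6, LinearMap.coe_mk, AddHom.coe_mk, Sum.elim_inl, Sum.elim_inr,
    CharTwo.sub_eq_add]
  rw [show (Fin.succ 0 : Fin 4) = 1 from rfl, show (Fin.succ 1 : Fin 4) = 2 from rfl,
    show (Fin.succ 2 : Fin 4) = 3 from rfl]
  ring

theorem pol_u8 (x : J8 → ZMod 2) : pol u8 x = x (.inl 0) + x (.inr 0) := by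
  rw [pol_split, prj_u8]
  simp [u8, Cfsg.sympForm, add_comm]

theorem Q8_u8 : Q8 u8 = 1 := by
  rw [← CfsgLib.Orth.plusForm_apply, Cfsg.quadFormPlus]
  simp [u8]

theorem decompose (x : J8 → ZMod 2) :
    x = inj6 (prj6 x) + Sum.elim (fun i => if i = 0 then x (.inl 0) else 0)
      (fun i => if i = 0 then x (.inr 0) else 0) := by
  funext i
  rcases i with i | i <;> refine Fin.cases ?_ (fun k => ?_) i <;> simp [inj6, prj6, Fin.succ_ne_zero]

theorem perp_decompose {x : J8 → ZMod 2} (h : pol u8 x = 0) :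
    x = inj6 (prj6 x) + x (.inl 0) • u8 := by
  conv_lhs => rw [decompose x]
  rw [pol_u8, CharTwo.add_eq_zero] at h
  congr 1
  funext i
  rcases i with i | i <;> by_cases hi : i = 0 <;> simp [u8, hi, h]

theorem pol_u8_inj (w : J6 → ZMod 2) : pol u8 (inj6 w) = 0 := by
  rw [pol_u8]; simp [inj6]

/-- The stabiliser of the anisotropic vector in the orthogonal group. -/
def stU : Subgroup (CfsgLib.Orth.orthGroup Q8) where
  carrier := {h | h.1 u8 = u8}
  one_mem' := rfl
  mul_mem' := fun {a b} ha hb => by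
    show a.1 (b.1 u8) = u8
    rw [hb, ha]
  inv_mem' := fun {a} ha => by
    show a.1.symm u8 = u8
    rw [LinearEquiv.symm_apply_eq, ha]

theorem pol_invariant (h : CfsgLib.Orth.orthGroup Q8) (x y : J8 → ZMod 2) :
    pol (h.1 x) (h.1 y) = pol x y := by
  rw [pol_eq, pol_eq, CfsgLib.Orth.polar_isom]

theorem image_inj (h : stU) (w : J6 → ZMod 2) :
    h.1.1 (inj6 w) = inj6 (prj6 (h.1.1 (inj6 w))) + (h.1.1 (inj6 w)) (.inl 0) • u8 := by
  refine perp_decompose ?_
  have e := pol_invariant h.1 u8 (inj6 w)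
  rw [h.2, pol_u8_inj] at e
  exact e

/-- The induced map in dimension 6. -/
noncomputable def mat6 (h : stU) : Matrix J6 J6 (ZMod 2) :=
  LinearMap.toMatrix' (prj6.comp ((h.1.1 : (J8 → ZMod 2) →ₗ[ZMod 2] (J8 → ZMod 2)).comp inj6))

theorem mat6_mulVec (h : stU) (w : J6 → ZMod 2) :
    Matrix.mulVec (mat6 h) w = prj6 (h.1.1 (inj6 w)) := by
  rw [mat6, LinearMap.toMatrix'_mulVec]; rfl

theorem mat6_mem (h : stU) : mat6 h ∈ Matrix.symplecticGroup (Fin 3) (ZMod 2) := by
  rw [CfsgLib.Classical.mem_symplecticGroup_iff_preserves]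
  intro x y
  rw [mat6_mulVec, mat6_mulVec]
  have key : ∀ a b : J8 → ZMod 2, pol u8 a = 0 → pol u8 b = 0 →
      Cfsg.sympForm 3 (ZMod 2) (prj6 a) (prj6 b) = pol a b := by
    intro a b ha hb
    rw [pol_u8, CharTwo.add_eq_zero] at ha hb
    rw [pol_split a b, ha, hb, CharTwo.add_self_eq_zero, zero_add]
  have hp : ∀ w, pol u8 (h.1.1 (inj6 w)) = 0 := fun w => by
    have e := pol_invariant h.1 u8 (inj6 w)
    rw [h.2, pol_u8_inj] at e
    exact e
  rw [key _ _ (hp x) (hp y), pol_invariant]
  conv_rhs => rw [← prj_inj x, ← prj_inj y]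
  exact (key _ _ (pol_u8_inj x) (pol_u8_inj y)).symm

/-- The symplectic representation of the stabiliser. -/
noncomputable def toSp : stU →* Matrix.symplecticGroup (Fin 3) (ZMod 2) :=
  MonoidHom.mk' (fun h => ⟨mat6 h, mat6_mem h⟩) fun a b => by
    refine Subtype.ext (Matrix.ext_of_mulVec_single fun i => ?_)
    show Matrix.mulVec (mat6 (a * b)) _ = Matrix.mulVec (mat6 a * mat6 b) _
    rw [← Matrix.mulVec_mulVec, mat6_mulVec, mat6_mulVec, mat6_mulVec]
    show prj6 (a.1.1 (b.1.1 _)) = _
    conv_lhs => rw [image_inj b]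
    rw [map_add, map_smul, a.2, map_add, map_smul, prj_u8, smul_zero, add_zero]

theorem ker_toSp {h : stU} (hh : toSp h = 1) : h.1 = 1 ∨ h.1 = CfsgLib.Orth.refl Q8 u8 := by
  have hfix : ∀ w, h.1.1 (inj6 w) = inj6 w := by
    intro w
    have e1 := image_inj h w
    have hm : mat6 h = 1 := congrArg Subtype.val hh
    rw [← mat6_mulVec, hm, Matrix.one_mulVec] at e1
    set a := (h.1.1 (inj6 w)) (.inl 0) with ha
    have e2 : Q8 (h.1.1 (inj6 w)) = Q8 (inj6 w) := CfsgLib.Orth.apply_quad h.1 _
    rw [e1, plus_polar, QuadraticMap.map_smul, Q8_u8] at e2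
    have e3 : ∑ j, inj6 w j * (a • u8) j.swap = 0 := by
      have h0 := pol_u8_inj w
      rw [pol_eq, QuadraticMap.polar_comm, ← pol_eq] at h0
      rw [show (∑ j, inj6 w j * (a • u8) j.swap) = a * pol (inj6 w) u8 by
        rw [pol, Finset.mul_sum]
        exact Finset.sum_congr rfl fun j _ => by rw [Pi.smul_apply, smul_eq_mul]; ring, h0, mul_zero]
    rw [e3, add_zero, smul_eq_mul, mul_one, add_eq_left, mul_self_eq_zero] at e2
    rw [e1, e2, zero_smul, add_zero]
  set b : J8 → ZMod 2 := Pi.single (.inl 0) 1 with hb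
  set y := h.1.1 b with hy
  have hpy : prj6 y = 0 := by
    funext i
    have key : ∀ w, Cfsg.sympForm 3 (ZMod 2) (prj6 y) w = 0 := fun w => by
      have e := pol_invariant h.1 b (inj6 w)
      rw [hfix, pol_split y, pol_split b, prj_inj] at e
      simpa [inj6, hb, prj6, Cfsg.sympForm] using e
    have k1 := key (Pi.single i.swap 1)
    rw [CfsgLib.Classical.sympForm_eq] at k1
    rcases i with i | i <;>
      simpa [Pi.single_apply, Fin.sum_univ_three, CharTwo.sub_eq_add] using k1
  have hu : y (.inl 0) + y (.inr 0) = 1 := by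
    have e := pol_invariant h.1 u8 b
    rw [h.2, pol_u8, pol_u8] at e
    simpa [hb] using e
  have hall : ∀ x, h.1.1 x = inj6 (prj6 x) + x (.inl 0) • y + x (.inr 0) • (u8 + y) := by
    intro x
    have e : x = inj6 (prj6 x) + x (.inl 0) • b + x (.inr 0) • (u8 + b) := by
      conv_lhs => rw [decompose x]
      rw [add_assoc]
      congr 1
      funext i
      rcases i with i | i <;> by_cases hi : i = 0 <;> simp [u8, hb, hi, CharTwo.add_self_eq_zero]
    conv_lhs => rw [e]
    rw [map_add, map_add, map_smul, map_smul, map_add, hfix, h.2]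
  have hy0 := decompose y
  rw [hpy, map_zero, zero_add] at hy0
  have cases : ∀ s t : ZMod 2, s + t = 1 → (s = 1 ∧ t = 0) ∨ (s = 0 ∧ t = 1) := by decide
  rcases cases _ _ hu with ⟨h1, h2⟩ | ⟨h1, h2⟩
  · left
    refine Subtype.ext (LinearEquiv.ext fun x => ?_)
    show h.1.1 x = x
    rw [hall, hy0, h1, h2]
    conv_rhs => rw [decompose x]
    rw [add_assoc]
    congr 1
    funext i
    rcases i with i | i <;> by_cases hi : i = 0 <;> simp [u8, hi, CharTwo.add_self_eq_zero]
  · right
    refine Subtype.ext (LinearEquiv.ext fun x => ?_)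
    rw [hall, hy0, h1, h2, CfsgLib.Orth.refl_apply, Q8_u8, inv_one, one_mul, ← pol_eq, pol_u8,
      sub_eq_add_neg]
    conv_rhs => enter [1]; rw [decompose x]
    rw [add_assoc, add_assoc]
    congr 1
    funext i
    rcases i with i | i <;> by_cases hi : i = 0 <;>
      simp [u8, hi, CharTwo.neg_eq, CharTwo.add_self_eq_zero]
    all_goals
      have key : ∀ s t : ZMod 2, s = t + (t + s) := by decide
      first
        | exact key _ _
        | (rw [add_comm (x (.inl 0)) (x (.inr 0))]; exact key _ _)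

theorem refl_not_mem : CfsgLib.Orth.refl Q8 u8 ∉ commutator (CfsgLib.Orth.orthGroup Q8) := by
  intro hmem
  have hQ := CfsgLib.Orth.plusForm_nondeg (F := ZMod 2) 4
  have hi : (commutator (CfsgLib.Orth.orthGroup Q8)).index = 2 :=
    CfsgLib.Classical.index_commutator_two (Q := Q8) hQ good8
      (by simp [Module.finrank_fintype_fun_eq_card])
  have hall : ∀ g : CfsgLib.Orth.orthGroup Q8, g ∈ commutator (CfsgLib.Orth.orthGroup Q8) := by
    intro g
    obtain ⟨s, hs, e⟩ := CfsgLib.Orth.exists_mem_ab_eq hQ good8 (commutator (CfsgLib.Orth.orthGroup Q8))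
      (fun a ha => ⟨_, hmem, CfsgLib.Orth.ab_refl_eq hQ good8 (by rw [Q8_u8]; exact one_ne_zero) ha (by
        rw [Q8_u8, one_mul]
        exact FiniteField.isSquare_of_char_two (ringChar.eq (ZMod 2) 2) _)⟩) g
    rw [CfsgLib.Orth.mem_commutator_iff] at hs ⊢
    rw [← e, hs]
  have htop : commutator (CfsgLib.Orth.orthGroup Q8) = ⊤ := eq_top_iff.2 fun g _ => hall g
  rw [htop, Subgroup.index_top] at hi
  omega

/-- The part of the centraliser fixing the minimal vector. -/
noncomputable abbrev KU : Subgroup cen := MulAction.stabilizer cen rootU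

theorem phi_rootU : phi ⟨rootU, rootU_mem.1⟩ = u8 := by
  funext i
  revert i
  decide +kernel

/-- Restriction to the stabiliser of the anisotropic vector. -/
noncomputable def repU : KU →* stU :=
  MonoidHom.mk' (fun g => ⟨rep g.1, by
    show (rep g.1).1 u8 = u8
    rw [← phi_rootU, rep_phi]
    exact congrArg phi (Subtype.ext g.2)⟩) fun a b => Subtype.ext (map_mul rep a.1 b.1)

/-- The symplectic representation of the centraliser. -/
noncomputable def sig : KU →* Matrix.symplecticGroup (Fin 3) (ZMod 2) := toSp.comp repU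

theorem qCo_fix (q : qCo) : (q : Co0) • rootU = rootU := q.2 _ rootU_mem.1

/-- The extraspecial group inside. -/
noncomputable def incK : qCo →* sig.ker :=
  ((Subgroup.inclusion qCo_le).codRestrict KU qCo_fix).codRestrict _ fun q => by
    rw [MonoidHom.mem_ker, sig, MonoidHom.comp_apply]
    have : repU (((Subgroup.inclusion qCo_le).codRestrict KU qCo_fix) q) = 1 :=
      Subtype.ext ((rep_eq_one_iff _).2 (Or.inl q.2))
    rw [this, map_one]

theorem incK_bijective : Function.Bijective incK := by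
  constructor
  · intro a b h
    exact Subtype.ext (congrArg (fun x : sig.ker => ((x.1.1 : cen) : Co0)) h)
  · rintro ⟨g, hg⟩
    have h1 : rep g.1 = 1 := by
      rcases ker_toSp (h := repU g) hg with h | h
      · exact h
      · exact absurd (h ▸ (range_rep ▸ ⟨g.1, rfl⟩ : rep g.1 ∈ commutator _)) refl_not_mem
    rcases (rep_eq_one_iff g.1).1 h1 with h | h
    · exact ⟨⟨_, h⟩, rfl⟩
    · exfalso
      have e := h _ rootU_mem.1
      rw [mul_smul, show ((g.1 : cen) : Co0) • rootU = rootU from g.2, negC_apply] at e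
      have := congrArg (fun v : leechLattice => (v : GolayPt → ℤ) none) e
      simp only [NegMemClass.coe_neg, Pi.neg_apply] at this
      revert this
      decide +kernel

theorem card_sigKer : Nat.card sig.ker = 512 := by
  rw [← Nat.card_congr (Equiv.ofBijective _ incK_bijective), card_qCo]

theorem card_KU : Nat.card KU = 743178240 := by
  have h := KU.card_mul_index
  rw [MulAction.index_stabilizer, orbit32, ncard_shellSet (by norm_num), shell_length.1, card_cen] at h
  omega

theorem card_Sp6 : Nat.card (Matrix.symplecticGroup (Fin 3) (ZMod 2)) = 1451520 := by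
  rw [CfsgLib.Classical.card_symplecticGroup, ZMod.card]
  decide

theorem sig_surjective : Function.Surjective sig := by
  have : Finite (Matrix.symplecticGroup (Fin 3) (ZMod 2)) :=
    Nat.finite_of_card_ne_zero (by rw [card_Sp6]; norm_num)
  rw [← MonoidHom.range_eq_top]
  refine Subgroup.eq_top_of_card_eq _ ?_
  have h := sig.ker.card_mul_index
  rw [Subgroup.index_ker, card_sigKer, card_KU] at h
  rw [card_Sp6]
  omega

theorem isSimple_Sp6 : IsSimpleGroup (Matrix.symplecticGroup (Fin 3) (ZMod 2)) := by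
  have hb : Subgroup.center (Matrix.symplecticGroup (Fin 3) (ZMod 2)) = ⊥ := by
    rw [eq_bot_iff]
    intro A hA
    rw [Subgroup.mem_bot]
    refine Subtype.ext ?_
    rcases CfsgLib.Classical.sp_center_eq 3 hA with h | h
    · exact h
    · rw [h]
      ext i j
      exact CharTwo.neg_eq _
  have hs := CfsgLib.Classical.psp_isSimpleGroup (F := ZMod 2) 3 (by norm_num) (by norm_num)
  exact ((QuotientGroup.quotientMulEquivOfEq hb).trans QuotientGroup.quotientBot).symm.isSimpleGroup

theorem pCore_KU : Cfsg.pCore 2 KU = sig.ker := by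
  have : Fact (Nat.Prime 2) := ⟨Nat.prime_two⟩
  have : Finite KU := Nat.finite_of_card_ne_zero (by rw [card_KU]; norm_num)
  refine le_antisymm ?_ (Solvable.Cores.le_pCore (IsPGroup.of_card (n := 9) (by rw [card_sigKer]; norm_num)))
  have hn := Subgroup.Normal.map (f := sig) (H := Cfsg.pCore 2 KU) inferInstance sig_surjective
  have := isSimple_Sp6
  rcases hn.eq_bot_or_eq_top with h | h
  · exact (Subgroup.map_eq_bot_iff _).1 h
  · exfalso
    have hp := (Solvable.Cores.isPGroup_pCore (G := KU) 2).map sig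
    rw [h] at hp
    have : Finite (Matrix.symplecticGroup (Fin 3) (ZMod 2)) :=
      Nat.finite_of_card_ne_zero (by rw [card_Sp6]; norm_num)
    obtain ⟨n, hn⟩ := IsPGroup.iff_card.1 hp
    rw [Subgroup.card_top, card_Sp6] at hn
    rcases Nat.lt_or_ge n 21 with h1 | h1
    · interval_cases n <;> norm_num at hn
    · have := Nat.pow_le_pow_right (show 1 ≤ 2 by norm_num) h1
      omega

/-! ### Transport to the group of the definitions -/

theorem leechU_eq : Cfsg.Spor.leechU = rootU := by
  refine Subtype.ext (funext fun q => ?_)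
  show Cfsg.Spor.vecU q = ext8 (yOf [2, 0, 0, 0, 0, 0, 0, 2]) q
  revert q
  decide +kernel

/-- An element of the stabiliser as an element of `Co0`. -/
def toCo0 : Cfsg.Spor.Co2 →* Co0 := Subgroup.inclusion inf_le_left

theorem toCo0_fix (g : Cfsg.Spor.Co2) : toCo0 g • rootU = rootU := leechU_eq ▸ g.2.2

/-- An automorphism fixing the vector as an element of the stabiliser. -/
def ofCo0 (g : Co0) (hg : g • rootU = rootU) : Cfsg.Spor.Co2 := ⟨g.1, g.2, by
  show g.1 • Cfsg.Spor.leechU = Cfsg.Spor.leechU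
  rw [leechU_eq]
  exact hg⟩

/-- The involution. -/
noncomputable def t2 : Cfsg.Spor.Co2 := ofCo0 (zQ : Co0) (qCo_fix zQ)

theorem zQ_coe : (zQ : Co0) = negC * tOct := by
  show ((elt 1 wC : LeechGroup.monoSub) : Co0) = _
  rw [elt, map_one, mul_one, tOct_eq, negC, ← Subgroup.coe_mul, ← LeechGroup.sgn_add]
  rfl

theorem comm_zQ_iff (g : Co0) : g * (zQ : Co0) = (zQ : Co0) * g ↔ g ∈ cen := by
  rw [Subgroup.mem_centralizer_singleton_iff, zQ_coe, ← mul_assoc, negC_central, mul_assoc, mul_assoc]
  exact mul_right_inj negC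

/-- The centraliser, seen in `Co0`. -/
noncomputable def centEquiv : KU ≃* Subgroup.centralizer ({t2} : Set Cfsg.Spor.Co2) where
  toFun g := ⟨ofCo0 ((g : cen) : Co0) g.2, Subgroup.mem_centralizer_singleton_iff.2
    (Subtype.ext (congrArg (fun x : Co0 => (x : Equiv.Perm leechLattice))
      ((comm_zQ_iff _).2 (g : cen).2)))⟩
  invFun g := ⟨⟨toCo0 g.1, (comm_zQ_iff _).1 (Subtype.ext
    (congrArg (fun x : Cfsg.Spor.Co2 => (x : Equiv.Perm leechLattice))
      (Subgroup.mem_centralizer_singleton_iff.1 g.2)))⟩, toCo0_fix g.1⟩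
  left_inv g := rfl
  right_inv g := rfl
  map_mul' a b := rfl

theorem orderOf_t2 : orderOf t2 = 2 := by
  have h1 : orderOf t2 = orderOf (zQ : Co0) :=
    (orderOf_injective toCo0 (Subgroup.inclusion_injective _) t2).symm
  rw [h1, Subgroup.orderOf_coe]
  refine orderOf_eq_prime ?_ zQ_ne_one
  rw [pow_two, ← eqv_one, zQ, eqv_mul, act_one, one_mul]
  congr 2
  exact Subtype.ext (Subtype.ext (funext fun i => CharTwo.add_self_eq_zero _))

theorem map_pCore {G H : Type*} [Group G] [Group H] (e : G ≃* H) :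
    (Cfsg.pCore 2 G).map e.toMonoidHom = Cfsg.pCore 2 H := by
  refine le_antisymm ?_ ?_
  · have := Subgroup.Normal.map (f := e.toMonoidHom) (H := Cfsg.pCore 2 G) inferInstance e.surjective
    exact Solvable.Cores.le_pCore ((Solvable.Cores.isPGroup_pCore 2).map _)
  · have := Subgroup.Normal.map (f := e.symm.toMonoidHom) (H := Cfsg.pCore 2 H) inferInstance e.symm.surjective
    have h := Solvable.Cores.le_pCore (G := G) (N := (Cfsg.pCore 2 H).map e.symm.toMonoidHom)
      ((Solvable.Cores.isPGroup_pCore 2).map _)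
    intro x hx
    exact ⟨e.symm x, h ⟨x, hx, rfl⟩, e.apply_symm_apply x⟩

theorem main : ∃ t : Cfsg.Spor.Co2, orderOf t = 2 ∧
    Cfsg.IsExtraspecial 2 (Cfsg.pCore 2 (Subgroup.centralizer ({t} : Set Cfsg.Spor.Co2))) ∧
    Nat.card (Cfsg.pCore 2 (Subgroup.centralizer ({t} : Set Cfsg.Spor.Co2))) = 2 ^ 9 ∧
    Nonempty ((Subgroup.centralizer ({t} : Set Cfsg.Spor.Co2)) ⧸
      Cfsg.pCore 2 (Subgroup.centralizer ({t} : Set Cfsg.Spor.Co2)) ≃*
        Matrix.symplecticGroup (Fin 3) (ZMod 2)) := by
  have : Finite KU := Nat.finite_of_card_ne_zero (by rw [card_KU]; norm_num)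
  have : Finite (Subgroup.centralizer ({t2} : Set Cfsg.Spor.Co2)) := Finite.of_equiv _ centEquiv.toEquiv
  have hE : Cfsg.IsExtraspecial 2 sig.ker :=
    ThreeTransp.Simplicity.isExtraspecial_of_equiv (MulEquiv.ofBijective _ incK_bijective) isExtraspecial_qCo
  have hP := map_pCore centEquiv
  rw [pCore_KU] at hP
  have e : sig.ker ≃* Cfsg.pCore 2 (Subgroup.centralizer ({t2} : Set Cfsg.Spor.Co2)) :=
    (sig.ker.equivMapOfInjective centEquiv.toMonoidHom centEquiv.injective).trans (MulEquiv.subgroupCongr hP)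
  refine ⟨t2, orderOf_t2, ThreeTransp.Simplicity.isExtraspecial_of_equiv e hE, ?_, ⟨?_⟩⟩
  · rw [← Nat.card_congr e.toEquiv, card_sigKer]; norm_num
  · exact (QuotientGroup.congr sig.ker _ centEquiv hP).symm.trans
      (QuotientGroup.quotientKerEquivOfSurjective sig sig_surjective)

end CfsgLib.Sporadic.Co2Centralizer
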