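import Cfsg.Agent.Lib.Sporadic.CosetCertGroup

/-!
# Consequences of certificates: index, suborbits, order, simplicity
-/

namespace CfsgLib.Sporadic.CosetCert

/-- Card bound along one step of a chain of subgroups. -/
theorem card_le_of_relIndex {G : Type*} [Group G] {K H : Subgroup G} (hKH : K ≤ H) {n m : ℕ}
    (hi : K.relIndex H ≤ n ∧ K.relIndex H ≠ 0) (hm : Nat.card K ≤ m ∧ Nat.card K ≠ 0) :
    Nat.card H ≤ n * m ∧ Nat.card H ≠ 0 := by
  have h := Subgroup.relIndex_mul_relIndex ⊥ K H bot_le hKH
  rw [Subgroup.relIndex_bot_left, Subgroup.relIndex_bot_left] at h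
  rw [← h]
  refine ⟨?_, mul_ne_zero hm.2 hi.2⟩
  rw [mul_comm n m]
  exact Nat.mul_le_mul hm.1 hi.1

theorem card_closure_involution {G : Type*} [Group G] {x : G} (hx : x * x = 1) :
    Nat.card (Subgroup.closure {x}) ≤ 2 ∧ Nat.card (Subgroup.closure {x}) ≠ 0 := by
  rw [← Subgroup.zpowers_eq_closure, Nat.card_zpowers]
  have h : x ^ 2 = 1 := by rw [pow_two, hx]
  exact ⟨Nat.le_of_dvd (by norm_num) (orderOf_dvd_of_pow_eq_one h),
    (orderOf_pos_iff.2 (isOfFinOrder_iff_pow_eq_one.2 ⟨2, by norm_num, h⟩)).ne'⟩

section Action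

variable {G : Type*} [Group G] {N : ℕ} (φ : G →* Equiv.Perm (Fin N)) (b : Fin N)
  (K : Subgroup G)

/-- A subgroup fixing a point of a transitive action, of index at most the number of points, is
the stabiliser. -/
theorem exists_quotient_equiv (hK : ∀ k ∈ K, φ k b = b) (htr : ∀ u, ∃ a, φ a b = u)
    (hle : K.index ≤ N ∧ K.index ≠ 0) :
    K.index = N ∧ ∃ e : G ⧸ K ≃ Fin N, (∀ a : G, e (a : G ⧸ K) = φ a b) ∧
      (∀ (a : G) (q : G ⧸ K), e (a • q) = φ a (e q)) := by
  let f : G ⧸ K → Fin N := Quotient.lift (fun a => φ a b) (by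
    intro a a' h
    have h2 : a⁻¹ * a' ∈ K := QuotientGroup.leftRel_apply.1 h
    have h3 := hK _ h2
    rw [map_mul, map_inv, Equiv.Perm.mul_apply, Equiv.Perm.inv_def, Equiv.symm_apply_eq] at h3
    exact h3.symm)
  have hsurj : Function.Surjective f := fun u => by
    obtain ⟨a, ha⟩ := htr u
    exact ⟨(a : G ⧸ K), ha⟩
  have : Finite (G ⧸ K) := Nat.finite_of_card_ne_zero hle.2
  have hN : N ≤ K.index := by
    show N ≤ Nat.card (G ⧸ K)
    simpa using Nat.card_le_card_of_surjective f hsurj
  have heq : K.index = N := le_antisymm hle.1 hN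
  have hbij : Function.Bijective f :=
    (Nat.bijective_iff_surjective_and_card f).2 ⟨hsurj, by
      show K.index = _
      simpa using heq⟩
  refine ⟨heq, Equiv.ofBijective f hbij, fun a => rfl, fun a q => ?_⟩
  induction q using QuotientGroup.induction_on with
  | _ z =>
    show φ (a * z) b = φ a (φ z b)
    rw [map_mul]
    rfl

/-- Suborbits on cosets are orbits of the image. -/
theorem orbit_ncard_eq {e : G ⧸ K ≃ Fin N} (he : ∀ (a : G) (q : G ⧸ K), e (a • q) = φ a (e q))
    (H : Subgroup G) (P : Subgroup (Equiv.Perm (Fin N))) (hP : H.map φ = P) (q : G ⧸ K) :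
    (MulAction.orbit H q).ncard = (MulAction.orbit P (e q)).ncard := by
  rw [← Set.ncard_image_of_injective _ e.injective]
  congr 1
  ext u
  constructor
  · rintro ⟨_, ⟨⟨a, ha⟩, rfl⟩, rfl⟩
    exact ⟨⟨φ a, hP ▸ Subgroup.mem_map_of_mem φ ha⟩, (he a q).symm⟩
  · rintro ⟨⟨π, hπ⟩, rfl⟩
    rw [← hP, Subgroup.mem_map] at hπ
    obtain ⟨a, ha, rfl⟩ := hπ
    exact ⟨a • q, ⟨⟨a, ha⟩, rfl⟩, he a q⟩

/-- A simplicity criterion for transitive groups of known order. -/
theorem isSimpleGroup_of [Finite G] (hinj : Function.Injective φ) (htr : ∀ u, ∃ a, φ a b = u)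
    (H : Subgroup G) (hH : ∀ k ∈ H, φ k b = b) (orbs : List (Finset (Fin N)))
    (horb : ∀ O ∈ orbs, ∃ u, (O : Set (Fin N)) = MulAction.orbit (H.map φ) u)
    (hnb : ∀ O ∈ orbs, b ∉ O) (hdisj : orbs.Pairwise Disjoint)
    (hsum : (orbs.map Finset.card).sum + 1 = N)
    (hblock : ∀ I ∈ orbs.sublists, I ≠ [] → I.length ≠ orbs.length →
      ¬ ((I.map Finset.card).sum + 1) ∣ N)
    {p k m : ℕ} (hp : p.Prime) (hG : Nat.card G = p ^ k * m) (hm : ¬ p ∣ m) (hN : p ^ k ∣ N)
    (t : G) (j : ℕ) (ht : t ^ p ^ j = 1)
    (hgen : ∀ M : Subgroup G, M.Normal → t ∈ M → M = ⊤) (hN2 : 2 ≤ N) :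
    IsSimpleGroup G := by
  classical
  have hnt : Nontrivial G := by
    obtain ⟨u, hu⟩ : ∃ u : Fin N, u ≠ b := by
      have : Nontrivial (Fin N) := Fin.nontrivial_iff_two_le.2 hN2
      exact exists_ne b
    obtain ⟨a, ha⟩ := htr u
    exact ⟨⟨a, 1, fun e => hu (by rw [← ha, e, map_one]; rfl)⟩⟩
  refine ⟨fun M hM => ?_⟩
  let : MulAction G (Fin N) := MulAction.compHom _ φ
  have hsmul : ∀ (a : G) (u : Fin N), a • u = φ a u := fun _ _ => rfl
  have : MulAction.IsPretransitive G (Fin N) := ⟨fun u v => by
    obtain ⟨a, ha⟩ := htr u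
    obtain ⟨c, hc⟩ := htr v
    refine ⟨c * a⁻¹, ?_⟩
    rw [mul_smul, hsmul, hsmul, map_inv, ← ha]
    simp [hc]⟩
  by_cases hfix : MulAction.orbit M b = {b}
  · left
    rw [Subgroup.eq_bot_iff_forall]
    intro x hx
    apply hinj
    ext u
    obtain ⟨a, rfl⟩ := htr u
    have h2 : a⁻¹ * x * a ∈ M := by simpa using hM.conj_mem x hx a⁻¹
    have h3 : (⟨a⁻¹ * x * a, h2⟩ : M) • b ∈ MulAction.orbit M b := MulAction.mem_orbit _ _
    rw [hfix, Set.mem_singleton_iff] at h3
    change φ (a⁻¹ * x * a) b = b at h3
    rw [map_mul, map_mul, map_inv, Equiv.Perm.mul_apply, Equiv.Perm.mul_apply, Equiv.Perm.inv_def,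
      Equiv.symm_apply_eq] at h3
    rw [map_one, Equiv.Perm.one_apply]
    exact congrArg Fin.val h3
  · right
    have hblk : MulAction.IsBlock G (MulAction.orbit M b) :=
      MulAction.IsBlock.orbit_of_normal b
    have hdvd : (MulAction.orbit M b).ncard ∣ N := by
      have := hblk.ncard_dvd_card ⟨b, MulAction.mem_orbit_self b⟩
      simpa using this
    have hinv : ∀ h ∈ H, ∀ u ∈ MulAction.orbit M b, φ h u ∈ MulAction.orbit M b := by
      rintro h hh _ ⟨⟨x, hx⟩, rfl⟩
      refine ⟨⟨h * x * h⁻¹, hM.conj_mem x hx h⟩, ?_⟩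
      show φ (h * x * h⁻¹) b = φ h (φ x b)
      have : φ h⁻¹ b = b := hH _ (inv_mem hh)
      rw [map_mul, map_mul, Equiv.Perm.mul_apply, this, Equiv.Perm.mul_apply]
    let O' : Finset (Fin N) := (MulAction.orbit M b).toFinset
    let I := orbs.filter fun O => decide (O ⊆ O')
    have hcover : ∀ u, u ≠ b → ∃ O ∈ orbs, u ∈ O := by
      intro u hu
      by_contra hne
      push Not at hne
      have hunion : ∀ (l : List (Finset (Fin N))), l.Pairwise Disjoint →
          (l.foldr (· ∪ ·) ∅).card = (l.map Finset.card).sum := by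
        intro l hl
        induction l with
        | nil => rfl
        | cons O t ih =>
          rw [List.pairwise_cons] at hl
          rw [List.foldr_cons, Finset.card_union_of_disjoint, ih hl.2, List.map_cons,
            List.sum_cons]
          clear ih
          revert hl
          induction t with
          | nil => simp
          | cons P t ih =>
            intro hl
            rw [List.foldr_cons, Finset.disjoint_union_right]
            exact ⟨hl.1 P List.mem_cons_self,
              ih ⟨fun Q hQ => hl.1 Q (List.mem_cons_of_mem _ hQ), (List.pairwise_cons.1 hl.2).2⟩⟩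
      have hmem : ∀ (l : List (Finset (Fin N))) (v : Fin N),
          v ∈ l.foldr (· ∪ ·) ∅ → ∃ O ∈ l, v ∈ O := by
        intro l v
        induction l with
        | nil => simp
        | cons O t ih =>
          rw [List.foldr_cons, Finset.mem_union]
          rintro (h | h)
          · exact ⟨O, List.mem_cons_self, h⟩
          · obtain ⟨P, hP, hv⟩ := ih h
            exact ⟨P, List.mem_cons_of_mem _ hP, hv⟩
      have hsub : orbs.foldr (· ∪ ·) ∅ ⊆ (Finset.univ.erase b).erase u := by
        intro v hv
        obtain ⟨O, hO, hv⟩ := hmem _ _ hv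
        simp only [Finset.mem_erase, Finset.mem_univ, and_true]
        exact ⟨fun e => hne O hO (e ▸ hv), fun e => hnb O hO (e ▸ hv)⟩
      have := Finset.card_le_card hsub
      rw [hunion _ hdisj, Finset.card_erase_of_mem (by simp [hu]),
        Finset.card_erase_of_mem (Finset.mem_univ _), Finset.card_univ, Fintype.card_fin] at this
      omega
    have hI : O' = insert b (I.foldr (· ∪ ·) ∅) := by
      ext u
      have hfold : ∀ l : List (Finset (Fin N)),
          u ∈ l.foldr (· ∪ ·) ∅ ↔ ∃ O ∈ l, u ∈ O := by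
        intro l
        induction l with
        | nil => simp
        | cons O t ih => simp [ih]
      rw [Finset.mem_insert, hfold]
      constructor
      · intro hu
        by_cases hub : u = b
        · exact Or.inl hub
        · obtain ⟨O, hO, huO⟩ := hcover u hub
          refine Or.inr ⟨O, List.mem_filter.2 ⟨hO, decide_eq_true ?_⟩, huO⟩
          intro v hv
          obtain ⟨w, hw⟩ := horb O hO
          have hu' : u ∈ MulAction.orbit (H.map φ) w := hw ▸ huO
          have hv' : v ∈ MulAction.orbit (H.map φ) u := by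
            rw [MulAction.orbit_eq_iff.2 hu', ← hw]; exact hv
          obtain ⟨⟨π, hπ⟩, rfl⟩ := hv'
          obtain ⟨h, hh, rfl⟩ := hπ
          exact Set.mem_toFinset.2 (hinv h hh u (Set.mem_toFinset.1 hu))
      · rintro (rfl | ⟨O, hO, huO⟩)
        · exact Set.mem_toFinset.2 (MulAction.mem_orbit_self _)
        · exact of_decide_eq_true (List.mem_filter.1 hO).2 huO
    have hcardI : O'.card = (I.map Finset.card).sum + 1 := by
      have hdI : I.Pairwise Disjoint := hdisj.filter _
      have hbI : b ∉ I.foldr (· ∪ ·) ∅ := by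
        intro hb
        have : ∀ l : List (Finset (Fin N)), b ∈ l.foldr (· ∪ ·) ∅ → ∃ O ∈ l, b ∈ O := by
          intro l
          induction l with
          | nil => simp
          | cons O t ih =>
            intro h
            rcases Finset.mem_union.1 h with h | h
            · exact ⟨O, List.mem_cons_self, h⟩
            · obtain ⟨P, hP, hv⟩ := ih h
              exact ⟨P, List.mem_cons_of_mem _ hP, hv⟩
        obtain ⟨O, hO, hbO⟩ := this I hb
        exact hnb O (List.mem_filter.1 hO).1 hbO
      rw [hI, Finset.card_insert_of_notMem hbI]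
      congr 1
      clear hI hbI
      revert hdI
      generalize I = l
      induction l with
      | nil => intro _; rfl
      | cons O t ih =>
        intro hl
        rw [List.pairwise_cons] at hl
        rw [List.foldr_cons, Finset.card_union_of_disjoint, ih hl.2, List.map_cons, List.sum_cons]
        clear ih
        revert hl
        induction t with
        | nil => simp
        | cons P t ih =>
          intro hl
          rw [List.foldr_cons, Finset.disjoint_union_right]
          exact ⟨hl.1 P List.mem_cons_self,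
            ih ⟨fun Q hQ => hl.1 Q (List.mem_cons_of_mem _ hQ), (List.pairwise_cons.1 hl.2).2⟩⟩
    have hfull : O'.card = N := by
      by_contra hne
      have hne0 : I ≠ [] := by
        intro e
        apply hfix
        have : O' = {b} := by rw [hI, e]; simp
        ext u
        rw [Set.mem_singleton_iff, ← Finset.mem_singleton, ← this]
        exact Set.mem_toFinset.symm
      have hsubI : I ∈ orbs.sublists := List.mem_sublists.2 List.filter_sublist
      by_cases hlen : I.length = orbs.length
      · apply hne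
        have : I = orbs := List.filter_sublist.eq_of_length hlen
        rw [hcardI, this, hsum]
      · apply hblock I hsubI hne0 hlen
        rw [← hcardI]
        rwa [Set.ncard_eq_toFinset_card'] at hdvd
    have hNdvd : N ∣ Nat.card M := by
      have h1 := Nat.card_congr (MulAction.orbitProdStabilizerEquivGroup M b)
      rw [Nat.card_prod, Nat.card_coe_set_eq, Set.ncard_eq_toFinset_card'] at h1
      exact ⟨_, by rw [← h1]; exact congrArg (· * _) hfull⟩
    apply hgen M hM
    have hidx : M.index ∣ m := by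
      have h1 : p ^ k ∣ Nat.card M := hN.trans hNdvd
      obtain ⟨c, hc⟩ := h1
      have h2 := M.card_mul_index
      rw [hc, hG, mul_assoc] at h2
      have h3 : c * M.index = m := Nat.eq_of_mul_eq_mul_left (pow_pos hp.pos k) h2
      exact Dvd.intro_left c h3
    rw [← QuotientGroup.eq_one_iff]
    apply orderOf_eq_one_iff.1
    have h1 : orderOf (t : G ⧸ M) ∣ p ^ j :=
      orderOf_dvd_of_pow_eq_one (by rw [← QuotientGroup.mk_pow, ht, QuotientGroup.mk_one])
    have h2 : orderOf (t : G ⧸ M) ∣ m := (orderOf_dvd_natCard _).trans hidx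
    exact Nat.eq_one_of_dvd_coprimes
      ((Nat.Prime.coprime_iff_not_dvd hp).2 hm |>.pow_left j) h1 h2

end Action

end CfsgLib.Sporadic.CosetCert
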