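import Cfsg.Agent.Lib.Sporadic.CosetCertSubgroup

/-!
# Packed orbit certificates

Each point gets a class, a rank, a predecessor and a row. Classes are closed under the rows and
every point of positive rank is the image of a predecessor of smaller rank in the same class, the
only point of rank zero in a class being its root. So the classes are the orbits.
-/

namespace CfsgLib.Sporadic.CosetCert

/-- A packed forest of searches. -/
structure Forest where
  /-- bits for a predecessor -/
  vb : ℕ
  /-- the roots, one for each class -/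
  roots : List ℕ
  /-- the rows used -/
  rows : List ℕ
  /-- for each point: class (4 bits), rank (8 bits), row index (4 bits), predecessor -/
  tab : Tr

namespace Forest

variable (F : Forest)

/-- The entry of a point. -/
noncomputable def entry (u : ℕ) : ℕ := F.tab.get (Nat.add 16 F.vb) u

/-- The class of a point. -/
noncomputable def cls (u : ℕ) : ℕ := Nat.mod (F.entry u) 16

/-- The rank of a point. -/
noncomputable def rank (u : ℕ) : ℕ := Nat.mod (Nat.shiftRight (F.entry u) 4) 256

/-- The predecessor of a point. -/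
noncomputable def pred (u : ℕ) : ℕ := Nat.shiftRight (F.entry u) 16

/-- The row leading to a point. -/
noncomputable def row (u : ℕ) : ℕ := F.rows.getD (Nat.mod (Nat.shiftRight (F.entry u) 12) 16) 0

/-- One point checks. -/
noncomputable def pointOK (T : PTab) (u : ℕ) : Bool :=
  Nat.blt (F.cls u) F.roots.length &&
    (F.rows.all fun r => Nat.blt (T.img r u) T.N && Nat.beq (F.cls (T.img r u)) (F.cls u)) &&
    bif Nat.beq (F.rank u) 0 then Nat.beq u (F.roots.getD (F.cls u) T.N)
    else F.rows.contains (F.row u) && Nat.blt (F.pred u) T.N &&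
      Nat.blt (F.rank (F.pred u)) (F.rank u) && Nat.beq (F.cls (F.pred u)) (F.cls u) &&
      Nat.beq (T.img (F.row u) (F.pred u)) u

/-- `n` points from `s` check. -/
noncomputable def allOK (T : PTab) (s n : ℕ) : Bool :=
  Nat.rec (motive := fun _ => Bool) true (fun i ih => F.pointOK T (Nat.add s i) && ih) n

/-- The number of points of a class among the first `n`. -/
noncomputable def count (c n : ℕ) : ℕ :=
  Nat.rec (motive := fun _ => ℕ) 0
    (fun i ih => bif Nat.beq (F.cls i) c then Nat.succ ih else ih) n

/-- A word fixes the points of class `c` among `n` points from `s`. -/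
noncomputable def wordClassOK (T : PTab) (w : ℕ × ℕ) (c s n : ℕ) : Bool :=
  Nat.rec (motive := fun _ => Bool) true
    (fun i ih => (!Nat.beq (F.cls (Nat.add s i)) c ||
      Nat.beq (T.run w.1 w.2 (Nat.add s i)) (Nat.add s i)) && ih) n

variable {F}

theorem wordClassOK_spec {T : PTab} {w : ℕ × ℕ} {c s n : ℕ}
    (h : F.wordClassOK T w c s n = true) :
    ∀ u, s ≤ u → u < s + n → F.cls u = c → T.run w.1 w.2 u = u := by
  induction n with
  | zero => intro u hu hu'; omega
  | succ n ih =>
    intro u hu hu' hc
    unfold wordClassOK at h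
    simp only [Nat.add_eq, Bool.and_eq_true, Bool.or_eq_true, Bool.not_eq_true', Nat.beq_eq] at h
    rcases Nat.lt_or_eq_of_le (Nat.le_of_lt_succ hu') with h' | rfl
    · exact ih h.2 u hu h' hc
    · rcases h.1 with h1 | h1
      · rw [show Nat.beq (F.cls (s + n)) c = true from Nat.beq_eq ▸ hc] at h1
        exact absurd h1 (by simp)
      · exact h1

theorem allOK_spec {T : PTab} {s n : ℕ} (h : F.allOK T s n = true) :
    ∀ u, s ≤ u → u < s + n → F.pointOK T u = true := by
  induction n with
  | zero => intro u hu hu'; omega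
  | succ n ih =>
    intro u hu hu'
    change (F.pointOK T (s + n) && F.allOK T s n) = true at h
    simp only [Bool.and_eq_true] at h
    rcases Nat.lt_or_eq_of_le (Nat.le_of_lt_succ hu') with h' | rfl
    · exact ih h.2 u hu h'
    · exact h.1

/-- The points of a class. -/
noncomputable def classSet (F : Forest) (T : PTab) (c : ℕ) : Finset (Fin T.N) :=
  Finset.univ.filter fun u => F.cls u = c

theorem mem_classSet {T : PTab} {c : ℕ} {u : Fin T.N} :
    u ∈ F.classSet T c ↔ F.cls u = c := by
  simp [classSet]

theorem card_classSet {T : PTab} (c : ℕ) : (F.classSet T c).card = F.count c T.N := by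
  have key : ∀ n, ((Finset.range n).filter fun i => F.cls i = c).card = F.count c n := by
    intro n
    induction n with
    | zero => rfl
    | succ n ih =>
      rw [Finset.range_add_one, Finset.filter_insert]
      show _ = (bif Nat.beq (F.cls n) c then Nat.succ (F.count c n) else F.count c n)
      by_cases hc : F.cls n = c
      · rw [if_pos hc, Finset.card_insert_of_notMem (by simp), ih,
          show Nat.beq (F.cls n) c = true from Nat.beq_eq ▸ hc]
        rfl
      · rw [if_neg hc, ih]
        rcases hb : Nat.beq (F.cls n) c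
        · rfl
        · exact absurd (Nat.eq_of_beq_eq_true hb) hc
  rw [← key T.N]
  refine Finset.card_bij (fun u _ => (u : ℕ)) ?_ ?_ ?_
  · intro u hu
    simpa [classSet] using hu
  · intro u _ v _ e
    exact Fin.ext e
  · intro i hi
    simp only [Finset.mem_filter, Finset.mem_range] at hi
    exact ⟨⟨i, hi.1⟩, by simp [classSet, hi.2], rfl⟩

variable {T : PTab} {G : Type*} [Group G] {φ : G →* Equiv.Perm (Fin T.N)} {g : ℕ → G}
  (hA : T.Acts φ g) (hS : T.slpOK = true)
  (hr : ∀ r ∈ F.rows, r < T.nl + T.slp.length) (hF : ∀ u < T.N, F.pointOK T u = true)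
include hA hS hr hF

theorem orbit_eq {c : ℕ} (b : Fin T.N) (hb : F.cls b = c) :
    MulAction.orbit (Subgroup.closure (T.rowSet φ g F.rows)) b = ↑(F.classSet T c) := by
  have hpt : ∀ u : Fin T.N,
      (∀ r ∈ F.rows, F.cls (T.img r u) = F.cls u) ∧
        (F.rank u = 0 → (u : ℕ) = F.roots.getD (F.cls u) T.N) ∧
        (F.rank u ≠ 0 → F.row u ∈ F.rows ∧ F.pred u < T.N ∧ F.rank (F.pred u) < F.rank u ∧
          F.cls (F.pred u) = F.cls u ∧ T.img (F.row u) (F.pred u) = u) := by
    intro u
    have h := hF u u.2
    simp only [pointOK, Bool.and_eq_true, List.all_eq_true, Nat.blt_eq, Nat.beq_eq] at h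
    refine ⟨fun r hr' => (h.1.2 r hr').2, fun h0 => ?_, fun h0 => ?_⟩
    · have h2 := h.2
      rw [show Nat.beq (F.rank u) 0 = true from Nat.beq_eq ▸ h0] at h2
      simpa using h2
    · have h2 := h.2
      rcases hb' : Nat.beq (F.rank u) 0
      · rw [hb'] at h2
        simp only [cond_false, Bool.and_eq_true, List.contains_iff_mem, Nat.blt_eq,
          Nat.beq_eq] at h2
        obtain ⟨⟨⟨⟨h3, h4⟩, h5⟩, h6⟩, h7⟩ := h2
        exact ⟨h3, h4, h5, h6, h7⟩
      · exact absurd (Nat.eq_of_beq_eq_true hb') h0
  set P := Subgroup.closure (T.rowSet φ g F.rows) with hP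
  have hclosed : ∀ π ∈ P, ∀ u : Fin T.N, F.cls (π u : Fin T.N) = F.cls u := by
    intro π hπ
    induction hπ using Subgroup.closure_induction with
    | mem π hπ =>
      obtain ⟨r, hr', rfl⟩ := hπ
      intro u
      rw [hA.el_img hS r (hr r hr') u]
      exact (hpt u).1 r hr'
    | one => simp
    | mul a b _ _ ha hb => intro u; rw [Equiv.Perm.mul_apply, ha, hb]
    | inv a _ ha =>
      intro u
      have := ha (a⁻¹ u)
      rw [Equiv.Perm.inv_def, Equiv.apply_symm_apply] at this
      exact this.symm
  have hroot : ∀ n, ∀ u : Fin T.N, F.rank u ≤ n →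
      ∃ v : Fin T.N, (v : ℕ) = F.roots.getD (F.cls u) T.N ∧ u ∈ MulAction.orbit P v := by
    intro n
    induction n with
    | zero =>
      intro u hu
      exact ⟨u, (hpt u).2.1 (Nat.le_zero.1 hu), MulAction.mem_orbit_self _⟩
    | succ n ih =>
      intro u hu
      by_cases h0 : F.rank u = 0
      · exact ⟨u, (hpt u).2.1 h0, MulAction.mem_orbit_self _⟩
      · obtain ⟨h3, h4, h5, h6, h7⟩ := (hpt u).2.2 h0
        obtain ⟨v, hv, ⟨π, hπ⟩⟩ := ih ⟨F.pred u, h4⟩ (show F.rank (F.pred u) ≤ n by omega)
        refine ⟨v, by rw [hv]; exact congrArg (fun c => F.roots.getD c T.N) h6, ?_⟩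
        have hmem : φ (T.el g (F.row u)) ∈ P := Subgroup.subset_closure ⟨_, h3, rfl⟩
        refine ⟨⟨φ (T.el g (F.row u)) * π, mul_mem hmem π.2⟩, ?_⟩
        show φ (T.el g (F.row u)) ((π : Equiv.Perm (Fin T.N)) v) = u
        have hπ' : (π : Equiv.Perm (Fin T.N)) v = ⟨F.pred u, h4⟩ := hπ
        rw [hπ']
        exact Fin.ext (by rw [hA.el_img hS _ (hr _ h3) ⟨F.pred u, h4⟩]; exact h7)
  ext u
  rw [Finset.mem_coe, mem_classSet]
  constructor
  · rintro ⟨π, rfl⟩
    exact (hclosed π π.2 b).trans hb
  · intro hu
    obtain ⟨v, hv, hvu⟩ := hroot _ u le_rfl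
    obtain ⟨w, hw, hwb⟩ := hroot _ b le_rfl
    have : v = w := Fin.ext (by rw [hv, hw, hu, hb])
    subst this
    exact (MulAction.orbit_eq_iff.2 hwb) ▸ hvu

end Forest

end CfsgLib.Sporadic.CosetCert
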