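import Mathlib

/-!
# Coset table certificates: the checker

A certificate is a static table of facts `g x • q u = q v`, one for each slot `(u, x)`, each with a
rank; the justification of a fact only uses facts of smaller rank. The letter `nl` (one past the
last generator) stands for the identity, so its slots record coincidences `q u = q v`.
Everything is packed into natural numbers, so that the kernel can evaluate the check.
-/

namespace CfsgLib.Sporadic.CosetCert

/-- A binary tree of packed chunks, indexed by the low bits of the index first. -/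
inductive Tr where
  | leaf (n : ℕ)
  | node (l r : Tr)

/-- Entry `i` of a tree whose leaves hold entries of width `w`. Written with recursors so that
the kernel evaluates it cheaply. -/
noncomputable def Tr.get (w : ℕ) (t : Tr) : ℕ → ℕ :=
  Tr.rec (motive := fun _ => ℕ → ℕ)
    (fun n i => Nat.mod (Nat.shiftRight n (Nat.mul i w)) (Nat.pow 2 w))
    (fun _ _ gl gr i =>
      Bool.rec (motive := fun _ => ℕ) (gr (Nat.div i 2)) (gl (Nat.div i 2))
        (Nat.beq (Nat.mod i 2) 0))
    t

/-- A certificate. -/
structure Cert where
  /-- number of cosets -/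
  N : ℕ
  /-- number of nodes -/
  M : ℕ
  /-- number of letters -/
  nl : ℕ
  /-- number of relators; the further words are the subgroup words -/
  nr : ℕ
  /-- fuel for following coincidences -/
  fuel : ℕ
  /-- bits for a node -/
  vb : ℕ
  /-- bits for a rank -/
  rb : ℕ
  /-- inverse letters, 4 bits each -/
  iv : ℕ
  /-- the words, in order of application: length and letters, 4 bits each -/
  words : List (ℕ × ℕ)
  /-- slots -/
  slots : Tr
  /-- justifications -/
  just : Tr
  /-- defining slot of each node -/
  parent : Tr

namespace Cert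

variable (C : Cert)

/-- The inverse of a letter. -/
def inv (x : ℕ) : ℕ := Nat.mod (Nat.shiftRight C.iv (Nat.mul 4 x)) 16

/-- The slot with index `key`, if of rank below `k`: its target plus one, else zero. -/
noncomputable def slotVal (k key : ℕ) : ℕ :=
  Nat.rec (motive := fun _ => ℕ) 0
    (fun e _ =>
      Nat.rec (motive := fun _ => ℕ) 0
        (fun r _ => Bool.rec (motive := fun _ => ℕ) 0
          (Nat.succ (Nat.mod (Nat.succ e) (Nat.pow 2 C.vb))) (Nat.blt (Nat.succ r) k))
        (Nat.shiftRight (Nat.succ e) C.vb))
    (C.slots.get (Nat.add C.vb C.rb) key)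


/-- A slot of the table, if of rank below `k`: its target plus one, else zero. -/
noncomputable def slot (k key : ℕ) : ℕ :=
  Bool.rec (motive := fun _ => ℕ) 0 (C.slotVal k key) (Nat.blt key (Nat.mul C.M (Nat.succ C.nl)))

/-- Follow coincidences of rank below `k`. -/
noncomputable def root (k f : ℕ) : ℕ → ℕ :=
  Nat.rec (motive := fun _ => ℕ → ℕ) (fun v => v)
    (fun _ ih v => Nat.rec (motive := fun _ => ℕ) v (fun w _ => ih w)
      (C.slot k (Nat.add (Nat.mul v (Nat.succ C.nl)) C.nl)))
    f

/-- One step along letter `x`, plus one; zero if unknown. -/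
noncomputable def look (k u x : ℕ) : ℕ :=
  Nat.rec (motive := fun _ => ℕ) 0 (fun s _ => Nat.succ (C.root k C.fuel s))
    (C.slot k (Nat.add (Nat.mul u (Nat.succ C.nl)) x))

/-- Walk along a word, plus one; zero if unknown. -/
noncomputable def walk (k u : ℕ) (w : List ℕ) : ℕ :=
  List.rec (motive := fun _ => ℕ → ℕ) (fun v => Nat.succ v)
    (fun x _ ih v => Nat.rec (motive := fun _ => ℕ) 0 (fun s _ => ih s) (C.look k v x))
    w u

/-- Word number `i`, as length and packed letters. -/
noncomputable def word (i : ℕ) : ℕ × ℕ :=
  List.rec (motive := fun _ => ℕ → ℕ × ℕ) (fun _ => (0, 0))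
    (fun w _ ih i => Nat.rec (motive := fun _ => ℕ × ℕ) w (fun j _ => ih j) i) C.words i

/-- Letter `i` of the rotation by `o` of the word `(n, bits)`. -/
def letterAt (n bits o i : ℕ) : ℕ :=
  Nat.mod (Nat.shiftRight bits (Nat.mul 4 (Nat.mod (Nat.add o i) n))) 16

/-- Walk forwards along the first `p` letters of a rotated word, plus one; zero if unknown. -/
noncomputable def walkF (k n bits o p u : ℕ) : ℕ :=
  Nat.rec (motive := fun _ => ℕ) (Nat.succ u)
    (fun i ih => Nat.rec (motive := fun _ => ℕ) 0
      (fun s _ => C.look k s (letterAt n bits o i)) ih)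
    p

/-- Walk backwards along the last `m` letters of a rotated word, plus one; zero if unknown. -/
noncomputable def walkB (k n bits o m u : ℕ) : ℕ :=
  Nat.rec (motive := fun _ => ℕ) (Nat.succ u)
    (fun i ih => Nat.rec (motive := fun _ => ℕ) 0
      (fun s _ => C.look k s (C.inv (letterAt n bits o (Nat.sub n (Nat.succ i))))) ih)
    m

/-- A scan: word, offset, start, split point, with the letters before the split walked forwards
and those from `stop` on backwards; the result must be `(a, b)`. -/
noncomputable def scanOK (k w o st p stop a b : ℕ) : Bool :=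
  Nat.blt w C.words.length && Nat.ble stop (C.word w).1 && Nat.ble p stop &&
    (Nat.blt w C.nr || (Nat.beq o 0 && Nat.beq st 0)) &&
    Nat.beq (C.walkF k (C.word w).1 (C.word w).2 o p (C.root k C.fuel st)) (Nat.succ a) &&
    Nat.beq (C.walkB k (C.word w).1 (C.word w).2 o (Nat.sub (C.word w).1 stop)
      (C.root k C.fuel st)) (Nat.succ b)

/-- An oriented edge read off a slot, as a source and a target, plus one; `(0, 0)` if unknown. -/
noncomputable def edge (k r y : ℕ) (sw : Bool) : ℕ × ℕ :=
  match C.look k r y with
  | 0 => (0, 0)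
  | s+1 => bif sw then (Nat.succ s, Nat.succ (C.root k C.fuel r))
      else (Nat.succ (C.root k C.fuel r), Nat.succ s)

/-- Both pairs are equal as unordered pairs. -/
def samePair (a b c d : ℕ) : Bool :=
  (Nat.beq a c && Nat.beq b d) || (Nat.beq a d && Nat.beq b c)

/-- The field number `i` of a justification. -/
def field (j i : ℕ) : ℕ :=
  Nat.mod (Nat.shiftRight j (Nat.add 3 (Nat.mul i C.vb))) (Nat.pow 2 C.vb)

/-- A defining slot. -/
noncomputable def treeOK (u x v : ℕ) : Bool :=
  Nat.beq (C.parent.get (Nat.add C.vb 4) v) (Nat.succ (Nat.add (Nat.mul u (Nat.succ C.nl)) x)) &&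
    Nat.blt u v && Nat.blt x C.nl

/-- A deduction: the scan has one gap, at position `d`. -/
noncomputable def gapOK (k u x v a b c d : ℕ) : Bool :=
  Nat.blt d (C.word a).1 && Nat.beq (letterAt (C.word a).1 (C.word a).2 b d) x &&
    C.scanOK k a b c d (Nat.succ d) u v

/-- A coincidence found by a scan. -/
noncomputable def closeOK (k u x v a b c d : ℕ) : Bool :=
  Nat.beq x C.nl && (C.scanOK k a b c d d u v || C.scanOK k a b c d d v u)

/-- A slot moved along coincidences, or inverted. -/
noncomputable def moveOK (k u x v a b c : ℕ) : Bool :=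
  Nat.blt b C.nl && Nat.beq x (bif Nat.beq c 1 then C.inv b else b) &&
    Nat.beq (C.edge k a b (Nat.beq c 1)).1 (Nat.succ u) &&
    Nat.beq (C.edge k a b (Nat.beq c 1)).2 (Nat.succ v)

/-- A coincidence from two slots. -/
noncomputable def congOK (k u x v : ℕ) (e e' : ℕ × ℕ) : Bool :=
  Nat.beq x C.nl && Nat.blt 0 e.1 && Nat.beq e.1 e'.1 &&
    samePair e.2 e'.2 (Nat.succ u) (Nat.succ v)

/-- Check the justification `j` of the fact `(u, x, v)` of rank `k`. -/
noncomputable def factOK (k u x v j : ℕ) : Bool :=
  match Nat.mod j 8 with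
  | 0 => C.treeOK u x v
  | 1 => C.gapOK k u x v (C.field j 0) (C.field j 1) (C.field j 2) (C.field j 3)
  | 2 => C.closeOK k u x v (C.field j 0) (C.field j 1) (C.field j 2) (C.field j 3)
  | 3 => C.moveOK k u x v (C.field j 0) (C.field j 1) (C.field j 2)
  | 4 => Nat.blt (C.field j 2) C.nl &&
      C.congOK k u x v (C.edge k (C.field j 0) (C.field j 2) false)
        (C.edge k (C.field j 1) (C.field j 2) false)
  | 5 => Nat.blt (C.field j 2) C.nl &&
      C.congOK k u x v (C.edge k (C.field j 0) (C.inv (C.field j 2)) false)
        (C.edge k (C.field j 1) (C.field j 2) true)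
  | _ => false

/-- Check the slot with index `key`. -/
noncomputable def keyOK (key : ℕ) : Bool :=
  match C.slots.get (C.vb + C.rb) key with
  | 0 => true
  | e+1 =>
    match Nat.shiftRight (Nat.succ e) C.vb with
    | 0 => true
    | r+1 =>
      C.factOK (Nat.succ r) (Nat.div key (C.nl + 1)) (Nat.mod key (C.nl + 1))
        (Nat.mod (Nat.succ e) (Nat.pow 2 C.vb)) (C.just.get (Nat.add 3 (Nat.mul 4 C.vb)) key)

/-- Check `n` consecutive slots from `s`. -/
noncomputable def keysOK (s n : ℕ) : Bool :=
  Nat.rec (motive := fun _ => Bool) true (fun i ih => C.keyOK (Nat.add s i) && ih) n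

/-- All slots of node `u` are known and point into the first `N` nodes. -/
noncomputable def closedAt (top u n : ℕ) : Bool :=
  Nat.rec (motive := fun _ => Bool) true
    (fun x ih =>
      Nat.rec (motive := fun _ => Bool) false (fun s _ => Nat.blt s C.N && ih) (C.look top u x))
    n

/-- Check `closedAt` for `n` nodes from `s`. -/
noncomputable def closedFrom (top s n : ℕ) : Bool :=
  Nat.rec (motive := fun _ => Bool) true
    (fun i ih => C.closedAt top (Nat.add s i) C.nl && ih) n

end Cert

end CfsgLib.Sporadic.CosetCert
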