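import Cfsg.Agent.Lib.Sporadic.CosetCertWords
import Cfsg.Agent.Lib.Sporadic.CosetCertClasses

/-!
# Checks through fast rows

A fast row is any function that the kernel evaluates cheaply and that agrees with a row of the
table. Values are brought to numerals before they are used again, so that repeated steps are
evaluated once.
-/

namespace CfsgLib.Sporadic.CosetCert.PTab

/-- Follow fast rows. -/
noncomputable def runL (fs : List (ℕ → ℕ)) : ℕ → ℕ :=
  List.rec (motive := fun _ => ℕ → ℕ) (fun v => v)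
    (fun f _ ih v => Nat.rec (motive := fun _ => ℕ) (ih 0) (fun w _ => ih (Nat.succ w)) (f v)) fs

theorem runL_cons (f : ℕ → ℕ) (fs : List (ℕ → ℕ)) (v : ℕ) :
    runL (f :: fs) v = runL fs (f v) := by
  show Nat.rec (motive := fun _ => ℕ) (runL fs 0) (fun w _ => runL fs (Nat.succ w)) (f v) = _
  cases f v <;> rfl

/-- Fast rows fix `n` points from `s` along a list of rows. -/
noncomputable def fixL (fs : List (ℕ → ℕ)) (s n : ℕ) : Bool :=
  Nat.rec (motive := fun _ => Bool) true
    (fun i ih => Nat.beq (runL fs (Nat.add s i)) (Nat.add s i) && ih) n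

variable (T : PTab)

/-- The row number `x` of the table agrees with `f` on `n` points from `s`. -/
noncomputable def agreeL (x : ℕ) (f : ℕ → ℕ) (s n : ℕ) : Bool :=
  Nat.rec (motive := fun _ => Bool) true
    (fun i ih => Nat.beq (T.img x (Nat.add s i)) (f (Nat.add s i)) &&
      Nat.blt (f (Nat.add s i)) T.N && ih) n

variable {T}

theorem agreeL_spec {x : ℕ} {f : ℕ → ℕ} {s n : ℕ} (h : T.agreeL x f s n = true) :
    ∀ u, s ≤ u → u < s + n → T.img x u = f u ∧ f u < T.N := by
  induction n with
  | zero => intro u hu hu'; omega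
  | succ n ih =>
    intro u hu hu'
    unfold agreeL at h
    simp only [Nat.add_eq, Bool.and_eq_true, Nat.beq_eq, Nat.blt_eq] at h
    rcases Nat.lt_or_eq_of_le (Nat.le_of_lt_succ hu') with h' | rfl
    · exact ih h.2 u hu h'
    · exact h.1

theorem fixL_spec {fs : List (ℕ → ℕ)} {s n : ℕ} (h : fixL fs s n = true) :
    ∀ u, s ≤ u → u < s + n → runL fs u = u := by
  induction n with
  | zero => intro u hu hu'; omega
  | succ n ih =>
    intro u hu hu'
    unfold fixL at h
    simp only [Nat.add_eq, Bool.and_eq_true, Nat.beq_eq] at h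
    rcases Nat.lt_or_eq_of_le (Nat.le_of_lt_succ hu') with h' | rfl
    · exact ih h.2 u hu h'
    · exact h.1

theorem imgW_eq_runL {rows : List (ℕ → ℕ)}
    (hR : ∀ x < T.nl, ∀ u < T.N, T.img x u = rows.getD x id u ∧ rows.getD x id u < T.N) :
    ∀ L : List ℕ, (∀ x ∈ L, x < T.nl) → ∀ u < T.N,
      T.imgW L u = runL (L.map fun x => rows.getD x id) u ∧ T.imgW L u < T.N := by
  intro L
  induction L with
  | nil => intro _ u hu; exact ⟨rfl, hu⟩
  | cons x t ih =>
    intro hL u hu
    obtain ⟨h1, h2⟩ := hR x (hL x List.mem_cons_self) u hu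
    show T.imgW t (T.img x u) = runL _ _ ∧ T.imgW t (T.img x u) < T.N
    rw [h1, List.map_cons, runL_cons]
    exact ih (fun y hy => hL y (List.mem_cons_of_mem _ hy)) _ h2

/-- A list of fast rows composes to `p` on `n` points from `s`. -/
noncomputable def eqL (fs : List (ℕ → ℕ)) (p : ℕ → ℕ) (s n : ℕ) : Bool :=
  Nat.rec (motive := fun _ => Bool) true
    (fun i ih => Nat.beq (runL fs (Nat.add s i)) (p (Nat.add s i)) && ih) n

theorem eqL_spec {fs : List (ℕ → ℕ)} {p : ℕ → ℕ} {s n : ℕ} (h : eqL fs p s n = true) :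
    ∀ u, s ≤ u → u < s + n → runL fs u = p u := by
  induction n with
  | zero => intro u hu hu'; omega
  | succ n ih =>
    intro u hu hu'
    unfold eqL at h
    simp only [Nat.add_eq, Bool.and_eq_true, Nat.beq_eq] at h
    rcases Nat.lt_or_eq_of_le (Nat.le_of_lt_succ hu') with h' | rfl
    · exact ih h.2 u hu h'
    · exact h.1

/-- A power of a word through the row of the word. -/
theorem imgW_pow {L : List ℕ} {p : ℕ → ℕ}
    (hp : ∀ u < T.N, T.imgW L u = p u ∧ p u < T.N) :
    ∀ k, ∀ u < T.N, T.imgW (List.replicate k L).flatten u = runL (List.replicate k p) u := by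
  intro k
  induction k with
  | zero => intro u _; rfl
  | succ k ih =>
    intro u hu
    rw [List.replicate_succ, List.flatten_cons, List.replicate_succ, runL_cons, ← (hp u hu).1,
      ← ih _ ((hp u hu).1.symm ▸ (hp u hu).2)]
    exact List.foldl_append ..

end CfsgLib.Sporadic.CosetCert.PTab

namespace CfsgLib.Sporadic.CosetCert.Forest

variable (F : Forest)

/-- The class of a point, which is brought to a numeral first. -/
noncomputable def clsV (v : ℕ) : ℕ :=
  Nat.rec (motive := fun _ => ℕ) (F.cls 0) (fun w _ => F.cls (Nat.succ w)) v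

theorem clsV_eq (v : ℕ) : F.clsV v = F.cls v := by cases v <;> rfl

/-- Entry of a list of functions, evaluated with recursors. -/
noncomputable def selF (fs : List (ℕ → ℕ)) : ℕ → ℕ → ℕ :=
  List.rec (motive := fun _ => ℕ → ℕ → ℕ) (fun _ v => v)
    (fun f _ ih r => Nat.rec (motive := fun _ => ℕ → ℕ) f (fun k _ => ih k) r) fs

theorem selF_eq : ∀ (fs : List (ℕ → ℕ)) (r v : ℕ), selF fs r v = (fs.getD r id) v := by
  intro fs
  induction fs with
  | nil => intro r v; rfl
  | cons f t ih =>
    intro r v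
    cases r with
    | zero => rfl
    | succ k => exact (ih k v).trans rfl

/-- A fast row keeps `n` points from `s` in range and in their classes. -/
noncomputable def closedL (N : ℕ) (f : ℕ → ℕ) (s n : ℕ) : Bool :=
  Nat.rec (motive := fun _ => Bool) true
    (fun i ih => Nat.blt (f (Nat.add s i)) N &&
      Nat.beq (F.clsV (f (Nat.add s i))) (F.cls (Nat.add s i)) && ih) n

/-- The tree edge of a point checks through fast rows. -/
noncomputable def edgeAtL (T : PTab) (fs : List (ℕ → ℕ)) (u : ℕ) : Bool :=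
  Nat.blt (F.cls u) F.roots.length &&
    bif Nat.beq (F.rank u) 0 then Nat.beq u (F.roots.getD (F.cls u) T.N)
    else F.rows.contains (F.row u) && Nat.blt (F.pred u) T.N &&
      Nat.blt (F.rank (F.pred u)) (F.rank u) && Nat.beq (F.clsV (F.pred u)) (F.cls u) &&
      Nat.beq (selF fs (F.row u) (F.pred u)) u

/-- The tree edges of `n` points from `s` check. -/
noncomputable def edgesL (T : PTab) (fs : List (ℕ → ℕ)) (s n : ℕ) : Bool :=
  Nat.rec (motive := fun _ => Bool) true (fun i ih => F.edgeAtL T fs (Nat.add s i) && ih) n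

/-- Fast rows fix the points of a class among `n` points from `s`. -/
noncomputable def fixClassL (fs : List (ℕ → ℕ)) (c s n : ℕ) : Bool :=
  Nat.rec (motive := fun _ => Bool) true
    (fun i ih => (!Nat.beq (F.cls (Nat.add s i)) c ||
      Nat.beq (PTab.runL fs (Nat.add s i)) (Nat.add s i)) && ih) n

variable {F}

theorem fixClassL_spec {fs : List (ℕ → ℕ)} {c s n : ℕ} (h : F.fixClassL fs c s n = true) :
    ∀ u, s ≤ u → u < s + n → F.cls u = c → PTab.runL fs u = u := by
  induction n with
  | zero => intro u hu hu'; omega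
  | succ n ih =>
    intro u hu hu' hc
    unfold fixClassL at h
    simp only [Nat.add_eq, Bool.and_eq_true, Bool.or_eq_true, Bool.not_eq_true', Nat.beq_eq] at h
    rcases Nat.lt_or_eq_of_le (Nat.le_of_lt_succ hu') with h' | rfl
    · exact ih h.2 u hu h' hc
    · rcases h.1 with h1 | h1
      · rw [show Nat.beq (F.cls (s + n)) c = true from Nat.beq_eq ▸ hc] at h1
        exact absurd h1 (by simp)
      · exact h1

theorem closedL_spec {N : ℕ} {f : ℕ → ℕ} {s n : ℕ} (h : F.closedL N f s n = true) :
    ∀ u, s ≤ u → u < s + n → f u < N ∧ F.cls (f u) = F.cls u := by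
  induction n with
  | zero => intro u hu hu'; omega
  | succ n ih =>
    intro u hu hu'
    unfold closedL at h
    simp only [Nat.add_eq, Bool.and_eq_true, Nat.beq_eq, Nat.blt_eq] at h
    rcases Nat.lt_or_eq_of_le (Nat.le_of_lt_succ hu') with h' | rfl
    · exact ih h.2 u hu h'
    · exact ⟨h.1.1, (F.clsV_eq _).symm.trans h.1.2⟩

theorem edgesL_spec {T : PTab} {fs : List (ℕ → ℕ)} {s n : ℕ} (h : F.edgesL T fs s n = true) :
    ∀ u, s ≤ u → u < s + n → F.edgeAtL T fs u = true := by
  induction n with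
  | zero => intro u hu hu'; omega
  | succ n ih =>
    intro u hu hu'
    change (F.edgeAtL T fs (s + n) && F.edgesL T fs s n) = true at h
    simp only [Bool.and_eq_true] at h
    rcases Nat.lt_or_eq_of_le (Nat.le_of_lt_succ hu') with h' | rfl
    · exact ih h.2 u hu h'
    · exact h.1

/-- The fast checks give the check on the table. -/
theorem pointOK_of_fast {T : PTab} {fs : List (ℕ → ℕ)}
    (hR : ∀ x < T.nl, ∀ u < T.N, T.img x u = fs.getD x id u ∧ fs.getD x id u < T.N)
    (hrows : ∀ r ∈ F.rows, r < T.nl) {u : ℕ} (hu : u < T.N)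
    (hc : ∀ r ∈ F.rows, fs.getD r id u < T.N ∧ F.cls (fs.getD r id u) = F.cls u)
    (h : F.edgeAtL T fs u = true) : F.pointOK T u = true := by
  unfold edgeAtL at h
  unfold pointOK
  simp only [selF_eq, Bool.and_eq_true, List.all_eq_true, clsV_eq] at h ⊢
  obtain ⟨h1, h3⟩ := h
  refine ⟨⟨h1, fun r hr => ?_⟩, ?_⟩
  · rw [(hR r (hrows r hr) u hu).1, Nat.blt_eq, Nat.beq_eq]; exact hc r hr
  · rcases hb : Nat.beq (F.rank u) 0
    · rw [hb] at h3
      simp only [cond_false, Bool.and_eq_true, Nat.blt_eq, List.contains_iff_mem] at h3 ⊢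
      obtain ⟨⟨⟨⟨k1, k2⟩, k3⟩, k4⟩, k5⟩ := h3
      refine ⟨⟨⟨⟨k1, k2⟩, k3⟩, k4⟩, ?_⟩
      rw [(hR _ (hrows _ k1) _ k2).1]
      exact k5
    · rw [hb] at h3
      exact h3

end CfsgLib.Sporadic.CosetCert.Forest
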