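import Cfsg.Agent.Lib.Sporadic.CosetCertGroup

/-!
# Checking product rows in ranges
-/

namespace CfsgLib.Sporadic.CosetCert.PTab

variable (T : PTab)

/-- Product rows `s, …, s + n - 1` check. -/
noncomputable def slpFrom (s n : ℕ) : Bool :=
  (List.range n).all fun k =>
    T.rowOK (T.nl + (s + k)) (T.slp.getD (s + k) (0, 0)).1 (T.slp.getD (s + k) (0, 0)).2

variable {T}

theorem slpFrom_spec {s n : ℕ} (h : T.slpFrom s n = true) :
    ∀ k, s ≤ k → k < s + n →
      T.rowOK (T.nl + k) (T.slp.getD k (0, 0)).1 (T.slp.getD k (0, 0)).2 = true := by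
  intro k hk hk'
  simp only [slpFrom, List.all_eq_true, List.mem_range] at h
  have := h (k - s) (by omega)
  rwa [show s + (k - s) = k by omega] at this

theorem slpOK_of_forall
    (h : ∀ k < T.slp.length,
      T.rowOK (T.nl + k) (T.slp.getD k (0, 0)).1 (T.slp.getD k (0, 0)).2 = true) :
    T.slpOK = true := by
  simpa [slpOK, List.all_eq_true] using h

end CfsgLib.Sporadic.CosetCert.PTab
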