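import Cfsg.Agent.Lib.Sporadic.CosetCertCore

/-!
# Coset table certificates: soundness

If all slots of a certificate pass the check and the first `N` nodes are closed, then in every
action where the relators are trivial and the subgroup words fix the base point, the orbit of the
base point under the generators has at most `N` points, and the table describes the action.
-/

namespace CfsgLib.Sporadic.CosetCert

namespace Cert

variable (C : Cert)

/-- All slots pass the check, the table is closed, the letters are in range. -/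
structure Valid : Prop where
  keys : ∀ key < C.M * (C.nl + 1), C.keyOK key = true
  closed : ∀ u < C.N, ∃ top, ∀ x < C.nl, ∃ s, C.look top u x = s + 1 ∧ s < C.N
  inv_lt : ∀ x < C.nl, C.inv x < C.nl
  letter_lt : ∀ i < C.words.length, ∀ o j, letterAt (C.word i).1 (C.word i).2 o j < C.nl

/-- An action in which the certificate can be read. -/
structure Interp (G : Type*) [Group G] (X : Type*) [MulAction G X] where
  g : ℕ → G
  base : X
  g_nl : g C.nl = 1
  g_inv : ∀ x < C.nl, g (C.inv x) = (g x)⁻¹

variable {C} {G : Type*} [Group G] {X : Type*} [MulAction G X]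

/-- Product of the first `j` letters of a rotated word, in order of application. -/
def Interp.prod (I : C.Interp G X) (n bits o : ℕ) : ℕ → G
  | 0 => 1
  | j + 1 => I.g (letterAt n bits o j) * I.prod n bits o j

/-- The word number `i` is respected: relators are trivial, other words fix the base point. -/
def Interp.Respects (I : C.Interp G X) : Prop :=
  ∀ i < C.words.length,
    (i < C.nr → I.prod (C.word i).1 (C.word i).2 0 (C.word i).1 = 1) ∧
      I.prod (C.word i).1 (C.word i).2 0 (C.word i).1 • I.base = I.base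

/-- The point of a node, following the defining slots. -/
noncomputable def Interp.node (I : C.Interp G X) (v : ℕ) : X :=
  if h : C.parent.get (C.vb + 4) v ≠ 0 ∧ (C.parent.get (C.vb + 4) v - 1) / (C.nl + 1) < v then
    I.g ((C.parent.get (C.vb + 4) v - 1) % (C.nl + 1)) •
      I.node ((C.parent.get (C.vb + 4) v - 1) / (C.nl + 1))
  else I.base
termination_by v
decreasing_by exact h.2

variable (I : C.Interp G X)

theorem Interp.node_zero : I.node 0 = I.base := by
  rw [Interp.node, dif_neg]
  rintro ⟨-, h⟩
  exact Nat.not_lt_zero _ h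

/-- The statement of a slot below rank `k`. -/
def Interp.SlotsBelow (k : ℕ) : Prop :=
  ∀ key w, C.slot k key = w + 1 →
    I.g (key % (C.nl + 1)) • I.node (key / (C.nl + 1)) = I.node w

theorem key_split {u x m : ℕ} (hx : x < m) : (u * m + x) % m = x ∧ (u * m + x) / m = u := by
  have hm : 0 < m := by omega
  rw [mul_comm u m]
  exact ⟨by rw [Nat.mul_add_mod, Nat.mod_eq_of_lt hx],
    by rw [Nat.mul_add_div hm, Nat.div_eq_of_lt hx, add_zero]⟩

variable {I}

theorem Interp.SlotsBelow.slot_spec {k : ℕ} (hS : I.SlotsBelow k) {u x w : ℕ} (hx : x ≤ C.nl)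
    (h : C.slot k (Nat.add (Nat.mul u (Nat.succ C.nl)) x) = w + 1) :
    I.g x • I.node u = I.node w := by
  have h2 := hS _ _ h
  obtain ⟨e1, e2⟩ := key_split (u := u) (show x < C.nl + 1 by omega)
  simp only [Nat.add_eq, Nat.mul_eq, Nat.succ_eq_add_one] at h2
  rwa [e1, e2] at h2

theorem Interp.SlotsBelow.root_spec {k : ℕ} (hS : I.SlotsBelow k) :
    ∀ f v, I.node (C.root k f v) = I.node v := by
  intro f
  induction f with
  | zero => intro v; rfl
  | succ f ih =>
    intro v
    show I.node (Nat.rec (motive := fun _ => ℕ) v (fun w _ => C.root k f w)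
      (C.slot k (Nat.add (Nat.mul v (Nat.succ C.nl)) C.nl))) = I.node v
    rcases h : C.slot k (Nat.add (Nat.mul v (Nat.succ C.nl)) C.nl) with _ | w
    · rfl
    · have h2 := hS.slot_spec le_rfl h
      rw [I.g_nl, one_smul] at h2
      exact (ih w).trans h2.symm

theorem Interp.SlotsBelow.look_spec {k : ℕ} (hS : I.SlotsBelow k) {u x s : ℕ} (hx : x ≤ C.nl)
    (h : C.look k u x = s + 1) : I.g x • I.node u = I.node s := by
  unfold Cert.look at h
  rcases h2 : C.slot k (Nat.add (Nat.mul u (Nat.succ C.nl)) x) with _ | w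
  · rw [h2] at h; exact absurd h (by simp)
  · rw [h2] at h
    simp only [Nat.succ_eq_add_one, Nat.add_right_cancel_iff] at h
    subst h
    rw [hS.root_spec]
    exact hS.slot_spec hx h2

theorem Interp.SlotsBelow.walkF_spec {k n bits o : ℕ} (hS : I.SlotsBelow k)
    (hl : ∀ j, letterAt n bits o j < C.nl) :
    ∀ p u s, C.walkF k n bits o p u = s + 1 → I.prod n bits o p • I.node u = I.node s := by
  intro p
  induction p with
  | zero =>
    intro u s h
    have h' : u = s := Nat.succ_injective h
    rw [h']
    exact one_smul _ _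
  | succ p ih =>
    intro u s h
    change Nat.rec (motive := fun _ => ℕ) 0 (fun t _ => C.look k t (letterAt n bits o p))
      (C.walkF k n bits o p u) = s + 1 at h
    rcases h2 : C.walkF k n bits o p u with _ | t
    · rw [h2] at h; exact absurd h (by simp)
    · rw [h2] at h
      show (I.g (letterAt n bits o p) * I.prod n bits o p) • I.node u = I.node s
      rw [mul_smul, ih u t h2]
      exact hS.look_spec (hl p).le h

theorem Interp.SlotsBelow.walkB_spec {k n bits o : ℕ} (hS : I.SlotsBelow k)
    (hl : ∀ j, letterAt n bits o j < C.nl) (hi : ∀ x < C.nl, C.inv x < C.nl) :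
    ∀ m u s, m ≤ n → C.walkB k n bits o m u = s + 1 →
      (I.prod n bits o n * (I.prod n bits o (n - m))⁻¹) • I.node s = I.node u := by
  intro m
  induction m with
  | zero =>
    intro u s _ h
    have h' : u = s := Nat.succ_injective h
    rw [Nat.sub_zero, mul_inv_cancel, one_smul, h']
  | succ m ih =>
    intro u s hm h
    change Nat.rec (motive := fun _ => ℕ) 0
      (fun t _ => C.look k t (C.inv (letterAt n bits o (Nat.sub n (Nat.succ m)))))
      (C.walkB k n bits o m u) = s + 1 at h
    rcases h2 : C.walkB k n bits o m u with _ | t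
    · rw [h2] at h; exact absurd h (by simp)
    · rw [h2] at h
      have h3 := hS.look_spec (hi _ (hl _)).le h
      rw [I.g_inv _ (hl _)] at h3
      have h4 := ih u t (by omega) h2
      have e : n - m = (n - (m + 1)) + 1 := by omega
      rw [e] at h4
      change (I.prod n bits o n *
        (I.g (letterAt n bits o (n - (m + 1))) * I.prod n bits o (n - (m + 1)))⁻¹) •
          I.node t = I.node u at h4
      rw [mul_inv_rev, ← mul_assoc, mul_smul] at h4
      rw [← h4]
      congr 1
      exact h3.symm

theorem prod_rot (n bits o : ℕ) :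
    ∀ j, I.prod n bits (o + 1) j * I.g (letterAt n bits o 0) = I.prod n bits o (j + 1) := by
  intro j
  induction j with
  | zero => simp [Interp.prod]
  | succ j ih =>
    show I.g (letterAt n bits (o + 1) j) * I.prod n bits (o + 1) j * _ =
      I.g (letterAt n bits o (j + 1)) * I.prod n bits o (j + 1)
    rw [mul_assoc, ih]
    congr 2
    simp only [letterAt, Nat.add_eq, show o + 1 + j = o + (j + 1) by omega]

theorem prod_rot_eq_one {n bits : ℕ} (h : I.prod n bits 0 n = 1) :
    ∀ o, I.prod n bits o n = 1 := by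
  intro o
  induction o with
  | zero => exact h
  | succ o ih =>
    have h2 := prod_rot (I := I) n bits o n
    have h3 : letterAt n bits o n = letterAt n bits o 0 := by
      simp only [letterAt, Nat.add_eq, add_zero]
      rw [show Nat.mod (o + n) n = Nat.mod o n from Nat.add_mod_right o n]
    change _ = I.g (letterAt n bits o n) * I.prod n bits o n at h2
    rw [ih, h3, mul_one] at h2
    exact mul_eq_right.1 h2

variable (hV : C.Valid) (hR : I.Respects)
include hV hR

theorem Interp.SlotsBelow.scan_spec {k w o st p stop a b : ℕ} (hS : I.SlotsBelow k)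
    (h : C.scanOK k w o st p stop a b = true) :
    ∃ z, I.node a = I.prod (C.word w).1 (C.word w).2 o p • z ∧
      I.node b = I.prod (C.word w).1 (C.word w).2 o stop • z ∧ p ≤ stop := by
  unfold Cert.scanOK at h
  simp only [Bool.and_eq_true, Bool.or_eq_true, Nat.blt_eq, Nat.ble_eq, Nat.beq_eq] at h
  obtain ⟨⟨⟨⟨⟨hw, hstop⟩, hp⟩, hkind⟩, hF⟩, hB⟩ := h
  have hl := hV.letter_lt w hw o
  have hF' := hS.walkF_spec hl _ _ _ hF
  have hB' := hS.walkB_spec hl hV.inv_lt _ _ _ (Nat.sub_le _ _) hB
  rw [hS.root_spec] at hF' hB'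
  refine ⟨I.node st, hF'.symm, ?_, hp⟩
  have e : (C.word w).1 - ((C.word w).1 - stop) = stop := by omega
  rw [e] at hB'
  have hfix : I.prod (C.word w).1 (C.word w).2 o (C.word w).1 • I.node st = I.node st := by
    rcases hkind with hlt | ⟨ho, hst⟩
    · rw [prod_rot_eq_one ((hR w hw).1 hlt) o, one_smul]
    · subst ho hst
      rw [I.node_zero]
      exact (hR w hw).2
  rw [mul_smul] at hB'
  have h2 : (I.prod (C.word w).1 (C.word w).2 o stop)⁻¹ • I.node b = I.node st := by
    apply MulAction.injective (I.prod (C.word w).1 (C.word w).2 o (C.word w).1)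
    exact hB'.trans hfix.symm
  rw [← h2, smul_inv_smul]

omit hR in
theorem Interp.SlotsBelow.edge_spec {k r y : ℕ} (hS : I.SlotsBelow k) (hy : y < C.nl) (sw : Bool)
    {a b : ℕ} (h1 : (C.edge k r y sw).1 = a + 1) (h2 : (C.edge k r y sw).2 = b + 1) :
    I.g (bif sw then C.inv y else y) • I.node a = I.node b := by
  unfold Cert.edge at h1 h2
  rcases h : C.look k r y with _ | s
  · rw [h] at h1; simp at h1
  · rw [h] at h1 h2
    have h3 := hS.look_spec hy.le h
    cases sw
    · simp only [cond_false, Nat.succ_eq_add_one, Nat.add_right_cancel_iff] at h1 h2 ⊢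
      subst h1 h2
      rw [hS.root_spec]; exact h3
    · simp only [cond_true, Nat.succ_eq_add_one, Nat.add_right_cancel_iff] at h1 h2 ⊢
      subst h1 h2
      rw [hS.root_spec, I.g_inv _ hy, inv_smul_eq_iff]
      exact h3.symm

omit hV hR in
theorem samePair_spec {a b c d : ℕ} (h : samePair a b c d = true) :
    a = c ∧ b = d ∨ a = d ∧ b = c := by
  simpa [samePair] using h

omit hR in
theorem Interp.SlotsBelow.cong_spec {k u x v r r' y y' : ℕ} (hS : I.SlotsBelow k) (sw sw' : Bool)
    (hy : y < C.nl) (hy' : y' < C.nl)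
    (hlet : (bif sw then C.inv y else y) = (bif sw' then C.inv y' else y'))
    (h : C.congOK k u x v (C.edge k r y sw) (C.edge k r' y' sw') = true) :
    I.g x • I.node u = I.node v := by
  unfold Cert.congOK at h
  simp only [Bool.and_eq_true, Nat.blt_eq, Nat.beq_eq] at h
  obtain ⟨⟨⟨hx, hpos⟩, heq⟩, hp⟩ := h
  obtain ⟨a, ha⟩ : ∃ a, (C.edge k r y sw).1 = a + 1 :=
    ⟨_, (Nat.succ_pred_eq_of_pos hpos).symm⟩
  have ha' : (C.edge k r' y' sw').1 = a + 1 := heq ▸ ha
  subst hx
  rw [I.g_nl, one_smul]
  rcases samePair_spec hp with ⟨e1, e2⟩ | ⟨e1, e2⟩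
  · have := (hS.edge_spec hV hy sw ha e1).symm.trans
      (hlet ▸ hS.edge_spec hV hy' sw' ha' e2)
    exact this
  · have := (hS.edge_spec hV hy sw ha e1).symm.trans
      (hlet ▸ hS.edge_spec hV hy' sw' ha' e2)
    exact this.symm

theorem Interp.SlotsBelow.fact_spec {k u x v j : ℕ} (hS : I.SlotsBelow k)
    (h : C.factOK k u x v j = true) : I.g x • I.node u = I.node v := by
  unfold Cert.factOK at h
  split at h
  · unfold Cert.treeOK at h
    simp only [Bool.and_eq_true, Nat.blt_eq, Nat.beq_eq] at h
    obtain ⟨⟨hp, huv⟩, hx⟩ := h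
    have e : C.parent.get (C.vb + 4) v = u * (C.nl + 1) + x + 1 := hp
    obtain ⟨e1, e2⟩ := key_split (u := u) (show x < C.nl + 1 by omega)
    conv_rhs => rw [Interp.node]
    rw [dif_pos]
    · rw [e, Nat.add_sub_cancel, e1, e2]
    · rw [e, Nat.add_sub_cancel, e2]
      exact ⟨Nat.succ_ne_zero _, huv⟩
  · unfold Cert.gapOK at h
    simp only [Bool.and_eq_true, Nat.beq_eq] at h
    obtain ⟨⟨-, hx⟩, hs⟩ := h
    obtain ⟨z, ha, hb, -⟩ := hS.scan_spec hV hR hs
    rw [ha, hb, ← hx, ← mul_smul]
    rfl
  · unfold Cert.closeOK at h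
    simp only [Bool.and_eq_true, Bool.or_eq_true, Nat.beq_eq] at h
    obtain ⟨hx, hs⟩ := h
    subst hx
    rw [I.g_nl, one_smul]
    rcases hs with hs | hs
    · obtain ⟨z, ha, hb, -⟩ := hS.scan_spec hV hR hs
      rw [ha, hb]
    · obtain ⟨z, ha, hb, -⟩ := hS.scan_spec hV hR hs
      rw [ha, hb]
  · unfold Cert.moveOK at h
    simp only [Bool.and_eq_true, Nat.blt_eq, Nat.beq_eq] at h
    obtain ⟨⟨⟨hb, hx⟩, h1⟩, h2⟩ := h
    rw [hx]
    exact hS.edge_spec hV hb _ h1 h2
  · simp only [Bool.and_eq_true, Nat.blt_eq] at h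
    exact hS.cong_spec hV false false h.1 h.1 rfl h.2
  · simp only [Bool.and_eq_true, Nat.blt_eq] at h
    exact hS.cong_spec hV false true (hV.inv_lt _ h.1) h.1 rfl h.2
  · exact absurd h (by simp)

theorem slotsBelow (k : ℕ) : I.SlotsBelow k := by
  induction k using Nat.strong_induction_on with
  | _ k ih =>
    intro key w h
    unfold Cert.slot at h
    rcases hk : Nat.blt key (Nat.mul C.M (Nat.succ C.nl))
    · rw [hk] at h; simp at h
    rw [hk] at h
    have hkey : key < C.M * (C.nl + 1) := by simpa using hk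
    have hOK := hV.keys key hkey
    change C.slotVal k key = w + 1 at h
    unfold Cert.slotVal at h
    unfold Cert.keyOK at hOK
    simp only [Nat.add_eq] at h hOK
    rcases he : C.slots.get (C.vb + C.rb) key with _ | e
    · rw [he] at h; simp at h
    rw [he] at h hOK
    simp only at h hOK
    rcases hr : Nat.shiftRight (Nat.succ e) C.vb with _ | r
    · rw [hr] at h; simp at h
    rw [hr] at h
    simp only [Nat.succ_eq_add_one] at h hr hOK
    rw [hr] at hOK
    rcases hb : Nat.blt (r + 1) k
    · rw [hb] at h; simp at h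
    rw [hb] at h
    simp only [Nat.add_right_cancel_iff] at h
    have h' := (ih (r + 1) (by simpa using hb)).fact_spec hV hR hOK
    rw [← h]
    exact h'

/-- The table of the first `N` nodes describes the action. -/
theorem table_spec {top u x s : ℕ} (hx : x ≤ C.nl) (h : C.look top u x = s + 1) :
    I.g x • I.node u = I.node s :=
  (slotsBelow hV hR top).look_spec hx h

theorem exists_node_of_mem_closure {a : G}
    (ha : a ∈ Subgroup.closure (I.g '' Set.Iio C.nl)) :
    ∀ u < C.N, ∃ w < C.N, a • I.node u = I.node w := by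
  induction ha using Subgroup.closure_induction'' with
  | mem a ha =>
    obtain ⟨x, hx, rfl⟩ := ha
    intro u hu
    obtain ⟨top, htop⟩ := hV.closed u hu
    obtain ⟨s, hs, hsN⟩ := htop x hx
    exact ⟨s, hsN, table_spec hV hR (le_of_lt hx) hs⟩
  | inv_mem a ha =>
    obtain ⟨x, hx, rfl⟩ := ha
    intro u hu
    obtain ⟨top, htop⟩ := hV.closed u hu
    obtain ⟨s, hs, hsN⟩ := htop (C.inv x) (hV.inv_lt x hx)
    have h := table_spec hV hR (hV.inv_lt x hx).le hs
    rw [I.g_inv x hx] at h
    exact ⟨s, hsN, h⟩
  | one => exact fun u hu => ⟨u, hu, one_smul _ _⟩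
  | mul a b _ _ iha ihb =>
    intro u hu
    obtain ⟨w, hw, hw'⟩ := ihb u hu
    obtain ⟨w', hw2, hw2'⟩ := iha w hw
    exact ⟨w', hw2, by rw [mul_smul, hw', hw2']⟩

theorem exists_node (hN : 0 < C.N) {a : G}
    (ha : a ∈ Subgroup.closure (I.g '' Set.Iio C.nl)) :
    ∃ w < C.N, a • I.base = I.node w := by
  rw [← I.node_zero]
  exact exists_node_of_mem_closure hV hR ha 0 hN

omit hV hR in
/-- A certificate bounds the index of `K` relative to the group of the generators. -/
theorem relIndex_le {C : Cert} {G : Type*} [Group G] {K : Subgroup G}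
    (I : C.Interp G (G ⧸ K)) (hbase : I.base = ((1 : G) : G ⧸ K)) (hV : C.Valid)
    (hR : I.Respects) (hN : 0 < C.N) :
    K.relIndex (Subgroup.closure (I.g '' Set.Iio C.nl)) ≤ C.N ∧
      K.relIndex (Subgroup.closure (I.g '' Set.Iio C.nl)) ≠ 0 := by
  set H := Subgroup.closure (I.g '' Set.Iio C.nl)
  have key : ∀ h : H, ∃ w : Fin C.N, ((h : G) : G ⧸ K) = I.node w := by
    intro h
    obtain ⟨w, hw, he⟩ := exists_node hV hR hN h.2
    refine ⟨⟨w, hw⟩, ?_⟩
    rw [hbase] at he
    simpa using he
  let f : H ⧸ K.subgroupOf H → Fin C.N := fun q => (key q.out).choose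
  have hf : Function.Injective f := by
    intro q q' e
    have h1 := (key q.out).choose_spec
    have h2 := (key q'.out).choose_spec
    change (key q.out).choose = (key q'.out).choose at e
    rw [e] at h1
    have h3 := h1.trans h2.symm
    rw [QuotientGroup.eq] at h3
    rw [← Quotient.out_eq' q, ← Quotient.out_eq' q']
    exact QuotientGroup.eq.2 (by simpa [Subgroup.mem_subgroupOf] using h3)
  have : Finite (H ⧸ K.subgroupOf H) := Finite.of_injective f hf
  refine ⟨?_, ?_⟩
  · show Nat.card (H ⧸ K.subgroupOf H) ≤ C.N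
    simpa using Nat.card_le_card_of_injective f hf
  · show Nat.card (H ⧸ K.subgroupOf H) ≠ 0
    exact Nat.card_pos.ne'

end Cert

end CfsgLib.Sporadic.CosetCert
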