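import Cfsg.Agent.Lib.Sporadic.CosetCertGroup

/-!
# Words in a table: chains given by words, and checks through flat rows

A flat row holds one permutation in one natural number, so that a step costs a shift.
-/

namespace CfsgLib.Sporadic.CosetCert.PTab

variable (T : PTab)

/-- Image of a point under a word, in order of application. -/
noncomputable def imgW (L : List ℕ) (u : ℕ) : ℕ := L.foldl (fun w x => T.img x w) u

/-- The letters of a packed word. -/
def unpack (w : ℕ × ℕ) : List ℕ :=
  (List.range w.1).map fun i => Nat.mod (Nat.shiftRight w.2 (Nat.mul 4 i)) 16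

/-- Search with words: each step `(point, predecessor, word)` adds a new point. -/
noncomputable def bfsW (W : List (List ℕ)) : List (ℕ × ℕ × ℕ) → ℕ → Option ℕ
  | [], m => some m
  | (p, q, r) :: t, m =>
    bif Nat.blt r W.length && Nat.testBit m q && !Nat.testBit m p && Nat.blt p T.N &&
        Nat.blt q T.N && Nat.beq (T.imgW (W.getD r []) q) p
    then bfsW W t (m ||| 2 ^ p) else none

/-- A chain of orbit certificates: base point, words, search. -/
noncomputable def chainWOK :
    List (ℕ × List (List ℕ) × List (ℕ × ℕ × ℕ)) → List ℕ → Bool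
  | [], _ => true
  | (b, W, L) :: t, fixed =>
    Nat.blt b T.N &&
      (W.all fun w => (w.all fun x => Nat.blt x T.nl) &&
        fixed.all fun c => Nat.beq (T.imgW w c) c) &&
      (T.bfsW W L (2 ^ b)).isSome && chainWOK t (b :: fixed)

/-- The product of the orbit sizes of a chain. -/
def chainWProd : List (ℕ × List (List ℕ) × List (ℕ × ℕ × ℕ)) → ℕ
  | [] => 1
  | (_, _, L) :: t => (L.length + 1) * chainWProd t

variable {T}

theorem run_eq_imgW (bits u : ℕ) : ∀ n, T.run n bits u = T.imgW (unpack (n, bits)) u := by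
  intro n
  induction n with
  | zero => rfl
  | succ n ih =>
    show T.img (Nat.mod (Nat.shiftRight bits (Nat.mul 4 n)) 16) (T.run n bits u) = _
    rw [ih, unpack, unpack, imgW, imgW, List.range_succ, List.map_append, List.foldl_append]
    rfl

theorem hom_imgW {G : Type*} [Group G] {φ : G →* Equiv.Perm (Fin T.N)} {g : ℕ → G}
    (hA : T.Acts φ g) :
    ∀ L : List ℕ, (∀ x ∈ L, x < T.nl) → ∀ v : Fin T.N,
      ((φ (appProd g L) v : Fin T.N) : ℕ) = T.imgW L v := by
  intro L
  induction L with
  | nil => intro _ v; simp [appProd, imgW]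
  | cons x t ih =>
    intro hL v
    rw [appProd, map_mul, Equiv.Perm.mul_apply,
      ih (fun y hy => hL y (List.mem_cons_of_mem _ hy)), hA.img_eq x (hL x List.mem_cons_self) v]
    rfl

theorem bfsW_spec {G : Type*} [Group G] {φ : G →* Equiv.Perm (Fin T.N)} {g : ℕ → G}
    (hA : T.Acts φ g) {P : Subgroup (Equiv.Perm (Fin T.N))} {W : List (List ℕ)}
    (hW : ∀ w ∈ W, (∀ x ∈ w, x < T.nl) ∧ φ (appProd g w) ∈ P) (b : Fin T.N) :
    ∀ L m m', T.bfsW W L m = some m' → (∀ u ∈ T.maskSet m, u ∈ MulAction.orbit P b) →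
      (∀ u ∈ T.maskSet m', u ∈ MulAction.orbit P b) ∧
        (T.maskSet m').card = (T.maskSet m).card + L.length := by
  intro L
  induction L with
  | nil =>
    intro m m' h hm
    simp only [bfsW, Option.some.injEq] at h
    subst h
    exact ⟨hm, rfl⟩
  | cons e t ih =>
    obtain ⟨p, q, r⟩ := e
    intro m m' h hm
    simp only [bfsW] at h
    rcases hc : (Nat.blt r W.length && Nat.testBit m q && !Nat.testBit m p && Nat.blt p T.N &&
        Nat.blt q T.N && Nat.beq (T.imgW (W.getD r []) q) p)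
    · rw [hc] at h; simp at h
    rw [hc] at h
    simp only [cond_true] at h
    simp only [Bool.and_eq_true, Bool.not_eq_true', Nat.blt_eq, Nat.beq_eq] at hc
    obtain ⟨⟨⟨⟨⟨hr, hq⟩, hp⟩, hpN⟩, hqN⟩, himg⟩ := hc
    obtain ⟨hl, hP⟩ := hW (W.getD r []) (by
      rw [List.getD_eq_getElem?_getD, List.getElem?_eq_getElem hr]; exact List.getElem_mem hr)
    have hnew : T.maskSet (m ||| 2 ^ p) = insert ⟨p, hpN⟩ (T.maskSet m) := by
      ext u
      simp only [mem_maskSet, Finset.mem_insert, Nat.testBit_or, Bool.or_eq_true,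
        Nat.testBit_two_pow, decide_eq_true_eq, Fin.ext_iff]
      tauto
    have hpnot : (⟨p, hpN⟩ : Fin T.N) ∉ T.maskSet m := by simp [mem_maskSet, hp]
    have horb : (⟨p, hpN⟩ : Fin T.N) ∈ MulAction.orbit P b := by
      have h1 := hm ⟨q, hqN⟩ (mem_maskSet.2 hq)
      have h3 : (⟨p, hpN⟩ : Fin T.N) = φ (appProd g (W.getD r [])) ⟨q, hqN⟩ :=
        Fin.ext (by rw [hom_imgW hA _ hl ⟨q, hqN⟩]; exact himg.symm)
      rw [h3]
      obtain ⟨⟨a, ha⟩, hab⟩ := h1
      exact ⟨⟨φ (appProd g (W.getD r [])) * a, mul_mem hP ha⟩,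
        congrArg (φ (appProd g (W.getD r []))) hab⟩
    obtain ⟨h1, h2⟩ := ih _ _ h (by
      intro u hu
      rw [hnew, Finset.mem_insert] at hu
      rcases hu with rfl | hu
      · exact horb
      · exact hm u hu)
    refine ⟨h1, ?_⟩
    rw [h2, hnew, Finset.card_insert_of_notMem hpnot, List.length_cons]
    ring

/-- A chain gives a lower bound for a group of permutations, times whatever fixes all its base
points. -/
theorem chainW_le_card {G : Type*} [Group G] {φ : G →* Equiv.Perm (Fin T.N)} {g : ℕ → G}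
    (hA : T.Acts φ g) (Z : Subgroup (Equiv.Perm (Fin T.N))) :
    ∀ (L : List (ℕ × List (List ℕ) × List (ℕ × ℕ × ℕ))) (fixed : List ℕ)
      (P : Subgroup (Equiv.Perm (Fin T.N))), T.chainWOK L fixed = true →
      (∀ e ∈ L, ∀ w ∈ e.2.1, (∀ c ∈ fixed, T.imgW w c = c) → φ (appProd g w) ∈ P) →
      Z ≤ P → (∀ e ∈ L, ∀ u : Fin T.N, (u : ℕ) = e.1 → ∀ z ∈ Z, z u = u) →
      Nat.card Z * chainWProd L ≤ Nat.card P := by
  intro L
  induction L with
  | nil =>
    intro _ P _ _ hZ _
    rw [chainWProd, mul_one]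
    exact Nat.card_le_card_of_injective (Subgroup.inclusion hZ) (Subgroup.inclusion_injective hZ)
  | cons e t ih =>
    obtain ⟨b, W, O⟩ := e
    intro fixed P h hmem hZ hfixZ
    simp only [chainWOK, Bool.and_eq_true, Nat.blt_eq, List.all_eq_true, Nat.beq_eq] at h
    obtain ⟨⟨⟨hb, hWW⟩, h1⟩, h3⟩ := h
    obtain ⟨m, hm⟩ := Option.isSome_iff_exists.1 h1
    obtain ⟨hsub, hcard⟩ := bfsW_spec hA (P := P)
      (fun w hw => ⟨(hWW w hw).1, hmem _ List.mem_cons_self w hw (hWW w hw).2⟩) ⟨b, hb⟩ O _ m hm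
      (by
        intro u hu
        rw [show (2 : ℕ) ^ b = 2 ^ ((⟨b, hb⟩ : Fin T.N) : ℕ) from rfl, maskSet_two_pow,
          Finset.mem_singleton] at hu
        subst hu
        exact MulAction.mem_orbit_self _)
    rw [show (2 : ℕ) ^ b = 2 ^ ((⟨b, hb⟩ : Fin T.N) : ℕ) from rfl, maskSet_two_pow,
      Finset.card_singleton] at hcard
    have horb : O.length + 1 ≤ Nat.card (MulAction.orbit P (⟨b, hb⟩ : Fin T.N)) := by
      rw [Nat.card_coe_set_eq, add_comm, ← hcard, ← Set.ncard_coe_finset]
      exact Set.ncard_le_ncard (fun u hu => hsub u hu) (Set.toFinite _)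
    have hst := ih (b :: fixed) (P ⊓ MulAction.stabilizer _ (⟨b, hb⟩ : Fin T.N)) h3 (by
        intro e he w hw hfix
        have hl : ∀ x ∈ w, x < T.nl := by
          have key : ∀ (L : List (ℕ × List (List ℕ) × List (ℕ × ℕ × ℕ))) (fx : List ℕ),
              T.chainWOK L fx = true → ∀ e ∈ L, ∀ w ∈ e.2.1, ∀ x ∈ w, x < T.nl := by
            intro L
            induction L with
            | nil => intro _ _ e he; simp at he
            | cons e' t' ih' =>
              obtain ⟨b', W', O'⟩ := e'
              intro fx hfx e he w hw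
              simp only [chainWOK, Bool.and_eq_true, Nat.blt_eq, List.all_eq_true] at hfx
              rcases List.mem_cons.1 he with rfl | he
              · exact (hfx.1.1.2 w hw).1
              · exact ih' _ hfx.2 e he w hw
          exact key t _ h3 e he w hw
        refine ⟨hmem e (List.mem_cons_of_mem _ he) w hw
          (fun c hc => hfix c (List.mem_cons_of_mem _ hc)), ?_⟩
        exact Fin.ext (by
          show ((φ (appProd g w) ⟨b, hb⟩ : Fin T.N) : ℕ) = b
          rw [hom_imgW hA w hl ⟨b, hb⟩]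
          exact hfix b List.mem_cons_self))
      (fun z hz => ⟨hZ hz, hfixZ _ List.mem_cons_self ⟨b, hb⟩ rfl z hz⟩)
      (fun e he => hfixZ e (List.mem_cons_of_mem _ he))
    have hos : Nat.card (MulAction.orbit P (⟨b, hb⟩ : Fin T.N)) *
        Nat.card (MulAction.stabilizer P (⟨b, hb⟩ : Fin T.N)) = Nat.card P := by
      rw [← Nat.card_prod]
      exact Nat.card_congr (MulAction.orbitProdStabilizerEquivGroup P _)
    have hle : Nat.card (P ⊓ MulAction.stabilizer (Equiv.Perm (Fin T.N)) (⟨b, hb⟩ : Fin T.N) :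
        Subgroup _) ≤ Nat.card (MulAction.stabilizer P (⟨b, hb⟩ : Fin T.N)) :=
      Nat.card_le_card_of_injective (fun a => ⟨⟨a.1, a.2.1⟩, a.2.2⟩)
        fun a a' e => by
          obtain ⟨a, _⟩ := a
          obtain ⟨a', _⟩ := a'
          cases e
          rfl
    calc Nat.card Z * ((O.length + 1) * chainWProd t)
        = (O.length + 1) * (Nat.card Z * chainWProd t) := by ring
      _ ≤ _ * _ := Nat.mul_le_mul horb (hst.trans hle)
      _ = Nat.card P := hos

/-- Follow flat rows; the value is brought to a numeral before it is used again. -/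
noncomputable def runF (wb : ℕ) (Rs : List ℕ) : ℕ → ℕ :=
  List.rec (motive := fun _ => ℕ → ℕ) (fun v => v)
    (fun R _ ih v => Nat.rec (motive := fun _ => ℕ) (ih 0) (fun w _ => ih (Nat.succ w))
      (Nat.mod (Nat.shiftRight R (Nat.mul v wb)) (Nat.pow 2 wb))) Rs

theorem runF_cons (wb R : ℕ) (Rs : List ℕ) (v : ℕ) :
    runF wb (R :: Rs) v =
      runF wb Rs (Nat.mod (Nat.shiftRight R (Nat.mul v wb)) (Nat.pow 2 wb)) := by
  show Nat.rec (motive := fun _ => ℕ) (runF wb Rs 0) (fun w _ => runF wb Rs (Nat.succ w))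
    (Nat.mod (Nat.shiftRight R (Nat.mul v wb)) (Nat.pow 2 wb)) = _
  cases Nat.mod (Nat.shiftRight R (Nat.mul v wb)) (Nat.pow 2 wb) <;> rfl

variable (T)

/-- The row number `x` of the table is the flat row `R`, on `n` points from `s`. -/
noncomputable def flatOK (x R s n : ℕ) : Bool :=
  Nat.rec (motive := fun _ => Bool) true
    (fun i ih => Nat.beq (T.img x (Nat.add s i))
        (Nat.mod (Nat.shiftRight R (Nat.mul (Nat.add s i) T.wb)) (Nat.pow 2 T.wb)) &&
      Nat.blt (T.img x (Nat.add s i)) T.N && ih) n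

/-- Flat rows fix `n` points from `s` along a list of rows. -/
noncomputable def fixF (Rs : List ℕ) (s n : ℕ) : Bool :=
  Nat.rec (motive := fun _ => Bool) true
    (fun i ih => Nat.beq (runF T.wb Rs (Nat.add s i)) (Nat.add s i) && ih) n

variable {T}

theorem flatOK_spec {x R s n : ℕ} (h : T.flatOK x R s n = true) :
    ∀ u, s ≤ u → u < s + n →
      T.img x u = Nat.mod (Nat.shiftRight R (Nat.mul u T.wb)) (Nat.pow 2 T.wb) ∧
        T.img x u < T.N := by
  induction n with
  | zero => intro u hu hu'; omega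
  | succ n ih =>
    intro u hu hu'
    unfold flatOK at h
    simp only [Nat.add_eq, Bool.and_eq_true, Nat.beq_eq, Nat.blt_eq] at h
    rcases Nat.lt_or_eq_of_le (Nat.le_of_lt_succ hu') with h' | rfl
    · exact ih h.2 u hu h'
    · exact h.1

theorem fixF_spec {Rs : List ℕ} {s n : ℕ} (h : T.fixF Rs s n = true) :
    ∀ u, s ≤ u → u < s + n → runF T.wb Rs u = u := by
  induction n with
  | zero => intro u hu hu'; omega
  | succ n ih =>
    intro u hu hu'
    unfold fixF at h
    simp only [Nat.add_eq, Bool.and_eq_true, Nat.beq_eq] at h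
    rcases Nat.lt_or_eq_of_le (Nat.le_of_lt_succ hu') with h' | rfl
    · exact ih h.2 u hu h'
    · exact h.1

theorem imgW_eq_runF {rows : List ℕ}
    (hR : ∀ x < T.nl, ∀ u < T.N,
      T.img x u = Nat.mod (Nat.shiftRight (rows.getD x 0) (Nat.mul u T.wb)) (Nat.pow 2 T.wb) ∧
        T.img x u < T.N) :
    ∀ L : List ℕ, (∀ x ∈ L, x < T.nl) → ∀ u < T.N,
      T.imgW L u = runF T.wb (L.map fun x => rows.getD x 0) u := by
  intro L
  induction L with
  | nil => intro _ u _; rfl
  | cons x t ih =>
    intro hL u hu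
    obtain ⟨h1, h2⟩ := hR x (hL x List.mem_cons_self) u hu
    show T.imgW t (T.img x u) = runF T.wb _ _
    rw [ih (fun y hy => hL y (List.mem_cons_of_mem _ hy)) _ h2, h1, List.map_cons, runF_cons]

end CfsgLib.Sporadic.CosetCert.PTab
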