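import Cfsg.Agent.Lib.Sporadic.DodecadPointData
import Cfsg.Agent.Lib.Sporadic.GroupTables
import Cfsg.Agent.Lib.Classical.SLBasic
import Cfsg.Agent.Lib.Classical.SLOrders
import Cfsg.Agent.Lib.Classical.SL2Sylow

/-!
Point stabilisers in the stabiliser of a dodecad: three points inside, a point inside and one or two
outside, and the centraliser of an involution in the stabiliser of a point.
-/

set_option autoImplicit false
set_option maxRecDepth 40000

namespace CfsgLib.Sporadic.DodecadPointStabilizers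

open Cfsg CfsgLib.SmallGroups.Golay CfsgLib.SmallGroups.GolayOctads CfsgLib.SmallGroups.M24Group
open CfsgLib.SmallGroups.Mathieu CfsgLib.Sporadic.M24Orbits
open CfsgLib.Sporadic.DodecadPointData CfsgLib.Sporadic.GroupTables
open scoped Pointwise

theorem mem_stab_point {g : M24} {p : GolayPt} :
    g ∈ MulAction.stabilizer M24 p ↔ (g : Equiv.Perm GolayPt) p = p := Iff.rfl

theorem mem_stab_set {g : M24} {d : Finset GolayPt} :
    g ∈ MulAction.stabilizer M24 d ↔ (g : Equiv.Perm GolayPt) • d = d := Iff.rfl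

/-- Injective families of at most five points in a dodecad are moved to each other. -/
theorem exists_move_in {d : Finset GolayPt} (hd : d ∈ dodecads) {k : ℕ} (hk : k ≤ 5) (x y : Fin k → GolayPt)
    (hx : Function.Injective x) (hy : Function.Injective y) (hxd : ∀ i, x i ∈ d) (hyd : ∀ i, y i ∈ d) :
    ∃ g : M24, g ∈ MulAction.stabilizer M24 d ∧ ∀ i, (g : Equiv.Perm GolayPt) (x i) = y i := by
  have ext5 : ∀ a : Fin k → GolayPt, Function.Injective a → (∀ i, a i ∈ d) →
      ∃ X : Fin 5 ↪ GolayPt, (∀ i, X i ∈ d) ∧ ∀ i : Fin k, X (Fin.castLE hk i) = a i := by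
    intro a ha had
    let a' : Fin k → ↥d := fun i => ⟨a i, had i⟩
    obtain ⟨f, hf⟩ := Equiv.Perm.exists_extending_pair (β := ↥d)
      (fun i : Fin k => (d.equivFinOfCardEq hd.2).symm (Fin.castLE (by omega) i)) a'
      (fun i j e => Fin.castLE_injective _ ((d.equivFinOfCardEq hd.2).symm.injective e))
      (fun i j e => ha (congrArg Subtype.val e))
    refine ⟨⟨fun i => (f ((d.equivFinOfCardEq hd.2).symm (Fin.castLE (by norm_num) i)) : GolayPt),
      fun i j e => Fin.castLE_injective _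
        ((d.equivFinOfCardEq hd.2).symm.injective (f.injective (Subtype.ext e)))⟩,
      fun i => Subtype.coe_prop _, fun i => ?_⟩
    exact congrArg Subtype.val (hf i)
  obtain ⟨X, hX, hXx⟩ := ext5 x hx hxd
  obtain ⟨Y, hY, hYy⟩ := ext5 y hy hyd
  obtain ⟨g, hg, -⟩ := dodecad_sharp hd X Y hX hY
  exact ⟨(g : M24), g.2, fun i => by rw [← hXx, ← hYy, hg]⟩

theorem apply_mem {d : Finset GolayPt} {g : M24} (hg : g ∈ MulAction.stabilizer M24 d) {p : GolayPt}
    (hp : p ∈ d) : (g : Equiv.Perm GolayPt) p ∈ d :=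
  Finset.subset_of_eq (mem_stab_set.1 hg) (Finset.smul_mem_smul_finset hp)

theorem apply_notMem {d : Finset GolayPt} {g : M24} (hg : g ∈ MulAction.stabilizer M24 d) {p : GolayPt}
    (hp : p ∉ d) : (g : Equiv.Perm GolayPt) p ∉ d := fun h => hp (by
  rw [← mem_stab_set.1 hg] at h
  obtain ⟨q, hq, e⟩ := Finset.mem_smul_finset.1 h
  rwa [Equiv.injective _ e] at hq)

theorem card_one {d : Finset GolayPt} (hd : d ∈ dodecads) {p : GolayPt} (hp : p ∈ d) :
    Nat.card ↥(MulAction.stabilizer M24 d ⊓ MulAction.stabilizer M24 p) = 7920 := by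
  have h := card_orbit_mul (MulAction.stabilizer M24 d) p
  have horb : MulAction.orbit (MulAction.stabilizer M24 d) p = ↑d := by
    ext q
    constructor
    · rintro ⟨g, rfl⟩; exact apply_mem g.2 hp
    · intro hq
      obtain ⟨g, hg, he⟩ := exists_move_in hd (k := 1) (by norm_num) ![p] ![q]
        (Function.injective_of_subsingleton _) (Function.injective_of_subsingleton _)
        (fun i => by fin_cases i; exact hp) (fun i => by fin_cases i; exact hq)
      exact ⟨⟨g, hg⟩, he 0⟩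
  rw [horb, Set.ncard_coe_finset, hd.2, card_stab_dodecad hd] at h
  show Nat.card ↥(MulAction.stabilizer M24 d ⊓ MulAction.stabilizer M24 p) = 7920
  omega

theorem card_two {d : Finset GolayPt} (hd : d ∈ dodecads) {p q : GolayPt} (hp : p ∈ d) (hq : q ∈ d)
    (hpq : p ≠ q) :
    Nat.card ↥(MulAction.stabilizer M24 d ⊓ MulAction.stabilizer M24 p ⊓ MulAction.stabilizer M24 q) = 720 := by
  have h := card_orbit_mul (MulAction.stabilizer M24 d ⊓ MulAction.stabilizer M24 p) q
  have horb : MulAction.orbit ↥(MulAction.stabilizer M24 d ⊓ MulAction.stabilizer M24 p) q = ↑(d.erase p) := by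
    ext r
    simp only [Finset.coe_erase, Set.mem_sdiff, Finset.mem_coe, Set.mem_singleton_iff]
    constructor
    · rintro ⟨⟨g, hg⟩, rfl⟩
      exact ⟨apply_mem hg.1 hq, fun e => hpq (((g : Equiv.Perm GolayPt).injective (e.trans (mem_stab_point.1 hg.2).symm))).symm⟩
    · rintro ⟨hr, hrp⟩
      obtain ⟨g, hg, he⟩ := exists_move_in hd (k := 2) (by norm_num) ![p, q] ![p, r]
        (fun i j e => by fin_cases i <;> fin_cases j <;> simp_all)
        (fun i j e => by fin_cases i <;> fin_cases j <;> simp_all)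
        (fun i => by fin_cases i; exacts [hp, hq]) (fun i => by fin_cases i; exacts [hp, hr])
      exact ⟨⟨g, hg, he 0⟩, he 1⟩
  rw [horb, Set.ncard_coe_finset, Finset.card_erase_of_mem hp, hd.2, card_one hd hp] at h
  show Nat.card ↥(MulAction.stabilizer M24 d ⊓ MulAction.stabilizer M24 p ⊓ MulAction.stabilizer M24 q) = 720
  omega

theorem card_three {d : Finset GolayPt} (hd : d ∈ dodecads) {p q r : GolayPt} (hp : p ∈ d) (hq : q ∈ d)
    (hr : r ∈ d) (hpq : p ≠ q) (hpr : p ≠ r) (hqr : q ≠ r) :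
    Nat.card ↥(MulAction.stabilizer M24 d ⊓ MulAction.stabilizer M24 p ⊓ MulAction.stabilizer M24 q ⊓
      MulAction.stabilizer M24 r) = 72 := by
  have h := card_orbit_mul (MulAction.stabilizer M24 d ⊓ MulAction.stabilizer M24 p ⊓ MulAction.stabilizer M24 q) r
  have horb : MulAction.orbit ↥(MulAction.stabilizer M24 d ⊓ MulAction.stabilizer M24 p ⊓
      MulAction.stabilizer M24 q) r = ↑((d.erase p).erase q) := by
    ext s
    simp only [Finset.coe_erase, Set.mem_sdiff, Finset.mem_coe, Set.mem_singleton_iff]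
    constructor
    · rintro ⟨⟨g, ⟨hgd, hgp⟩, hgq⟩, rfl⟩
      exact ⟨⟨apply_mem hgd hr,
        fun e => hpr (((g : Equiv.Perm GolayPt).injective (e.trans (mem_stab_point.1 hgp).symm))).symm⟩,
        fun e => hqr (((g : Equiv.Perm GolayPt).injective (e.trans (mem_stab_point.1 hgq).symm))).symm⟩
    · rintro ⟨⟨hs, hsp⟩, hsq⟩
      obtain ⟨g, hg, he⟩ := exists_move_in hd (k := 3) (by norm_num) ![p, q, r] ![p, q, s]
        (fun i j e => by fin_cases i <;> fin_cases j <;> simp_all)
        (fun i j e => by fin_cases i <;> fin_cases j <;> simp_all)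
        (fun i => by fin_cases i; exacts [hp, hq, hr]) (fun i => by fin_cases i; exacts [hp, hq, hs])
      exact ⟨⟨g, ⟨hg, he 0⟩, he 1⟩, he 2⟩
  rw [horb, Set.ncard_coe_finset,
    Finset.card_erase_of_mem (Finset.mem_erase.2 ⟨hpq.symm, hq⟩), Finset.card_erase_of_mem hp,
    hd.2, card_two hd hp hq hpq] at h
  show Nat.card ↥(MulAction.stabilizer M24 d ⊓ MulAction.stabilizer M24 p ⊓ MulAction.stabilizer M24 q ⊓
      MulAction.stabilizer M24 r) = 72
  omega

/-! ### The base configuration -/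

/-- The base dodecad. -/
abbrev D : Finset GolayPt := toSet dodB

/-- The base point inside. -/
abbrev P : GolayPt := pt 23

theorem base_facts : dodB.testBit 23 = true ∧ dodB.testBit 0 = true ∧ dodB.testBit 12 = true ∧
    dodB.testBit 14 = true ∧ dodB.testBit 16 = true ∧ dodB.testBit 2 = false ∧ dodB.testBit 3 = false := by
  decide +kernel

theorem pt_mem_D {i : ℕ} (hi : i < 24) : pt i ∈ D ↔ dodB.testBit i = true := by
  rw [mem_toSet, idx_pt hi]

theorem P_mem : P ∈ D := (pt_mem_D (by norm_num)).2 base_facts.1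

theorem to_base_one {d : Finset GolayPt} (hd : d ∈ dodecads) {k : ℕ} (hk : k ≤ 5) (x : Fin k → GolayPt)
    (y : Fin k → GolayPt) (hx : Function.Injective x) (hy : Function.Injective y) (hxd : ∀ i, x i ∈ d)
    (hyd : ∀ i, y i ∈ D) : ∃ a : M24, a • d = D ∧ ∀ i, (a : Equiv.Perm GolayPt) (x i) = y i := by
  obtain ⟨a, ha, had⟩ := exists_to_dodB hd
  obtain ⟨b, hb, he⟩ := exists_move_in dodB_mem hk (fun i => a (x i)) y
    (fun i j e => hx (a.injective e)) hy (fun i => had ▸ Finset.smul_mem_smul_finset (hxd i)) hyd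
  refine ⟨b * (⟨a, ha⟩ : M24), ?_, fun i => he i⟩
  show ((b : Equiv.Perm GolayPt) * a) • d = D
  rw [mul_smul, had, mem_stab_set.1 hb]

theorem wit_ok :
    (triWit.all fun n => okP n && img (pw n) dodB == dodB && pw n 23 == 23 && pw n 0 == 0 && pw n 12 == 12) = true ∧
    ((List.range 24).all fun i => dodB.testBit i || triWit.any fun n => pw n 2 == i) = true ∧
    (oneWit.all fun n => okP n && img (pw n) dodB == dodB && pw n 23 == 23) = true ∧
    ((List.range 24).all fun i => dodB.testBit i || oneWit.any fun n => pw n 2 == i) = true ∧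
    (pairWit.all fun n => okP n && img (pw n) dodB == dodB && pw n 23 == 23) = true ∧
    ((List.range 24).all fun i => (List.range 24).all fun j => dodB.testBit i || dodB.testBit j || i == j ||
      pairWit.any fun n => (pw n 2 == i && pw n 3 == j) || (pw n 2 == j && pw n 3 == i)) = true := by
  decide +kernel

theorem apply_pt {g : Equiv.Perm GolayPt} {n i j : ℕ} (hg : IsTbl g n) (hi : i < 24) (h : pw n i = j) :
    g (pt i) = pt j := hg.apply hi h

theorem exists_tri {y : GolayPt} (hy : y ∉ D) : ∃ g : M24,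
    g ∈ MulAction.stabilizer M24 D ⊓ MulAction.stabilizer M24 P ⊓ MulAction.stabilizer M24 (pt 0) ⊓
      MulAction.stabilizer M24 (pt 12) ∧ (g : Equiv.Perm GolayPt) (pt 2) = y := by
  have h := List.all_eq_true.1 wit_ok.2.1 (idx y) (List.mem_range.2 (idx_lt y))
  rw [Bool.or_eq_true, List.any_eq_true] at h
  obtain ⟨n, hn, e⟩ := h.resolve_left fun e => hy (mem_toSet.2 e)
  have h1 := List.all_eq_true.1 wit_ok.1 n hn
  simp only [Bool.and_eq_true, beq_iff_eq] at h1 e
  obtain ⟨⟨⟨⟨hok, hD⟩, h23⟩, h0⟩, h12⟩ := h1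
  obtain ⟨g, hg, hn'⟩ := exists_isTbl hok
  exact ⟨⟨g, hg⟩, ⟨⟨⟨(hn'.smul dodB).trans (by rw [hD]), apply_pt hn' (by norm_num) h23⟩,
    apply_pt hn' (by norm_num) h0⟩, apply_pt hn' (by norm_num) h12⟩,
    (apply_pt hn' (by norm_num) e).trans (pt_idx y)⟩

theorem exists_one {y : GolayPt} (hy : y ∉ D) : ∃ g : M24,
    g ∈ MulAction.stabilizer M24 D ⊓ MulAction.stabilizer M24 P ∧ (g : Equiv.Perm GolayPt) (pt 2) = y := by
  have h := List.all_eq_true.1 wit_ok.2.2.2.1 (idx y) (List.mem_range.2 (idx_lt y))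
  rw [Bool.or_eq_true, List.any_eq_true] at h
  obtain ⟨n, hn, e⟩ := h.resolve_left fun e => hy (mem_toSet.2 e)
  have h1 := List.all_eq_true.1 wit_ok.2.2.1 n hn
  simp only [Bool.and_eq_true, beq_iff_eq] at h1 e
  obtain ⟨⟨hok, hD⟩, h23⟩ := h1
  obtain ⟨g, hg, hn'⟩ := exists_isTbl hok
  exact ⟨⟨g, hg⟩, ⟨(hn'.smul dodB).trans (by rw [hD]), apply_pt hn' (by norm_num) h23⟩,
    (apply_pt hn' (by norm_num) e).trans (pt_idx y)⟩

theorem exists_pair {y z : GolayPt} (hy : y ∉ D) (hz : z ∉ D) (hyz : y ≠ z) : ∃ g : M24,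
    g ∈ MulAction.stabilizer M24 D ⊓ MulAction.stabilizer M24 P ∧
      g • ({pt 2, pt 3} : Finset GolayPt) = {y, z} := by
  have h := List.all_eq_true.1 (List.all_eq_true.1 wit_ok.2.2.2.2.2 (idx y) (List.mem_range.2 (idx_lt y)))
    (idx z) (List.mem_range.2 (idx_lt z))
  simp only [Bool.or_eq_true, beq_iff_eq, List.any_eq_true, Bool.and_eq_true] at h
  obtain ⟨n, hn, e⟩ := h.resolve_left (by
    rintro ((e | e) | e)
    exacts [hy (mem_toSet.2 e), hz (mem_toSet.2 e), hyz (idx_injective e)])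
  have h1 := List.all_eq_true.1 wit_ok.2.2.2.2.1 n hn
  simp only [Bool.and_eq_true, beq_iff_eq] at h1
  obtain ⟨⟨hok, hD⟩, h23⟩ := h1
  obtain ⟨g, hg, hn'⟩ := exists_isTbl hok
  refine ⟨⟨g, hg⟩, ⟨(hn'.smul dodB).trans (by rw [hD]), apply_pt hn' (by norm_num) h23⟩, ?_⟩
  show g • ({pt 2, pt 3} : Finset GolayPt) = {y, z}
  rw [Finset.smul_finset_insert, Finset.smul_finset_singleton, Equiv.Perm.smul_def, Equiv.Perm.smul_def]
  rcases e with ⟨e2, e3⟩ | ⟨e2, e3⟩
  · rw [apply_pt hn' (by norm_num) e2, apply_pt hn' (by norm_num) e3, pt_idx, pt_idx]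
  · rw [apply_pt hn' (by norm_num) e2, apply_pt hn' (by norm_num) e3, pt_idx, pt_idx, Finset.pair_comm]

/-! ### Three points inside -/

theorem three {d : Finset GolayPt} (hd : d ∈ dodecads) {p q r : GolayPt} (hp : p ∈ d) (hq : q ∈ d)
    (hr : r ∈ d) (hpq : p ≠ q) (hpr : p ≠ r) (hqr : q ≠ r) :
    Nat.card ↥(MulAction.stabilizer M24 d ⊓ MulAction.stabilizer M24 p ⊓ MulAction.stabilizer M24 q ⊓
      MulAction.stabilizer M24 r) = 72 ∧
    ∀ x ∉ d, ∀ y ∉ d, ∃ g ∈ (MulAction.stabilizer M24 d ⊓ MulAction.stabilizer M24 p ⊓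
      MulAction.stabilizer M24 q ⊓ MulAction.stabilizer M24 r), ((g : ↥M24) : Equiv.Perm GolayPt) x = y := by
  refine ⟨card_three hd hp hq hr hpq hpr hqr, fun x hx y hy => ?_⟩
  obtain ⟨-, b0, b12, -⟩ := base_facts
  obtain ⟨a, had, ha⟩ := to_base_one hd (k := 3) (by norm_num) ![p, q, r] ![P, pt 0, pt 12]
    (fun i j e => by fin_cases i <;> fin_cases j <;> simp_all) (by decide +kernel)
    (fun i => by fin_cases i; exacts [hp, hq, hr])
    (fun i => by
      fin_cases i
      exacts [P_mem, (pt_mem_D (by norm_num)).2 b0, (pt_mem_D (by norm_num)).2 b12])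
  have hout : ∀ z ∉ d, (a : Equiv.Perm GolayPt) z ∉ D := fun z hz h => hz (by
    rw [← had] at h
    obtain ⟨w, hw, e⟩ := Finset.mem_smul_finset.1 h
    rwa [Equiv.injective _ e] at hw)
  obtain ⟨g, ⟨⟨⟨g1, g2⟩, g3⟩, g4⟩, gx⟩ := exists_tri (hout x hx)
  obtain ⟨k, ⟨⟨⟨k1, k2⟩, k3⟩, k4⟩, ky⟩ := exists_tri (hout y hy)
  have hfix : ∀ i : Fin 3, ∀ z : GolayPt, (k * g⁻¹) • ![P, pt 0, pt 12] i = ![P, pt 0, pt 12] i →
      z = ![p, q, r] i → (a⁻¹ * (k * g⁻¹) * a) • z = z := by
    rintro i z h rfl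
    rw [mul_smul, mul_smul, show a • ![p, q, r] i = ![P, pt 0, pt 12] i from ha i, h, inv_smul_eq_iff]
    exact (ha i).symm
  refine ⟨a⁻¹ * (k * g⁻¹) * a, ⟨⟨⟨?_, hfix 0 p ?_ rfl⟩, hfix 1 q ?_ rfl⟩, hfix 2 r ?_ rfl⟩, ?_⟩
  · show (a⁻¹ * (k * g⁻¹) * a) • d = d
    rw [mul_smul, mul_smul, had, (mul_mem k1 (inv_mem g1) : k * g⁻¹ ∈ MulAction.stabilizer M24 D),
      ← had, inv_smul_smul]
  · exact (mul_mem k2 (inv_mem g2) : k * g⁻¹ ∈ MulAction.stabilizer M24 P)
  · exact (mul_mem k3 (inv_mem g3) : k * g⁻¹ ∈ MulAction.stabilizer M24 (pt 0))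
  · exact (mul_mem k4 (inv_mem g4) : k * g⁻¹ ∈ MulAction.stabilizer M24 (pt 12))
  · show (a⁻¹ * (k * g⁻¹) * a) • x = y
    rw [mul_smul, mul_smul, mul_smul, show g⁻¹ • a • x = pt 2 from inv_smul_eq_iff.2 gx.symm,
      show k • pt 2 = (a : Equiv.Perm GolayPt) y from ky, inv_smul_eq_iff]
    rfl

/-! ### A point inside, one or two outside -/

theorem card_out {d : Finset GolayPt} (hd : d = D) :
    Nat.card ↥(MulAction.stabilizer M24 d ⊓ MulAction.stabilizer M24 P ⊓ MulAction.stabilizer M24 (pt 2)) = 660 ∧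
    Nat.card ↥(MulAction.stabilizer M24 d ⊓ MulAction.stabilizer M24 P ⊓
      MulAction.stabilizer M24 ({pt 2, pt 3} : Finset GolayPt)) = 120 := by
  subst hd
  obtain ⟨-, -, -, -, -, b2, b3⟩ := base_facts
  have h2 : pt 2 ∉ D := fun h => by rw [pt_mem_D (by norm_num), b2] at h; exact Bool.false_ne_true h
  have h3 : pt 3 ∉ D := fun h => by rw [pt_mem_D (by norm_num), b3] at h; exact Bool.false_ne_true h
  constructor
  · have h := card_orbit_mul (MulAction.stabilizer M24 D ⊓ MulAction.stabilizer M24 P) (pt 2)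
    have horb : MulAction.orbit ↥(MulAction.stabilizer M24 D ⊓ MulAction.stabilizer M24 P) (pt 2) =
        ↑(Dᶜ : Finset GolayPt) := by
      ext r
      rw [Finset.mem_coe, Finset.mem_compl]
      constructor
      · rintro ⟨⟨g, hg⟩, rfl⟩; exact apply_notMem hg.1 h2
      · intro hr
        obtain ⟨g, hg, e⟩ := exists_one hr
        exact ⟨⟨g, hg⟩, e⟩
    rw [horb, Set.ncard_coe_finset, Finset.card_compl, card_golayPt, dodB_mem.2, card_one dodB_mem P_mem] at h
    show Nat.card ↥(MulAction.stabilizer M24 D ⊓ MulAction.stabilizer M24 P ⊓ MulAction.stabilizer M24 (pt 2)) = 660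
    omega
  · have h := card_orbit_mul (MulAction.stabilizer M24 D ⊓ MulAction.stabilizer M24 P) ({pt 2, pt 3} : Finset GolayPt)
    have horb : MulAction.orbit ↥(MulAction.stabilizer M24 D ⊓ MulAction.stabilizer M24 P)
        ({pt 2, pt 3} : Finset GolayPt) = ↑((Dᶜ : Finset GolayPt).powersetCard 2) := by
      ext r
      rw [Finset.mem_coe, Finset.mem_powersetCard]
      constructor
      · rintro ⟨⟨g, hg⟩, rfl⟩
        show (g : Equiv.Perm GolayPt) • ({pt 2, pt 3} : Finset GolayPt) ⊆ Dᶜ ∧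
          ((g : Equiv.Perm GolayPt) • ({pt 2, pt 3} : Finset GolayPt)).card = 2
        refine ⟨fun z hz => ?_, (Finset.card_smul_finset _ _).trans (by decide +kernel)⟩
        obtain ⟨w, hw, rfl⟩ := Finset.mem_smul_finset.1 hz
        rw [Finset.mem_compl]
        refine apply_notMem hg.1 ?_
        simp only [Finset.mem_insert, Finset.mem_singleton] at hw
        rcases hw with rfl | rfl
        exacts [h2, h3]
      · rintro ⟨hsub, hc⟩
        obtain ⟨y, z, hyz, rfl⟩ := Finset.card_eq_two.1 hc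
        obtain ⟨g, hg, e⟩ := exists_pair (Finset.mem_compl.1 (hsub (by simp))) (Finset.mem_compl.1 (hsub (by simp))) hyz
        exact ⟨⟨g, hg⟩, e⟩
    rw [horb, Set.ncard_coe_finset, Finset.card_powersetCard, Finset.card_compl, card_golayPt, dodB_mem.2,
      card_one dodB_mem P_mem, show Nat.choose (24 - 12) 2 = 66 by decide] at h
    show Nat.card ↥(MulAction.stabilizer M24 D ⊓ MulAction.stabilizer M24 P ⊓
      MulAction.stabilizer M24 ({pt 2, pt 3} : Finset GolayPt)) = 120
    omega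

theorem move_out {d : Finset GolayPt} (hd : d ∈ dodecads) {p : GolayPt} (hp : p ∈ d) :
    (∀ q ∉ d, ∃ a : M24, a • d = D ∧ a • p = P ∧ a • q = pt 2) ∧
    ∀ q ∉ d, ∀ q' ∉ d, q ≠ q' → ∃ a : M24, a • d = D ∧ a • p = P ∧
      a • ({q, q'} : Finset GolayPt) = {pt 2, pt 3} := by
  obtain ⟨a, had, ha⟩ := to_base_one hd (k := 1) (by norm_num) ![p] ![P] (Function.injective_of_subsingleton _)
    (Function.injective_of_subsingleton _) (fun i => by fin_cases i; exact hp)
    (fun i => by fin_cases i; exact P_mem)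
  have hap : a • p = P := ha 0
  have hout : ∀ z ∉ d, (a : Equiv.Perm GolayPt) z ∉ D := fun z hz h => hz (by
    rw [← had] at h
    obtain ⟨w, hw, e⟩ := Finset.mem_smul_finset.1 h
    rwa [Equiv.injective _ e] at hw)
  constructor
  · intro q hq
    obtain ⟨g, hg, e⟩ := exists_one (hout q hq)
    exact ⟨g⁻¹ * a, by rw [mul_smul, had, inv_smul_eq_iff]; exact (mem_stab_set.1 hg.1).symm,
      by rw [mul_smul, hap, inv_smul_eq_iff]; exact (mem_stab_point.1 hg.2).symm,
      by rw [mul_smul, inv_smul_eq_iff]; exact e.symm⟩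
  · intro q hq q' hq' hne
    obtain ⟨g, hg, e⟩ := exists_pair (hout q hq) (hout q' hq') fun h => hne (Equiv.injective _ h)
    refine ⟨g⁻¹ * a, by rw [mul_smul, had, inv_smul_eq_iff]; exact (mem_stab_set.1 hg.1).symm,
      by rw [mul_smul, hap, inv_smul_eq_iff]; exact (mem_stab_point.1 hg.2).symm, ?_⟩
    rw [mul_smul, inv_smul_eq_iff, e, Finset.smul_finset_insert, Finset.smul_finset_singleton]
    rfl

/-- Conjugation of a triple stabiliser. -/
def conjThree {G X Y Z : Type*} [Group G] [MulAction G X] [MulAction G Y] [MulAction G Z] (a : G)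
    {x x' : X} {y y' : Y} {z z' : Z} (hx : a • x = x') (hy : a • y = y') (hz : a • z = z') :
    ↥(MulAction.stabilizer G x ⊓ MulAction.stabilizer G y ⊓ MulAction.stabilizer G z) ≃*
      ↥(MulAction.stabilizer G x' ⊓ MulAction.stabilizer G y' ⊓ MulAction.stabilizer G z') :=
  ((MulAut.conj a).subgroupMap _).trans (MulEquiv.subgroupCongr (by
    rw [Subgroup.map_inf _ _ _ (MulAut.conj a).injective, Subgroup.map_inf _ _ _ (MulAut.conj a).injective,
      ← hx, ← hy, ← hz, MulAction.stabilizer_smul_eq_stabilizer_map_conj,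
      MulAction.stabilizer_smul_eq_stabilizer_map_conj, MulAction.stabilizer_smul_eq_stabilizer_map_conj]
    rfl))

/-! ### Two points outside: the symmetric group of degree five -/

/-- The orbit of five points. -/
def five : ℕ := 2 ^ 0 + 2 ^ 1 + 2 ^ 5 + 2 ^ 14 + 2 ^ 17

/-- The base stabiliser of a point inside and two outside. -/
abbrev H3 : Subgroup M24 :=
  MulAction.stabilizer M24 D ⊓ MulAction.stabilizer M24 P ⊓ MulAction.stabilizer M24 ({pt 2, pt 3} : Finset GolayPt)

theorem five_ok : gensP fiveGens [dodB, five, 2 ^ 23, 2 ^ 2 + 2 ^ 3] = true ∧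
    distinct ((List.range 120).map fun k => ev fiveGens (fiveWords.getD k [])) = true := by
  decide +kernel

theorem five_sets : toSet (2 ^ 2 + 2 ^ 3) = ({pt 2, pt 3} : Finset GolayPt) ∧ toSet (2 ^ 23) = {P} ∧
    (toSet five).card = 5 ∧ toSet five ⊆ D := by
  decide +kernel

theorem H3_fixes {g : M24} (hg : g ∈ H3) : (g : Equiv.Perm GolayPt) • toSet five = toSet five := by
  let L := (List.range 120).map fun k => ev fiveGens (fiveWords.getD k [])
  have hmem : ∀ n ∈ L, ∃ k : M24, k ∈ H3 ∧ (k : Equiv.Perm GolayPt) • toSet five = toSet five ∧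
      IsTbl (k : Equiv.Perm GolayPt) n := by
    intro n hn
    obtain ⟨k, -, rfl⟩ := List.mem_map.1 hn
    obtain ⟨x, hx, hfix, hxn⟩ := exists_ev five_ok.1 (fiveWords.getD k [])
    refine ⟨⟨x, hx⟩, ⟨⟨hfix _ (by simp), ?_⟩, ?_⟩, hfix _ (by simp), hxn⟩
    · exact apply_eq_of_fix (five_sets.2.1 ▸ hfix _ (by simp))
    · show x • ({pt 2, pt 3} : Finset GolayPt) = {pt 2, pt 3}
      rw [← five_sets.1]; exact hfix _ (by simp)
  obtain ⟨n, hn, h⟩ := listed (S := (fun x : M24 => (x : Equiv.Perm GolayPt)) '' (H3 : Set M24))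
    five_ok.2 (by
      rw [Set.ncard_image_of_injective _ Subtype.val_injective, List.length_map, List.length_range,
        ← Nat.card_coe_set_eq]
      exact (card_out rfl).2.le)
    (fun n hn => by
      obtain ⟨k, hk, -, hkn⟩ := hmem n hn
      exact ⟨k, ⟨k, hk, rfl⟩, hkn⟩) _ ⟨g, hg, rfl⟩
  obtain ⟨k, -, hkf, hkn⟩ := hmem n hn
  have e : (g : Equiv.Perm GolayPt) = k := h.ext hkn
  rw [e]; exact hkf

/-- The action on five points. -/
def toFive : H3 →* Equiv.Perm ↥(toSet five) where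
  toFun g := ((g : M24) : Equiv.Perm GolayPt).subtypePerm fun x => by
    conv_lhs => rw [← H3_fixes g.2]
    rw [← Equiv.Perm.smul_def, Finset.smul_mem_smul_finset_iff]
  map_one' := by ext; rfl
  map_mul' _ _ := by ext; rfl

theorem toFive_bijective : Function.Bijective toFive := by
  have hinj : Function.Injective toFive := by
    intro g h e
    let en := (toSet five).equivFinOfCardEq five_sets.2.2.1
    refine Subtype.ext (Subtype.ext (eq_of_five dodB_mem (x := fun i => (en.symm i : GolayPt))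
      (fun i j e' => en.symm.injective (Subtype.ext e')) (fun i => five_sets.2.2.2 (en.symm i).2)
      (g : M24).2 (h : M24).2 g.2.1.1 h.2.1.1 fun i => ?_))
    exact congrArg (fun f : Equiv.Perm ↥(toSet five) => ((f (en.symm i) : ↥(toSet five)) : GolayPt)) e
  refine hinj.bijective_of_nat_card_le ?_
  rw [Nat.card_perm, Nat.card_eq_fintype_card, Fintype.card_coe, five_sets.2.2.1]
  exact le_of_eq (((card_out rfl).2).symm ▸ rfl)

theorem two_outside {d : Finset GolayPt} (hd : d ∈ dodecads) {p q q' : GolayPt} (hp : p ∈ d) (hq : q ∉ d)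
    (hq' : q' ∉ d) (hqq' : q ≠ q') :
    Nonempty (↥(MulAction.stabilizer M24 d ⊓ MulAction.stabilizer M24 p ⊓
      MulAction.stabilizer M24 ({q, q'} : Finset GolayPt)) ≃* Equiv.Perm (Fin 5)) := by
  obtain ⟨a, had, hap, haq⟩ := (move_out hd hp).2 q hq q' hq' hqq'
  exact ⟨((conjThree a had hap haq).trans (MulEquiv.ofBijective toFive toFive_bijective)).trans
    ((toSet five).equivFinOfCardEq five_sets.2.2.1).permCongrHom⟩

/-! ### One point outside: `PSL₂(11)` -/

/-- The table of a matrix given by its entries. -/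
def tab (a b c d : ℕ) : ℕ :=
  if a = 0 then (tblB.getD (b - 1) []).getD d 0 else ((tblA.getD (a - 1) []).getD b []).getD c 0

theorem tab_gens : okP (tab 1 1 0 1) = true ∧ okP (tab 1 0 1 1) = true ∧
    img (pw (tab 1 1 0 1)) dodB = dodB ∧ img (pw (tab 1 0 1 1)) dodB = dodB ∧
    pw (tab 1 1 0 1) 23 = 23 ∧ pw (tab 1 0 1 1) 23 = 23 ∧ pw (tab 1 1 0 1) 2 = 2 ∧ pw (tab 1 0 1 1) 2 = 2 ∧
    tab 1 0 0 1 = idT ∧ tab 10 0 0 10 = idT ∧ tab 1 1 0 1 ≠ idT := by
  decide +kernel

set_option synthInstance.maxSize 2000 in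
set_option synthInstance.maxHeartbeats 200000 in
theorem tab_mul : ∀ a < 11, ∀ b < 11, ∀ c < 11, ∀ d < 11, (a * d + 10 * b * c) % 11 = 1 →
    GroupTables.comp (tab a b c d) (tab 1 1 0 1) = tab a ((a + b) % 11) c ((c + d) % 11) ∧
    GroupTables.comp (tab a b c d) (tab 1 0 1 1) = tab ((a + b) % 11) b ((c + d) % 11) d := by
  decide +kernel

theorem ten_eq : (10 : ZMod 11) = -1 := by decide

theorem isTbl_congr {g : Equiv.Perm GolayPt} {n m : ℕ} (h : IsTbl g n) (e : n = m) : IsTbl g m := e ▸ h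

theorem coe_transvection {i j : Fin 2} (h : i ≠ j) (c : ZMod 11) :
    ((Matrix.SpecialLinearGroup.transvection h c : Matrix.SpecialLinearGroup (Fin 2) (ZMod 11)) :
      Matrix (Fin 2) (Fin 2) (ZMod 11)) = Matrix.transvection i j c := rfl

/-- The table of a matrix. -/
def tabM (A : Matrix.SpecialLinearGroup (Fin 2) (ZMod 11)) : ℕ :=
  tab ((A : Matrix (Fin 2) (Fin 2) (ZMod 11)) 0 0).val ((A : Matrix (Fin 2) (Fin 2) (ZMod 11)) 0 1).val
    ((A : Matrix (Fin 2) (Fin 2) (ZMod 11)) 1 0).val ((A : Matrix (Fin 2) (Fin 2) (ZMod 11)) 1 1).val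

/-- The base stabiliser of a point inside and one outside. -/
abbrev H2 : Subgroup M24 :=
  MulAction.stabilizer M24 D ⊓ MulAction.stabilizer M24 P ⊓ MulAction.stabilizer M24 (pt 2)

theorem tabM_all (A : Matrix.SpecialLinearGroup (Fin 2) (ZMod 11)) :
    (∃ g : H2, IsTbl ((g : M24) : Equiv.Perm GolayPt) (tabM A)) ∧
    ∀ (B : Matrix.SpecialLinearGroup (Fin 2) (ZMod 11)) (g h : Equiv.Perm GolayPt),
      IsTbl h (tabM B) → IsTbl g (tabM A) → IsTbl (h * g) (tabM (B * A)) := by
  haveI : Fact (Nat.Prime 11) := ⟨by norm_num⟩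
  refine CfsgLib.Classical.sl_transvection_induction (fun A => (∃ g : H2, IsTbl ((g : M24) : Equiv.Perm GolayPt) (tabM A)) ∧
    ∀ (B : Matrix.SpecialLinearGroup (Fin 2) (ZMod 11)) (g h : Equiv.Perm GolayPt),
      IsTbl h (tabM B) → IsTbl g (tabM A) → IsTbl (h * g) (tabM (B * A))) ?_ ?_ ?_ A
  · have e : tabM 1 = idT := tab_gens.2.2.2.2.2.2.2.2.1
    refine ⟨⟨1, by rw [e]; exact isTbl_one⟩, fun B g h hh hg => ?_⟩
    rw [e] at hg
    rw [hg.ext isTbl_one, mul_one, mul_one]; exact hh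
  · intro i j hij c
    have hmul : ∀ A B : Matrix.SpecialLinearGroup (Fin 2) (ZMod 11),
        ((∃ g : H2, IsTbl ((g : M24) : Equiv.Perm GolayPt) (tabM A)) ∧
          ∀ (B : Matrix.SpecialLinearGroup (Fin 2) (ZMod 11)) (g h : Equiv.Perm GolayPt),
            IsTbl h (tabM B) → IsTbl g (tabM A) → IsTbl (h * g) (tabM (B * A))) →
        ((∃ g : H2, IsTbl ((g : M24) : Equiv.Perm GolayPt) (tabM B)) ∧
          ∀ (C : Matrix.SpecialLinearGroup (Fin 2) (ZMod 11)) (g h : Equiv.Perm GolayPt),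
            IsTbl h (tabM C) → IsTbl g (tabM B) → IsTbl (h * g) (tabM (C * B))) →
        ((∃ g : H2, IsTbl ((g : M24) : Equiv.Perm GolayPt) (tabM (A * B))) ∧
          ∀ (C : Matrix.SpecialLinearGroup (Fin 2) (ZMod 11)) (g h : Equiv.Perm GolayPt),
            IsTbl h (tabM C) → IsTbl g (tabM (A * B)) → IsTbl (h * g) (tabM (C * (A * B)))) := by
      rintro A B ⟨⟨g, hg⟩, hA⟩ ⟨⟨k, hk⟩, hB⟩
      refine ⟨⟨g * k, hB A _ _ hg hk⟩, fun C x h hh hx => ?_⟩
      rw [hx.ext (hB A _ _ hg hk), ← mul_assoc, ← mul_assoc]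
      exact hB _ _ _ (hA C _ _ hh hg) hk
    have h1 : ∀ (T : Matrix.SpecialLinearGroup (Fin 2) (ZMod 11)) (n : ℕ), tabM T = n → okP n = true →
        img (pw n) dodB = dodB → pw n 23 = 23 → pw n 2 = 2 →
        (∀ B : Matrix.SpecialLinearGroup (Fin 2) (ZMod 11), GroupTables.comp (tabM B) n = tabM (B * T)) →
        (∃ g : H2, IsTbl ((g : M24) : Equiv.Perm GolayPt) (tabM T)) ∧
          ∀ (B : Matrix.SpecialLinearGroup (Fin 2) (ZMod 11)) (g h : Equiv.Perm GolayPt),
            IsTbl h (tabM B) → IsTbl g (tabM T) → IsTbl (h * g) (tabM (B * T)) := by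
      intro T n hT hok hD h23 h2 hB
      obtain ⟨g, hg, hn⟩ := exists_isTbl hok
      refine ⟨⟨⟨⟨g, hg⟩, ⟨(hn.smul dodB).trans (by rw [hD]), apply_pt hn (by norm_num) h23⟩,
        apply_pt hn (by norm_num) h2⟩, by rw [hT]; exact hn⟩, fun B x h hh hx => ?_⟩
      rw [← hB B]
      rw [hT] at hx
      exact hh.comp hx
    obtain ⟨o1, o2, d1, d2, p1, p2, q1, q2, -⟩ := tab_gens
    have hdet : ∀ B : Matrix.SpecialLinearGroup (Fin 2) (ZMod 11),
        (((B : Matrix (Fin 2) (Fin 2) (ZMod 11)) 0 0).val * ((B : Matrix (Fin 2) (Fin 2) (ZMod 11)) 1 1).val +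
          10 * ((B : Matrix (Fin 2) (Fin 2) (ZMod 11)) 0 1).val *
            ((B : Matrix (Fin 2) (Fin 2) (ZMod 11)) 1 0).val) % 11 = 1 := fun B => by
      have h : (B : Matrix (Fin 2) (Fin 2) (ZMod 11)).det = 1 := B.2
      rw [Matrix.det_fin_two] at h
      rw [← ZMod.val_natCast]
      push_cast [ZMod.natCast_zmod_val]
      refine Eq.trans (congrArg ZMod.val ?_) (ZMod.val_one 11)
      rw [ten_eq]
      linear_combination h
    have hU := h1 (Matrix.SpecialLinearGroup.transvection (show (0 : Fin 2) ≠ 1 by decide) 1) (tab 1 1 0 1)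
      rfl o1 d1 p1 q1 fun B => by
        rw [tabM, (tab_mul _ (ZMod.val_lt _) _ (ZMod.val_lt _) _ (ZMod.val_lt _) _ (ZMod.val_lt _) (hdet B)).1]
        simp [tabM, Matrix.SpecialLinearGroup.coe_mul, coe_transvection, Matrix.transvection,
          Matrix.mul_apply, Fin.sum_univ_two, ZMod.val_add, add_comm]
    have hL := h1 (Matrix.SpecialLinearGroup.transvection (show (1 : Fin 2) ≠ 0 by decide) 1) (tab 1 0 1 1)
      rfl o2 d2 p2 q2 fun B => by
        rw [tabM, (tab_mul _ (ZMod.val_lt _) _ (ZMod.val_lt _) _ (ZMod.val_lt _) _ (ZMod.val_lt _) (hdet B)).2]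
        simp [tabM, Matrix.SpecialLinearGroup.coe_mul, coe_transvection, Matrix.transvection,
          Matrix.mul_apply, Fin.sum_univ_two, ZMod.val_add, add_comm]
    have hpow : ∀ (i j : Fin 2) (h : i ≠ j) (n : ℕ),
        Matrix.SpecialLinearGroup.transvection h ((n : ℕ) : ZMod 11) =
          (Matrix.SpecialLinearGroup.transvection h (1 : ZMod 11)) ^ n := by
      intro i j h n
      induction n with
      | zero => rw [pow_zero]; apply Subtype.ext; simp [coe_transvection, Matrix.transvection]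
      | succ n ih =>
        rw [pow_succ, ← ih]
        apply Subtype.ext
        simp [Matrix.SpecialLinearGroup.coe_mul, coe_transvection, Matrix.transvection_mul_transvection_same i j h]
    rw [← ZMod.natCast_zmod_val c, hpow]
    generalize hm : c.val = m
    clear hm
    induction m with
    | zero =>
      rw [pow_zero]
      have e : tabM 1 = idT := tab_gens.2.2.2.2.2.2.2.2.1
      refine ⟨⟨1, by rw [e]; exact isTbl_one⟩, fun B g h hh hg => ?_⟩
      rw [e] at hg
      rw [hg.ext isTbl_one, mul_one, mul_one]; exact hh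
    | succ m ih =>
      rw [pow_succ]
      refine hmul _ _ ih ?_
      fin_cases i <;> fin_cases j <;> first | exact absurd rfl hij | exact hU | exact hL
  · rintro A B ⟨⟨g, hg⟩, hA⟩ ⟨⟨k, hk⟩, hB⟩
    refine ⟨⟨g * k, hB A _ _ hg hk⟩, fun C x h hh hx => ?_⟩
    rw [hx.ext (hB A _ _ hg hk), ← mul_assoc, ← mul_assoc]
    exact hB _ _ _ (hA C _ _ hh hg) hk

/-- The homomorphism onto the base stabiliser. -/
noncomputable def slMap : Matrix.SpecialLinearGroup (Fin 2) (ZMod 11) →* H2 where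
  toFun A := (tabM_all A).1.choose
  map_one' := Subtype.ext (Subtype.ext (by
    exact (isTbl_congr (tabM_all 1).1.choose_spec
      (show tabM 1 = idT from tab_gens.2.2.2.2.2.2.2.2.1)).ext isTbl_one))
  map_mul' A B := Subtype.ext (Subtype.ext
    ((tabM_all (A * B)).1.choose_spec.ext
      ((tabM_all B).2 A _ _ (tabM_all A).1.choose_spec (tabM_all B).1.choose_spec)))

theorem one_outside {d : Finset GolayPt} (hd : d ∈ dodecads) {p q : GolayPt} (hp : p ∈ d) (hq : q ∉ d) :
    Nonempty (↥(MulAction.stabilizer M24 d ⊓ MulAction.stabilizer M24 p ⊓ MulAction.stabilizer M24 q) ≃*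
      Matrix.ProjectiveSpecialLinearGroup (Fin 2) (ZMod 11)) := by
  haveI : Fact (Nat.Prime 11) := ⟨by norm_num⟩
  have hneg : ∀ z : Matrix.SpecialLinearGroup (Fin 2) (ZMod 11), z ∈ Subgroup.center _ → z ∈ slMap.ker := by
    intro z hz
    obtain ⟨r, hr, hz'⟩ := Matrix.SpecialLinearGroup.mem_center_iff.1 hz
    have hr' : r = 1 ∨ r = 10 := by
      simp at hr
      rcases hr with rfl | rfl
      · exact Or.inl rfl
      · exact Or.inr ten_eq.symm
    refine MonoidHom.mem_ker.2 (Subtype.ext (Subtype.ext ?_))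
    have h := (tabM_all z).1.choose_spec
    have e : tabM z = idT := by
      rcases hr' with rfl | rfl
      · simp only [tabM, ← hz', Matrix.scalar_apply, Matrix.diagonal_apply_eq, ne_eq, Fin.isValue,
          zero_ne_one, not_false_eq_true, Matrix.diagonal_apply_ne, one_ne_zero]
        exact tab_gens.2.2.2.2.2.2.2.2.1
      · simp only [tabM, ← hz', Matrix.scalar_apply, Matrix.diagonal_apply_eq, ne_eq, Fin.isValue,
          zero_ne_one, not_false_eq_true, Matrix.diagonal_apply_ne, one_ne_zero]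
        exact tab_gens.2.2.2.2.2.2.2.2.2.1
    exact (isTbl_congr h e).ext isTbl_one
  let ψ : Matrix.ProjectiveSpecialLinearGroup (Fin 2) (ZMod 11) →* H2 := QuotientGroup.lift _ slMap hneg
  have h11 : Fintype.card (ZMod 11) = 11 := ZMod.card 11
  haveI := CfsgLib.Classical.psl_fin_isSimpleGroup (F := ZMod 11) (k := 2) le_rfl (fun _ => by omega)
  have hinj : Function.Injective ψ := by
    rw [← MonoidHom.ker_eq_bot_iff]
    refine (inferInstance : ψ.ker.Normal).eq_bot_or_eq_top.resolve_right fun htop => tab_gens.2.2.2.2.2.2.2.2.2.2 ?_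
    have h := MonoidHom.mem_ker.1 (htop ▸ Subgroup.mem_top
      ((Matrix.SpecialLinearGroup.transvection (show (0 : Fin 2) ≠ 1 by decide) (1 : ZMod 11) :
        Matrix.SpecialLinearGroup (Fin 2) (ZMod 11)) : Matrix.ProjectiveSpecialLinearGroup (Fin 2) (ZMod 11)))
    change slMap (Matrix.SpecialLinearGroup.transvection (show (0 : Fin 2) ≠ 1 by decide) 1) = 1 at h
    have h2 : IsTbl (1 : Equiv.Perm GolayPt) (tab 1 1 0 1) := by
      have := (tabM_all (Matrix.SpecialLinearGroup.transvection (show (0 : Fin 2) ≠ 1 by decide) (1 : ZMod 11))).1.choose_spec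
      rwa [show (tabM_all (Matrix.SpecialLinearGroup.transvection (show (0 : Fin 2) ≠ 1 by decide) (1 : ZMod 11))).1.choose = (1 : H2) from h] at this
    have hk := h2.key_eq isTbl_one
    exact absurd hk (by decide +kernel)
  have hcard : Nat.card (Matrix.ProjectiveSpecialLinearGroup (Fin 2) (ZMod 11)) = 660 := by
    have h := CfsgLib.Classical.card_psl_mul h11 2 (by norm_num)
    rw [CfsgLib.Classical.card_sl2 h11] at h
    norm_num at h
    rw [Nat.card_eq_fintype_card]; omega
  have hb : Function.Bijective ψ := hinj.bijective_of_nat_card_le (le_of_eq ((card_out rfl).1.trans hcard.symm))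
  obtain ⟨a, had, hap, haq⟩ := (move_out hd hp).1 q hq
  exact ⟨(conjThree a had hap haq).trans (MulEquiv.ofBijective ψ hb).symm⟩

/-! ### The centraliser of an involution -/

/-- The base stabiliser of a point inside. -/
abbrev H1 : Subgroup M24 := MulAction.stabilizer M24 D ⊓ MulAction.stabilizer M24 P

theorem invT_ok : okP invT = true ∧ img (pw invT) dodB = dodB ∧ pw invT 23 = 23 ∧ pw invT 0 = 12 ∧
    pw invT 12 = 0 ∧ pw invT 14 = 16 ∧ pw invT 16 = 14 := by
  decide +kernel

/-- The code of a product of matrices of degree two modulo three. -/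
def mulC (i j : ℕ) : ℕ :=
  27 * ((i / 27 * (j / 27) + i / 9 % 3 * (j / 3 % 3)) % 3) + 9 * ((i / 27 * (j / 9 % 3) + i / 9 % 3 * (j % 3)) % 3) +
    3 * ((i / 3 % 3 * (j / 27) + i % 3 * (j / 3 % 3)) % 3) + (i / 3 % 3 * (j / 9 % 3) + i % 3 * (j % 3)) % 3

theorem tblC_ok : ∀ i < 81, ((i / 27 * (i % 3) + 2 * (i / 9 % 3) * (i / 3 % 3)) % 3 ≠ 0) →
    okP (tblC.getD i 0) = true ∧ img (pw (tblC.getD i 0)) dodB = dodB ∧ pw (tblC.getD i 0) 23 = 23 ∧
      GroupTables.comp (tblC.getD i 0) invT = GroupTables.comp invT (tblC.getD i 0) := by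
  decide +kernel

set_option synthInstance.maxSize 2000 in
set_option synthInstance.maxHeartbeats 200000 in
theorem tblC_mul : tblC.getD 28 0 = idT ∧ ∀ i < 81, ∀ j < 81,
    ((i / 27 * (i % 3) + 2 * (i / 9 % 3) * (i / 3 % 3)) % 3 ≠ 0) →
    ((j / 27 * (j % 3) + 2 * (j / 9 % 3) * (j / 3 % 3)) % 3 ≠ 0) →
    GroupTables.comp (tblC.getD i 0) (tblC.getD j 0) = tblC.getD (mulC i j) 0 ∧
      (tblC.getD i 0 = tblC.getD j 0 → i = j) := by
  decide +kernel

theorem tblC_cover : ((List.range 24).all fun x => (List.range 24).all fun y =>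
    !(dodB.testBit x && dodB.testBit y && pw invT x != x && pw invT y != y && x != y && pw invT x != y) ||
      (List.range 81).any fun i => decide ((i / 27 * (i % 3) + 2 * (i / 9 % 3) * (i / 3 % 3)) % 3 ≠ 0) &&
        pw (tblC.getD i 0) 0 == x && pw (tblC.getD i 0) 14 == y) = true := by
  decide +kernel

/-- The code of a matrix. -/
def codeC (A : GL (Fin 2) (ZMod 3)) : ℕ :=
  27 * ((A : Matrix (Fin 2) (Fin 2) (ZMod 3)) 0 0).val + 9 * ((A : Matrix (Fin 2) (Fin 2) (ZMod 3)) 0 1).val +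
    3 * ((A : Matrix (Fin 2) (Fin 2) (ZMod 3)) 1 0).val + ((A : Matrix (Fin 2) (Fin 2) (ZMod 3)) 1 1).val

theorem codeC_spec (A : GL (Fin 2) (ZMod 3)) :
    codeC A < 81 ∧ (codeC A / 27 * (codeC A % 3) + 2 * (codeC A / 9 % 3) * (codeC A / 3 % 3)) % 3 ≠ 0 := by
  have hd : (A : Matrix (Fin 2) (Fin 2) (ZMod 3)).det ≠ 0 := Matrix.GeneralLinearGroup.det_ne_zero A
  have key : ∀ a b c d : ZMod 3, a * d - b * c ≠ 0 → (27 * a.val + 9 * b.val + 3 * c.val + d.val < 81 ∧
      ((27 * a.val + 9 * b.val + 3 * c.val + d.val) / 27 * ((27 * a.val + 9 * b.val + 3 * c.val + d.val) % 3) +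
        2 * ((27 * a.val + 9 * b.val + 3 * c.val + d.val) / 9 % 3) *
          ((27 * a.val + 9 * b.val + 3 * c.val + d.val) / 3 % 3)) % 3 ≠ 0) := by
    decide +kernel
  rw [Matrix.det_fin_two] at hd
  exact key _ _ _ _ hd

theorem codeC_mul (A B : GL (Fin 2) (ZMod 3)) : codeC (A * B) = mulC (codeC A) (codeC B) := by
  have key : ∀ a b c d a' b' c' d' : ZMod 3,
      27 * (a * a' + b * c').val + 9 * (a * b' + b * d').val + 3 * (c * a' + d * c').val + (c * b' + d * d').val =
        mulC (27 * a.val + 9 * b.val + 3 * c.val + d.val) (27 * a'.val + 9 * b'.val + 3 * c'.val + d'.val) := by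
    decide +kernel
  simp only [codeC, Units.val_mul, Matrix.mul_apply, Fin.sum_univ_two]
  exact key _ _ _ _ _ _ _ _

theorem centralizer_model {x₀ : H1} (hx : IsTbl ((x₀ : M24) : Equiv.Perm GolayPt) invT) :
    Nonempty (GL (Fin 2) (ZMod 3) ≃* ↥(Subgroup.centralizer ({x₀} : Set H1))) := by
  have hex : ∀ A : GL (Fin 2) (ZMod 3), ∃ g : Subgroup.centralizer ({x₀} : Set H1),
      IsTbl (((g : H1) : M24) : Equiv.Perm GolayPt) (tblC.getD (codeC A) 0) := by
    intro A
    obtain ⟨hlt, hnz⟩ := codeC_spec A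
    obtain ⟨hok, hD, h23, hcomm⟩ := tblC_ok _ hlt hnz
    obtain ⟨g, hg, hn⟩ := exists_isTbl hok
    let g₁ : H1 := ⟨⟨g, hg⟩, (hn.smul dodB).trans (by rw [hD]), apply_pt hn (by norm_num) h23⟩
    refine ⟨⟨g₁, Subgroup.mem_centralizer_singleton_iff.2 (Subtype.ext (Subtype.ext ?_))⟩, hn⟩
    exact (hn.comp hx).ext (hcomm ▸ hx.comp hn)
  choose f hf using hex
  let φ : GL (Fin 2) (ZMod 3) →* Subgroup.centralizer ({x₀} : Set H1) :=
    { toFun := f
      map_one' := by
        refine Subtype.ext (Subtype.ext (Subtype.ext ?_))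
        have h := hf 1
        rw [show codeC 1 = 28 by decide +kernel, tblC_mul.1] at h
        exact h.ext isTbl_one
      map_mul' := fun A B => by
        refine Subtype.ext (Subtype.ext (Subtype.ext ?_))
        have h := (hf A).comp (hf B)
        rw [(tblC_mul.2 _ (codeC_spec A).1 _ (codeC_spec B).1 (codeC_spec A).2 (codeC_spec B).2).1,
          ← codeC_mul] at h
        exact (hf (A * B)).ext h }
  have hinj : Function.Injective φ := by
    intro A B e
    have e' : f A = f B := e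
    have h1 := hf A
    rw [e'] at h1
    have hk := h1.key_eq (hf B)
    have hij : tblC.getD (codeC A) 0 = tblC.getD (codeC B) 0 := by
      have hall : ∀ i < 81, ∀ j < 81, GroupTables.key (tblC.getD i 0) = GroupTables.key (tblC.getD j 0) →
          tblC.getD i 0 = tblC.getD j 0 := by
        decide +kernel
      exact hall _ (codeC_spec A).1 _ (codeC_spec B).1 hk
    have hc := (tblC_mul.2 _ (codeC_spec A).1 _ (codeC_spec B).1 (codeC_spec A).2 (codeC_spec B).2).2 hij
    have key : ∀ a b c d a' b' c' d' : ZMod 3, 27 * a.val + 9 * b.val + 3 * c.val + d.val =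
        27 * a'.val + 9 * b'.val + 3 * c'.val + d'.val → a = a' ∧ b = b' ∧ c = c' ∧ d = d' := by
      decide +kernel
    obtain ⟨e1, e2, e3, e4⟩ := key _ _ _ _ _ _ _ _ hc
    refine Units.ext ?_
    ext i j
    fin_cases i <;> fin_cases j <;> assumption
  have hsurj : Function.Surjective φ := by
    rintro ⟨g, hgc⟩
    have hgp : ((g : M24) : Equiv.Perm GolayPt) • D = D := g.2.1
    have hcomm := congrArg (fun k : H1 => ((k : M24) : Equiv.Perm GolayPt)) (Subgroup.mem_centralizer_singleton_iff.1 hgc)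
    simp only [Subgroup.coe_mul] at hcomm
    set gp := ((g : M24) : Equiv.Perm GolayPt) with hgdef
    set xp := ((x₀ : M24) : Equiv.Perm GolayPt) with hxdef
    obtain ⟨b23, b0, b12, b14, b16, -, -⟩ := base_facts
    obtain ⟨-, -, x23, x0, x12, x14, x16⟩ := invT_ok
    have hin : ∀ i < 24, dodB.testBit i = true → dodB.testBit (idx (gp (pt i))) = true := fun i hi h => by
      rw [← mem_toSet]
      exact apply_mem g.2.1 ((pt_mem_D hi).2 h)
    have hx' : ∀ z, idx (xp z) = pw invT (idx z) := hx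
    have hc' : ∀ z, gp (xp z) = xp (gp z) := fun z => by
      have := congrArg (fun e : Equiv.Perm GolayPt => e z) hcomm
      simpa using this
    have hne : ∀ i j : ℕ, i < 24 → j < 24 → i ≠ j → gp (pt i) ≠ gp (pt j) := fun i j hi hj hij e =>
      hij (by simpa [idx_pt hi, idx_pt hj] using congrArg idx (gp.injective e))
    have mx : ∀ i j : ℕ, i < 24 → j < 24 → pw invT i = j → xp (pt i) = pt j := fun i j hi _ h => apply_pt hx hi h
    have h := List.all_eq_true.1 (List.all_eq_true.1 tblC_cover (idx (gp (pt 0))) (List.mem_range.2 (idx_lt _)))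
      (idx (gp (pt 14))) (List.mem_range.2 (idx_lt _))
    rw [Bool.or_eq_true] at h
    have hguard : (dodB.testBit (idx (gp (pt 0))) && dodB.testBit (idx (gp (pt 14))) &&
        pw invT (idx (gp (pt 0))) != idx (gp (pt 0)) && pw invT (idx (gp (pt 14))) != idx (gp (pt 14)) &&
        idx (gp (pt 0)) != idx (gp (pt 14)) && pw invT (idx (gp (pt 0))) != idx (gp (pt 14))) = true := by
      simp only [Bool.and_eq_true, bne_iff_ne, ← hx', ← hc', mx 0 12 (by norm_num) (by norm_num) x0,
        mx 14 16 (by norm_num) (by norm_num) x14]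
      refine ⟨⟨⟨⟨⟨hin 0 (by norm_num) b0, hin 14 (by norm_num) b14⟩, ?_⟩, ?_⟩, ?_⟩, ?_⟩ <;>
        exact fun e => hne _ _ (by norm_num) (by norm_num) (by norm_num) (idx_injective e)
    rw [hguard, Bool.not_true] at h
    obtain ⟨i, hi, hh⟩ := List.any_eq_true.1 (h.resolve_left Bool.false_ne_true)
    simp only [Bool.and_eq_true, decide_eq_true_iff, beq_iff_eq] at hh
    obtain ⟨⟨hnz, e0⟩, e14⟩ := hh
    rw [List.mem_range] at hi
    obtain ⟨A, hA⟩ : ∃ A : GL (Fin 2) (ZMod 3), codeC A = i := by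
      have key : ∀ i < 81, (i / 27 * (i % 3) + 2 * (i / 9 % 3) * (i / 3 % 3)) % 3 ≠ 0 →
          ((i / 27 : ℕ) : ZMod 3) * ((i % 3 : ℕ) : ZMod 3) - ((i / 9 % 3 : ℕ) : ZMod 3) * ((i / 3 % 3 : ℕ) : ZMod 3) ≠ 0 ∧
          27 * ((i / 27 : ℕ) : ZMod 3).val + 9 * ((i / 9 % 3 : ℕ) : ZMod 3).val + 3 * ((i / 3 % 3 : ℕ) : ZMod 3).val +
            ((i % 3 : ℕ) : ZMod 3).val = i := by
        decide +kernel
      obtain ⟨k1, k2⟩ := key i hi hnz
      exact ⟨Matrix.GeneralLinearGroup.mkOfDetNeZero !![((i / 27 : ℕ) : ZMod 3), ((i / 9 % 3 : ℕ) : ZMod 3);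
        ((i / 3 % 3 : ℕ) : ZMod 3), ((i % 3 : ℕ) : ZMod 3)] (by rw [Matrix.det_fin_two]; exact k1), k2⟩
    refine ⟨A, Subtype.ext (Subtype.ext (Subtype.ext ?_))⟩
    have hA' := hf A
    rw [hA] at hA'
    set fp := (((f A : H1) : M24) : Equiv.Perm GolayPt) with hfdef
    have f0 : fp (pt 0) = gp (pt 0) := by rw [apply_pt hA' (by norm_num) e0, pt_idx]
    have f14 : fp (pt 14) = gp (pt 14) := by rw [apply_pt hA' (by norm_num) e14, pt_idx]
    have hfc : ∀ z, fp (xp z) = xp (fp z) := fun z => by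
      have hh' := congrArg (fun k : H1 => ((k : M24) : Equiv.Perm GolayPt) z)
        (Subgroup.mem_centralizer_singleton_iff.1 (f A).2)
      simpa using hh'
    show fp = gp
    refine eq_of_five dodB_mem (x := ![P, pt 0, pt 12, pt 14, pt 16]) (by decide +kernel) ?_
      ((f A : H1) : M24).2 (g : M24).2 (f A : H1).2.1 g.2.1 fun j => ?_
    · intro j
      fin_cases j
      exacts [P_mem, (pt_mem_D (by norm_num)).2 b0, (pt_mem_D (by norm_num)).2 b12,
        (pt_mem_D (by norm_num)).2 b14, (pt_mem_D (by norm_num)).2 b16]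
    · fin_cases j
      · exact (mem_stab_point.1 (f A : H1).2.2).trans (mem_stab_point.1 g.2.2).symm
      · exact f0
      · show fp (pt 12) = gp (pt 12)
        rw [← mx 0 12 (by norm_num) (by norm_num) x0, hfc, hc', f0]
      · exact f14
      · show fp (pt 16) = gp (pt 16)
        rw [← mx 14 16 (by norm_num) (by norm_num) x14, hfc, hc', f14]
  exact ⟨MulEquiv.ofBijective φ ⟨hinj, hsurj⟩⟩

theorem involution_centralizer {d : Finset GolayPt} (hd : d ∈ dodecads) {p : GolayPt} (hp : p ∈ d)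
    (x : ↥(MulAction.stabilizer M24 d ⊓ MulAction.stabilizer M24 p)) (hx : orderOf x = 2) :
    Nonempty (↥(Subgroup.centralizer
      ({x} : Set ↥(MulAction.stabilizer M24 d ⊓ MulAction.stabilizer M24 p))) ≃* GL (Fin 2) (ZMod 3)) := by
  set xp := ((x : M24) : Equiv.Perm GolayPt) with hxp
  have hxd : xp • d = d := x.2.1
  have hxx : ∀ z, xp (xp z) = z := fun z => by
    have h2 : x * x = 1 := by rw [← pow_two, ← hx, pow_orderOf_eq_one]
    exact congrArg (fun k : ↥(MulAction.stabilizer M24 d ⊓ MulAction.stabilizer M24 p) =>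
      ((k : M24) : Equiv.Perm GolayPt) z) h2
  have hxm : ∀ {z}, z ∈ d → xp z ∈ d := fun hz => apply_mem x.2.1 hz
  have five_fixed : ∀ S : Finset GolayPt, S ⊆ d → S.card ≤ 2 → (∀ z ∈ d, z ∉ S → xp z = z) → False := by
    intro S hS hS2 hfix
    obtain ⟨T, hT, hT5⟩ := Finset.exists_subset_card_eq (s := d \ S) (n := 5) (by
      rw [Finset.card_sdiff_of_subset hS, hd.2]; omega)
    let en := T.equivFinOfCardEq hT5
    have h1 : xp = 1 := eq_of_five hd (x := fun i => (en.symm i : GolayPt))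
      (fun i j e => en.symm.injective (Subtype.ext e)) (fun i => (Finset.mem_sdiff.1 (hT (en.symm i).2)).1)
      (x : M24).2 (one_mem _) hxd (one_smul _ _)
      fun i => hfix _ (Finset.mem_sdiff.1 (hT (en.symm i).2)).1 (Finset.mem_sdiff.1 (hT (en.symm i).2)).2
    have : x = 1 := Subtype.ext (Subtype.ext h1)
    rw [this, orderOf_one] at hx
    norm_num at hx
  obtain ⟨a, had, hax⟩ : ∃ a ∈ d, xp a ≠ a := by
    by_contra! hall
    exact five_fixed ∅ (Finset.empty_subset _) (by simp) fun z hz _ => hall z hz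
  obtain ⟨c, hcd, hcx, hca, hcxa⟩ : ∃ c ∈ d, xp c ≠ c ∧ c ≠ a ∧ c ≠ xp a := by
    by_contra! hall
    refine five_fixed {a, xp a} ?_ (Finset.card_le_two) fun z hz hzS => ?_
    · simp [Finset.insert_subset_iff, had, hxm had]
    · simp only [Finset.mem_insert, Finset.mem_singleton, not_or] at hzS
      by_contra hzx
      exact hzS.2 (hall z hz hzx hzS.1)
  have hpx : xp p = p := x.2.2
  obtain ⟨b23, b0, b12, b14, b16, -, -⟩ := base_facts
  obtain ⟨g, hgd, hg⟩ := to_base_one hd (k := 5) le_rfl ![p, a, xp a, c, xp c] ![P, pt 0, pt 12, pt 14, pt 16]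
    (by
      have h1 : p ≠ a := fun e => hax (e ▸ hpx)
      have h2 : p ≠ xp a := fun e => hax (by rw [← e]; exact xp.injective (hpx.trans e))
      have h3 : p ≠ c := fun e => hcx (e ▸ hpx)
      have h4 : p ≠ xp c := fun e => hcx (by rw [← e]; exact xp.injective (hpx.trans e))
      have h5 : a ≠ xp c := fun e => hcxa (by rw [e, hxx])
      have h6 : xp a ≠ xp c := fun e => hca (xp.injective e).symm
      intro i j e
      revert e
      fin_cases i <;> fin_cases j <;>
        simp [h1, h2, h3, h4, h5, h6, h1.symm, h2.symm, h3.symm, h4.symm, h5.symm, h6.symm, Ne.symm hax, hax,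
          hca, hcxa, hcx, Ne.symm hca, Ne.symm hcxa, Ne.symm hcx])
    (by decide +kernel)
    (fun i => by fin_cases i; exacts [hp, had, hxm had, hcd, hxm hcd])
    (fun i => by
      fin_cases i
      exacts [P_mem, (pt_mem_D (by norm_num)).2 b0, (pt_mem_D (by norm_num)).2 b12,
        (pt_mem_D (by norm_num)).2 b14, (pt_mem_D (by norm_num)).2 b16])
  let e := conjStab g hgd (show g • p = P from hg 0)
  obtain ⟨hok, hD, t23, t0, t12, t14, t16⟩ := invT_ok
  obtain ⟨t, htM, htn⟩ := exists_isTbl hok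
  have hex : IsTbl (((e x : H1) : M24) : Equiv.Perm GolayPt) invT := by
    have heq : (((e x : H1) : M24) : Equiv.Perm GolayPt) = t := by
      refine eq_of_five dodB_mem (x := ![P, pt 0, pt 12, pt 14, pt 16]) (by decide +kernel) ?_
        ((e x : H1) : M24).2 htM (e x : H1).2.1 ((htn.smul dodB).trans (by rw [hD])) fun j => ?_
      · intro j
        fin_cases j
        exacts [P_mem, (pt_mem_D (by norm_num)).2 b0, (pt_mem_D (by norm_num)).2 b12,
          (pt_mem_D (by norm_num)).2 b14, (pt_mem_D (by norm_num)).2 b16]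
      · rw [show (((e x : H1) : M24) : Equiv.Perm GolayPt) =
          (g : Equiv.Perm GolayPt) * xp * (g : Equiv.Perm GolayPt)⁻¹ from
            congrArg Subtype.val (conjStab_apply g hgd (show g • p = P from hg 0) x)]
        have key : ∀ k l : Fin 5, xp (![p, a, xp a, c, xp c] k) = ![p, a, xp a, c, xp c] l →
            t (![P, pt 0, pt 12, pt 14, pt 16] k) = ![P, pt 0, pt 12, pt 14, pt 16] l →
            ((g : Equiv.Perm GolayPt) * xp * (g : Equiv.Perm GolayPt)⁻¹) (![P, pt 0, pt 12, pt 14, pt 16] k) =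
              t (![P, pt 0, pt 12, pt 14, pt 16] k) := by
          intro k l h1 h2
          rw [h2, ← hg k, ← hg l]
          simp [h1]
        fin_cases j
        · exact key 0 0 hpx (apply_pt htn (by norm_num) t23)
        · exact key 1 2 rfl (apply_pt htn (by norm_num) t0)
        · exact key 2 1 (hxx a) (apply_pt htn (by norm_num) t12)
        · exact key 3 4 rfl (apply_pt htn (by norm_num) t14)
        · exact key 4 3 (hxx c) (apply_pt htn (by norm_num) t16)
    rw [heq]; exact htn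
  obtain ⟨m⟩ := centralizer_model hex
  have hmap : (Subgroup.centralizer ({x} : Set ↥(MulAction.stabilizer M24 d ⊓ MulAction.stabilizer M24 p))).map
      e.toMonoidHom = Subgroup.centralizer ({e x} : Set H1) := by
    ext k
    rw [Subgroup.mem_map_equiv, Subgroup.mem_centralizer_singleton_iff, Subgroup.mem_centralizer_singleton_iff]
    constructor
    · intro h; simpa using congrArg e h
    · intro h; simpa using congrArg e.symm h
  exact ⟨((e.subgroupMap _).trans (MulEquiv.subgroupCongr hmap)).trans m.symm⟩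

end CfsgLib.Sporadic.DodecadPointStabilizers
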