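import Cfsg.Agent.Lib.Sporadic.QuartetData
import Cfsg.Agent.Lib.Sporadic.GroupTables
import Cfsg.Prelude.Def_SporadicCombinatorics

/-!
Quartets on a dodecad: existence and uniqueness through two complementary triples of a hexad, and
transitivity of the dodecad stabiliser on them.
-/

set_option autoImplicit false
set_option maxRecDepth 40000

namespace CfsgLib.Sporadic.DodecadQuartets

open Cfsg CfsgLib.SmallGroups.Golay CfsgLib.SmallGroups.GolayOctads CfsgLib.SmallGroups.M24Group
open CfsgLib.SmallGroups.Mathieu CfsgLib.Sporadic.M24Orbits CfsgLib.Sporadic.M24Config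
open CfsgLib.Sporadic.QuartetData CfsgLib.Sporadic.GroupTables
open scoped Pointwise

/-- Twelve bit code of a part of the base dodecad. -/
def code12 (h : ℕ) : ℕ :=
  (h &&& 3) ||| ((h >>> 2) &&& 12) ||| ((h >>> 8) &&& 1008) ||| ((h >>> 11) &&& 1024) |||
    ((h >>> 12) &&& 2048)

/-- The part of the base dodecad with a given code. -/
def dec12 (k : ℕ) : ℕ :=
  (k &&& 3) ||| ((k &&& 12) <<< 2) ||| ((k &&& 1008) <<< 8) ||| ((k &&& 1024) <<< 11) |||
    ((k &&& 2048) <<< 12)

/-- The mask is a hexad of the base dodecad. -/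
def hexOK (h : ℕ) : Bool := dec12 (code12 h) == h && hexBits.testBit (code12 h)

/-- The hexad masks. -/
def hexes : List ℕ := ((cwOfWeight 8).map fun o => o &&& dodB).filter fun h => pc h == 6

theorem hexes_facts : hexes.all (fun h => hexOK h) = true := by decide +kernel

theorem hexList_facts : hexBits = keySet code12 hexList ∧ hexList.all (fun h =>
    hexOK h && pc h == 6 && dodB &&& h == h) = true := by
  decide +kernel

theorem hexList_mem : hexList.all (fun h => hexes.contains h) = true := by decide +kernel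

theorem hexOK_iff {h : ℕ} (hlt : h < 2 ^ 24) :
    hexOK h = true ↔ toSet h ∈ hexadsOn (toSet dodB) := by
  constructor
  · intro hh
    rw [hexOK, Bool.and_eq_true, beq_iff_eq, hexList_facts.1] at hh
    obtain ⟨m, hm, e⟩ := keySet_sound _ _ hh.2
    have hok := List.all_eq_true.1 hexList_facts.2 m hm
    simp only [hexOK, Bool.and_eq_true, beq_iff_eq] at hok
    obtain rfl : h = m := by rw [← hh.1, ← e, hok.1.1.1]
    have hm' := List.contains_iff_mem.1 (List.all_eq_true.1 hexList_mem h hm)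
    obtain ⟨hm', h6⟩ := List.mem_filter.1 hm'
    obtain ⟨o, ho, rfl⟩ := List.mem_map.1 hm'
    exact ⟨(card_toSet _).trans (beq_iff_eq.1 h6), toSet o, mem_octads.2 ⟨o, ho, rfl⟩, toSet_inter o dodB⟩
  · rintro ⟨h6, S, hS, he⟩
    obtain ⟨o, ho, rfl⟩ := mem_octads.1 hS
    rw [toSet_inter] at he
    obtain rfl := toSet_inj (lt_of_le_of_lt Nat.and_le_left (cwOfWeight_lt ho)) hlt he
    exact List.all_eq_true.1 hexes_facts _ (List.mem_filter.2 ⟨List.mem_map.2 ⟨o, ho, rfl⟩,
      beq_iff_eq.2 ((card_toSet _).symm.trans h6)⟩)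

/-- The triples of the base dodecad. -/
def triples : List ℕ := triList

theorem triples_eq : ((sets 24 3).filter fun n => dodB &&& n == n) = triples := by decide +kernel

theorem triples_lt : ∀ n ∈ triples, n < 2 ^ 24 := by decide +kernel

theorem exists_triple {t : Finset GolayPt} (h3 : t.card = 3) (hsub : t ⊆ toSet dodB) :
    ∃ n ∈ triples, toSet n = t := by
  obtain ⟨n, hn, rfl⟩ := exists_set h3
  exact ⟨n, triples_eq ▸ List.mem_filter.2 ⟨hn, beq_iff_eq.2 ((subset_iff (sets_three_lt n hn).1).1 hsub)⟩, rfl⟩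

/-- The four masks of a packed quartet. -/
def tris (q : ℕ) : List ℕ :=
  [q % 16777216, (q >>> 24) % 16777216, (q >>> 48) % 16777216, (q >>> 72) % 16777216]

/-- A packed quartet as a set of sets. -/
def qset (q : ℕ) : Finset (Finset GolayPt) := (tris q).toFinset.image toSet

/-- Each packed quartet is one. -/
def quartetOK (q : ℕ) : Bool :=
  (tris q).all fun t => pc t == 3 && dodB &&& t == t &&
    (tris q).all fun u => t == u || hexOK (t ||| u)

theorem qs_facts : (∀ q ∈ qs, quartetOK q = true ∧ (tris q).Nodup) ∧ qs.length = 220 ∧ qs.Nodup := by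
  decide +kernel

theorem mem_qset {q : ℕ} {t : Finset GolayPt} : t ∈ qset q ↔ ∃ m ∈ tris q, toSet m = t := by
  simp [qset]

theorem tris_lt {q m : ℕ} (hm : m ∈ tris q) : m < 2 ^ 24 := by
  simp only [tris, List.mem_cons, List.not_mem_nil, or_false] at hm
  rcases hm with rfl | rfl | rfl | rfl <;> exact Nat.mod_lt _ (by norm_num)

theorem qset_mem {q : ℕ} (hq : q ∈ qs) : qset q ∈ quartets (toSet dodB) := by
  obtain ⟨hok, hnd⟩ := qs_facts.1 q hq
  simp only [quartetOK, List.all_eq_true, Bool.and_eq_true, Bool.or_eq_true, beq_iff_eq] at hok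
  refine ⟨?_, fun t ht => ?_, fun t ht u hu hne => ?_⟩
  · rw [qset, Finset.card_image_of_injOn, List.toFinset_card_of_nodup hnd]
    · simp [tris]
    · intro a ha b hb e
      exact toSet_inj (tris_lt (List.mem_toFinset.1 ha)) (tris_lt (List.mem_toFinset.1 hb)) e
  · obtain ⟨m, hm, rfl⟩ := mem_qset.1 ht
    exact ⟨(card_toSet m).trans (hok m hm).1.1, (subset_iff (tris_lt hm)).2 (hok m hm).1.2⟩
  · obtain ⟨m, hm, rfl⟩ := mem_qset.1 ht
    obtain ⟨k, hk, rfl⟩ := mem_qset.1 hu
    rw [toSet_union]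
    refine (hexOK_iff (Nat.or_lt_two_pow (tris_lt hm) (tris_lt hk))).1 ?_
    exact ((hok m hm).2 k hk).resolve_left fun e => hne (by rw [e])

/-- The packed quartets with a given triple. -/
def qOn (t : ℕ) : List ℕ := qs.filter fun q => (tris q).contains t

/-- The triples making a hexad with a given one. -/
def compat (t : ℕ) : List ℕ := triples.filter fun u => t &&& u == 0 && hexOK (t ||| u)

/-- All quartets through a triple are listed, just one through each compatible pair. -/
def throughOK (t : ℕ) : Bool :=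
  let Q := qOn t
  let C := compat t
  C.all fun u => (Q.filter fun q => (tris q).contains u).length == 1 &&
    C.all fun v => !(u &&& v == 0 && hexOK (u ||| v)) ||
      Q.any fun q => (tris q).contains u && (tris q).contains v &&
        (tris q).contains (dodB ^^^ (t ||| u ||| v))

theorem through : triples.all throughOK = true := by decide +kernel

theorem triple_and {t u : ℕ} (ht : t ∈ triples) (h : Disjoint (toSet t) (toSet u)) :
    t &&& u = 0 := by
  refine toSet_inj (lt_of_le_of_lt Nat.and_le_left (triples_lt t ht))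
    (by norm_num) ?_
  rw [← toSet_inter, Finset.disjoint_iff_inter_eq_empty.1 h]
  ext p; simp

theorem disjoint_of_union {d : Finset GolayPt} {t u : Finset GolayPt} (ht : t.card = 3) (hu : u.card = 3)
    (h : t ∪ u ∈ hexadsOn d) : Disjoint t u := by
  rw [← Finset.card_union_eq_card_add_card, h.1, ht, hu]

theorem exists_qs {Q : Finset (Finset GolayPt)} (hQ : Q ∈ quartets (toSet dodB)) :
    ∃ q ∈ qs, qset q = Q := by
  obtain ⟨h4, hsub, hhex⟩ := hQ
  obtain ⟨a, b, c, e, hab, hac, hae, hbc, hbe, hce, rfl⟩ := Finset.card_eq_four.1 h4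
  have key : ∀ x ∈ ({a, b, c, e} : Finset (Finset GolayPt)), ∃ n ∈ triples, toSet n = x :=
    fun x hx => exists_triple (hsub x hx).1 (hsub x hx).2
  obtain ⟨t, ht, hta⟩ := key a (by simp)
  obtain ⟨u, hu, hub⟩ := key b (by simp)
  obtain ⟨v, hv, hvc⟩ := key c (by simp)
  obtain ⟨w, hw, hwe⟩ := key e (by simp)
  have hlt : ∀ n ∈ triples, n < 2 ^ 24 := triples_lt
  have hdis : ∀ x ∈ ({a, b, c, e} : Finset (Finset GolayPt)), ∀ y ∈ ({a, b, c, e} : Finset (Finset GolayPt)),
      x ≠ y → Disjoint x y := fun x hx y hy hne =>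
    disjoint_of_union (hsub x hx).1 (hsub y hy).1 (hhex x hx y hy hne)
  have comp : ∀ m n, m ∈ triples → n ∈ triples → ∀ x ∈ ({a, b, c, e} : Finset (Finset GolayPt)),
      ∀ y ∈ ({a, b, c, e} : Finset (Finset GolayPt)), x ≠ y → toSet m = x → toSet n = y →
      m &&& n = 0 ∧ hexOK (m ||| n) = true := by
    intro m n hm hn x hx y hy hne hmx hny
    refine ⟨triple_and hm (hmx ▸ hny ▸ hdis x hx y hy hne), ?_⟩
    rw [hexOK_iff (Nat.or_lt_two_pow (hlt m hm) (hlt n hn)), ← toSet_union, hmx, hny]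
    exact hhex x hx y hy hne
  have htu := comp t u ht hu a (by simp) b (by simp) hab hta hub
  have htv := comp t v ht hv a (by simp) c (by simp) hac hta hvc
  have huv := comp u v hu hv b (by simp) c (by simp) hbc hub hvc
  have huC : u ∈ compat t := List.mem_filter.2 ⟨hu, by simp [htu.1, htu.2]⟩
  have hvC : v ∈ compat t := List.mem_filter.2 ⟨hv, by simp [htv.1, htv.2]⟩
  have h1 := List.all_eq_true.1 through t ht
  simp only [throughOK, List.all_eq_true, Bool.and_eq_true] at h1
  have h2 := (h1 u huC).2 v hvC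
  simp only [huv.1, huv.2, beq_self_eq_true, Bool.and_true, Bool.not_true, Bool.false_or,
    List.any_eq_true, Bool.and_eq_true, List.contains_iff_mem] at h2
  obtain ⟨q, hq, ⟨hqu, hqv⟩, hqw⟩ := h2
  obtain ⟨hqs, hqt⟩ := List.mem_filter.1 hq
  rw [List.contains_iff_mem] at hqt
  have heq : toSet (dodB ^^^ (t ||| u ||| v)) = e := by
    rw [toSet_xor, ← toSet_union, ← toSet_union, hta, hub, hvc]
    have hcover : a ∪ b ∪ c ∪ e = toSet dodB := by
      refine Finset.eq_of_subset_of_card_le (Finset.union_subset (Finset.union_subset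
        (Finset.union_subset (hsub a (by simp)).2 (hsub b (by simp)).2) (hsub c (by simp)).2)
        (hsub e (by simp)).2) ?_
      rw [Finset.card_union_of_disjoint, Finset.card_union_of_disjoint, Finset.card_union_of_disjoint
        (hdis a (by simp) b (by simp) hab), (hsub a (by simp)).1, (hsub b (by simp)).1,
        (hsub c (by simp)).1, (hsub e (by simp)).1, dodB_mem.2]
      · exact Finset.disjoint_union_left.2
          ⟨hdis a (by simp) c (by simp) hac, hdis b (by simp) c (by simp) hbc⟩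
      · exact Finset.disjoint_union_left.2 ⟨Finset.disjoint_union_left.2
          ⟨hdis a (by simp) e (by simp) hae, hdis b (by simp) e (by simp) hbe⟩,
          hdis c (by simp) e (by simp) hce⟩
    rw [← hcover, symmDiff_of_ge (Finset.subset_union_left (s₂ := e)),
      Finset.union_sdiff_cancel_left]
    exact Finset.disjoint_union_left.2 ⟨Finset.disjoint_union_left.2
      ⟨hdis a (by simp) e (by simp) hae, hdis b (by simp) e (by simp) hbe⟩,
      hdis c (by simp) e (by simp) hce⟩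
  refine ⟨q, hqs, (Finset.eq_of_subset_of_card_le ?_ ?_).symm⟩
  · intro x hx
    simp only [Finset.mem_insert, Finset.mem_singleton] at hx
    rcases hx with rfl | rfl | rfl | rfl
    exacts [mem_qset.2 ⟨t, hqt, hta⟩, mem_qset.2 ⟨u, hqu, hub⟩, mem_qset.2 ⟨v, hqv, hvc⟩,
      mem_qset.2 ⟨_, hqw, heq⟩]
  · rw [h4, (qset_mem hqs).1]

theorem pair_facts : qs.all (fun q => (tris q).getD 0 0 != (tris q).getD 1 0) = true := by
  decide +kernel

theorem qset_unique {q q' : ℕ} (hq : q ∈ qs) (hq' : q' ∈ qs) {t u : ℕ} (ht : t ∈ tris q) (hu : u ∈ tris q)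
    (ht' : t ∈ tris q') (hu' : u ∈ tris q') (hne : t ≠ u) : q = q' := by
  obtain ⟨-, hsub, hhex⟩ := qset_mem hq
  have ht2 := hsub _ (mem_qset.2 ⟨t, ht, rfl⟩)
  have hu2 := hsub _ (mem_qset.2 ⟨u, hu, rfl⟩)
  obtain ⟨t₁, htt, e1⟩ := exists_triple ht2.1 ht2.2
  obtain ⟨u₁, huu, e2⟩ := exists_triple hu2.1 hu2.2
  obtain rfl := toSet_inj (triples_lt _ htt) (tris_lt ht) e1
  obtain rfl := toSet_inj (triples_lt _ huu) (tris_lt hu) e2
  have hh := hhex _ (mem_qset.2 ⟨t₁, ht, rfl⟩) _ (mem_qset.2 ⟨u₁, hu, rfl⟩)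
    fun e => hne (toSet_inj (tris_lt ht) (tris_lt hu) e)
  have huC : u₁ ∈ compat t₁ := by
    refine List.mem_filter.2 ⟨huu, ?_⟩
    rw [Bool.and_eq_true, beq_iff_eq]
    refine ⟨triple_and htt (disjoint_of_union ht2.1 hu2.1 hh), ?_⟩
    rw [hexOK_iff (Nat.or_lt_two_pow (tris_lt ht) (tris_lt hu)), ← toSet_union]
    exact hh
  have h1 := List.all_eq_true.1 through t₁ htt
  simp only [throughOK, List.all_eq_true, Bool.and_eq_true, beq_iff_eq] at h1
  have hlen := (h1 u₁ huC).1
  rw [List.length_eq_one_iff] at hlen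
  obtain ⟨r, hr⟩ := hlen
  have hm : ∀ x ∈ qs, t₁ ∈ tris x → u₁ ∈ tris x → x = r := by
    intro x hx hxt hxu
    have : x ∈ (qOn t₁).filter fun y => (tris y).contains u₁ :=
      List.mem_filter.2 ⟨List.mem_filter.2 ⟨hx, List.contains_iff_mem.2 hxt⟩,
        List.contains_iff_mem.2 hxu⟩
    rwa [hr, List.mem_singleton] at this
  rw [hm q hq ht hu, hm q' hq' ht' hu']

theorem qset_inj {q q' : ℕ} (hq : q ∈ qs) (hq' : q' ∈ qs) (h : qset q = qset q') : q = q' := by
  have hp : (tris q).getD 0 0 ≠ (tris q).getD 1 0 := bne_iff_ne.1 (List.all_eq_true.1 pair_facts q hq)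
  have hmem : ∀ i < 4, (tris q).getD i 0 ∈ tris q := fun i hi => by
    rw [List.getD_eq_getElem _ _ (show i < (tris q).length by simpa [tris] using hi)]
    exact List.getElem_mem _
  have hto : ∀ m ∈ tris q, m ∈ tris q' := fun m hm => by
    obtain ⟨k, hk, e⟩ := mem_qset.1 (h ▸ mem_qset.2 ⟨m, hm, rfl⟩)
    exact toSet_inj (tris_lt hk) (tris_lt hm) e ▸ hk
  exact qset_unique hq hq' (hmem 0 (by norm_num)) (hmem 1 (by norm_num))
    (hto _ (hmem 0 (by norm_num))) (hto _ (hmem 1 (by norm_num))) hp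

theorem ncard_base : (quartets (toSet dodB)).ncard = 220 := by
  have e : quartets (toSet dodB) = ↑(qs.toFinset.image qset) := by
    ext Q
    simp only [Finset.coe_image, Set.mem_image, Finset.mem_coe, List.mem_toFinset]
    exact ⟨fun hQ => exists_qs hQ, by rintro ⟨q, hq, rfl⟩; exact qset_mem hq⟩
  rw [e, Set.ncard_coe_finset, Finset.card_image_of_injOn, List.toFinset_card_of_nodup qs_facts.2.2,
    qs_facts.2.1]
  intro a ha b hb hab
  exact qset_inj (List.mem_toFinset.1 ha) (List.mem_toFinset.1 hb) hab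

theorem smul_hexadsOn {g : Equiv.Perm GolayPt} (hg : g ∈ M24) {d h : Finset GolayPt} (hh : h ∈ hexadsOn d) :
    g • h ∈ hexadsOn (g • d) := by
  obtain ⟨h6, o, ho, rfl⟩ := hh
  exact ⟨(Finset.card_smul_finset g _).trans h6, g • o, smul_mem_weight hg ho,
    (Finset.smul_finset_inter ..).symm⟩

theorem smul_quartets {g : Equiv.Perm GolayPt} (hg : g ∈ M24) {d : Finset GolayPt}
    {Q : Finset (Finset GolayPt)} (hQ : Q ∈ quartets d) : g • Q ∈ quartets (g • d) := by
  obtain ⟨h4, hsub, hhex⟩ := hQ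
  refine ⟨(Finset.card_smul_finset g Q).trans h4, fun t ht => ?_, fun t ht u hu hne => ?_⟩
  · obtain ⟨x, hx, rfl⟩ := Finset.mem_smul_finset.1 ht
    exact ⟨(Finset.card_smul_finset g x).trans (hsub x hx).1,
      Finset.smul_finset_subset_smul_finset (hsub x hx).2⟩
  · obtain ⟨x, hx, rfl⟩ := Finset.mem_smul_finset.1 ht
    obtain ⟨y, hy, rfl⟩ := Finset.mem_smul_finset.1 hu
    rw [← Finset.smul_finset_union]
    exact smul_hexadsOn hg (hhex x hx y hy fun e => hne (e ▸ rfl))

/-- A table carries one packed quartet into another. -/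
def qStep (n r m : ℕ) : Bool := (tris r).all fun t => (tris m).contains (img (pw n) t)

theorem qStep_sound {g : Equiv.Perm GolayPt} {n r m : ℕ} (hg : IsTbl g n) (hr : r ∈ qs) (hm : m ∈ qs)
    (h : qStep n r m = true) : g • qset r = qset m := by
  refine Finset.eq_of_subset_of_card_le (fun x hx => ?_) ?_
  · obtain ⟨y, hy, rfl⟩ := Finset.mem_smul_finset.1 hx
    obtain ⟨t, ht, rfl⟩ := mem_qset.1 hy
    rw [hg.smul]
    exact mem_qset.2 ⟨_, List.contains_iff_mem.1 (List.all_eq_true.1 h t ht), rfl⟩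
  · rw [(qset_mem hm).1, Finset.card_smul_finset, (qset_mem hr).1]

/-- The first quartet. -/
def q₀ : ℕ := qs.getD 0 0

theorem qGens_ok : gensP qGens [dodB] = true := by decide +kernel

theorem qWit_ok : ∀ k < 220, qStep (ev qGens (qWit.getD k [])) q₀ (qs.getD k 0) = true := by
  decide +kernel

theorem q₀_mem : q₀ ∈ qs := by
  rw [q₀, List.getD_eq_getElem _ _ (show 0 < qs.length by rw [qs_facts.2.1]; norm_num)]
  exact List.getElem_mem _

theorem exists_from_q₀ {Q : Finset (Finset GolayPt)} (hQ : Q ∈ quartets (toSet dodB)) :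
    ∃ g ∈ M24, g • toSet dodB = toSet dodB ∧ g • qset q₀ = Q := by
  obtain ⟨q, hq, rfl⟩ := exists_qs hQ
  obtain ⟨k, hk, rfl⟩ := List.getElem_of_mem hq
  have h2 := qWit_ok k (qs_facts.2.1 ▸ hk)
  obtain ⟨g, hg, hd, hn⟩ := exists_ev qGens_ok (qWit.getD k [])
  refine ⟨g, hg, hd _ (List.mem_singleton_self _), qStep_sound hn q₀_mem (List.getElem_mem hk) ?_⟩
  rwa [List.getD_eq_getElem _ _ hk] at h2

theorem exists_to_q₀ {d : Finset GolayPt} (hd : d ∈ dodecads) {Q : Finset (Finset GolayPt)}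
    (hQ : Q ∈ quartets d) : ∃ g ∈ M24, g • d = toSet dodB ∧ g • Q = qset q₀ := by
  obtain ⟨a, ha, had⟩ := exists_to_dodB hd
  obtain ⟨b, hb, hbd, hbQ⟩ := exists_from_q₀ (had ▸ smul_quartets ha hQ)
  exact ⟨b⁻¹ * a, mul_mem (inv_mem hb) ha, by rw [mul_smul, had, inv_smul_eq_iff, hbd],
    by rw [mul_smul, inv_smul_eq_iff, hbQ]⟩

theorem ncard_quartets {d : Finset GolayPt} (hd : d ∈ dodecads) : (quartets d).ncard = 220 := by
  obtain ⟨a, ha, had⟩ := exists_to_dodB hd
  rw [← ncard_base, ← had]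
  refine Set.ncard_congr (fun Q _ => a • Q) (fun Q hQ => smul_quartets ha hQ)
    (fun _ _ _ _ e => smul_left_cancel a e) fun Q hQ => ⟨a⁻¹ • Q, ?_, smul_inv_smul a Q⟩
  have := smul_quartets (inv_mem ha) hQ
  rwa [inv_smul_smul] at this

theorem transitive {d : Finset GolayPt} (hd : d ∈ dodecads) {Q Q' : Finset (Finset GolayPt)}
    (hQ : Q ∈ quartets d) (hQ' : Q' ∈ quartets d) :
    ∃ g ∈ M24, g • d = d ∧ g • Q = Q' := by
  obtain ⟨a, ha, had, haQ⟩ := exists_to_q₀ hd hQ
  obtain ⟨b, hb, hbd, hbQ⟩ := exists_to_q₀ hd hQ'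
  exact ⟨b⁻¹ * a, mul_mem (inv_mem hb) ha, by rw [mul_smul, had, inv_smul_eq_iff, hbd],
    by rw [mul_smul, haQ, inv_smul_eq_iff, hbQ]⟩

theorem exists_base_quartet {t u : ℕ} (ht : t ∈ triples) (hu : u ∈ compat t) :
    ∃ q ∈ qs, t ∈ tris q ∧ u ∈ tris q := by
  have h1 := List.all_eq_true.1 through t ht
  simp only [throughOK, List.all_eq_true, Bool.and_eq_true, beq_iff_eq] at h1
  obtain ⟨r, hr⟩ := List.length_eq_one_iff.1 (h1 u hu).1
  have hm : r ∈ (qOn t).filter fun y => (tris y).contains u := by rw [hr]; exact List.mem_singleton_self r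
  obtain ⟨h2, h3⟩ := List.mem_filter.1 hm
  obtain ⟨h4, h5⟩ := List.mem_filter.1 h2
  exact ⟨r, h4, List.contains_iff_mem.1 h5, List.contains_iff_mem.1 h3⟩

theorem exists_unique_quartet {d : Finset GolayPt} (hd : d ∈ dodecads) {t u : Finset GolayPt}
    (ht : t.card = 3) (hu : u.card = 3) (hh : t ∪ u ∈ hexadsOn d) :
    ∃! Q : Finset (Finset GolayPt), Q ∈ quartets d ∧ t ∈ Q ∧ u ∈ Q := by
  obtain ⟨a, ha, had⟩ := exists_to_dodB hd
  have hh' : a • t ∪ a • u ∈ hexadsOn (toSet dodB) := by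
    rw [← Finset.smul_finset_union, ← had]; exact smul_hexadsOn ha hh
  obtain ⟨-, o, -, ho⟩ := hh
  have hsub : t ∪ u ⊆ d := ho ▸ Finset.inter_subset_right
  have ha' : ∀ s, s ⊆ d → a • s ⊆ toSet dodB := fun s hs => had ▸ Finset.smul_finset_subset_smul_finset hs
  have hct : (a • t).card = 3 := (Finset.card_smul_finset a t).trans ht
  have hcu : (a • u).card = 3 := (Finset.card_smul_finset a u).trans hu
  obtain ⟨t₁, ht1, et⟩ := exists_triple hct (ha' t (Finset.union_subset_iff.1 hsub).1)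
  obtain ⟨u₁, hu1, eu⟩ := exists_triple hcu (ha' u (Finset.union_subset_iff.1 hsub).2)
  have hlt : ∀ n ∈ triples, n < 2 ^ 24 := triples_lt
  have hd' := disjoint_of_union hct hcu hh'
  have huC : u₁ ∈ compat t₁ := by
    refine List.mem_filter.2 ⟨hu1, ?_⟩
    rw [Bool.and_eq_true, beq_iff_eq]
    refine ⟨triple_and ht1 (et ▸ eu ▸ hd'), ?_⟩
    rw [hexOK_iff (Nat.or_lt_two_pow (hlt _ ht1) (hlt _ hu1)), ← toSet_union, et, eu]
    exact hh'
  have hne : t₁ ≠ u₁ := fun e => by
    subst e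
    rw [← et, ← eu, disjoint_self, Finset.bot_eq_empty] at hd'
    rw [← et, hd', Finset.card_empty] at hct
    exact absurd hct (by norm_num)
  obtain ⟨q, hq, hqt, hqu⟩ := exists_base_quartet ht1 huC
  refine ⟨a⁻¹ • qset q, ⟨?_, ?_, ?_⟩, ?_⟩
  · have := smul_quartets (inv_mem ha) (qset_mem hq)
    rwa [← had, inv_smul_smul] at this
  · exact Finset.mem_inv_smul_finset_iff.2 (mem_qset.2 ⟨t₁, hqt, et⟩)
  · exact Finset.mem_inv_smul_finset_iff.2 (mem_qset.2 ⟨u₁, hqu, eu⟩)
  · rintro Q ⟨hQ, hQt, hQu⟩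
    obtain ⟨r, hr, e⟩ := exists_qs (had ▸ smul_quartets ha hQ)
    have hin : ∀ {s : Finset GolayPt} {n : ℕ}, n < 2 ^ 24 → s ∈ Q → toSet n = a • s → n ∈ tris r := by
      intro s n hn hs hns
      obtain ⟨k, hk, hk'⟩ := mem_qset.1 (e ▸ Finset.smul_mem_smul_finset hs : a • s ∈ qset r)
      exact toSet_inj (tris_lt hk) hn (hk'.trans hns.symm) ▸ hk
    rw [qset_unique hr hq (hin (hlt _ ht1) hQt et) (hin (hlt _ hu1) hQu eu) hqt hqu hne] at e
    rw [e, inv_smul_smul]

end CfsgLib.Sporadic.DodecadQuartets
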