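import Cfsg.Prelude
import Cfsg.Agent.Lib.LocalEven.Residual
import Cfsg.Agent.Lib.PGroup.Frattini

/-!
A criterion for a finite 2-group to be extraspecial.
-/

set_option autoImplicit false

open scoped commutatorElement

namespace CfsgLib.Sporadic.ExtraspecialCrit

/-- A finite 2-group whose commutators and squares are powers of an involution generating its centre, and
which is not abelian, is extraspecial. -/
theorem isExtraspecial {P : Type*} [Group P] [Finite P] (hP : IsPGroup 2 P) (z : P) (hz : z ≠ 1)
    (hzc : z ∈ Subgroup.center P) (hcomm : ∀ a b : P, ⁅a, b⁆ = 1 ∨ ⁅a, b⁆ = z)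
    (hsq : ∀ a : P, a * a = 1 ∨ a * a = z) (hcen : ∀ a ∈ Subgroup.center P, a = 1 ∨ a = z)
    (hne : ∃ a b : P, ¬ Commute a b) : Cfsg.IsExtraspecial 2 P := by
  have : Fact (Nat.Prime 2) := ⟨Nat.prime_two⟩
  have hmem : ∀ a : P, a = 1 ∨ a = z → a ∈ Subgroup.center P := fun a ha => by
    rcases ha with rfl | rfl
    exacts [one_mem _, hzc]
  obtain ⟨x, y, hxy⟩ := hne
  have hxyz : ⁅x, y⁆ = z := (hcomm x y).resolve_left fun h => hxy (commutatorElement_eq_one_iff_commute.1 h)
  have hcom : commutator P = Subgroup.center P := by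
    refine le_antisymm ?_ fun a ha => ?_
    · rw [commutator_def, Subgroup.commutator_le]
      exact fun a _ b _ => hmem _ (hcomm a b)
    · rcases hcen a ha with rfl | rfl
      · exact one_mem _
      · rw [← hxyz]
        exact Subgroup.commutator_mem_commutator (Subgroup.mem_top _) (Subgroup.mem_top _)
  refine ⟨⟨hP, le_antisymm ?_ ?_, hcom⟩, ?_⟩
  · exact LocalEven.Residual.frattini_le (p := 2) (fun a b => hmem _ (hcomm a b))
      fun a => by rw [pow_two]; exact hmem _ (hsq a)
  · intro a ha
    rcases hcen a ha with rfl | rfl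
    · exact one_mem _
    · rw [← hxyz]
      exact PGroup.Frattini.commutatorElement_mem_frattini hP x y
  · have h2 : (Subgroup.center P : Set P) = {1, z} := Set.ext fun a =>
      ⟨fun ha => hcen a ha, fun ha => hmem a ha⟩
    rw [← SetLike.coe_sort_coe, h2, Nat.card_coe_set_eq, Set.ncard_pair hz.symm]

end CfsgLib.Sporadic.ExtraspecialCrit
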