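import Cfsg.Agent.Lib.Sporadic.FiPresented
import Cfsg.Prelude.Def_SporadicB
import Cfsg.Prelude.Def_Sporadic
import Cfsg.Prelude.Def_Classical

/-!
# The class of 3510 three-transpositions of the presented group Fi22
-/

open Cfsg.Spor

namespace CfsgLib.Sporadic.CosetCert.FiP

/-- The image of a word in the presented group. -/
noncomputable abbrev wd (r : FreeGroup Fi22.Gen) : Fi22 :=
  PresentedGroup.mk (coxRelators Fi22.edges ∪ {r | r ∈ Fi22.extra}) r

/-- Where a word sends a point. -/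
noncomputable def imgOf (r : FreeGroup Fi22.Gen) (v : ℕ) : ℕ :=
  (appWord coding.code coding.cinv r).foldl (fun w x => FiData.table.img x w) v

theorem hom_wd {r : FreeGroup Fi22.Gen}
    (hl : ∀ x ∈ appWord coding.code coding.cinv r, x < FiData.table.nl)
    (v : Fin FiData.table.N) : ((hom (wd r) v : Fin FiData.table.N) : ℕ) = imgOf r v := by
  rw [wd, coding.mk_eq, hom_word _ hl v]
  rfl

theorem wd_ne {r s : FreeGroup Fi22.Gen}
    (hr : ∀ x ∈ appWord coding.code coding.cinv r, x < FiData.table.nl)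
    (hs : ∀ x ∈ appWord coding.code coding.cinv s, x < FiData.table.nl)
    (h : ∃ v < 16, imgOf r v ≠ imgOf s v) : wd r ≠ wd s := fun e => by
  obtain ⟨v, hv, hne⟩ := h
  have hv' : v < FiData.table.N := lt_of_lt_of_le hv (by decide +kernel)
  exact hne (by rw [← hom_wd hr ⟨v, hv'⟩, ← hom_wd hs ⟨v, hv'⟩, e])

theorem wd_eq {r s : FreeGroup Fi22.Gen}
    (hr : ∀ x ∈ appWord coding.code coding.cinv r, x < FiData.table.nl)
    (hs : ∀ x ∈ appWord coding.code coding.cinv s, x < FiData.table.nl)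
    (h : allBelow (fun v => Nat.beq (imgOf r v) (imgOf s v)) FiData.table.N = true) :
    wd r = wd s := by
  refine card_eq.2 (Equiv.ext fun u => Fin.ext ?_)
  rw [hom_wd hr, hom_wd hs]
  exact Nat.eq_of_beq_eq_true (of_allBelow h u u.2)

/-- The transposition `a`. -/
noncomputable def tr : Fi22 := wd Fi22.a

theorem tr_ne_one : tr ≠ 1 := by
  have h := wd_ne (r := Fi22.a) (s := 1) (by decide +kernel) (by decide +kernel)
    (by decide +kernel)
  simpa [wd, tr] using h

theorem tr_mul_self : tr * tr = 1 := by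
  have h := wd_eq (r := Fi22.a * Fi22.a) (s := 1) (by decide +kernel) (by decide +kernel)
    (by decide +kernel)
  simpa [wd, tr] using h

theorem grpH_le : grpH ≤ Subgroup.centralizer ({tr} : Set Fi22) := by
  unfold grpH
  rw [Subgroup.closure_le]
  rintro _ ⟨r, hr, rfl⟩
  rw [SetLike.mem_coe, Subgroup.mem_centralizer_singleton_iff]
  have h : ∀ r ∈ wordsH,
      ((∀ x ∈ appWord coding.code coding.cinv (Fi22.a * r), x < FiData.table.nl) ∧
      ∀ x ∈ appWord coding.code coding.cinv (r * Fi22.a), x < FiData.table.nl) ∧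
      allBelow (fun v => Nat.beq (imgOf (r * Fi22.a) v) (imgOf (Fi22.a * r) v))
        FiData.table.N = true := by decide +kernel
  have h1 := wd_eq (h r hr).1.2 (h r hr).1.1 (h r hr).2
  simpa [wd, tr] using h1

theorem mem_grpH_of_fix {h : Fi22} (hh : hom h pt = pt) : h ∈ grpH := by
  obtain ⟨-, e, he, -⟩ := exists_quotient_equiv hom pt _ hom_fix transitive
    ⟨le_trans index_H.1 (by decide +kernel), index_H.2⟩
  have h1 : e (h : Fi22 ⧸ grpH) = e ((1 : Fi22) : Fi22 ⧸ grpH) := by
    rw [he, he, hh, map_one, Equiv.Perm.one_apply]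
  have h2 := QuotientGroup.eq.1 (e.injective h1)
  rw [mul_one] at h2
  exact inv_mem_iff.1 h2

/-- Every element lies in one of the three double cosets of `grpH`. -/
theorem cases (x : Fi22) : x ∈ grpH ∨
    ∃ h ∈ grpH, ∃ k ∈ grpH, x = h * wd (Fi22.b * Fi22.c * Fi22.a * Fi22.b) * k ∨
      x = h * wd (Fi22.a * Fi22.b) * k := by
  classical
  obtain ⟨O₁, hO₁, e₁, hc₁⟩ := suborbit (b := 6) (by decide +kernel) FiData.search693_ok
  obtain ⟨O₂, hO₂, e₂, hc₂⟩ := suborbit (b := 1) (by decide +kernel) FiData.search2816_ok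
  rw [show FiData.search693.length = 692 by decide +kernel] at hc₁
  rw [show FiData.search2816.length = 2815 by decide +kernel] at hc₂
  have hp₁ : pt ∉ O₁ := by
    rw [e₁, PTab.mem_maskSet]
    show ¬ Nat.testBit _ 0 = true
    decide +kernel
  have hp₂ : pt ∉ O₂ := by
    rw [e₂, PTab.mem_maskSet]
    show ¬ Nat.testBit _ 0 = true
    decide +kernel
  have hdisj : Disjoint O₁ O₂ := by
    refine disjoint_of_not_mem _ _ hO₁ hO₂ ?_
    rw [e₁, PTab.mem_maskSet]
    show ¬ Nat.testBit _ 1 = true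
    decide +kernel
  have huniv : insert pt (O₁ ∪ O₂) = Finset.univ := by
    refine Finset.eq_univ_of_card _ ?_
    rw [Finset.card_insert_of_notMem (by simp [hp₁, hp₂]), Finset.card_union_of_disjoint hdisj,
      hc₁, hc₂, Fintype.card_fin]
    rfl
  have hg₁ : hom (wd (Fi22.b * Fi22.c * Fi22.a * Fi22.b)) pt ∈ O₁ := by
    rw [e₁, PTab.mem_maskSet, hom_wd (by decide +kernel)]
    decide +kernel
  have hg₂ : hom (wd (Fi22.a * Fi22.b)) pt ∈ O₂ := by
    rw [e₂, PTab.mem_maskSet, hom_wd (by decide +kernel)]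
    decide +kernel
  have main : ∀ (g : Fi22) (O : Finset (Fin FiData.table.N)) (u : Fin FiData.table.N),
      (O : Set _) = MulAction.orbit (grpH.map hom) u → hom g pt ∈ O → hom x pt ∈ O →
      ∃ h ∈ grpH, ∃ k ∈ grpH, x = h * g * k := by
    intro g O u hO hg hx
    rw [← Finset.mem_coe, hO] at hg hx
    rw [← MulAction.orbit_eq_iff.2 hg] at hx
    obtain ⟨⟨π, hπ⟩, heq⟩ := hx
    obtain ⟨h, hh, rfl⟩ := Subgroup.mem_map.1 hπ
    refine ⟨h, hh, g⁻¹ * h⁻¹ * x, mem_grpH_of_fix ?_, by group⟩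
    have h2 : hom h (hom g pt) = hom x pt := heq
    rw [map_mul, map_mul, map_inv, map_inv, Equiv.Perm.mul_apply, Equiv.Perm.mul_apply, ← h2]
    simp
  have hx : hom x pt ∈ insert pt (O₁ ∪ O₂) := huniv ▸ Finset.mem_univ _
  rw [Finset.mem_insert, Finset.mem_union] at hx
  rcases hx with hx | hx | hx
  · exact Or.inl (mem_grpH_of_fix hx)
  · obtain ⟨h, hh, k, hk, e⟩ := main _ _ _ hO₁ hg₁ hx
    exact Or.inr ⟨h, hh, k, hk, Or.inl e⟩
  · obtain ⟨h, hh, k, hk, e⟩ := main _ _ _ hO₂ hg₂ hx
    exact Or.inr ⟨h, hh, k, hk, Or.inr e⟩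

/-- A conjugate of `a` other than `a` is a `grpH`-conjugate of `c` or of `b`. -/
theorem conj_cases (x : Fi22) : x * tr * x⁻¹ = tr ∧ x ∈ grpH ∨
    ∃ h ∈ grpH, x * tr * x⁻¹ = h * wd Fi22.c * h⁻¹ ∨ x * tr * x⁻¹ = h * wd Fi22.b * h⁻¹ := by
  have hfix : ∀ k ∈ grpH, k * tr * k⁻¹ = tr := fun k hk => by
    rw [Subgroup.mem_centralizer_singleton_iff.1 (grpH_le hk)]; group
  rcases cases x with hx | ⟨h, hh, k, hk, rfl | rfl⟩
  · exact Or.inl ⟨hfix x hx, hx⟩
  · refine Or.inr ⟨h, hh, Or.inl ?_⟩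
    have e : wd (Fi22.b * Fi22.c * Fi22.a * Fi22.b) * tr *
        (wd (Fi22.b * Fi22.c * Fi22.a * Fi22.b))⁻¹ = wd Fi22.c := by
      have := wd_eq (r := Fi22.b * Fi22.c * Fi22.a * Fi22.b * Fi22.a *
        (Fi22.b * Fi22.c * Fi22.a * Fi22.b)⁻¹) (s := Fi22.c) (by decide +kernel)
        (by decide +kernel) (by decide +kernel)
      simpa [wd, tr] using this
    rw [← e]
    conv_rhs => rw [← hfix k hk]
    group
  · refine Or.inr ⟨h, hh, Or.inr ?_⟩
    have e : wd (Fi22.a * Fi22.b) * tr * (wd (Fi22.a * Fi22.b))⁻¹ = wd Fi22.b := by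
      have := wd_eq (r := Fi22.a * Fi22.b * Fi22.a * (Fi22.a * Fi22.b)⁻¹) (s := Fi22.b)
        (by decide +kernel) (by decide +kernel) (by decide +kernel)
      simpa [wd, tr] using this
    rw [← e]
    conv_rhs => rw [← hfix k hk]
    group

theorem centralizer_tr : Subgroup.centralizer ({tr} : Set Fi22) = grpH := by
  refine le_antisymm (fun x hx => ?_) grpH_le
  have he : x * tr * x⁻¹ = tr := by
    rw [Subgroup.mem_centralizer_singleton_iff.1 hx]; group
  have hfix : ∀ h ∈ grpH, ∀ y : Fi22, tr = h * y * h⁻¹ → y = tr := fun h hh y hy => by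
    have : y = h⁻¹ * tr * h := by rw [hy]; group
    rw [this, mul_assoc, ← Subgroup.mem_centralizer_singleton_iff.1 (grpH_le hh)]
    group
  have hca : wd Fi22.c ≠ tr := wd_ne (by decide +kernel) (by decide +kernel)
    (by decide +kernel)
  have hba : wd Fi22.b ≠ tr := wd_ne (by decide +kernel) (by decide +kernel)
    (by decide +kernel)
  rcases conj_cases x with ⟨-, h⟩ | ⟨h, hh, h' | h'⟩
  · exact h
  · exact absurd (hfix h hh _ (he ▸ h')) hca
  · exact absurd (hfix h hh _ (he ▸ h')) hba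

/-- Isomorphic groups are double covers of the same groups. -/
theorem nonsplit_of_equiv {H H' K : Type*} [Group H] [Finite H] [Group H'] [Group K] (e : H ≃* H')
    (h : Cfsg.IsNonsplitDoubleCover H K) : Cfsg.IsNonsplitDoubleCover H' K := by
  obtain ⟨hc, ⟨f⟩, hn⟩ := h
  have hmap : (Subgroup.center H).map e.toMonoidHom = Subgroup.center H' := by
    ext y
    rw [Subgroup.mem_map_equiv, Subgroup.mem_center_iff, Subgroup.mem_center_iff]
    constructor
    · intro hy g
      have h2 := congrArg e (hy (e.symm g))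
      simpa using h2
    · intro hy g
      apply e.injective
      simpa using hy (e g)
  haveI : Finite H' := Finite.of_equiv _ e.toEquiv
  refine ⟨?_, ⟨(QuotientGroup.congr _ _ e hmap).symm.trans f⟩, fun L hL => hn (L.comap e.toMonoidHom) ?_⟩
  · rw [← hmap, Subgroup.card_map_of_injective e.injective]; exact hc
  · refine Subgroup.isComplement'_of_card_mul_and_disjoint ?_ ?_
    · have h3 := Nat.card_congr (Equiv.ofBijective _ hL)
      rw [Nat.card_prod] at h3
      have h4 : Nat.card ↥(L.comap e.toMonoidHom) = Nat.card L :=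
        Nat.card_congr ((e.toEquiv).subtypeEquiv fun a => Iff.rfl)
      have h5 : Nat.card (Subgroup.center H) = Nat.card (Subgroup.center H') := by
        rw [← hmap]
        exact (Subgroup.card_map_of_injective (K := Subgroup.center H) e.injective).symm
      rw [h4, h5, Nat.card_congr e.toEquiv, ← h3]
      rfl
    · rw [Subgroup.disjoint_def]
      intro y hy hy'
      apply e.injective
      rw [map_one]
      exact Subgroup.disjoint_def.1 hL.disjoint (hmap ▸ Subgroup.mem_map_of_mem _ hy) hy'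

/-- The statement of S0471, given the structure of `grpH`. -/
theorem exists_class (hK : ∃ (K : Type) (_ : Field K) (_ : Fintype K), Fintype.card K = 4 ∧
    Cfsg.IsNonsplitDoubleCover grpH (Cfsg.PSU 6 K 2)) :
    ∃ (G : Type) (_ : Group G) (_ : Finite G), Cfsg.IsFi22 G ∧ ∃ D : Set G,
      Cfsg.IsThreeTranspositionClass D ∧ Nat.card D = 3510 ∧ ∀ d ∈ D,
        ∃ (F : Type) (_ : Field F) (_ : Fintype F), Fintype.card F = 4 ∧
          Cfsg.IsNonsplitDoubleCover (Subgroup.centralizer ({d} : Set G)) (Cfsg.PSU 6 F 2) := by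
  haveI := finite
  haveI := isSimple
  have hord : orderOf tr = 2 := orderOf_eq_prime (by rw [pow_two, tr_mul_self]) tr_ne_one
  refine ⟨Fi22, inferInstance, inferInstance, ⟨isSimple, card_eq.1⟩, conjugatesOf tr,
    ⟨⟨?_, ?_⟩, ⟨tr, mem_conjugatesOf_self, rfl⟩, ?_⟩, ?_, ?_⟩
  · intro d hd
    obtain ⟨g, rfl⟩ := isConj_iff.1 hd
    rw [show g * tr * g⁻¹ = MulAut.conj g tr from rfl, MulEquiv.orderOf_eq, hord]
  · intro d hd e he
    obtain ⟨g, rfl⟩ := isConj_iff.1 hd
    obtain ⟨g', rfl⟩ := isConj_iff.1 he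
    have hcj : ∀ (x : Fi22) (n : ℕ), (tr * (x * tr * x⁻¹)) ^ n = 1 →
        (g * tr * g⁻¹ * (g * (x * tr * x⁻¹) * g⁻¹)) ^ n = 1 := fun x n hx => by
      rw [show g * tr * g⁻¹ * (g * (x * tr * x⁻¹) * g⁻¹) = g * (tr * (x * tr * x⁻¹)) * g⁻¹ by group,
        conj_pow, hx, mul_one, mul_inv_cancel]
    have key : ∀ x : Fi22, (tr * (x * tr * x⁻¹)) ^ 2 = 1 ∨ (tr * (x * tr * x⁻¹)) ^ 3 = 1 := by
      intro x
      have hfix : ∀ h ∈ grpH, ∀ (y : Fi22) (n : ℕ), (tr * y) ^ n = 1 →
          (tr * (h * y * h⁻¹)) ^ n = 1 := fun h hh y n hy => by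
        rw [show tr * (h * y * h⁻¹) = h * (tr * y) * h⁻¹ by
          rw [← mul_assoc, ← mul_assoc, ← Subgroup.mem_centralizer_singleton_iff.1 (grpH_le hh)]
          group, conj_pow, hy, mul_one, mul_inv_cancel]
      rcases conj_cases x with ⟨h, -⟩ | ⟨h, hh, h' | h'⟩
      · rw [h, tr_mul_self, one_pow]; exact Or.inl rfl
      · rw [h']
        refine Or.inl (hfix h hh _ _ ?_)
        have := wd_eq (r := (Fi22.a * Fi22.c) ^ 2) (s := 1) (by decide +kernel) (by decide +kernel)
          (by decide +kernel)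
        simpa [wd, tr] using this
      · rw [h']
        refine Or.inr (hfix h hh _ _ ?_)
        have := wd_eq (r := (Fi22.a * Fi22.b) ^ 3) (s := 1) (by decide +kernel) (by decide +kernel)
          (by decide +kernel)
        simpa [wd, tr] using this
    have e2 : g' * tr * g'⁻¹ = g * ((g⁻¹ * g') * tr * (g⁻¹ * g')⁻¹) * g⁻¹ := by group
    rw [e2]
    exact (key _).imp (hcj _ 2) (hcj _ 3)
  · have heq : Subgroup.closure (conjugatesOf tr) = Subgroup.normalClosure {tr} := by
      simp [Subgroup.normalClosure, Group.conjugatesOfSet]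
    have hn : (Subgroup.closure (conjugatesOf tr)).Normal := heq ▸ Subgroup.normalClosure_normal
    refine hn.eq_bot_or_eq_top.resolve_left fun h => tr_ne_one ?_
    rw [← Subgroup.mem_bot, ← h]
    exact Subgroup.subset_closure mem_conjugatesOf_self
  · have h1 : Nat.card (conjugatesOf tr) = (Subgroup.centralizer ({tr} : Set Fi22)).index := by
      have e1 : Nat.card (conjugatesOf tr) = Nat.card (MulAction.orbit (ConjAct Fi22) tr) := by
        refine Nat.card_congr (Equiv.subtypeEquivRight fun y => ?_)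
        rw [ConjAct.mem_orbit_conjAct]
        exact isConj_comm
      rw [e1, Nat.card_congr (MulAction.orbitEquivQuotientStabilizer (ConjAct Fi22) tr)]
      show (MulAction.stabilizer (ConjAct Fi22) tr).index = _
      rw [ConjAct.stabilizer_eq_centralizer]
      rfl
    rw [h1, centralizer_tr, index_H_eq]
  · intro d hd
    obtain ⟨g, rfl⟩ := isConj_iff.1 hd
    obtain ⟨K, hF, hFf, h4, hK⟩ := hK
    refine ⟨K, hF, hFf, h4, nonsplit_of_equiv (H := grpH) ?_ hK⟩
    rw [← centralizer_tr]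
    refine ((Subgroup.centralizer ({tr} : Set Fi22)).equivMapOfInjective (MulAut.conj g).toMonoidHom
      (MulAut.conj g).injective).trans (MulEquiv.subgroupCongr ?_)
    ext y
    rw [Subgroup.mem_map_equiv, Subgroup.mem_centralizer_singleton_iff,
      Subgroup.mem_centralizer_singleton_iff, MulAut.conj_symm_apply]
    constructor
    · intro h
      have h2 := congrArg (fun z => g * z * g⁻¹) h
      simpa [mul_assoc] using h2
    · intro h
      have h2 := congrArg (fun z => g⁻¹ * z * g) h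
      simpa [mul_assoc] using h2

end CfsgLib.Sporadic.CosetCert.FiP
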