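import Cfsg.Agent.Lib.Sporadic.Fi23Presented
import Cfsg.Agent.Lib.Sporadic.FiClass
import Cfsg.Agent.Lib.Sporadic.Fi23Data.Fi23FastChecks
import Cfsg.Prelude.Def_Sporadic

/-!
# The class of 31671 three-transpositions of the presented group Fi23

The central involution of the subgroup of index 31671 is given by a word; it fixes the suborbit of
size 3510 pointwise and moves the point 1, which is enough to see that its conjugates form a class
of three-transpositions.
-/

set_option maxRecDepth 100000

open Cfsg.Spor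

namespace CfsgLib.Sporadic.CosetCert.Fi23P

open Fi23Data (table forestH fastRows)

/-- A word for the central involution of the subgroup of index 31671. -/
def trWord : List ℕ :=
  [7, 6, 5, 4, 3, 2, 1, 8, 3, 2, 4, 3, 5, 4, 6, 5, 8, 3, 2, 1, 4, 3, 2, 8, 3, 4, 5, 6, 7,
    6, 5, 4, 3, 8, 2, 3, 4, 1, 2, 3, 8, 5, 6, 4, 5, 3, 4, 2, 3, 8, 1, 2, 3, 4, 5, 6, 7]

/-- A word taking the base point into the suborbit of size 3510. -/
def oneWord : List ℕ := [7, 6, 5, 4, 3, 2, 8, 3, 4, 5, 6, 7]

theorem trWord_lt : ∀ x ∈ trWord, x < table.nl := by decide +kernel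

theorem trWord_class_one :
    forestH.fixClassL (trWord.map fun x => fastRows.getD x id) 1 0 31671 = true := by
  decide +kernel

theorem trWord_pt : trWord.foldl (fun w x => table.img x w) 0 = 0 := by decide +kernel

theorem trWord_one : trWord.foldl (fun w x => table.img x w) 1 = 8006 := by decide +kernel

/-- The central involution of the subgroup of index 31671. -/
noncomputable def tr : Fi23 := appProd coding.gen trWord

/-- An element of the group taking the base point into the suborbit of size 3510. -/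
noncomputable def toOne : Fi23 := appProd coding.gen oneWord

theorem quot : ∃ e : Fi23 ⧸ sub lH ≃ Fin table.N, ∀ g : Fi23, e (g : Fi23 ⧸ sub lH) = hom g pt := by
  obtain ⟨-, e, he, -⟩ := exists_quotient_equiv hom pt _ hom_fix transitive
    ⟨le_trans index_H.1 (by decide +kernel), index_H.2⟩
  exact ⟨e, he⟩

theorem mem_sub_of_fix {x : Fi23} (hx : hom x pt = pt) : x ∈ sub lH := by
  obtain ⟨e, he⟩ := quot
  have h1 : e (x : Fi23 ⧸ sub lH) = e ((1 : Fi23) : Fi23 ⧸ sub lH) := by
    rw [he, he, hx, map_one, Equiv.Perm.one_apply]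
  have h2 := QuotientGroup.eq.1 (e.injective h1)
  rw [mul_one] at h2
  exact inv_mem_iff.1 h2

theorem tr_mem : tr ∈ sub lH :=
  mem_sub_of_fix (Fin.ext (by rw [tr, hom_word _ trWord_lt]; exact trWord_pt))

theorem tr_fix_one (u : Fin table.N) (hu : forestH.cls u = 1) : hom tr u = u := by
  refine Fin.ext ?_
  rw [tr, hom_word _ trWord_lt]
  exact ((PTab.imgW_eq_runL Fi23Data.table_fast trWord trWord_lt u u.2).1).trans
    (Forest.fixClassL_spec trWord_class_one u (Nat.zero_le _) u.2 hu)

/-- The point 1 of the suborbit of size 28160. -/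
noncomputable def ptOne : Fin table.N := ⟨1, two_le⟩

theorem hom_tr_ptOne : ((hom tr ptOne : Fin table.N) : ℕ) = 8006 := by
  rw [tr, hom_word _ trWord_lt]
  exact trWord_one

theorem tr_ne_one : tr ≠ 1 := by
  intro h
  have h1 := hom_tr_ptOne
  rw [h, map_one] at h1
  exact absurd (show (1 : ℕ) = 8006 from h1) (by norm_num)

theorem tr_mem_ker : (⟨tr, tr_mem⟩ : sub lH) ∈ toFi22.ker := by
  rw [MonoidHom.mem_ker]
  unfold toFi22
  simp only [MonoidHom.coe_comp, MulEquiv.coe_toMonoidHom, Function.comp_apply]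
  rw [MulEquiv.map_eq_one_iff, MulEquiv.map_eq_one_iff]
  refine Subtype.ext (Equiv.ext fun u => Subtype.ext ?_)
  exact tr_fix_one u.1 u.2

theorem tr_mul_self : tr * tr = 1 := by
  have := finite
  have h : (⟨tr, tr_mem⟩ : sub lH) ^ 2 = 1 := by
    have := congrArg Subtype.val
      (pow_card_eq_one' (G := toFi22.ker) (x := ⟨_, tr_mem_ker⟩))
    rw [card_ker_toFi22] at this
    exact this
  have h2 := congrArg Subtype.val h
  rw [pow_two] at h2
  exact h2

theorem tr_comm {h : Fi23} (hh : h ∈ sub lH) : h * tr = tr * h := by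
  have hc : (⟨tr, tr_mem⟩ : sub lH) ∈ Subgroup.center (sub lH) := by
    rw [center_eq]; exact tr_mem_ker
  exact congrArg Subtype.val (Subgroup.mem_center_iff.1 hc ⟨h, hh⟩)

/-- The conjugate of `tr` only depends on the image of the base point. -/
theorem conj_eq_of_pt {x y : Fi23} (h : hom x pt = hom y pt) : x * tr * x⁻¹ = y * tr * y⁻¹ := by
  have hm : y⁻¹ * x ∈ sub lH := mem_sub_of_fix (by
    rw [map_mul, Equiv.Perm.mul_apply, h, map_inv]
    simp)
  have h2 := tr_comm hm
  calc x * tr * x⁻¹ = y * ((y⁻¹ * x) * tr) * x⁻¹ := by group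
    _ = y * (tr * (y⁻¹ * x)) * x⁻¹ := by rw [h2]
    _ = y * tr * y⁻¹ := by group

theorem exists_sub_of_class {u v : Fin table.N} (h : forestH.cls u = forestH.cls v) :
    ∃ k ∈ sub lH, hom k v = u := by
  have hu : u ∈ MulAction.orbit ((sub lH).map hom) v := by
    rw [orbit_H v rfl, Finset.mem_coe, Forest.mem_classSet]
    exact h
  obtain ⟨⟨π, hπ⟩, he⟩ := hu
  obtain ⟨k, hk, rfl⟩ := Subgroup.mem_map.1 hπ
  exact ⟨k, hk, he⟩

theorem pt_cases (u : Fin table.N) :
    u = pt ∨ forestH.cls u = 1 ∨ forestH.cls u = 2 := by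
  have hlt : forestH.cls u < 3 := by
    have h := Fi23Data.forestH_ok u u.2
    simp only [Forest.pointOK, Bool.and_eq_true, Nat.blt_eq] at h
    have h3 : forestH.roots.length = 3 := by decide +kernel
    have h1 := h.1.1
    omega
  by_cases h0 : forestH.cls u = 0
  · left
    have hp : forestH.cls (pt : ℕ) = 0 := by
      show forestH.cls 0 = 0
      decide +kernel
    obtain ⟨k, hk, he⟩ := exists_sub_of_class (u := u) (v := pt) (h0.trans hp.symm)
    rw [← he, hom_fix k hk]
  · omega

/-- An element commuting with `tr` moves the base point only inside the fixed points of `tr`. -/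
theorem tr_fix_of_comm {x : Fi23} (hx : x * tr = tr * x) : hom tr (hom x pt) = hom x pt := by
  rw [← Equiv.Perm.mul_apply, ← map_mul, ← hx, map_mul, Equiv.Perm.mul_apply, hom_fix tr tr_mem]

theorem ptOne_class : forestH.cls (ptOne : ℕ) = 2 := by
  show forestH.cls 1 = 2
  decide +kernel

theorem not_fix_class_two {u : Fin table.N} (hu : forestH.cls u = 2) : hom tr u ≠ u := by
  intro he
  obtain ⟨k, hk, hku⟩ := exists_sub_of_class (u := ptOne) (v := u) (ptOne_class.trans hu.symm)
  have h1 : hom tr ptOne = ptOne := by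
    rw [← hku, ← Equiv.Perm.mul_apply, ← map_mul, ← tr_comm hk, map_mul, Equiv.Perm.mul_apply, he]
  have h2 := hom_tr_ptOne
  rw [h1] at h2
  exact absurd (show (1 : ℕ) = 8006 from h2) (by norm_num)

theorem toOne_not_comm : toOne * tr ≠ tr * toOne := by
  intro h
  have h1 := congrArg (fun g => ((hom g ptOne : Fin table.N) : ℕ)) h
  simp only [tr, toOne, ← appProd_append] at h1
  rw [hom_word _ (by decide +kernel), hom_word _ (by decide +kernel)] at h1
  revert h1
  show ¬ (_ = List.foldl (fun w x => table.img x w) 1 _)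
  decide +kernel

theorem centralizer_tr : Subgroup.centralizer ({tr} : Set Fi23) = sub lH := by
  apply le_antisymm
  · intro x hx
    have hx' : x * tr = tr * x := Subgroup.mem_centralizer_singleton_iff.1 hx
    rcases pt_cases (hom x pt) with h | h | h
    · exact mem_sub_of_fix h
    · exfalso
      have hone : forestH.cls (hom toOne pt : Fin table.N) = 1 := by
        rw [toOne, hom_word _ (by decide +kernel)]
        decide +kernel
      obtain ⟨k, hk, hku⟩ := exists_sub_of_class (u := hom toOne pt) (v := hom x pt)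
        (hone.trans h.symm)
      apply toOne_not_comm
      have e := conj_eq_of_pt (x := toOne) (y := k * x)
        (by rw [map_mul, Equiv.Perm.mul_apply, hku])
      have e2 : k * x * tr * (k * x)⁻¹ = tr := by
        rw [mul_assoc k x tr, hx', ← mul_assoc, tr_comm hk, mul_assoc tr k x]
        group
      rw [e2] at e
      calc toOne * tr = (toOne * tr * toOne⁻¹) * toOne := by group
        _ = tr * toOne := by rw [e]
    · exact absurd (tr_fix_of_comm hx') (not_fix_class_two h)
  · intro x hx
    exact Subgroup.mem_centralizer_singleton_iff.2 (tr_comm hx)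

theorem hom_j_pt : hom (coding.gen 7) pt = ptOne := by
  refine Fin.ext ?_
  rw [hom_acts.img_eq 7 (by decide +kernel) pt]
  show table.img 7 0 = 1
  decide +kernel

/-- `tr` with any of its conjugates has product of order at most three. -/
theorem three_transp (x : Fi23) :
    (tr * (x * tr * x⁻¹)) ^ 2 = 1 ∨ (tr * (x * tr * x⁻¹)) ^ 3 = 1 := by
  rcases pt_cases (hom x pt) with h | h | h
  · left
    rw [show x * tr * x⁻¹ = tr by rw [tr_comm (mem_sub_of_fix h)]; group, tr_mul_self, one_pow]
  · left
    have hm : x⁻¹ * tr * x ∈ sub lH := mem_sub_of_fix (by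
      rw [map_mul, map_mul, Equiv.Perm.mul_apply, Equiv.Perm.mul_apply, tr_fix_one _ h, map_inv]
      simp)
    have hd : (x * tr * x⁻¹) * (x * tr * x⁻¹) = 1 := by
      rw [show (x * tr * x⁻¹) * (x * tr * x⁻¹) = x * (tr * tr) * x⁻¹ by group, tr_mul_self]
      group
    have hc : tr * (x * tr * x⁻¹) = (x * tr * x⁻¹) * tr := by
      calc tr * (x * tr * x⁻¹) = x * ((x⁻¹ * tr * x) * tr) * x⁻¹ := by group
        _ = x * (tr * (x⁻¹ * tr * x)) * x⁻¹ := by rw [tr_comm hm]
        _ = (x * tr * x⁻¹) * tr := by group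
    rw [pow_two]
    calc tr * (x * tr * x⁻¹) * (tr * (x * tr * x⁻¹))
        = tr * ((x * tr * x⁻¹) * tr) * (x * tr * x⁻¹) := by group
      _ = tr * (tr * (x * tr * x⁻¹)) * (x * tr * x⁻¹) := by rw [← hc]
      _ = (tr * tr) * ((x * tr * x⁻¹) * (x * tr * x⁻¹)) := by group
      _ = 1 := by rw [tr_mul_self, hd, one_mul]
  · right
    obtain ⟨k, hk, hku⟩ := exists_sub_of_class (u := hom x pt) (v := ptOne)
      (h.trans ptOne_class.symm)
    set j : Fi23 := coding.gen 7 with hj
    set d : Fi23 := j * tr * j⁻¹ with hd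
    have e : x * tr * x⁻¹ = k * d * k⁻¹ := by
      rw [conj_eq_of_pt (y := k * j) (by rw [map_mul, Equiv.Perm.mul_apply, hom_j_pt, hku]), hd]
      group
    have hdd : d * d = 1 := by
      rw [hd, show j * tr * j⁻¹ * (j * tr * j⁻¹) = j * (tr * tr) * j⁻¹ by group, tr_mul_self]
      group
    -- the transpositions of the points `tr 1` and `d 0` agree
    have hpts : hom (tr * j) pt = hom d pt := by
      rw [hd, map_mul, map_mul, map_mul, Equiv.Perm.mul_apply, Equiv.Perm.mul_apply,
        Equiv.Perm.mul_apply, hom_j_pt]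
      have hq : hom j⁻¹ pt = ptOne := by
        rw [map_inv, Equiv.Perm.inv_def, Equiv.symm_apply_eq]
        refine Fin.ext ?_
        rw [hom_acts.img_eq 7 (by decide +kernel) ptOne]
        show 0 = table.img 7 1
        decide +kernel
      rw [hq]
      refine Fin.ext ?_
      rw [hom_acts.img_eq 7 (by decide +kernel), hom_tr_ptOne]
      decide +kernel
    have hbr := conj_eq_of_pt hpts
    have htr : tr⁻¹ = tr := inv_eq_of_mul_eq_one_right tr_mul_self
    have hdi : d⁻¹ = d := inv_eq_of_mul_eq_one_right hdd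
    have hbr' : tr * d * tr = d * tr * d := by
      calc tr * d * tr = tr * j * tr * (tr * j)⁻¹ := by rw [hd, mul_inv_rev, htr]; group
        _ = d * tr * d⁻¹ := hbr
        _ = d * tr * d := by rw [hdi]
    have h3 : (tr * d) ^ 3 = 1 := by
      calc (tr * d) ^ 3 = (tr * d * tr) * (d * tr * d) := by
            rw [pow_succ, pow_two]; simp only [mul_assoc]
        _ = (d * tr * d) * (d * tr * d) := by rw [hbr']
        _ = d * tr * (d * d) * tr * d := by group
        _ = d * (tr * tr) * d := by rw [hdd]; group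
        _ = 1 := by rw [tr_mul_self, mul_one, hdd]
    rw [e, show tr * (k * d * k⁻¹) = k * (tr * d) * k⁻¹ by
      rw [← mul_assoc k tr d, tr_comm hk]; group, conj_pow, h3, mul_one, mul_inv_cancel]

/-- The statement of S0472. -/
theorem exists_class :
    ∃ (G : Type) (_ : Group G) (_ : Finite G), Cfsg.IsFi23 G ∧ ∃ D : Set G,
      Cfsg.IsThreeTranspositionClass D ∧ Nat.card D = 31671 ∧ ∀ d ∈ D,
        ∃ (K : Type) (_ : Group K), Cfsg.IsFi22 K ∧
          Cfsg.IsNonsplitDoubleCover (Subgroup.centralizer ({d} : Set G)) K := by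
  have := finite
  have := isSimple
  have hord : orderOf tr = 2 := orderOf_eq_prime (by rw [pow_two, tr_mul_self]) tr_ne_one
  refine ⟨Fi23, inferInstance, inferInstance, ⟨isSimple, card_eq.1⟩, conjugatesOf tr,
    ⟨⟨?_, ?_⟩, ⟨tr, mem_conjugatesOf_self, rfl⟩, ?_⟩, ?_, ?_⟩
  · intro d hd
    obtain ⟨g, rfl⟩ := isConj_iff.1 hd
    rw [show g * tr * g⁻¹ = MulAut.conj g tr from rfl, MulEquiv.orderOf_eq, hord]
  · intro d hd e he
    obtain ⟨g, rfl⟩ := isConj_iff.1 hd
    obtain ⟨g', rfl⟩ := isConj_iff.1 he
    have hcj : ∀ (n : ℕ), (tr * ((g⁻¹ * g') * tr * (g⁻¹ * g')⁻¹)) ^ n = 1 →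
        (g * tr * g⁻¹ * (g' * tr * g'⁻¹)) ^ n = 1 := fun n hx => by
      rw [show g * tr * g⁻¹ * (g' * tr * g'⁻¹) =
        g * (tr * ((g⁻¹ * g') * tr * (g⁻¹ * g')⁻¹)) * g⁻¹ by group,
        conj_pow, hx, mul_one, mul_inv_cancel]
    exact (three_transp _).imp (hcj 2) (hcj 3)
  · have heq : Subgroup.closure (conjugatesOf tr) = Subgroup.normalClosure {tr} := by
      simp [Subgroup.normalClosure, Group.conjugatesOfSet]
    have hn : (Subgroup.closure (conjugatesOf tr)).Normal := heq ▸ Subgroup.normalClosure_normal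
    refine hn.eq_bot_or_eq_top.resolve_left fun h => tr_ne_one ?_
    rw [← Subgroup.mem_bot, ← h]
    exact Subgroup.subset_closure mem_conjugatesOf_self
  · have h1 : Nat.card (conjugatesOf tr) = (Subgroup.centralizer ({tr} : Set Fi23)).index := by
      have e1 : Nat.card (conjugatesOf tr) = Nat.card (MulAction.orbit (ConjAct Fi23) tr) := by
        refine Nat.card_congr (Equiv.subtypeEquivRight fun y => ?_)
        rw [ConjAct.mem_orbit_conjAct]
        exact isConj_comm
      rw [e1, Nat.card_congr (MulAction.orbitEquivQuotientStabilizer (ConjAct Fi23) tr)]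
      show (MulAction.stabilizer (ConjAct Fi23) tr).index = _
      rw [ConjAct.stabilizer_eq_centralizer]
      rfl
    rw [h1, centralizer_tr, index_H_eq]
  · intro d hd
    obtain ⟨g, rfl⟩ := isConj_iff.1 hd
    refine ⟨Fi22, inferInstance, ⟨FiP.isSimple, FiP.card_eq.1⟩,
      FiP.nonsplit_of_equiv (H := sub lH) ?_ nonsplit⟩
    rw [← centralizer_tr]
    refine ((Subgroup.centralizer ({tr} : Set Fi23)).equivMapOfInjective (MulAut.conj g).toMonoidHom
      (MulAut.conj g).injective).trans (MulEquiv.subgroupCongr ?_)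
    ext y
    rw [Subgroup.mem_map_equiv, Subgroup.mem_centralizer_singleton_iff,
      Subgroup.mem_centralizer_singleton_iff, MulAut.conj_symm_apply]
    constructor
    · intro h
      have h2 := congrArg (fun z => g * z * g⁻¹) h
      simpa [mul_assoc] using h2
    · intro h
      have h2 := congrArg (fun z => g⁻¹ * z * g) h
      simpa [mul_assoc] using h2

end CfsgLib.Sporadic.CosetCert.Fi23P
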