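import Cfsg.Agent.Lib.Sporadic.Fi23Coding
import Cfsg.Agent.Lib.Sporadic.CosetCertSubgroup
import Cfsg.Agent.Lib.Sporadic.Fi23Data.Fi23TableChecks
import Cfsg.Agent.Lib.Sporadic.Fi23Data.Fi23Relators
import Cfsg.Agent.Lib.Sporadic.Fi23Data.Fi23WordE7
import Cfsg.Agent.Lib.Sporadic.Fi23Data.Fi23WordT
import Cfsg.Agent.Lib.Sporadic.FiPresented
import Cfsg.Prelude.Def_SporadicB

/-!
# The presented group Fi23: order, index, suborbits

The subgroup of index 31671 maps onto the presented group Fi22 in its action on the suborbit of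
size 3510, with a nontrivial element in the kernel; this gives the lower bound for the order.
-/

set_option maxRecDepth 100000

open Cfsg.Spor

namespace CfsgLib.Sporadic.CosetCert.Fi23P

open Fi23Data (table forestH forestAll)

/-- The letters of the subgroup of index 31671. -/
abbrev lH : List ℕ := [0, 1, 2, 3, 4, 5, 6, 8, 9]

theorem table_slp : table.slpOK = true := by decide +kernel

theorem exists_hom : ∃ φ : Fi23 →* Equiv.Perm (Fin table.N), table.Acts φ coding.gen :=
  coding.exists_acts table Fi23Data.certH Fi23Data.certH_valid rfl rfl rfl Fi23Data.table_gen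
    (coding.tableOK_of_map_eq (by decide +kernel) (by decide +kernel) (by decide +kernel)
      Fi23Data.table_relators)

/-- The action on 31671 points. -/
noncomputable def hom : Fi23 →* Equiv.Perm (Fin table.N) := exists_hom.choose

theorem hom_acts : table.Acts hom coding.gen := exists_hom.choose_spec

theorem two_le : 2 ≤ table.N := by decide +kernel

/-- The base point. -/
noncomputable def pt : Fin table.N := ⟨0, lt_of_lt_of_le Nat.two_pos two_le⟩

theorem map_sub {l : List ℕ} (hl : ∀ x ∈ l, x < table.nl) :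
    (sub l).map hom = Subgroup.closure (table.rowSet hom coding.gen l) :=
  map_closure_letters hom coding.gen hl

theorem rows_lt {l : List ℕ} (hl : ∀ x ∈ l, x < table.nl) :
    ∀ x ∈ l, x < table.nl + table.slp.length := fun x hx =>
  lt_of_lt_of_le (hl x hx) (Nat.le_add_right _ _)

theorem hom_word : ∀ (L : List ℕ), (∀ x ∈ L, x < table.nl) → ∀ v : Fin table.N,
    ((hom (appProd coding.gen L) v : Fin table.N) : ℕ) =
      L.foldl (fun w x => table.img x w) v := by
  intro L
  induction L with
  | nil => intro _ v; simp [appProd]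
  | cons x t ih =>
    intro hL v
    rw [appProd, map_mul, Equiv.Perm.mul_apply,
      ih (fun y hy => hL y (List.mem_cons_of_mem _ hy)),
      hom_acts.img_eq x (hL x List.mem_cons_self) v]
    rfl

theorem lH_lt : ∀ x ∈ lH, x < table.nl := by decide +kernel

theorem orbit_H {c : ℕ} (b : Fin table.N) (hb : forestH.cls b = c) :
    MulAction.orbit ((sub lH).map hom) b = ↑(forestH.classSet table c) := by
  rw [map_sub lH_lt]
  exact Forest.orbit_eq (F := forestH) hom_acts table_slp (rows_lt lH_lt) Fi23Data.forestH_ok b hb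

theorem hom_fix : ∀ k ∈ sub lH, hom k pt = pt := by
  intro k hk
  induction hk using Subgroup.closure_induction with
  | mem k hk =>
    obtain ⟨x, hx, rfl⟩ := hk
    refine Fin.ext ?_
    have h : ∀ x ∈ lH, table.img x 0 = 0 := by decide +kernel
    rw [hom_acts.img_eq x (lH_lt x hx) pt]
    exact h x hx
  | one => simp
  | mul a b _ _ ha hb => rw [map_mul, Equiv.Perm.mul_apply, hb, ha]
  | inv a _ ha => rw [map_inv, Equiv.Perm.inv_def, Equiv.symm_apply_eq, ha]

theorem transitive : ∀ u, ∃ a, hom a pt = u := by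
  intro u
  have hl : ∀ x ∈ forestAll.rows, x < table.nl := by decide +kernel
  have hroot : forestAll.cls pt = 0 := by
    show forestAll.cls 0 = 0
    decide +kernel
  have hone : forestAll.roots.length = 1 := by decide +kernel
  have h := Forest.orbit_eq (F := forestAll) hom_acts table_slp (rows_lt hl)
    Fi23Data.forestAll_ok pt hroot
  have hcls : forestAll.cls u = 0 := by
    have := Fi23Data.forestAll_ok u u.2
    simp only [Forest.pointOK, Bool.and_eq_true, Nat.blt_eq] at this
    have := this.1.1
    omega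
  have hu : u ∈ MulAction.orbit
      (Subgroup.closure (table.rowSet hom coding.gen forestAll.rows)) pt := by
    rw [h, Finset.mem_coe, Forest.mem_classSet]
    exact hcls
  obtain ⟨⟨π, hπ⟩, rfl⟩ := hu
  rw [← map_sub hl, Subgroup.mem_map] at hπ
  obtain ⟨a, -, rfl⟩ := hπ
  exact ⟨a, rfl⟩

theorem mem_class_one {π : Equiv.Perm (Fin table.N)} (hπ : π ∈ (sub lH).map hom)
    (u : Fin table.N) : forestH.cls (π u : Fin table.N) = forestH.cls u := by
  have h : π u ∈ MulAction.orbit ((sub lH).map hom) u := ⟨⟨π, hπ⟩, rfl⟩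
  rw [orbit_H u rfl, Finset.mem_coe, Forest.mem_classSet] at h
  exact h

/-- The restriction of the subgroup of index 31671 to its suborbit of size 3510. -/
noncomputable def restrict :
    (sub lH).map hom →* Equiv.Perm {u : Fin table.N // forestH.cls u = 1} where
  toFun π := (π : Equiv.Perm (Fin table.N)).subtypePerm fun u => by rw [mem_class_one π.2]
  map_one' := by ext; rfl
  map_mul' a b := by ext; rfl

open Fi22 in
/-- The generators of Fi22 among those of Fi23. -/
def incl : Fi22.Gen → Fi23.Gen
  | .a => .a | .b => .b | .c => .c | .d => .d | .e => .e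
  | .f => .f | .g => .g | .h => .h | .i => .i

theorem code_incl (x : Fi22.Gen) : code (incl x) ∈ lH := by cases x <;> decide

theorem mk_map_incl {r : FreeGroup Fi22.Gen}
    (hr : r ∈ coxRelators Fi22.edges ∪ {r | r ∈ Fi22.extra})
    (hne : r ≠ (Fi22.b * Fi22.c * Fi22.d * Fi22.e * Fi22.f * Fi22.g * Fi22.h) ^ 9) :
    PresentedGroup.mk (coxRelators Fi23.edges ∪ {r | r ∈ Fi23.extra}) (FreeGroup.map incl r) = 1 := by
  apply PresentedGroup.one_of_mem
  rcases hr with ⟨x, -, y, -, rfl⟩ | hr
  · refine Or.inl ⟨incl x, mem_nodes _, incl y, mem_nodes _, ?_⟩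
    have hl : coxLabel Fi23.edges (incl x) (incl y) = coxLabel Fi22.edges x y := by
      cases x <;> cases y <;> decide
    rw [map_pow, map_mul, FreeGroup.map.of, FreeGroup.map.of, hl]
  · refine Or.inr ?_
    simp only [Fi22.extra, List.mem_cons, List.not_mem_nil, or_false, Set.mem_ofPred_eq] at hr
    simp only [Fi23.extra, List.mem_cons, List.not_mem_nil, or_false, Set.mem_ofPred_eq]
    rcases hr with rfl | rfl | rfl
    · left; simp [map_pow, map_mul, FreeGroup.map.of, incl]
    · right; simp [map_pow, map_mul, FreeGroup.map.of, incl]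
    · exact absurd rfl hne

/-- The word `(b c d e f g h)^9` in the generators of Fi23. -/
def relE7 : FreeGroup Fi23.Gen :=
  (Fi23.b * Fi23.c * Fi23.d * Fi23.e * Fi23.f * Fi23.g * Fi23.h) ^ 9

theorem relE7_mem :
    PresentedGroup.mk (coxRelators Fi23.edges ∪ {r | r ∈ Fi23.extra}) relE7 ∈ sub lH :=
  coding.mk_mem_sub (by decide +kernel)

theorem foldl_eq_run (L : List ℕ) (n bits : ℕ)
    (h : L = (List.range n).map fun i => Nat.mod (Nat.shiftRight bits (Nat.mul 4 i)) 16) (u : ℕ) :
    L.foldl (fun w x => table.img x w) u = table.run n bits u := by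
  subst h
  induction n with
  | zero => rfl
  | succ n ih =>
    rw [List.range_succ, List.map_append, List.foldl_append, ih]
    rfl

theorem relE7_class (u : Fin table.N) (hu : forestH.cls u = 1) :
    hom (PresentedGroup.mk (coxRelators Fi23.edges ∪ {r | r ∈ Fi23.extra}) relE7) u = u := by
  apply Fin.ext
  rw [coding.mk_eq, hom_word _ (by decide +kernel),
    foldl_eq_run _ Fi23Data.wordE7.1 Fi23Data.wordE7.2 (by decide +kernel)]
  exact Fi23Data.wordE7_ok u u.2 hu

theorem relE7_ne :
    hom (PresentedGroup.mk (coxRelators Fi23.edges ∪ {r | r ∈ Fi23.extra}) relE7) ≠ 1 := by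
  intro h
  have h1 : ((hom (PresentedGroup.mk (coxRelators Fi23.edges ∪ {r | r ∈ Fi23.extra}) relE7)
      ⟨1, two_le⟩ : Fin table.N) : ℕ) = 1 := by rw [h]; rfl
  rw [coding.mk_eq, hom_word _ (by decide +kernel)] at h1
  revert h1
  decide +kernel

theorem incl_surj (x : ℕ) (hx : x ∈ lH) : ∃ y : Fi22.Gen, code (incl y) = x := by
  have : ∀ x ∈ lH, ∃ y ∈ [Fi22.Gen.a, .b, .c, .d, .e, .f, .g, .h, .i], code (incl y) = x := by
    decide
  obtain ⟨y, -, hy⟩ := this x hx
  exact ⟨y, hy⟩

/-- The image of the subgroup of index 31671. -/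
noncomputable abbrev imH : Subgroup (Equiv.Perm (Fin table.N)) := (sub lH).map hom

/-- The generators of Fi22 in that image. -/
noncomputable def gP (x : Fi22.Gen) : imH :=
  ⟨hom (PresentedGroup.of (incl x)), Subgroup.mem_map_of_mem hom
    (Subgroup.subset_closure ⟨code (incl x), code_incl x, coding.gen_code (incl x)⟩)⟩

theorem lift_gP (r : FreeGroup Fi22.Gen) :
    ((FreeGroup.lift gP r : imH) : Equiv.Perm (Fin table.N)) =
      hom (PresentedGroup.mk _ (FreeGroup.map incl r)) := by
  have h : imH.subtype.comp (FreeGroup.lift gP) =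
      (hom.comp (PresentedGroup.mk _)).comp (FreeGroup.map incl) :=
    FreeGroup.ext_hom _ _ fun x => by
      simp only [MonoidHom.comp_apply, FreeGroup.lift_apply_of, FreeGroup.map.of]
      rfl
  exact DFunLike.congr_fun h r

theorem lift_restrict (r : FreeGroup Fi22.Gen) :
    FreeGroup.lift (fun x => restrict (gP x)) r = restrict (FreeGroup.lift gP r) := by
  have h : FreeGroup.lift (fun x => restrict (gP x)) = restrict.comp (FreeGroup.lift gP) :=
    FreeGroup.ext_hom _ _ fun x => by simp [MonoidHom.comp_apply, FreeGroup.lift_apply_of]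
  exact DFunLike.congr_fun h r

theorem restrict_rel : ∀ r ∈ coxRelators Fi22.edges ∪ {r | r ∈ Fi22.extra},
    FreeGroup.lift (fun x => restrict (gP x)) r = 1 := by
  intro r hr
  rw [lift_restrict]
  ext u
  show (((FreeGroup.lift gP r : imH) : Equiv.Perm (Fin table.N)) u.1 : Fin table.N).1 = u.1.1
  rw [lift_gP r]
  by_cases hne : r = (Fi22.b * Fi22.c * Fi22.d * Fi22.e * Fi22.f * Fi22.g * Fi22.h) ^ 9
  · subst hne
    have e2 : FreeGroup.map incl
        ((Fi22.b * Fi22.c * Fi22.d * Fi22.e * Fi22.f * Fi22.g * Fi22.h) ^ 9) = relE7 := by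
      simp [relE7, map_pow, map_mul, FreeGroup.map.of, incl]
    rw [e2, relE7_class u.1 u.2]
  · rw [mk_map_incl hr hne, map_one]
    rfl

/-- Fi22 acting on the suborbit of size 3510. -/
noncomputable def ρ : Fi22 →* Equiv.Perm {u : Fin table.N // forestH.cls u = 1} :=
  PresentedGroup.toGroup restrict_rel

theorem ρ_injective : Function.Injective ρ := by
  have hsimple := FiP.isSimple
  rw [← MonoidHom.ker_eq_bot_iff]
  rcases hsimple.eq_bot_or_eq_top_of_normal ρ.ker inferInstance with h | h
  · exact h
  · exfalso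
    have hmove : ∃ x ∈ lH, ∃ v < table.N, forestH.cls v = 1 ∧ table.img x v ≠ v := by
      refine ⟨0, by decide, ?_⟩
      have : ∃ v ∈ List.range 600, forestH.cls v = 1 ∧ table.img 0 v ≠ v := by decide +kernel
      obtain ⟨v, hv, hv'⟩ := this
      exact ⟨v, lt_of_lt_of_le (List.mem_range.1 hv) (by decide +kernel), hv'⟩
    obtain ⟨x, hx, v, hv, hv1, hv2⟩ := hmove
    obtain ⟨y, hy⟩ : ∃ y : Fi22.Gen, code (incl y) = x := incl_surj x hx
    have h1 : ρ (PresentedGroup.of y) = 1 :=
      MonoidHom.mem_ker.1 (h ▸ Subgroup.mem_top (PresentedGroup.of y))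
    rw [show ρ (PresentedGroup.of y) = restrict (gP y) from
      PresentedGroup.toGroup.of restrict_rel] at h1
    have h2 := congrArg (fun σ => ((σ ⟨⟨v, hv⟩, hv1⟩ : {u : Fin table.N //
      forestH.cls u = 1}) : Fin table.N).1) h1
    change ((hom (PresentedGroup.of (incl y)) ⟨v, hv⟩ : Fin table.N) : ℕ) = v at h2
    rw [← coding.gen_code (incl y), show coding.code (incl y) = x from hy,
      hom_acts.img_eq x (lH_lt x hx)] at h2
    exact hv2 h2

theorem ρ_range : ρ.range = restrict.range := by
  apply le_antisymm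
  · rintro _ ⟨a, rfl⟩
    induction a using PresentedGroup.induction_on with
    | _ w => exact ⟨FreeGroup.lift gP w, (lift_restrict w).symm.trans rfl⟩
  · have htop : Subgroup.closure (Set.range gP) = ⊤ := by
      rw [eq_top_iff]
      rintro ⟨π, hπ⟩ -
      obtain ⟨a, ha, rfl⟩ := Subgroup.mem_map.1 hπ
      have : hom a ∈ (Subgroup.closure (Set.range gP)).map imH.subtype := by
        clear hπ
        induction ha using Subgroup.closure_induction with
        | mem a ha =>
          obtain ⟨x, hx, rfl⟩ := ha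
          obtain ⟨y, rfl⟩ := incl_surj x hx
          refine ⟨gP y, Subgroup.subset_closure ⟨y, rfl⟩, ?_⟩
          show hom (PresentedGroup.of (incl y)) = hom (coding.gen (coding.code (incl y)))
          rw [coding.gen_code]
        | one => rw [map_one]; exact one_mem _
        | mul a b _ _ iha ihb => rw [map_mul]; exact mul_mem iha ihb
        | inv a _ iha => rw [map_inv]; exact inv_mem iha
      obtain ⟨⟨π', hπ'⟩, h, e⟩ := this
      simp only [Subgroup.coe_subtype] at e
      subst e
      exact h
    rw [MonoidHom.range_eq_map, ← htop, MonoidHom.map_closure, Subgroup.closure_le]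
    rintro _ ⟨_, ⟨y, rfl⟩, rfl⟩
    exact ⟨PresentedGroup.of y, PresentedGroup.toGroup.of restrict_rel⟩

theorem two_mul_card_le :
    129123503308800 ≤ Nat.card ((sub lH).map hom) := by
  have hle : Nat.card Fi22 ≤ Nat.card restrict.range := by
    rw [← ρ_range]
    exact (Nat.card_congr (MonoidHom.ofInjective ρ_injective).toEquiv).le
  have hker : 2 ≤ Nat.card restrict.ker := by
    let z : imH := ⟨_, Subgroup.mem_map_of_mem hom relE7_mem⟩
    have hz : z ∈ restrict.ker := by
      rw [MonoidHom.mem_ker]
      ext u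
      show ((hom _ u.1 : Fin table.N) : ℕ) = u.1.1
      rw [relE7_class u.1 u.2]
    have : Nontrivial restrict.ker :=
      ⟨⟨⟨z, hz⟩, 1, fun e => relE7_ne (congrArg (fun w : restrict.ker =>
        ((w : imH) : Equiv.Perm (Fin table.N))) e)⟩⟩
    exact Finite.one_lt_card
  have h := restrict.ker.card_mul_index
  rw [Subgroup.index_ker] at h
  calc 129123503308800 = 2 * Nat.card Fi22 := by rw [FiP.card_eq.1]
    _ ≤ Nat.card restrict.ker * Nat.card restrict.range := Nat.mul_le_mul hker hle
    _ = Nat.card ((sub lH).map hom) := h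

theorem finite : Finite Fi23 := Nat.finite_of_card_ne_zero card_le.2

theorem card_eq : Nat.card Fi23 = 4089470473293004800 ∧ Function.Injective hom := by
  have := finite
  have h1 : 4089470473293004800 ≤ Nat.card hom.range := by
    let S := MulAction.stabilizer hom.range pt
    have horb : MulAction.orbit hom.range pt = Set.univ := by
      refine Set.eq_univ_of_forall fun u => ?_
      obtain ⟨a, ha⟩ := transitive u
      exact ⟨⟨hom a, a, rfl⟩, ha⟩
    have h := Nat.card_congr (MulAction.orbitProdStabilizerEquivGroup hom.range pt)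
    rw [Nat.card_prod, horb, Nat.card_coe_set_eq, Set.ncard_univ, Nat.card_fin] at h
    have hS : Nat.card ((sub lH).map hom) ≤ Nat.card S := by
      refine Nat.card_le_card_of_injective (fun π => ⟨⟨π.1, ?_⟩, ?_⟩) fun a b e => ?_
      · obtain ⟨π, a, -, rfl⟩ := π
        exact ⟨a, rfl⟩
      · obtain ⟨π, a, ha, rfl⟩ := π
        exact hom_fix a ha
      · obtain ⟨a, _⟩ := a
        obtain ⟨b, _⟩ := b
        cases e
        rfl
    have hN : table.N = 31671 := rfl
    calc 4089470473293004800 = 31671 * 129123503308800 := by norm_num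
      _ ≤ table.N * Nat.card S := Nat.mul_le_mul hN.ge (two_mul_card_le.trans hS)
      _ = Nat.card hom.range := h
  have h2 : Nat.card hom.range ≤ Nat.card Fi23 :=
    Nat.card_le_card_of_surjective _ hom.rangeRestrict_surjective
  have hc : Nat.card Fi23 = 4089470473293004800 := le_antisymm card_le.1 (h1.trans h2)
  refine ⟨hc, ?_⟩
  have hb : Function.Bijective hom.rangeRestrict :=
    (Nat.bijective_iff_surjective_and_card _).2 ⟨hom.rangeRestrict_surjective, by omega⟩
  intro a b e
  exact hb.1 (Subtype.ext e)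

theorem index_H_eq : (sub lH).index = 31671 := by
  have h := (exists_quotient_equiv hom pt _ hom_fix transitive
    ⟨le_trans index_H.1 (by decide +kernel), index_H.2⟩).1
  rw [h]
  rfl

theorem suborbit {b c n : ℕ} (hb : b < table.N) (hc : forestH.cls b = c)
    (hn : forestH.count c table.N = n) :
    ∃ O : Finset (Fin table.N),
      (O : Set _) = MulAction.orbit ((sub lH).map hom) (⟨b, hb⟩ : Fin table.N) ∧
        O = forestH.classSet table c ∧ O.card = n :=
  ⟨_, (orbit_H ⟨b, hb⟩ hc).symm, rfl, by rw [Forest.card_classSet, hn]⟩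

theorem coset_orbit {b c n : ℕ} (hb : b < table.N) (hc : forestH.cls b = c)
    (hn : forestH.count c table.N = n) :
    ∃ q : Fi23 ⧸ sub lH, (MulAction.orbit (sub lH) q).ncard = n := by
  obtain ⟨-, e, -, he⟩ := exists_quotient_equiv hom pt _ hom_fix transitive
    ⟨le_trans index_H.1 (by decide +kernel), index_H.2⟩
  obtain ⟨O, hO, -, hcard⟩ := suborbit hb hc hn
  refine ⟨e.symm ⟨b, hb⟩, ?_⟩
  rw [orbit_ncard_eq hom _ he _ _ rfl, Equiv.apply_symm_apply, ← hO, Set.ncard_coe_finset, hcard]

theorem coset_orbits :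
    ∃ q₁ q₂ : Fi23 ⧸ sub lH, (MulAction.orbit (sub lH) q₁).ncard = 3510 ∧
      (MulAction.orbit (sub lH) q₂).ncard = 28160 := by
  obtain ⟨q₁, h₁⟩ := coset_orbit (b := 52) (c := 1) (by decide +kernel) (by decide +kernel)
    Fi23Data.forestH_count1
  obtain ⟨q₂, h₂⟩ := coset_orbit (b := 1) (c := 2) (by decide +kernel) (by decide +kernel)
    Fi23Data.forestH_count2
  exact ⟨q₁, q₂, h₁, h₂⟩

theorem isSimple : IsSimpleGroup Fi23 := by
  have := finite
  obtain ⟨O₁, hO₁, e₁, hc₁⟩ := suborbit (b := 52) (c := 1) (by decide +kernel) (by decide +kernel)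
    Fi23Data.forestH_count1
  obtain ⟨O₂, hO₂, e₂, hc₂⟩ := suborbit (b := 1) (c := 2) (by decide +kernel) (by decide +kernel)
    Fi23Data.forestH_count2
  have hp : forestH.cls (pt : ℕ) = 0 := by
    show forestH.cls 0 = 0
    decide +kernel
  have hdisj : Disjoint O₁ O₂ := by
    rw [e₁, e₂, Finset.disjoint_left]
    intro u h h'
    rw [Forest.mem_classSet] at h h'
    omega
  let t : Fi23 := PresentedGroup.mk (coxRelators Fi23.edges ∪ {r | r ∈ Fi23.extra}) wordT
  have ht : t ^ 23 ^ 1 = 1 := by
    apply card_eq.2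
    rw [map_pow, map_one]
    have e : hom t = hom (appProd coding.gen (appWord coding.code coding.cinv wordT)) := by
      exact congrArg hom (coding.mk_eq wordT)
    rw [e, ← map_pow, ← appProd_replicate]
    ext u
    have hw : appWord coding.code coding.cinv wordT = Fi23Data.lettersT := by decide +kernel
    rw [hw, hom_word _ (by decide +kernel)]
    exact Fi23Data.wordT_ok u u.2
  refine isSimpleGroup_of hom pt card_eq.2 transitive (sub lH) hom_fix [O₁, O₂]
    ?_ ?_ ?_ ?_ ?_ (p := 23) (k := 1) (m := 177803064056217600) (by norm_num) ?_ (by norm_num)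
    (by decide +kernel) t 1 ht (fun M hM h => eq_top_of_wordT_mem M hM h) two_le
  · intro O hO
    simp only [List.mem_cons, List.not_mem_nil, or_false] at hO
    rcases hO with rfl | rfl
    exacts [⟨_, hO₁⟩, ⟨_, hO₂⟩]
  · intro O hO
    simp only [List.mem_cons, List.not_mem_nil, or_false] at hO
    rcases hO with rfl | rfl
    · rw [e₁, Forest.mem_classSet]; omega
    · rw [e₂, Forest.mem_classSet]; omega
  · simp [hdisj]
  · have : table.N = 31671 := rfl
    simp [hc₁, hc₂, this]
  · have hN : table.N = 31671 := rfl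
    intro I hI hne hlen
    simp [List.sublists] at hI
    rcases hI with rfl | rfl | rfl | rfl <;> simp_all
  · rw [card_eq.1]; norm_num

theorem map_closure_H :
    (Subgroup.closure ({Fi23.a, Fi23.b, Fi23.c, Fi23.d, Fi23.e, Fi23.f, Fi23.g, Fi23.h, Fi23.i} :
        Set (FreeGroup Fi23.Gen))).map
      (PresentedGroup.mk (coxRelators Fi23.edges ∪ {r | r ∈ Fi23.extra})) = sub lH := by
  rw [MonoidHom.map_closure]
  show _ = Subgroup.closure _
  congr 1
  simp only [lH, List.mem_cons, List.not_mem_nil, or_false, Set.setOf_or, Set.image_union,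
    Set.setOf_eq_eq_singleton, Set.image_singleton, Set.image_insert_eq, Set.insert_eq]
  rfl

/-- The subgroup of index 31671, mapped onto the copy of Fi22 on the suborbit. -/
noncomputable def toFi22 : sub lH →* Fi22 :=
  (MonoidHom.ofInjective ρ_injective).symm.toMonoidHom.comp
    (((MulEquiv.subgroupCongr ρ_range.symm).toMonoidHom.comp restrict.rangeRestrict).comp
      (hom.subgroupMap (sub lH)))

theorem toFi22_surjective : Function.Surjective toFi22 := by
  unfold toFi22
  simp only [MonoidHom.coe_comp, MulEquiv.coe_toMonoidHom]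
  exact (MulEquiv.surjective _).comp (((MulEquiv.surjective _).comp
    restrict.rangeRestrict_surjective).comp (hom.subgroupMap_surjective (sub lH)))

theorem card_sub_H : Nat.card (sub lH) = 129123503308800 := by
  have h := (sub lH).card_mul_index
  rw [index_H_eq, card_eq.1] at h
  omega

theorem card_ker_toFi22 : Nat.card toFi22.ker = 2 := by
  have hi : toFi22.ker.index = 64561751654400 := by
    rw [Subgroup.index_ker, MonoidHom.range_eq_top.2 toFi22_surjective, Subgroup.card_top]
    exact FiP.card_eq.1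
  have h := toFi22.ker.card_mul_index.trans card_sub_H
  rw [hi] at h
  exact Nat.eq_of_mul_eq_mul_right (by norm_num : 0 < 64561751654400) (h.trans (by norm_num))

theorem not_commutative : ¬ ∀ x y : Fi22, x * y = y * x := by
  intro h
  have := FiP.isSimple
  have : IsMulCommutative Fi22 := ⟨⟨h⟩⟩
  have hp : (Nat.card Fi22).Prime := by
    let : CommGroup Fi22 := { (inferInstance : Group Fi22) with mul_comm := h }
    exact (IsSimpleGroup.prime_card : (Nat.card Fi22).Prime)
  rw [FiP.card_eq.1] at hp
  norm_num at hp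

theorem center_eq : Subgroup.center (sub lH) = toFi22.ker := by
  have := finite
  apply le_antisymm
  · intro z hz
    rw [MonoidHom.mem_ker]
    have := FiP.isSimple
    rcases IsSimpleGroup.eq_bot_or_eq_top_of_normal (Subgroup.center Fi22) inferInstance with e | e
    · rw [← Subgroup.mem_bot, ← e, Subgroup.mem_center_iff]
      intro x
      obtain ⟨y, rfl⟩ := toFi22_surjective x
      rw [← map_mul, ← map_mul, Subgroup.mem_center_iff.1 hz y]
    · exact absurd (fun x y => (Subgroup.mem_center_iff.1 (e ▸ Subgroup.mem_top y : y ∈ _) x)) not_commutative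
  · intro z hz
    rw [Subgroup.mem_center_iff]
    intro g
    by_cases hz1 : z = 1
    · rw [hz1, mul_one, one_mul]
    · have hc : g * z * g⁻¹ ∈ toFi22.ker := MonoidHom.normal_ker toFi22 |>.conj_mem z hz g
      have hne : g * z * g⁻¹ ≠ 1 := fun e => hz1 (conj_eq_one_iff.1 e)
      have hu : ∀ k : toFi22.ker, k ≠ 1 → k = ⟨z, hz⟩ := by
        intro k hk
        obtain ⟨a, ha, hau⟩ := (Nat.card_eq_two_iff' (1 : toFi22.ker)).1 card_ker_toFi22
        rw [hau k hk, hau ⟨z, hz⟩ fun e => hz1 (congrArg Subtype.val e)]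
      have e := hu ⟨_, hc⟩ fun e => hne (congrArg Subtype.val e)
      exact mul_inv_eq_iff_eq_mul.1 (congrArg Subtype.val e)

theorem no_complement (L : Subgroup (sub lH)) :
    ¬ (Subgroup.center (sub lH)).IsComplement' L := by
  intro hL
  have hi : L.index = 2 := by
    rw [hL.index_eq_card, center_eq, card_ker_toFi22]
  have : L.Normal := Subgroup.normal_of_index_eq_two hi
  let q := QuotientGroup.mk' L
  have hcard : Nat.card ((sub lH) ⧸ L) = 2 := hi
  have hsq : ∀ a : (sub lH) ⧸ L, a * a = 1 := by
    intro a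
    rw [← pow_two, ← hcard, pow_card_eq_one']
  have hcomm : ∀ a b : (sub lH) ⧸ L, a * b = b * a := by
    intro a b
    have h := hsq (a * b)
    calc a * b = a * (a * b * (a * b)) * b := by rw [h, mul_one]
      _ = (a * a) * (b * a) * (b * b) := by simp only [mul_assoc]
      _ = b * a := by rw [hsq, hsq, one_mul, mul_one]
  let f : Fi22.Gen → (sub lH) ⧸ L := fun x =>
    q ⟨coding.gen (code (incl x)), Subgroup.subset_closure ⟨_, code_incl x, rfl⟩⟩
  have heval : ∀ r : FreeGroup Fi22.Gen, ∃ h : sub lH,
      (h : Fi23) = PresentedGroup.mk (coxRelators Fi23.edges ∪ {r | r ∈ Fi23.extra})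
        (FreeGroup.map incl r) ∧ FreeGroup.lift f r = q h := by
    intro r
    induction r using FreeGroup.induction_on with
    | C1 => exact ⟨1, by simp, by simp⟩
    | of x => exact ⟨⟨_, Subgroup.subset_closure ⟨_, code_incl x, rfl⟩⟩,
        (coding.gen_code (incl x)).trans (by simp [PresentedGroup.of]), by simp [f]⟩
    | inv_of x ih =>
      obtain ⟨h, h1, h2⟩ := ih
      exact ⟨h⁻¹, by rw [Subgroup.coe_inv, h1, map_inv, map_inv], by rw [map_inv, map_inv, h2]⟩
    | mul x y hx hy =>
      obtain ⟨h, h1, h2⟩ := hx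
      obtain ⟨k, k1, k2⟩ := hy
      exact ⟨h * k, by rw [Subgroup.coe_mul, h1, k1, map_mul, map_mul],
        by rw [map_mul, map_mul, h2, k2]⟩
  have hrel : ∀ r ∈ coxRelators Fi22.edges ∪ {r | r ∈ Fi22.extra},
      r ≠ (Fi22.b * Fi22.c * Fi22.d * Fi22.e * Fi22.f * Fi22.g * Fi22.h) ^ 9 →
      FreeGroup.lift f r = 1 := by
    intro r hr hne
    obtain ⟨h, h1, h2⟩ := heval r
    rw [mk_map_incl hr hne] at h1
    rw [h2, show h = 1 from Subtype.ext h1, map_one]
  have hedge : ∀ e ∈ Fi22.edges, f e.1 = f e.2.2 := by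
    intro e he
    have hl : coxLabel Fi22.edges e.1 e.2.2 = 3 := by
      revert e
      decide
    have h := hrel _ (Or.inl ⟨e.1, FiP.mem_nodes _, e.2.2, FiP.mem_nodes _, rfl⟩) (by
      intro c
      have := congrArg FreeGroup.toWord c
      revert this
      rw [hl]
      revert e
      decide)
    rw [hl, map_pow, map_mul, FreeGroup.lift_apply_of, FreeGroup.lift_apply_of, pow_succ,
      pow_two, hsq, one_mul, mul_eq_one_iff_eq_inv] at h
    rw [h, inv_eq_of_mul_eq_one_right (hsq _)]
  simp only [Fi22.edges, List.forall_mem_cons] at hedge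
  obtain ⟨hab, hbc, hcd, hde, hdh, hef, hfg, hhi, -⟩ := hedge
  have hall : ∀ x, f x = f Fi22.Gen.a := by
    intro x
    cases x <;> simp_all
  have ha : f Fi22.Gen.a = 1 := by
    have h := hrel ((Fi22.a * Fi22.b * Fi22.c * Fi22.d * Fi22.e * Fi22.f * Fi22.h) ^ 9)
      (Or.inr (List.mem_cons_of_mem _ List.mem_cons_self)) (by
        intro c
        have := congrArg FreeGroup.toWord c
        revert this
        decide)
    simp only [map_pow, map_mul, FreeGroup.lift_apply_of, hall] at h
    simpa [hsq, pow_succ] using h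
  have htop : L = ⊤ := by
    rw [eq_top_iff]
    rintro ⟨g, hg⟩ -
    induction hg using Subgroup.closure_induction with
    | mem g hg =>
      obtain ⟨x, hx, rfl⟩ := hg
      obtain ⟨y, rfl⟩ := incl_surj x hx
      exact (QuotientGroup.eq_one_iff _).1 ((hall y).trans ha)
    | one => exact one_mem L
    | mul g h _ _ ihg ihh => exact mul_mem ihg ihh
    | inv g _ ihg => exact inv_mem ihg
  rw [htop, Subgroup.index_top] at hi
  omega

theorem nonsplit : Cfsg.IsNonsplitDoubleCover (sub lH) Fi22 := by
  refine ⟨by rw [center_eq]; exact card_ker_toFi22, ⟨?_⟩, no_complement⟩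
  exact (QuotientGroup.quotientMulEquivOfEq center_eq).trans
    (QuotientGroup.quotientKerEquivOfSurjective toFi22 toFi22_surjective)

end CfsgLib.Sporadic.CosetCert.Fi23P
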