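import Cfsg.Agent.Lib.Sporadic.FischerRankThree
import Cfsg.Agent.Lib.ThreeTransp.SylowWidth
import Cfsg.Agent.Lib.Solvable.Cores

/-!
# Cores of a group generated by a class of 3-transpositions

The members with the same commuting set as `d` form the coset of `d` modulo `O₂(G)`, those with
the same commuting neighbours the coset modulo `O₃(G)`, and `O_p(G)` is central for `p > 3`.
-/

set_option autoImplicit false
set_option linter.style.haveILetI false

namespace CfsgLib.Sporadic.FischerCores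

open CfsgLib.Sporadic.FischerTransitivity CfsgLib.Sporadic.FischerRankThree
open CfsgLib.Solvable CfsgLib.ThreeTransp

variable {G : Type*} [Group G] {D : Set G}

/-- The same commuting set. -/
def SameV (D : Set G) (a b : G) : Prop :=
  a ∈ D ∧ b ∈ D ∧ ∀ e ∈ D, (Commute a e ↔ Commute b e)

theorem SameV.symm' {a b : G} (h : SameV D a b) : SameV D b a :=
  ⟨h.2.1, h.1, fun e he => (h.2.2 e he).symm⟩

theorem SameV.trans' {a b c : G} (h : SameV D a b) (h' : SameV D b c) : SameV D a c :=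
  ⟨h.1, h'.2.1, fun e he => (h.2.2 e he).trans (h'.2.2 e he)⟩

theorem SameV.commute {a b : G} (h : SameV D a b) : Commute a b :=
  (h.2.2 b h.2.1).2 (Commute.refl b)

variable (hG : Cfsg.IsThreeTranspositionGroup D)

include hG

theorem sameV_conj (g : G) {a b : G} (h : SameV D a b) : SameV D (g * a * g⁻¹) (g * b * g⁻¹) := by
  refine ⟨hG.2.1 g a h.1, hG.2.1 g b h.2.1, fun e he => ?_⟩
  have h1 := h.2.2 (g⁻¹ * e * g) (by simpa using hG.2.1 g⁻¹ e he)
  have e' : g * (g⁻¹ * e * g) * g⁻¹ = e := by group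
  rw [← Commute.conj_iff g] at h1
  rw [e'] at h1
  rw [h1, ← Commute.conj_iff g, e']

theorem sameV_cj {a b : G} (h : SameV D a b) {s : G} (hs : s ∈ D) :
    SameV D (cj a s) (cj b s) := by
  by_cases hc : Commute a s
  · rw [cj_fix hG h.1 hc, cj_fix hG h.2.1 ((h.2.2 s hs).1 hc)]
    exact ⟨hs, hs, fun _ _ => Iff.rfl⟩
  · rw [cj_comm hG h.1 hs hc, cj_comm hG h.2.1 hs (fun h' => hc ((h.2.2 s hs).2 h')),
      cj_conj hG hs, cj_conj hG hs]
    exact sameV_conj hG s h

/-- An invariant relation with `p`-groups inside its classes has all its products in `O_p(G)`. -/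
theorem mem_pCore_of_blocks [Finite G] (p : ℕ) {E : G → G → Prop}
    (hmem : ∀ a b, E a b → a ∈ D ∧ b ∈ D) (hrefl : ∀ a ∈ D, E a a)
    (hsymm : ∀ a b, E a b → E b a) (htrans : ∀ a b c, E a b → E b c → E a c)
    (hconj : ∀ g a b, E a b → E (g * a * g⁻¹) (g * b * g⁻¹))
    (hcj : ∀ a b, E a b → ∀ s ∈ D, E (cj a s) (cj b s))
    (hloc : ∀ c ∈ D, IsPGroup p (Subgroup.closure {k : G | ∃ a b, E c a ∧ E c b ∧ k = a * b})) :
    ∀ u w, E u w → u * w ∈ Cfsg.pCore p G := by
  set S := {k : G | ∃ a b, E a b ∧ k = a * b} with hS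
  set N := Subgroup.closure S with hN
  have hNfix : ∀ k ∈ N, ∀ s ∈ D, E (k * s * k⁻¹) s := by
    intro k hk
    induction hk using Subgroup.closure_induction with
    | mem k hk =>
      obtain ⟨a, b, hab, rfl⟩ := hk
      intro s hs
      obtain ⟨ha, hb⟩ := hmem a b hab
      have h := hcj a b hab _ (cj_mem hG hb hs)
      rw [cj_cj hG hb] at h
      simpa [cj, mul_assoc, inv_eq hG ha, inv_eq hG hb] using h
    | one => intro s hs; simpa using hrefl s hs
    | mul g h _ _ ihg ihh =>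
      intro s hs
      have := ihg _ (hG.2.1 h s hs)
      exact htrans _ _ _ (by simpa [mul_assoc] using this) (ihh s hs)
    | inv g _ ih =>
      intro s hs
      have := ih _ (hG.2.1 g⁻¹ s hs)
      exact hsymm _ _ (by simpa [mul_assoc] using this)
  haveI hNn : N.Normal := ⟨fun k hk g => by
    refine (Subgroup.closure_le (N.comap (MulAut.conj g).toMonoidHom)).2 ?_ hk
    rintro _ ⟨a, b, hab, rfl⟩
    exact Subgroup.subset_closure ⟨g * a * g⁻¹, g * b * g⁻¹, hconj g a b hab, by simp [mul_assoc]⟩⟩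
  let K : G → Subgroup G := fun c => Subgroup.closure {k : G | ∃ a b, E c a ∧ E c b ∧ k = a * b}
  have hKN : ∀ c, K c ≤ N := fun c => (Subgroup.closure_le N).2 fun k ⟨a, b, ha, hb, hk⟩ =>
    Subgroup.subset_closure ⟨a, b, htrans _ _ _ (hsymm _ _ ha) hb, hk⟩
  have hKn : ∀ c, ((K c).subgroupOf N).Normal := fun c => ⟨fun l hl n => by
    rw [Subgroup.mem_subgroupOf] at hl ⊢
    refine (Subgroup.closure_le ((K c).comap (MulAut.conj (n : G)).toMonoidHom)).2 ?_ hl
    rintro _ ⟨a, b, hca, hcb, rfl⟩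
    exact Subgroup.subset_closure ⟨(n : G) * a * (n : G)⁻¹, (n : G) * b * (n : G)⁻¹,
      htrans _ _ _ hca (hsymm _ _ (hNfix n n.2 a (hmem c a hca).2)),
      htrans _ _ _ hcb (hsymm _ _ (hNfix n n.2 b (hmem c b hcb).2)), by simp [mul_assoc]⟩⟩
  set F : Set (Subgroup N) := {L | ∃ c ∈ D, L = (K c).subgroupOf N} with hF
  have hFp : IsPGroup p (sSup F : Subgroup N) := by
    refine Sylow.sSup_of_normal F ?_ ?_
    · rintro _ ⟨c, hc, rfl⟩
      exact (hloc c hc).of_equiv (Subgroup.subgroupOfEquivOfLe (hKN c)).symm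
    · rintro _ ⟨c, hc, rfl⟩
      exact hKn c
  have htop : N ≤ (sSup F : Subgroup N).map N.subtype := by
    refine (Subgroup.closure_le _).2 ?_
    rintro _ ⟨a, b, hab, rfl⟩
    have ha := (hmem a b hab).1
    have hk : a * b ∈ K a := Subgroup.subset_closure ⟨a, b, hrefl a ha, hab, rfl⟩
    exact ⟨⟨a * b, hKN a hk⟩,
      le_sSup (show (K a).subgroupOf N ∈ F from ⟨a, ha, rfl⟩) hk, rfl⟩
  have hp : IsPGroup p N := (hFp.map N.subtype).to_le htop
  intro u w h
  exact Cores.le_pCore hp (Subgroup.subset_closure ⟨u, w, h, rfl⟩)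

theorem mul_mem_pCore_two [Finite G] {a b : G} (h : SameV D a b) : a * b ∈ Cfsg.pCore 2 G := by
  refine mem_pCore_of_blocks hG 2 (E := SameV D) (fun a b h => ⟨h.1, h.2.1⟩)
    (fun a ha => ⟨ha, ha, fun _ _ => Iff.rfl⟩) (fun a b h => h.symm') (fun a b c h h' => h.trans' h')
    (fun g a b h => sameV_conj hG g h) (fun a b h s hs => sameV_cj hG h hs) ?_ a b h
  intro c hc
  refine (SylowWidth.isPGroup_closure (E := {x | SameV D c x}) (fun x hx => hG.1.1 x hx.2.1)
    (fun x hx y hy => (hx.symm'.trans' hy).commute)).to_le ((Subgroup.closure_le _).2 ?_)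
  rintro _ ⟨x, y, hx, hy, rfl⟩
  exact Subgroup.mul_mem _ (Subgroup.subset_closure hx) (Subgroup.subset_closure hy)

theorem mul_mem_pCore_three [Finite G] {a b : G} (ha : a ∈ D) (hb : b ∈ D)
    (h : Nb D a = Nb D b) : a * b ∈ Cfsg.pCore 3 G := by
  refine mem_pCore_of_blocks hG 3 (E := fun a b => a ∈ D ∧ b ∈ D ∧ Nb D a = Nb D b)
    (fun a b h => ⟨h.1, h.2.1⟩) (fun a ha => ⟨ha, ha, rfl⟩) (fun a b h => ⟨h.2.1, h.1, h.2.2.symm⟩)
    (fun a b c h h' => ⟨h.1, h'.2.1, h.2.2.trans h'.2.2⟩)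
    (fun g a b h => ⟨hG.2.1 g a h.1, hG.2.1 g b h.2.1, nb_eq_conj hG g h.2.2⟩) ?_
    (fun c hc => nb_class_isPGroup hG hc) a b ⟨ha, hb, h⟩
  rintro a b ⟨ha, hb, hab⟩ s hs
  exact ⟨cj_mem hG ha hs, cj_mem hG hb hs, nb_cj hG ha hb hab hs⟩

omit hG in
theorem pCore_dvd {p : ℕ} {x : G} (hx : x ∈ Cfsg.pCore p G) : ∃ k, orderOf x ∣ p ^ k := by
  obtain ⟨k, hk⟩ := Cores.isPGroup_pCore (G := G) p ⟨x, hx⟩
  exact ⟨k, orderOf_dvd_of_pow_eq_one (by simpa using congrArg Subtype.val hk)⟩

omit hG in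
theorem eq_one_of_pCore {p q : ℕ} (hp : p.Prime) (hq : q.Prime) (hne : p ≠ q) {x : G}
    (hx : x ∈ Cfsg.pCore p G) (h : x ^ q = 1) : x = 1 := by
  obtain ⟨k, hk⟩ := pCore_dvd hx
  rw [← orderOf_eq_one_iff]
  exact Nat.eq_one_of_dvd_coprimes (((Nat.coprime_primes hp hq).2 hne).pow_left k) hk
    (orderOf_dvd_of_pow_eq_one h)

theorem coset_two_commute {d v : G} (hd : d ∈ D) (hv : v ∈ D)
    (h : d⁻¹ * v ∈ Cfsg.pCore 2 G) : Commute d v := by
  rw [inv_eq hG hd] at h
  rcases hG.1.2 d hd v hv with h2 | h3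
  · exact (Basic.commute_iff (sq hG hd) (sq hG hv)).2 h2
  · rw [commute_iff_eq]
    have h1 := eq_one_of_pCore Nat.prime_two Nat.prime_three (by norm_num) h h3
    rw [eq_inv_of_mul_eq_one_left h1, inv_eq hG hv]

theorem sameV_of_coset {d v : G} (hd : d ∈ D) (hv : v ∈ D) (h : d⁻¹ * v ∈ Cfsg.pCore 2 G) :
    SameV D d v := by
  have key : ∀ d ∈ D, ∀ v ∈ D, d⁻¹ * v ∈ Cfsg.pCore 2 G → ∀ e ∈ D, Commute d e → Commute v e := by
    intro d hd v hv h e he hde
    by_contra hn
    let π := QuotientGroup.mk' (Cfsg.pCore 2 G)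
    have hdv : π d = π v := QuotientGroup.eq.2 h
    have h3' : (v * e) ^ 3 = 1 :=
      (congrArg ((v * e) ^ ·) (Basic.orderOf_mul_three hG.1 hv he hn)).symm.trans
        (pow_orderOf_eq_one _)
    have h3 : (π v * π e) ^ 3 = 1 := by rw [← map_mul, ← map_pow, h3', map_one]
    have h2 : (π v * π e) ^ 2 = 1 := by
      rw [← hdv, ← map_mul, ← map_pow, (Basic.commute_iff (sq hG hd) (sq hG he)).1 hde, map_one]
    have hm : v * e ∈ Cfsg.pCore 2 G := by
      rw [← QuotientGroup.eq_one_iff, ← QuotientGroup.mk'_apply, map_mul]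
      rwa [pow_succ, h2, one_mul] at h3
    have h1 := eq_one_of_pCore Nat.prime_two Nat.prime_three (by norm_num) hm h3'
    exact hn (by rw [eq_inv_of_mul_eq_one_left h1, inv_eq hG he])
  refine ⟨hd, hv, fun e he => ⟨key d hd v hv h e he, key v hv d hd ?_ e he⟩⟩
  have h' := (Cfsg.pCore 2 G).inv_mem h
  simpa [mul_assoc] using h'

theorem sameV_iff [Finite G] {d : G} (hd : d ∈ D) (v : G) :
    SameV D d v ↔ v ∈ D ∧ d⁻¹ * v ∈ Cfsg.pCore 2 G :=
  ⟨fun h => ⟨h.2.1, by rw [inv_eq hG hd]; exact mul_mem_pCore_two hG h⟩,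
    fun h => sameV_of_coset hG hd h.1 h.2⟩

theorem sameV_orbit [Finite G] (hclass : ∀ a ∈ D, ∀ b ∈ D, ∃ g : G, g * a * g⁻¹ = b) {d v : G}
    (h : SameV D d v) : ∃ g ∈ Cfsg.pCore 2 G, v = g * d * g⁻¹ := by
  by_cases hne : d = v
  · exact ⟨1, Subgroup.one_mem _, by simp [hne]⟩
  obtain ⟨f, hf, hdf⟩ := exists_adj hG hclass h.1 h.2.1 hne
  refine ⟨f * (d * v) * f, ?_, (move hG h.1 h.2.1 hf h.commute hdf
    fun h' => hdf ((h.2.2 f hf).2 h')).symm⟩
  rw [← cj, cj_conj hG hf]
  exact (Cores.pCore_normal 2).conj_mem _ (mul_mem_pCore_two hG h) f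

theorem orbit_coset {p : ℕ} {d : G} (hd : d ∈ D) {g : G} (hg : g ∈ Cfsg.pCore p G) :
    d⁻¹ * (g * d * g⁻¹) ∈ Cfsg.pCore p G := by
  have h1 := (Cores.pCore_normal p).conj_mem g hg d⁻¹
  have := (Cfsg.pCore p G).mul_mem h1 ((Cfsg.pCore p G).inv_mem hg)
  simpa [mul_assoc] using this

theorem nb_eq_of_coset {d v : G} (hd : d ∈ D) (hv : v ∈ D) (h : d⁻¹ * v ∈ Cfsg.pCore 3 G) :
    Nb D d = Nb D v := by
  by_cases hne : d = v
  · rw [hne]
  have hadj : ¬ Commute d v := by
    intro hc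
    have h2 := (Basic.commute_iff (sq hG hd) (sq hG hv)).1 hc
    rw [inv_eq hG hd] at h
    have h1 := eq_one_of_pCore Nat.prime_three Nat.prime_two (by norm_num) h h2
    exact hne (by rw [eq_inv_of_mul_eq_one_left h1, inv_eq hG hv])
  have key : ∀ d ∈ D, ∀ v ∈ D, d⁻¹ * v ∈ Cfsg.pCore 3 G → ¬ Commute d v → Nb D d ⊆ Nb D v := by
    intro d hd v hv h hadj e he
    refine ⟨he.1, fun e' => hadj (e' ▸ he.2.2), ?_⟩
    by_contra hn
    let π := QuotientGroup.mk' (Cfsg.pCore 3 G)
    have hdv : π d = π v := QuotientGroup.eq.2 h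
    have h3' : (v * e) ^ 3 = 1 :=
      (congrArg ((v * e) ^ ·) (Basic.orderOf_mul_three hG.1 hv he.1 hn)).symm.trans
        (pow_orderOf_eq_one _)
    have h3 : (π v * π e) ^ 3 = 1 := by rw [← map_mul, ← map_pow, h3', map_one]
    have h2 : (π v * π e) ^ 2 = 1 := by
      rw [← hdv, ← map_mul, ← map_pow, (Basic.commute_iff (sq hG hd) (sq hG he.1)).1 he.2.2,
        map_one]
    have hm : d * e ∈ Cfsg.pCore 3 G := by
      rw [← QuotientGroup.eq_one_iff, ← QuotientGroup.mk'_apply, map_mul, hdv]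
      rwa [pow_succ, h2, one_mul] at h3
    have h1 := eq_one_of_pCore Nat.prime_three Nat.prime_two (by norm_num) hm
      ((Basic.commute_iff (sq hG hd) (sq hG he.1)).1 he.2.2)
    exact he.2.1 (by rw [eq_inv_of_mul_eq_one_left h1, inv_eq hG he.1])
  refine Set.Subset.antisymm (key d hd v hv h hadj) (key v hv d hd ?_ fun h' => hadj h'.symm)
  have h' := (Cfsg.pCore 3 G).inv_mem h
  simpa [mul_assoc] using h'

theorem nb_orbit [Finite G] {d v : G} (hd : d ∈ D) (hv : v ∈ D) (h : Nb D d = Nb D v) :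
    ∃ g ∈ Cfsg.pCore 3 G, v = g * d * g⁻¹ := by
  by_cases hne : d = v
  · exact ⟨1, Subgroup.one_mem _, by simp [hne]⟩
  have hadj : ¬ Commute d v := fun hc => hne (eq_of_nb_commute h hv hc)
  refine ⟨d * v, mul_mem_pCore_three hG hd hv h, ?_⟩
  calc v = cj d (cj v d) := by rw [cj_comm hG hv hd (fun h' => hadj h'.symm), cj_cj hG hd]
    _ = d * v * d * (d * v)⁻¹ := by simp only [cj, mul_inv_rev, inv_eq hG hd, inv_eq hG hv, mul_assoc]

omit hG in
theorem le_center_of_fix (hgen : Subgroup.closure D = ⊤) {N : Subgroup G}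
    (h : ∀ d ∈ D, ∀ n ∈ N, Commute d n) : N ≤ Subgroup.center G := by
  intro n hn
  rw [Subgroup.mem_center_iff]
  intro g
  have hg : g ∈ Subgroup.closure D := by rw [hgen]; exact Subgroup.mem_top g
  have : Commute g n := by
    induction hg using Subgroup.closure_induction with
    | mem d hd => exact h d hd n hn
    | one => exact Commute.one_left n
    | mul _ _ _ _ h1 h2 => exact h1.mul_left h2
    | inv _ _ h => exact h.inv_left
  exact this.eq

theorem pCore_central_of_three_lt {p : ℕ} (hp : p.Prime) (h3 : 3 < p) :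
    Cfsg.pCore p G ≤ Subgroup.center G := by
  refine le_center_of_fix hG.2.2 fun d hd n hn => ?_
  have h := orbit_coset hG hd hn
  rw [inv_eq hG hd] at h
  have h1 : d * (n * d * n⁻¹) = 1 := by
    rcases hG.1.2 d hd _ (hG.2.1 n d hd) with h2 | h3'
    · exact eq_one_of_pCore hp Nat.prime_two (by omega) h h2
    · exact eq_one_of_pCore hp Nat.prime_three (by omega) h h3'
  have e : n * d * n⁻¹ = d := by
    rw [eq_inv_of_mul_eq_one_right h1, inv_eq hG hd]
  exact (mul_inv_eq_iff_eq_mul.1 e).symm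

/-- If no other member has the same commuting set as a member, `O₂(G)` is central. -/
theorem pCore_two_central (h : ∀ d v, SameV D d v → d = v) :
    Cfsg.pCore 2 G ≤ Subgroup.center G := by
  refine le_center_of_fix hG.2.2 fun d hd n hn => ?_
  have e := (h d _ (sameV_of_coset hG hd (hG.2.1 n d hd) (orbit_coset hG hd hn))).symm
  exact (mul_inv_eq_iff_eq_mul.1 e).symm

/-- If no other member has the same neighbours as a member, `O₃(G)` is central. -/
theorem pCore_three_central (h : ∀ d ∈ D, ∀ v ∈ D, Nb D d = Nb D v → d = v) :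
    Cfsg.pCore 3 G ≤ Subgroup.center G := by
  refine le_center_of_fix hG.2.2 fun d hd n hn => ?_
  have e := (h d hd _ (hG.2.1 n d hd)
    (nb_eq_of_coset hG hd (hG.2.1 n d hd) (orbit_coset hG hd hn))).symm
  exact (mul_inv_eq_iff_eq_mul.1 e).symm

theorem exists_sameV_of_noncentral [Finite G] (h : ¬ Cfsg.pCore 2 G ≤ Subgroup.center G) :
    ∃ d v, SameV D d v ∧ d ≠ v := by
  by_contra hno
  push Not at hno
  exact h (pCore_two_central hG hno)

theorem exists_nb_of_noncentral [Finite G] (h : ¬ Cfsg.pCore 3 G ≤ Subgroup.center G) :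
    ∃ d ∈ D, ∃ v ∈ D, Nb D d = Nb D v ∧ d ≠ v := by
  by_contra hno
  push Not at hno
  exact h (pCore_three_central hG fun d hd v hv => hno d hd v hv)

theorem fitting_le_center [Finite G] (h2 : Cfsg.pCore 2 G ≤ Subgroup.center G)
    (h3 : Cfsg.pCore 3 G ≤ Subgroup.center G) :
    Cfsg.fittingSubgroup G ≤ Subgroup.center G := by
  rw [Cores.fittingSubgroup_eq_iSup_pCore]
  refine iSup_le fun p => ?_
  rcases lt_or_ge 3 (p : ℕ) with h | h
  · exact pCore_central_of_three_lt hG p.2 h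
  · have := p.2.two_le
    rcases (show (p : ℕ) = 2 ∨ (p : ℕ) = 3 by omega) with e | e
    · rwa [e]
    · rwa [e]

/-- With central cores every solvable normal subgroup is central. -/
theorem solvable_normal_le_center [Finite G] (h2 : Cfsg.pCore 2 G ≤ Subgroup.center G)
    (h3 : Cfsg.pCore 3 G ≤ Subgroup.center G) (N : Subgroup G) (hN : N.Normal)
    (hs : Group.IsSolvable ↥N) : N ≤ Subgroup.center G := by
  induction hk : Nat.card N using Nat.strong_induction_on generalizing N with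
  | _ n ih =>
    subst hk
    by_cases hb : N = ⊥
    · exact hb ▸ bot_le
    haveI := hs
    have hlt : ⁅N, N⁆ < N := by
      haveI : Nontrivial N := (Subgroup.nontrivial_iff_ne_bot N).2 hb
      refine lt_of_le_of_ne (Subgroup.commutator_le_self N) fun he => ?_
      have h' := Group.IsSolvable.commutator_lt_top_of_nontrivial (G := ↥N)
      apply h'.ne
      refine Subgroup.map_injective N.subtype_injective ?_
      rw [commutator_def, Subgroup.map_commutator, ← MonoidHom.range_eq_map,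
        Subgroup.range_subtype, he]
    have hle : ⁅N, N⁆ ≤ Subgroup.center G := by
      refine ih _ ?_ ⁅N, N⁆ inferInstance
        (Group.isSolvable_of_isSolvable_injective (f := Subgroup.inclusion hlt.le)
          (Subgroup.inclusion_injective _)) rfl
      refine lt_of_le_of_ne (Nat.le_of_dvd Nat.card_pos (Subgroup.card_dvd_of_le hlt.le)) fun he => ?_
      exact hlt.ne (Subgroup.eq_of_le_of_card_ge hlt.le he.ge)
    haveI : Group.IsNilpotent N := by
      refine Subgroup.isNilpotent_of_lowerCentralSeries_eq_bot (n := 2) ?_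
      rw [Subgroup.lowerCentralSeries_succ, Subgroup.lowerCentralSeries_succ,
        Subgroup.lowerCentralSeries_zero, eq_bot_iff, Subgroup.commutator_le]
      intro z hz n _
      rw [Subgroup.mem_bot, commutatorElement_eq_one_iff_mul_comm]
      exact (Subgroup.mem_center_iff.1 (hle hz) n).symm
    exact (Cores.le_fittingSubgroup (N := N) inferInstance).trans (fitting_le_center hG h2 h3)

end CfsgLib.Sporadic.FischerCores
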