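import Cfsg.Agent.Lib.Sporadic.FischerSymplectic
import Cfsg.Agent.Lib.Sporadic.FischerUnitary
import Cfsg.Agent.Lib.Sporadic.FischerCores
import Cfsg.Agent.Lib.ThreeTransp.PermFive
import Cfsg.Agent.Lib.Involution.ZStar.Basic

/-!
# The group generated by a neighbourhood

A non-central 2-core gives twins, so the class is thick and the group symplectic or unitary; a
chain of four members in a neighbourhood makes the group generated by it non-solvable.
-/

set_option autoImplicit false
set_option linter.style.haveILetI false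

namespace CfsgLib.Sporadic.FischerNeighbourhood

open CfsgLib.Sporadic.FischerTransitivity CfsgLib.Sporadic.FischerLines
open Relation

variable {G : Type*} [Group G] {D : Set G}

/-- Four members forming a path with no other non-commuting pairs. -/
def Path (D : Set G) (x : G) : Prop :=
  ∃ p q r s, p ∈ Nb D x ∧ q ∈ Nb D x ∧ r ∈ Nb D x ∧ s ∈ Nb D x ∧ ¬ Commute p q ∧
    ¬ Commute q r ∧ ¬ Commute r s ∧ Commute p r ∧ Commute p s ∧ Commute q s

variable (hG : Cfsg.IsThreeTranspositionGroup D)

include hG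

theorem fixes {x k : G} (hk : k ∈ Subgroup.closure (Nb D x)) : k * x * k⁻¹ = x := by
  have : Commute k x := by
    induction hk using Subgroup.closure_induction with
    | mem z hz => exact hz.2.2.symm
    | one => exact Commute.one_left x
    | mul _ _ _ _ h1 h2 => exact h1.mul_left h2
    | inv _ _ h => exact h.inv_left
  rw [this.eq, mul_inv_cancel_right]

/-- The neighbourhood is a generating set of 3-transpositions of the group it generates. -/
theorem nb_group (x : G) :
    Cfsg.IsThreeTranspositionGroup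
      (Subtype.val ⁻¹' Nb D x : Set ↥(Subgroup.closure (Nb D x))) := by
  refine ⟨⟨fun d hd => ?_, fun a ha b hb => ?_⟩, fun g d hd => ?_,
    Subgroup.closure_closure_coe_preimage⟩
  · rw [← Subgroup.orderOf_coe]
    exact hG.1.1 _ hd.1
  · rcases hG.1.2 _ ha.1 _ hb.1 with h | h
    · exact Or.inl (Subtype.ext (by simpa using h))
    · exact Or.inr (Subtype.ext (by simpa using h))
  · have h := nb_conj hG (g : G) hd
    rwa [fixes hG g.2] at h

theorem thick_of_pCore [Finite G] (hclass : ∀ a ∈ D, ∀ b ∈ D, ∃ g : G, g * a * g⁻¹ = b)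
    (hperf : ⁅commutator G, commutator G⁆ = commutator G)
    (hsol : ∀ N : Subgroup G, N.Normal → Group.IsSolvable ↥N → N = ⊥) {x : G} (hx : x ∈ D)
    (h : ¬ Cfsg.pCore 2 ↥(Subgroup.closure (Nb D x)) ≤
      Subgroup.center ↥(Subgroup.closure (Nb D x))) : Thick D := by
  obtain ⟨a, b, hab, hne⟩ := FischerCores.exists_sameV_of_noncentral (nb_group hG x) h
  refine ⟨hG, hclass, hperf, hsol, x, a, b, hx, hab.1, hab.2.1, fun e => hne (Subtype.ext e),
    hab.commute.map (Subgroup.subtype _), fun e he => ?_⟩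
  have h' := hab.2.2 ⟨e, Subgroup.subset_closure he⟩ he
  simpa [commute_iff_eq, Subtype.ext_iff] using h'

theorem path_not_solvable [Finite G] {x : G} (h : Path D x) :
    ¬ Group.IsSolvable ↥(Subgroup.closure (Nb D x)) := by
  obtain ⟨p, q, r, s, hp, hq, hr, hs, hpq, hqr, hrs, hpr, hps, hqs⟩ := h
  intro hsolv
  set K := Subgroup.closure ({p, q, r, s} : Set G) with hK
  have hle : K ≤ Subgroup.closure (Nb D x) := Subgroup.closure_mono (by
    rintro u (rfl | rfl | rfl | rfl) <;> assumption)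
  haveI : Group.IsSolvable ↥K :=
    Group.isSolvable_of_isSolvable_injective (f := Subgroup.inclusion hle)
      (Subgroup.inclusion_injective _)
  have m : ∀ u ∈ ({p, q, r, s} : Set G), u ∈ K := fun u hu => Subgroup.subset_closure hu
  let P : ↥K := ⟨p, m p (by simp)⟩
  let Q : ↥K := ⟨q, m q (by simp)⟩
  let R : ↥K := ⟨r, m r (by simp)⟩
  let S : ↥K := ⟨s, m s (by simp)⟩
  have hgen : Subgroup.closure ({P, Q, R, S} : Set ↥K) = ⊤ := by
    refine Subgroup.map_injective K.subtype_injective ?_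
    rw [MonoidHom.map_closure, ← MonoidHom.range_eq_map, Subgroup.range_subtype]
    simp [Set.image_insert_eq, P, Q, R, S, hK]
  have br : ∀ {u v : G}, u ∈ D → v ∈ D → ¬ Commute u v → u * v * u = v * u * v :=
    fun hu hv h => CfsgLib.ThreeTransp.Basic.braid hG.1 hu hv h
  obtain ⟨e⟩ := CfsgLib.ThreeTransp.PermFive.nonempty_mulEquiv hgen
    (Subtype.ext (sq hG hp.1)) (Subtype.ext (sq hG hq.1)) (Subtype.ext (sq hG hr.1))
    (Subtype.ext (sq hG hs.1)) (Subtype.ext (br hp.1 hq.1 hpq)) (Subtype.ext (br hq.1 hr.1 hqr))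
    (Subtype.ext (br hr.1 hs.1 hrs)) (Subtype.ext hpr.eq) (Subtype.ext hps.eq)
    (Subtype.ext hqs.eq) (fun e => hpq (by
      have h1 : p * q = 1 := congrArg Subtype.val e
      rw [eq_inv_of_mul_eq_one_right h1, inv_eq hG hp.1]))
  exact Equiv.Perm.fin_5_not_solvable
    (Group.isSolvable_of_isSolvable_injective (f := e.symm.toMonoidHom) e.symm.injective)

theorem path_conj {x y : G} (hclass : ∀ a ∈ D, ∀ b ∈ D, ∃ g : G, g * a * g⁻¹ = b) (hx : x ∈ D)
    (hy : y ∈ D) (h : Path D y) : Path D x := by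
  obtain ⟨g, rfl⟩ := hclass y hy x hx
  obtain ⟨p, q, r, s, hp, hq, hr, hs, hpq, hqr, hrs, hpr, hps, hqs⟩ := h
  exact ⟨_, _, _, _, nb_conj hG g hp, nb_conj hG g hq, nb_conj hG g hr, nb_conj hG g hs,
    fun h => hpq ((Commute.conj_iff g).1 h), fun h => hqr ((Commute.conj_iff g).1 h),
    fun h => hrs ((Commute.conj_iff g).1 h), (Commute.conj_iff g).2 hpr, (Commute.conj_iff g).2 hps,
    (Commute.conj_iff g).2 hqs⟩

omit hG

/-- A thick class comes from a symplectic or a unitary group. -/
theorem classify [Finite G] (h : Thick D) :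
    (∃ m, Nonempty (G ≃* Matrix.symplecticGroup (Fin m) (ZMod 2)) ∧ 2 ≤ m ∧
      (3 ≤ m → ∃ y ∈ D, Path D y)) ∨
    ∃ n, Nonempty (G ≃* Cfsg.PSU n FieldFour 2) ∧ 4 ≤ n ∧ (6 ≤ n → ∃ y ∈ D, Path D y) := by
  obtain ⟨x, a, -, hx, ha, -⟩ := h.twins
  rcases FischerFive.card_line h hx ha with h3 | h5
  · exact Or.inl (FischerSymplectic.main h
      fun y hy c hc => (ln_card h.grp h hy hc hx ha).trans h3)
  · obtain ⟨z, hz, haz⟩ := FischerFive.exists_adj h hx ha
    have F : FischerTrans.Frame D a z :=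
      ⟨h, fun y hy c hc => (ln_card h.grp h hy hc hx ha).trans h5, ha.1, hz.1, haz⟩
    obtain ⟨n, hn, he, hp⟩ := FischerCoord.main F
    exact Or.inr ⟨n, he, hn, fun h6 => ⟨a, ha.1, hp h6⟩⟩

/-- Central cores leave a neighbourhood without non-commuting pairs, which is absurd. -/
theorem not_abelian [Finite G] (hG : Cfsg.IsThreeTranspositionGroup D)
    (hclass : ∀ a ∈ D, ∀ b ∈ D, ∃ g : G, g * a * g⁻¹ = b)
    (hperf : ⁅commutator G, commutator G⁆ = commutator G)
    (hsol : ∀ N : Subgroup G, N.Normal → Group.IsSolvable ↥N → N = ⊥) {x : G} (hx : x ∈ D) :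
    ∃ a ∈ Subgroup.closure (Nb D x), ∃ b ∈ Subgroup.closure (Nb D x), ¬ Commute a b := by
  by_contra hno
  push Not at hno
  have hone : ∀ p ∈ D, ∀ a ∈ Nb D p, ∀ b ∈ Nb D p, a = b := by
    intro p hp a ha b hb
    obtain ⟨g, rfl⟩ := hclass x hx p hp
    have hnb : ∀ a ∈ Nb D x, ∀ b ∈ Nb D x, a = b := by
      intro a ha b hb
      obtain ⟨k, hk, e⟩ := exists_conj hG hclass hperf
        (fun N h1 h2 _ => (hsol N h1 h2).le.trans bot_le) hx ha hb
      rw [← e, (hno k hk a (Subgroup.subset_closure ha)).eq, mul_inv_cancel_right]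
    rw [← FischerRankThree.nb_image hG] at ha hb
    obtain ⟨a', ha', rfl⟩ := ha
    obtain ⟨b', hb', rfl⟩ := hb
    simp only [hnb a' ha' b' hb']
  have hall : ∀ u, ReflTransGen (CRel D) x u → Commute x u := by
    intro u hu
    suffices u = x ∨ u ∈ Nb D x by
      rcases this with rfl | h
      exacts [Commute.refl _, h.2.2]
    induction hu with
    | refl => exact Or.inl rfl
    | @tail p q _ hpq ih =>
      rcases ih with rfl | hp
      · by_cases e : q = p
        · exact Or.inl e
        · exact Or.inr ⟨hpq.2.1, e, hpq.2.2⟩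
      · by_cases e : q = p
        · exact Or.inr (e ▸ hp)
        · exact Or.inl (hone p hp.1 q ⟨hpq.2.1, e, hpq.2.2⟩ x (FischerLines.nb_symm hx hp))
  have hcomm : ∀ a ∈ D, ∀ b ∈ D, Commute a b := by
    intro a ha b hb
    obtain ⟨g, rfl⟩ := hclass x hx a ha
    have h1 := hall _ (commuting_connected hG hclass hperf hx
      (show g⁻¹ * b * g ∈ D by simpa using hG.2.1 g⁻¹ b hb))
    have h2 := (Commute.conj_iff g).2 h1
    rwa [show g * (g⁻¹ * b * g) * g⁻¹ = b by group] at h2
  have hc : Subgroup.center G = ⊤ := eq_top_iff.2 (by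
    rw [← hG.2.2, Subgroup.closure_le]
    intro a ha
    rw [SetLike.mem_coe, Subgroup.mem_center_iff]
    intro g
    have : g ∈ Subgroup.centralizer ({a} : Set G) := by
      have hle : Subgroup.closure D ≤ Subgroup.centralizer ({a} : Set G) :=
        (Subgroup.closure_le _).2 fun b hb => Subgroup.mem_centralizer_singleton_iff.2 (hcomm b hb a ha).eq
      exact hle (hG.2.2 ▸ Subgroup.mem_top g)
    exact Subgroup.mem_centralizer_singleton_iff.1 this)
  have h0 := hsol (Subgroup.center G) inferInstance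
    (Group.isSolvable_of_comm fun a b => Subtype.ext (Subgroup.mem_center_iff.1 b.2 a))
  have hx1 : x ∈ Subgroup.center G := hc ▸ Subgroup.mem_top x
  rw [h0, Subgroup.mem_bot] at hx1
  have := hG.1.1 x hx
  rw [hx1, orderOf_one] at this
  omega

theorem commute_of_central [Finite G] (hG : Cfsg.IsThreeTranspositionGroup D) (x : G)
    [Group.IsSolvable ↥(Subgroup.closure (Nb D x))]
    (h2 : Cfsg.pCore 2 ↥(Subgroup.closure (Nb D x)) ≤
      Subgroup.center ↥(Subgroup.closure (Nb D x)))
    (h3 : Cfsg.oddCore ↥(Subgroup.closure (Nb D x)) ≤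
      Subgroup.center ↥(Subgroup.closure (Nb D x))) :
    ∀ a ∈ Subgroup.closure (Nb D x), ∀ b ∈ Subgroup.closure (Nb D x), Commute a b := by
  haveI := Fact.mk Nat.prime_three
  have h3' : Cfsg.pCore 3 ↥(Subgroup.closure (Nb D x)) ≤
      Subgroup.center ↥(Subgroup.closure (Nb D x)) := by
    refine le_trans ?_ h3
    refine CfsgLib.Involution.ZStar.le_oddCore (CfsgLib.Solvable.Cores.pCore_normal 3) ?_
    obtain ⟨k, hk⟩ := IsPGroup.iff_card.1
      (CfsgLib.Solvable.Cores.isPGroup_pCore (G := ↥(Subgroup.closure (Nb D x))) 3)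
    rw [hk]
    exact (by decide : Odd 3).pow
  have htop := FischerCores.solvable_normal_le_center (nb_group hG x) h2 h3' ⊤ inferInstance
    inferInstance
  intro a ha b hb
  exact congrArg Subtype.val (Subgroup.mem_center_iff.1 (htop (Subgroup.mem_top ⟨b, hb⟩)) ⟨a, ha⟩)

end CfsgLib.Sporadic.FischerNeighbourhood
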