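import Mathlib

/-!
# Triangle free strongly regular graphs of odd degree

The discriminant of a triangle free strongly regular graph with odd degree and an odd number of
common neighbours for non-adjacent points is a square, and the arithmetic of powers of three.
-/

set_option autoImplicit false

namespace CfsgLib.Sporadic.FischerDiscriminant

open Matrix

/-- In a triangle free strongly regular graph with odd parameters the discriminant is a square. -/
theorem isSquare_disc {V : Type*} [Fintype V] [DecidableEq V] [Nonempty V] (R : V → V → Prop)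
    [DecidableRel R] (k μ : ℕ) (hirr : ∀ a, ¬ R a a) (hsymm : ∀ a b, R a b → R b a)
    (hdeg : ∀ a, (Finset.univ.filter fun c => R a c).card = k)
    (h0 : ∀ a b c, R a b → R a c → ¬ R b c)
    (hμ : ∀ a b, a ≠ b → ¬ R a b → (Finset.univ.filter fun c => R a c ∧ R b c).card = μ)
    (hk : Odd k) (hμo : Odd μ) :
    IsSquare ((μ : ℤ) ^ 2 + 4 * k - 4 * μ) := by
  let A : Matrix V V ℤ := Matrix.of fun i j => if R i j then 1 else 0
  let J : Matrix V V ℤ := Matrix.of fun _ _ => 1
  set Δ : ℤ := (μ : ℤ) ^ 2 + 4 * k - 4 * μ with hΔ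
  have hAA : ∀ i j, (A * A) i j = ((Finset.univ.filter fun c => R i c ∧ R j c).card : ℤ) := by
    intro i j
    rw [Matrix.mul_apply, Finset.card_filter, Nat.cast_sum]
    refine Finset.sum_congr rfl fun c _ => ?_
    have hjc : R c j ↔ R j c := ⟨hsymm c j, hsymm j c⟩
    by_cases h1 : R i c <;> by_cases h2 : R j c <;> simp [A, h1, h2, hjc]
  have hA2 : ∀ i j, (A * A) i j
      = (k : ℤ) * (if i = j then 1 else 0) + μ * (1 - (if i = j then 1 else 0) - A i j) := by
    intro i j
    rw [hAA]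
    by_cases hij : i = j
    · subst hij
      simp [A, hirr, hdeg]
    · by_cases hR : R i j
      · have : (Finset.univ.filter fun c => R i c ∧ R j c) = ∅ :=
          Finset.filter_eq_empty_iff.2 fun c _ h => h0 i j c hR h.1 h.2
        simp [A, hij, hR, this]
      · simp [A, hij, hR, hμ i j hij hR]
  obtain ⟨i₀⟩ := ‹Nonempty V›
  have hrow : ∀ i, ∑ j, A i j = (k : ℤ) := by
    intro i
    simp [A, Finset.sum_boole, hdeg]
  have hcount : (k : ℤ) * k = k + μ * ((Fintype.card V : ℤ) - 1 - k) := by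
    have h1 : ∑ j, (A * A) i₀ j = (k : ℤ) * k := by
      simp only [Matrix.mul_apply]
      rw [Finset.sum_comm]
      simp only [← Finset.mul_sum, hrow, ← Finset.sum_mul]
    rw [← h1]
    simp only [hA2, Finset.sum_add_distrib, ← Finset.mul_sum, Finset.sum_sub_distrib, hrow,
      Finset.sum_ite_eq, Finset.mem_univ, if_true, Finset.sum_const, Finset.card_univ, nsmul_eq_mul,
      mul_one]
  have hv : Even (Fintype.card V) := by
    have h : Even ((μ : ℤ) * Fintype.card V) := by
      have e : (μ : ℤ) * Fintype.card V = k * k - k + μ + μ * k := by linarith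
      have h1 : Odd (μ : ℤ) := by exact_mod_cast hμo
      have h2 : Odd (k : ℤ) := by exact_mod_cast hk
      rw [e]
      exact (((h2.mul h2).sub_odd h2).add_odd h1).add_odd (h1.mul h2)
    have h' : Even (μ * Fintype.card V) := by exact_mod_cast h
    exact (Nat.even_mul.1 h').resolve_left (Nat.not_even_iff_odd.2 hμo)
  obtain ⟨p, hp⟩ : ∃ p, Fintype.card V = 2 * p + 2 := by
    obtain ⟨r, hr⟩ := hv
    exact ⟨r - 1, by have := Fintype.card_pos (α := V); omega⟩
  by_cases hΔ0 : Δ = 0
  · exact ⟨0, by simp [hΔ0]⟩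
  set M : Matrix V V ℤ := (2 : ℤ) • A + (μ : ℤ) • 1 with hM
  have hMM : M * M = Δ • 1 + (4 * μ : ℤ) • J := by
    have e : M * M = (4 : ℤ) • (A * A) + (4 * μ : ℤ) • A + ((μ : ℤ) ^ 2) • 1 := by
      simp only [hM, add_mul, mul_add, smul_mul_assoc, mul_smul_comm, Matrix.mul_one, Matrix.one_mul,
        smul_smul, smul_add]
      module
    ext i j
    rw [e]
    simp only [Matrix.add_apply, Matrix.smul_apply, smul_eq_mul, hA2, Matrix.one_apply, J,
      Matrix.of_apply, hΔ]
    ring
  have hJ : ((Δ : ℚ) • (1 : Matrix V V ℚ) + ((4 * μ : ℤ) : ℚ) • Matrix.of fun _ _ => (1 : ℚ))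
      = (Δ : ℚ) • (1 + Matrix.replicateCol Unit (fun _ : V => ((4 * μ : ℤ) : ℚ) / Δ) *
          Matrix.replicateRow Unit (fun _ : V => (1 : ℚ))) := by
    ext i j
    by_cases h : i = j <;> simp [Matrix.mul_apply, h] <;> field_simp
  have hdet : ((M.det : ℚ)) ^ 2 = (Δ : ℚ) ^ (2 * p + 1) * ((μ : ℚ) + 2 * k) ^ 2 := by
    have h1 : ((M * M).det : ℚ) = (M.det : ℚ) ^ 2 := by
      rw [Matrix.det_mul, sq, Int.cast_mul]
    rw [← h1, hMM, Int.cast_det]
    have h2 : ((Δ • (1 : Matrix V V ℤ) + (4 * μ : ℤ) • J).map fun x => (x : ℚ))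
        = (Δ : ℚ) • (1 : Matrix V V ℚ) + ((4 * μ : ℤ) : ℚ) • Matrix.of fun _ _ => (1 : ℚ) := by
      ext i j
      simp only [Matrix.map_apply, Matrix.add_apply, Matrix.smul_apply, Matrix.one_apply,
        Matrix.of_apply, J, smul_eq_mul]
      by_cases h : i = j <;> simp [h]
    rw [h2, hJ, Matrix.det_smul, Matrix.det_one_add_replicateCol_mul_replicateRow, hp]
    have hc : (k : ℚ) * k = k + μ * ((Fintype.card V : ℚ) - 1 - k) := by exact_mod_cast hcount
    have hD : (Δ : ℚ) = (μ : ℚ) ^ 2 + 4 * k - 4 * μ := by rw [hΔ]; push_cast; ring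
    have hne : (Δ : ℚ) ≠ 0 := by exact_mod_cast hΔ0
    simp only [dotProduct, one_mul, Finset.sum_const, Finset.card_univ, nsmul_eq_mul, hp]
    rw [hp] at hc
    push_cast at hc ⊢
    have hkey : (Δ : ℚ) + 4 * μ * (2 * p + 2) = ((μ : ℚ) + 2 * k) ^ 2 := by
      rw [hD]; linear_combination (-4) * hc
    rw [← hkey, pow_succ]
    field_simp
  rw [← Rat.isSquare_intCast_iff]
  have hne : (Δ : ℚ) ≠ 0 := by exact_mod_cast hΔ0
  have hk0 : 0 < k := hk.pos
  have hpos : (0 : ℚ) < (μ : ℚ) + 2 * k := by positivity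
  refine ⟨(M.det : ℚ) / ((Δ : ℚ) ^ p * ((μ : ℚ) + 2 * k)), ?_⟩
  field_simp
  rw [hdet]
  ring

/-- A square is not a power of three times a number that is two modulo three. -/
theorem not_square : ∀ (i : ℕ) (u N : ℤ), N % 3 = 2 → u * u ≠ 3 ^ i * N := by
  intro i
  induction i using Nat.strong_induction_on with
  | _ i ih =>
    intro u N hN h
    match i, ih with
    | 0, _ =>
      rw [pow_zero, one_mul] at h
      have : u % 3 = 0 ∨ u % 3 = 1 ∨ u % 3 = 2 := by omega
      rcases this with e | e | e <;> (have := Int.mul_emod u u 3; rw [h, e, hN] at this; norm_num at this)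
    | j + 1, ih =>
      have h3 : (3 : ℤ) ∣ u := by
        have hd : (3 : ℤ) ∣ u * u := h ▸ ⟨3 ^ j * N, by ring⟩
        exact (Int.prime_three.dvd_or_dvd hd).elim id id
      obtain ⟨w, rfl⟩ := h3
      match j, ih with
      | 0, _ =>
        norm_num at h
        have : N = 3 * (w * w) := by linarith
        omega
      | l + 1, ih =>
        refine ih l (by omega) w N hN ?_
        rw [pow_succ, pow_succ] at h
        linarith

/-- The only solution in powers of three. -/
theorem eq_zero_one {i j : ℕ} (hij : i < j)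
    (h : IsSquare (((3 ^ i : ℕ) : ℤ) ^ 2 + 4 * (3 ^ j : ℕ) - 4 * (3 ^ i : ℕ))) : i = 0 ∧ j = 1 := by
  obtain ⟨u, hu⟩ := h
  obtain ⟨d, rfl⟩ : ∃ d, j = i + (d + 1) := ⟨j - i - 1, by omega⟩
  push_cast at hu
  match i with
  | 0 =>
    refine ⟨rfl, ?_⟩
    match d with
    | 0 => rfl
    | e + 1 =>
      exfalso
      refine not_square 1 u (4 * 3 ^ (e + 1) - 1) ?_ ?_
      · rw [pow_succ]; omega
      · rw [← hu]; ring
  | l + 1 =>
    exfalso
    refine not_square (l + 1) u (3 ^ (l + 1) + 4 * 3 ^ (d + 1) - 4) ?_ ?_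
    · rw [pow_succ, pow_succ]; omega
    · rw [← hu]; ring

end CfsgLib.Sporadic.FischerDiscriminant
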