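import Cfsg.Agent.Lib.Sporadic.FischerRankThree
import Cfsg.Agent.Lib.Sporadic.FischerDiscriminant
import Cfsg.Agent.Lib.Involution.ZStar.Basic
import Cfsg.Agent.Lib.ThreeTransp.PermFive
import Cfsg.Prelude.Def_CaseTheorems

/-!
# Fischer: a non-central odd core of a neighbourhood group

Two members `a, b` of `Nb x` are twins at `x` when they have the same neighbours inside `Nb x`.
A non-central odd core of the group generated by `Nb x` gives different twins; twins force the
commuting graph to be triangle free, the discriminant of this graph gives degree three and one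
common neighbour, and four members then generate the symmetric group of degree five.
-/

set_option autoImplicit false
set_option linter.style.haveILetI false

namespace CfsgLib.Sporadic.FischerOddCore

open CfsgLib.Sporadic.FischerTransitivity CfsgLib.Sporadic.FischerRankThree
open Relation

variable {G : Type*} [Group G] {D : Set G}

/-- Two members of `Nb x` with the same neighbours inside `Nb x`. -/
def Tw (D : Set G) (x a b : G) : Prop :=
  a ∈ Nb D x ∧ b ∈ Nb D x ∧ Nb D x ∩ Nb D a = Nb D x ∩ Nb D b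

theorem nb_symm {a b : G} (ha : a ∈ D) (h : b ∈ Nb D a) : a ∈ Nb D b :=
  ⟨ha, Ne.symm h.2.1, h.2.2.symm⟩

theorem tw_not_commute {x a b : G} (h : Tw D x a b) (hne : a ≠ b) : ¬ Commute a b := by
  intro hc
  have h1 : b ∈ Nb D x ∩ Nb D a := ⟨h.2.1, h.2.1.1, hne.symm, hc⟩
  rw [h.2.2] at h1
  exact h1.2.2.1 rfl

theorem tw_trans {x a b c : G} (h : Tw D x a b) (h' : Tw D x b c) : Tw D x a c :=
  ⟨h.1, h'.2.1, h.2.2.trans h'.2.2⟩

variable (hG : Cfsg.IsThreeTranspositionGroup D)

include hG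

omit hG in
theorem conj_inj (g : G) : Function.Injective fun w => g * w * g⁻¹ :=
  fun _ _ h => mul_left_cancel (mul_right_cancel h)

theorem tw_conj (g : G) {x a b : G} (h : Tw D x a b) :
    Tw D (g * x * g⁻¹) (g * a * g⁻¹) (g * b * g⁻¹) := by
  refine ⟨nb_conj hG g h.1, nb_conj hG g h.2.1, ?_⟩
  rw [← nb_image hG, ← nb_image hG, ← nb_image hG, ← Set.image_inter (conj_inj g),
    ← Set.image_inter (conj_inj g), h.2.2]

theorem tw_card_conj (g : G) (x a : G) :
    {b | Tw D (g * x * g⁻¹) (g * a * g⁻¹) b}.ncard = {b | Tw D x a b}.ncard := by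
  have : {b | Tw D (g * x * g⁻¹) (g * a * g⁻¹) b}
      = (fun w => g * w * g⁻¹) '' {b | Tw D x a b} := by
    ext b
    refine ⟨fun h => ⟨g⁻¹ * b * g, ?_, by group⟩, ?_⟩
    · simpa [mul_assoc] using tw_conj hG g⁻¹ h
    · rintro ⟨c, hc, rfl⟩
      exact tw_conj hG g hc
  rw [this, Set.ncard_image_of_injective _ (conj_inj g)]

/-- An involutory pair of twins coming from an odd normal subgroup. -/
theorem commute_of_odd {H : Subgroup G} {O : Subgroup G}
    (hnorm : ∀ h ∈ H, ∀ o ∈ O, h * o * h⁻¹ ∈ O) (hodd : ∀ o ∈ O, o * o = 1 → o = 1)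
    {d d' y : G} (hd : d ∈ D) (hd' : d' ∈ D) (hy : y ∈ D) (hdH : d ∈ H) (hyH : y ∈ H)
    (hdd : ¬ Commute d d') (hne : y ≠ d) (hc : Commute d y) (ho : d * d' ∈ O) : Commute d' y := by
  by_contra hn
  have sd := sq hG hd
  have sd' := sq hG hd'
  have sy := sq hG hy
  have x2 : ∀ {u : G} (_ : u * u = 1) (v : G), u * (u * v) = v := fun h v => by
    rw [← mul_assoc, h, one_mul]
  have e1 : d * d' * d = d' * d * d' := CfsgLib.ThreeTransp.Basic.braid hG.1 hd hd' hdd
  have e2 : y * d' * y = d' * y * d' :=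
    CfsgLib.ThreeTransp.Basic.braid hG.1 hy hd' (fun h => hn h.symm)
  have e3 : d * y * d = y := by rw [hc.eq, mul_assoc, sd, mul_one]
  -- the product of `d * y` and its conjugate by `d'`
  set p := d * y with hp
  set q := d' * p * d' with hq
  have hyd : y * d = p := hc.eq.symm
  have hpp : p * p = 1 := by
    nth_rewrite 2 [← hyd]
    rw [hp, mul_assoc, x2 sy, sd]
  have hpq : p * q * p = q := by
    have e3' : y * d * y = d := by rw [← hc.eq, mul_assoc, sy, mul_one]
    have hA : q = (d' * d * d') * (d' * y * d') := by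
      rw [hq, hp]; simp only [mul_assoc, x2 sd']
    have hB : q = (d' * y * d') * (d' * d * d') := by
      rw [hq, ← hyd]; simp only [mul_assoc, x2 sd']
    have h1 : p * (d' * d * d') * p = d' * y * d' := by
      rw [← e1, ← e2]
      calc p * (d * d' * d) * p = (d * y * d) * d' * (d * d * y) := by
            rw [hp]; simp only [mul_assoc]
        _ = y * d' * y := by rw [e3, sd, one_mul]
    have h2 : p * (d' * y * d') * p = d' * d * d' := by
      rw [← e1, ← e2, ← hyd]
      calc y * d * (y * d' * y) * (y * d) = (y * d * y) * d' * (y * y * d) := by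
            simp only [mul_assoc]
        _ = d * d' * d := by rw [e3', sy, one_mul]
    calc p * q * p = (p * (d' * d * d') * p) * (p * (d' * y * d') * p) := by
          rw [hA]
          conv_rhs => rw [mul_assoc (p * (d' * d * d')) p]
          rw [mul_assoc p (d' * y * d') p, x2 hpp]
          simp only [mul_assoc]
      _ = q := by rw [h1, h2, ← hB]
  have hqq : q * q = 1 := by
    have : q * q = d' * (p * p) * d' := by rw [hq]; simp only [mul_assoc, x2 sd']
    rw [this, hpp, mul_one, sd']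
  have hsq : (p * q) * (p * q) = 1 := by
    rw [← mul_assoc, hpq, hqq]
  have hmem : p * q ∈ O := by
    have h1 : p * q = (p * (d' * d) * p⁻¹) * (d * d') := by
      have hi : p⁻¹ = p := inv_eq_of_mul_eq_one_right hpp
      have hcd : p * d = d * p := by rw [hp, mul_assoc, ← hc.eq]
      have hcd' : ∀ v, p * (d * v) = d * (p * v) := fun v => by
        rw [← mul_assoc, hcd, mul_assoc]
      rw [hi, hq]
      clear_value p
      simp only [mul_assoc]
      rw [hcd' d', x2 sd]
    rw [h1]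
    refine mul_mem (hnorm p (mul_mem hdH hyH) _ ?_) ho
    have := O.inv_mem ho
    simpa [inv_eq hG hd, inv_eq hG hd'] using this
  have h1 := hodd _ hmem hsq
  have h2 : p * d' * p = d' := by
    have h3 : q = p := by
      rw [eq_inv_of_mul_eq_one_right h1]
      exact inv_eq_of_mul_eq_one_right hpp
    have h4 : d' * p = p * d' := by
      have := congrArg (· * d') h3
      simpa [hq, mul_assoc, sd'] using this
    rw [mul_assoc, h4, ← mul_assoc, hpp, one_mul]
  have h5 : y * d' * y = d * d' * d := by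
    calc y * d' * y = d * ((d * y) * d' * (y * d)) * d := by
          simp only [mul_assoc, x2 sd, sd, mul_one]
      _ = d * (p * d' * p) * d := by rw [hyd]
      _ = d * d' * d := by rw [h2]
  rw [e2, e1] at h5
  exact hne (mul_left_cancel (mul_right_cancel h5))

section Main

variable [Finite G] (hclass : ∀ a ∈ D, ∀ b ∈ D, ∃ g : G, g * a * g⁻¹ = b)
  (hperf : ⁅commutator G, commutator G⁆ = commutator G)
  (hsol : ∀ N : Subgroup G, N.Normal → Group.IsSolvable ↥N → N ≤ commutator G →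
    N ≤ Subgroup.center G)

omit [Finite G] in
theorem nb_closure_fix {x k : G} (hk : k ∈ Subgroup.closure (Nb D x)) : k * x * k⁻¹ = x := by
  have : Commute k x := by
    induction hk using Subgroup.closure_induction with
    | mem z hz => exact hz.2.2.symm
    | one => exact Commute.one_left x
    | mul _ _ _ _ h1 h2 => exact h1.mul_left h2
    | inv _ _ h => exact h.inv_left
  rw [this.eq, mul_assoc, mul_inv_cancel, mul_one]

/-- A non-central odd core yields a pair of different twins. -/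
theorem exists_twins {x : G}
    (h : ¬ Cfsg.oddCore ↥(Subgroup.closure (Nb D x)) ≤
      Subgroup.center ↥(Subgroup.closure (Nb D x))) :
    ∃ d d', d ≠ d' ∧ Tw D x d d' := by
  set H := Subgroup.closure (Nb D x) with hH
  haveI hNn : (Cfsg.oddCore ↥H).Normal := CfsgLib.Involution.ZStar.oddCore_normal
  obtain ⟨d, hd, n, hn, hdn⟩ : ∃ d ∈ Nb D x, ∃ n ∈ Cfsg.oddCore ↥H, ¬ Commute d (n : G) := by
    by_contra hno
    push Not at hno
    refine h fun n hn => ?_
    rw [Subgroup.mem_center_iff]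
    intro g
    have : Commute (g : G) n := by
      have hg : (g : G) ∈ Subgroup.closure (Nb D x) := g.2
      generalize (g : G) = k at hg ⊢
      induction hg using Subgroup.closure_induction with
      | mem z hz => exact hno z hz n hn
      | one => exact Commute.one_left _
      | mul _ _ _ _ h1 h2 => exact h1.mul_left h2
      | inv _ _ h => exact h.inv_left
    exact Subtype.ext this.eq
  set O := (Cfsg.oddCore ↥H).map H.subtype with hO
  have hnorm : ∀ k ∈ H, ∀ o ∈ O, k * o * k⁻¹ ∈ O := by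
    rintro k hk _ ⟨o, ho, rfl⟩
    exact ⟨_, hNn.conj_mem o ho ⟨k, hk⟩, rfl⟩
  have hodd : ∀ o ∈ O, o * o = 1 → o = 1 := by
    rintro _ ⟨o, ho, rfl⟩ h2
    have ho2 : (⟨o, ho⟩ : Cfsg.oddCore ↥H) ^ 2 = 1 := by
      rw [_root_.sq]; exact Subtype.ext (Subtype.ext h2)
    have hd2 := orderOf_dvd_of_pow_eq_one ho2
    have hdc := orderOf_dvd_natCard (⟨o, ho⟩ : Cfsg.oddCore ↥H)
    have hcop : Nat.Coprime 2 (Nat.card (Cfsg.oddCore ↥H)) :=
      Nat.coprime_two_left.2 CfsgLib.Involution.ZStar.odd_card_oddCore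
    have h1 := Nat.eq_one_of_dvd_coprimes hcop hd2 hdc
    rw [orderOf_eq_one_iff] at h1
    exact congrArg (fun z : Cfsg.oddCore ↥H => ((z : ↥H) : G)) h1
  have hdH : d ∈ H := Subgroup.subset_closure hd
  set d' := (n : G) * d * (n : G)⁻¹ with hd'
  have hd'x : d' ∈ Nb D x := by
    have := nb_conj hG (n : G) hd
    rwa [nb_closure_fix hG n.2] at this
  have hne : d ≠ d' := fun e => hdn (by
    have : (n : G) * d = d * (n : G) := mul_inv_eq_iff_eq_mul.1 e.symm
    exact this.symm)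
  have ho : d * d' ∈ O := by
    have h1 := hnorm d hdH _ (Subgroup.mem_map_of_mem H.subtype hn)
    have h2 := mul_mem h1 (O.inv_mem (Subgroup.mem_map_of_mem H.subtype hn))
    rw [inv_eq hG hd.1] at h2
    simpa [hd', mul_assoc] using h2
  have ho' : d' * d ∈ O := by
    simpa [inv_eq hG hd.1, inv_eq hG hd'x.1] using O.inv_mem ho
  have hdd : ¬ Commute d d' := fun hc => hne (by
    have := hodd _ ho (by
      rw [mul_assoc, ← mul_assoc d' d, ← hc.eq, mul_assoc, sq hG hd'x.1, mul_one, sq hG hd.1])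
    rw [eq_inv_of_mul_eq_one_left this, inv_eq hG hd'x.1])
  refine ⟨d, d', hne, hd, hd'x, ?_⟩
  ext y
  constructor
  · rintro ⟨hyx, hyd⟩
    exact ⟨hyx, hyd.1, fun e => hdd (e ▸ hyd.2.2),
      commute_of_odd hG hnorm hodd hd.1 hd'x.1 hyx.1 hdH (Subgroup.subset_closure hyx) hdd hyd.2.1
        hyd.2.2 ho⟩
  · rintro ⟨hyx, hyd⟩
    exact ⟨hyx, hyd.1, fun e => hdd (e ▸ hyd.2.2).symm,
      commute_of_odd hG hnorm hodd hd'x.1 hd.1 hyx.1 (Subgroup.subset_closure hd'x)
        (Subgroup.subset_closure hyx) (fun h' => hdd h'.symm) hyd.2.1 hyd.2.2 ho'⟩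

include hclass hperf hsol

/-- Commuting pairs of different members are conjugate. -/
theorem comm_transitive {x a y b : G} (hx : x ∈ D) (ha : a ∈ Nb D x) (hy : y ∈ D)
    (hb : b ∈ Nb D y) : ∃ g : G, g * x * g⁻¹ = y ∧ g * a * g⁻¹ = b := by
  obtain ⟨g, rfl⟩ := hclass x hx y hy
  obtain ⟨k, hk, hkb⟩ := exists_conj hG hclass hperf hsol (hG.2.1 g x hx) (nb_conj hG g ha) hb
  refine ⟨k * g, ?_, ?_⟩
  · simpa [mul_assoc] using nb_closure_fix hG hk
  · simpa [mul_assoc] using hkb

/-- Non-commuting pairs are conjugate. -/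
theorem adj_pair {d a d' a' : G} (hd : d ∈ D) (ha : a ∈ D) (hd' : d' ∈ D) (ha' : a' ∈ D)
    (h : ¬ Commute d a) (h' : ¬ Commute d' a') : PR d a d' a' := by
  obtain ⟨g, rfl⟩ := hclass d hd d' hd'
  refine PR.trans' (x' := g * d * g⁻¹) (y' := g * a * g⁻¹) ⟨g, rfl, rfl⟩ ?_
  exact adj_transitive hG hclass hperf hsol hd' (hG.2.1 g a ha) ha'
    (fun hc => h ((Commute.conj_iff g).1 hc)) h'

/-- With twins present, two members of `Nb x` never commute. -/
theorem neighbours_adj {x₀ a₀ b₀ : G} (hx₀ : x₀ ∈ D) (hne₀ : a₀ ≠ b₀) (htw : Tw D x₀ a₀ b₀)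
    {x a a' : G} (hx : x ∈ D) (ha : a ∈ Nb D x) (ha' : a' ∈ Nb D x) (hne : a ≠ a') :
    ¬ Commute a a' := by
  intro hcomm
  -- a non-commuting pair in `Nb x` that are no twins
  obtain ⟨p, hp, q, hq, hpq, y, hy, hyq⟩ : ∃ p ∈ Nb D x, ∃ q ∈ Nb D x, ¬ Commute p q ∧
      ∃ y ∈ Nb D x ∩ Nb D p, y ∉ Nb D q := by
    by_contra hno
    push Not at hno
    have hall : ∀ p q, Rel (Nb D x) p q → Tw D x p q := fun p q ⟨hp, hq, hpq⟩ =>
      ⟨hp, hq, Set.ext fun y => ⟨fun hy => ⟨hy.1, hno p hp q hq hpq y hy⟩,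
        fun hy => ⟨hy.1, hno q hq p hp (fun h => hpq h.symm) y hy⟩⟩⟩
    have key : ∀ c, ReflTransGen (Rel (Nb D x)) a c → Tw D x a c := by
      intro c h
      induction h with
      | refl => exact ⟨ha, ha, rfl⟩
      | tail _ h' ih => exact tw_trans ih (hall _ _ h')
    exact tw_not_commute (key a' (connected hG hclass hperf hsol hx ha ha')) hne hcomm
  -- the class of `y` lies in `Nb p \ Nb q`
  have hsub : {z | Tw D x y z} ⊆ Nb D p \ Nb D q := by
    rintro z ⟨hyx, hzx, he⟩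
    have hpy : p ∈ Nb D x ∩ Nb D y := ⟨hp, nb_symm hp.1 hy.2⟩
    rw [he] at hpy
    refine ⟨nb_symm hzx.1 hpy.2, fun hzq => hyq ?_⟩
    have hqz : q ∈ Nb D x ∩ Nb D z := ⟨hq, nb_symm hq.1 hzq⟩
    rw [← he] at hqz
    exact nb_symm hyx.1 hqz.2
  obtain ⟨g, hg1, hg2⟩ := adj_pair hG hclass hperf hsol hp.1 hq.1 htw.1.1 htw.2.1.1 hpq
    (tw_not_commute htw hne₀)
  have hcard : (Nb D p \ Nb D q).ncard = (Nb D a₀ \ Nb D b₀).ncard := by
    rw [← hg1, ← hg2, ← nb_image hG, ← nb_image hG, ← Set.image_sdiff (conj_inj g),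
      Set.ncard_image_of_injective _ (conj_inj g)]
  have hxa₀ : x₀ ∈ Nb D a₀ := nb_symm hx₀ htw.1
  have hsub' : Nb D a₀ \ Nb D b₀ ⊆ {z | Tw D a₀ x₀ z} \ {x₀} := by
    rintro z ⟨hza, hzb⟩
    have hzne : z ≠ x₀ := fun e => hzb (e ▸ nb_symm hx₀ htw.2.1)
    refine ⟨?_, hzne⟩
    have hxz : ¬ Commute x₀ z := by
      intro hc
      have : z ∈ Nb D x₀ ∩ Nb D a₀ := ⟨⟨hza.1, hzne, hc⟩, hza⟩
      rw [htw.2.2] at this
      exact hzb this.2
    by_contra hnot
    -- a witness for the pair `x₀, z`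
    obtain ⟨k, hk1, hk2⟩ := adj_pair hG hclass hperf hsol htw.1.1 htw.2.1.1 hx₀ hza.1
      (tw_not_commute htw hne₀) hxz
    have hw : Tw D (k * x₀ * k⁻¹) x₀ z := by
      have := tw_conj hG k htw
      rwa [hk1, hk2] at this
    have hwD : k * x₀ * k⁻¹ ∈ D := hG.2.1 k x₀ hx₀
    generalize k * x₀ * k⁻¹ = w at hw hwD
    have haw : Commute a₀ w := by
      by_contra hna
      refine hnot ?_
      set u := cj a₀ w with hu
      have huD : u ∈ D := cj_mem hG htw.1.1 hwD
      have hux : Commute u x₀ := (commute_cj' hG htw.1.1 htw.1.2.2.symm w).2 hw.1.2.2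
      have huz : Commute u z := (commute_cj' hG htw.1.1 hza.2.2 w).2 hw.2.1.2.2
      have huw : u * w * u⁻¹ = a₀ := by
        rw [← cj_conj hG huD, hu, cj_cj_eq]
        rw [cj_comm hG htw.1.1 hwD hna]
        rw [cj_cj hG hwD, cj_self hG htw.1.1]
      have := tw_conj hG u hw
      rwa [huw, ← cj_conj hG huD, ← cj_conj hG huD, cj_fix hG huD hux, cj_fix hG huD huz] at this
    have hwne : w ≠ a₀ := fun e => hnot (e ▸ hw)
    have h1 : w ∈ Nb D x₀ ∩ Nb D a₀ := ⟨nb_symm hwD hw.1, hwD, hwne, haw⟩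
    rw [htw.2.2] at h1
    have h2 : b₀ ∈ Nb D w ∩ Nb D x₀ := ⟨nb_symm htw.2.1.1 h1.2, htw.2.1⟩
    rw [hw.2.2] at h2
    exact hzb (nb_symm hza.1 h2.2)
  obtain ⟨k, hk1, hk2⟩ := comm_transitive hG hclass hperf hsol hx hy.1 htw.1.1 hxa₀
  have hclasscard : {z | Tw D a₀ x₀ z}.ncard = {z | Tw D x y z}.ncard := by
    rw [← hk1, ← hk2, tw_card_conj hG]
  have h1 := Set.ncard_le_ncard hsub (Set.toFinite _)
  have h2 := Set.ncard_le_ncard hsub' (Set.toFinite _)
  have h3 : x₀ ∈ {z | Tw D a₀ x₀ z} := ⟨hxa₀, hxa₀, rfl⟩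
  rw [Set.ncard_sdiff_singleton_of_mem h3] at h2
  have h4 : 0 < {z | Tw D a₀ x₀ z}.ncard := (Set.ncard_pos (Set.toFinite _)).2 ⟨_, h3⟩
  omega

omit hclass hperf hsol in
/-- A non-empty closed set of pairwise non-commuting members has a power of three elements. -/
theorem card_eq_three_pow {S : Set G} (hS : S ⊆ D) (hne : S.Nonempty)
    (hcl : ∀ a ∈ S, ∀ b ∈ S, cj a b ∈ S) (hpw : ∀ a ∈ S, ∀ b ∈ S, Commute a b → a = b) :
    ∃ j, S.ncard = 3 ^ j := by
  obtain ⟨a, ha⟩ := hne
  set H := Subgroup.closure S with hH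
  set S' : Set H := {z | (z : G) ∈ S} with hS'
  have hSconj : ∀ k ∈ H, ∀ z, z ∈ S ↔ k * z * k⁻¹ ∈ S := by
    intro k hk
    induction hk using Subgroup.closure_induction with
    | mem u hu =>
      intro z
      rw [← cj_conj hG (hS hu)]
      exact ⟨hcl u hu z, fun h => by simpa [cj_cj hG (hS hu)] using hcl u hu _ h⟩
    | one => simp
    | mul g k _ _ ihg ihk => intro z; rw [ihk z, ihg (k * z * k⁻¹)]; simp [mul_assoc]
    | inv g _ ih => intro z; rw [ih (g⁻¹ * z * g⁻¹⁻¹)]; simp [mul_assoc]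
  have h3 : Cfsg.IsThreeTranspositionSet S' := by
    refine ⟨fun z hz => ?_, fun p hp q hq => ?_⟩
    · rw [← Subgroup.orderOf_coe]; exact hG.1.1 _ (hS hz)
    · rcases hG.1.2 _ (hS hp) _ (hS hq) with h | h
      · exact Or.inl (Subtype.ext (by simpa using h))
      · exact Or.inr (Subtype.ext (by simpa using h))
  haveI : Fact (Nat.Prime 3) := ⟨Nat.prime_three⟩
  set P := Cfsg.pCore 3 H with hP
  letI : MulAction P H :=
    MulAction.compHom H ((MulAut.conj : H →* MulAut H).comp P.subtype)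
  have hsmul : ∀ (k : P) (z : H), k • z = (k : H) * z * (k : H)⁻¹ := fun k z => rfl
  have horb : MulAction.orbit P (⟨a, Subgroup.subset_closure ha⟩ : H) = S' := by
    ext z
    constructor
    · rintro ⟨k, rfl⟩
      exact (hSconj _ (k : H).2 a).1 ha
    · intro hz
      by_cases he : a = (z : G)
      · exact ⟨1, (one_smul _ _).trans (Subtype.ext he)⟩
      have hnc : ¬ Commute a (z : G) := fun h => he (hpw a ha _ hz h)
      have hk := CfsgLib.ThreeTransp.WidthOne.mul_mem_pCore h3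
        (fun g d hd => (hSconj g g.2 d).1 hd)
        (fun p hp q hq h => Subtype.ext (hpw _ hp _ hq (congrArg Subtype.val h.eq)))
        (show (⟨a, Subgroup.subset_closure ha⟩ : H) ∈ S' from ha) hz
      refine ⟨⟨_, hk⟩, Subtype.ext ?_⟩
      show a * (z : G) * a * (a * (z : G))⁻¹ = z
      have hb := CfsgLib.ThreeTransp.Basic.braid hG.1 (hS ha) (hS hz) hnc
      calc a * (z : G) * a * (a * (z : G))⁻¹ = (z : G) * a * (z : G) * ((z : G) * a) := by
            rw [hb, mul_inv_rev, inv_eq hG (hS ha), inv_eq hG (hS hz)]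
        _ = (z : G) := by
            simp only [mul_assoc]
            rw [← mul_assoc (z : G) (z : G) a, sq hG (hS hz), one_mul, sq hG (hS ha), mul_one]
  obtain ⟨j, hj⟩ := (CfsgLib.Solvable.Cores.isPGroup_pCore (G := H) 3).card_orbit
    (⟨a, Subgroup.subset_closure ha⟩ : H)
  refine ⟨j, ?_⟩
  rw [Nat.card_coe_set_eq, horb] at hj
  rw [← hj]
  have : S = Subtype.val '' S' := by
    ext z
    exact ⟨fun hz => ⟨⟨z, Subgroup.subset_closure hz⟩, hz, rfl⟩, by rintro ⟨w, hw, rfl⟩; exact hw⟩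
  conv_lhs => rw [this]
  exact Set.ncard_image_of_injective _ Subtype.val_injective

/-- Twins force degree three and a single common neighbour. -/
theorem degree_three {x a b : G} (hx : x ∈ D) (hne : a ≠ b) (htw : Tw D x a b) :
    (Nb D x).ncard = 3 ∧ (Nb D a).ncard = 3 ∧ (Nb D a ∩ Nb D b).ncard = 1 := by
  classical
  have hab := tw_not_commute htw hne
  have hlam : ∀ y ∈ D, ∀ p ∈ Nb D y, ∀ q ∈ Nb D y, Commute p q → p = q := fun y hy p hp q hq hc =>
    by_contra fun h => neighbours_adj hG hclass hperf hsol hx hne htw hy hp hq h hc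
  have hcl : ∀ y : G, ∀ p ∈ Nb D y, ∀ q ∈ Nb D y, cj p q ∈ Nb D y := fun y p hp q hq => by
    have := nb_conj hG p hq
    rwa [← cj_conj hG hp.1, ← cj_conj hG hp.1, cj_fix hG hp.1 hp.2.2.symm] at this
  have hxab : x ∈ Nb D a ∩ Nb D b := ⟨nb_symm hx htw.1, nb_symm hx htw.2.1⟩
  obtain ⟨j, hj⟩ := card_eq_three_pow hG (S := Nb D a) (fun _ h => h.1) ⟨x, hxab.1⟩
    (hcl a) (hlam a htw.1.1)
  obtain ⟨i, hi⟩ := card_eq_three_pow hG (S := Nb D a ∩ Nb D b) (fun _ h => h.1.1) ⟨x, hxab⟩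
    (fun p hp q hq => ⟨hcl a p hp.1 q hq.1, hcl b p hp.2 q hq.2⟩)
    (fun p hp q hq => hlam a htw.1.1 p hp.1 q hq.1)
  have hreg : ∀ d ∈ D, (Nb D d).ncard = 3 ^ j := by
    intro d hd
    obtain ⟨g, rfl⟩ := hclass a htw.1.1 d hd
    rw [← nb_image hG, Set.ncard_image_of_injective _ (conj_inj g), hj]
  have hmu : ∀ d ∈ D, ∀ e ∈ D, ¬ Commute d e → (Nb D d ∩ Nb D e).ncard = 3 ^ i := by
    intro d hd e he hde
    obtain ⟨g, rfl, rfl⟩ := adj_pair hG hclass hperf hsol htw.1.1 htw.2.1.1 hd he hab hde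
    rw [← nb_image hG, ← nb_image hG, ← Set.image_inter (conj_inj g),
      Set.ncard_image_of_injective _ (conj_inj g), hi]
  have hij : i < j := by
    refine (Nat.pow_lt_pow_iff_right (by norm_num : 1 < 3)).1 ?_
    rw [← hi, ← hj]
    refine Set.ncard_lt_ncard ⟨Set.inter_subset_left, fun h => hne ?_⟩ (Set.toFinite _)
    refine eq_of_nb_eq hG hclass hsol htw.1.1 htw.2.1.1
      (Set.eq_of_subset_of_ncard_le (fun z hz => (h hz).2) ?_ (Set.toFinite _))
    rw [hreg a htw.1.1, hreg b htw.2.1.1]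
  haveI : Fintype ↥D := Fintype.ofFinite _
  haveI : Nonempty ↥D := ⟨⟨x, hx⟩⟩
  have hcnt : ∀ P : G → Prop, (∀ c, P c → c ∈ D) →
      (Finset.univ.filter fun c : ↥D => P c).card = {c | P c}.ncard := by
    intro P hP
    rw [← Set.ncard_coe_finset, ← Set.ncard_image_of_injective _ Subtype.val_injective]
    congr 1
    ext c
    simp only [Finset.coe_filter, Finset.mem_univ, true_and, Set.mem_image, Set.mem_setOf_eq]
    exact ⟨by rintro ⟨w, hw, rfl⟩; exact hw, fun hc => ⟨⟨c, hP c hc⟩, hc, rfl⟩⟩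
  have hsq := FischerDiscriminant.isSquare_disc (V := ↥D) (fun p q => (q : G) ∈ Nb D (p : G))
    (3 ^ j) (3 ^ i) (fun p h => h.2.1 rfl) (fun p q h => nb_symm p.2 h)
    (fun p => (hcnt _ fun c h => h.1).trans (hreg p p.2))
    (fun p q r hpq hpr hqr => hqr.2.1 (hlam p p.2 r hpr q hpq hqr.2.2.symm))
    (fun p q hpq hnn => by
      convert (hcnt (fun c => c ∈ Nb D (p : G) ∧ c ∈ Nb D (q : G)) fun c h => h.1.1).trans
        (hmu p p.2 q q.2 fun h => hnn ⟨q.2, fun e => hpq (Subtype.ext e).symm, h⟩))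
    ((by decide : Odd 3).pow) ((by decide : Odd 3).pow)
  obtain ⟨rfl, rfl⟩ := FischerDiscriminant.eq_zero_one hij (by exact_mod_cast hsq)
  exact ⟨hreg x hx, hj, hi⟩

/-- Fischer: a non-central odd core of the neighbourhood group gives the symmetric group of
degree five. -/
theorem nonempty_perm_five {x : G} (hx : x ∈ D)
    (h : ¬ Cfsg.oddCore ↥(Subgroup.closure (Nb D x)) ≤
      Subgroup.center ↥(Subgroup.closure (Nb D x))) :
    Nonempty (G ≃* Equiv.Perm (Fin 5)) := by
  obtain ⟨a, b, hne, htw⟩ := exists_twins hG h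
  obtain ⟨hk, hka, hmu⟩ := degree_three hG hclass hperf hsol hx hne htw
  obtain ⟨ha, hb, -⟩ := id htw
  have hab := tw_not_commute htw hne
  obtain ⟨e, hea, hex⟩ : ∃ e ∈ Nb D a, e ≠ x := by
    by_contra hno
    push Not at hno
    have := Set.ncard_le_ncard (show Nb D a ⊆ {x} from fun z hz => hno z hz) (Set.toFinite _)
    rw [hka, Set.ncard_singleton] at this
    omega
  have hxa : x ∈ Nb D a := nb_symm hx ha
  have hxb : x ∈ Nb D b := nb_symm hx hb
  have hnxe : ¬ Commute x e := fun hc =>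
    neighbours_adj hG hclass hperf hsol hx hne htw ha.1 hxa hea hex.symm hc
  have hneb : ¬ Commute e b := by
    intro hc
    obtain ⟨z, hz⟩ := Set.ncard_eq_one.1 hmu
    have heb : e ≠ b := fun e' => hab (e' ▸ hea.2.2)
    have h1 : e ∈ Nb D a ∩ Nb D b := ⟨hea, hea.1, heb, hc.symm⟩
    have h2 : x ∈ Nb D a ∩ Nb D b := ⟨hxa, hxb⟩
    rw [hz, Set.mem_singleton_iff] at h1 h2
    exact hex (h1.trans h2.symm)
  set K := Subgroup.closure ({x, e, b, a} : Set G) with hK
  have mK : ∀ z ∈ ({x, e, b, a} : Set G), z ∈ K := fun z hz => Subgroup.subset_closure hz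
  -- the conjugates of `x` under `K`
  let P : G → Prop := fun s => ∃ g ∈ K, g * x * g⁻¹ = s
  have hbr : ∀ {p q : G}, p ∈ D → q ∈ D → p ∈ K → q ∈ K → ¬ Commute p q → P p → P q := by
    rintro p q hp hq hpK hqK hpq ⟨g, hg, rfl⟩
    refine ⟨g * x * g⁻¹ * q * g, mul_mem (mul_mem hpK hqK) hg, ?_⟩
    calc (g * x * g⁻¹ * q * g) * x * (g * x * g⁻¹ * q * g)⁻¹
          = (g * x * g⁻¹) * (q * (g * x * g⁻¹) * q⁻¹) * (g * x * g⁻¹)⁻¹ := by
            simp only [mul_inv_rev, mul_assoc]
      _ = q := by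
          rw [← cj_conj hG hq, ← cj_comm hG hp hq hpq, ← cj_conj hG hp, cj_cj hG hp]
  have hPx : P x := ⟨1, one_mem K, by simp⟩
  have hPe : P e := hbr hx hea.1 (mK _ (by simp)) (mK _ (by simp)) hnxe hPx
  have hPb : P b := hbr hea.1 hb.1 (mK _ (by simp)) (mK _ (by simp)) hneb hPe
  have hPa : P a := hbr hb.1 ha.1 (mK _ (by simp)) (mK _ (by simp)) (fun h => hab h.symm) hPb
  have hPc : P (cj a b) := by
    obtain ⟨g, hg, hgb⟩ := hPb
    refine ⟨a * g, mul_mem (mK _ (by simp)) hg, ?_⟩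
    rw [cj_conj hG ha.1, ← hgb]
    simp only [mul_inv_rev, mul_assoc]
  have hNx : Nb D x = {a, b, cj a b} := by
    have hcb : cj a b ∈ Nb D x := by
      have := nb_conj hG a hb
      rwa [← cj_conj hG ha.1, ← cj_conj hG ha.1, cj_fix hG ha.1 ha.2.2.symm] at this
    refine (Set.eq_of_subset_of_ncard_le ?_ ?_ (Set.toFinite _)).symm
    · rintro z (rfl | rfl | rfl)
      exacts [ha, hb, hcb]
    · rw [hk]
      refine le_of_eq (Set.ncard_eq_three.2 ⟨a, b, cj a b, hne, ?_, ?_, rfl⟩).symm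
      · intro e'
        exact hne (cj_inj hG ha.1 (by rw [cj_self hG ha.1]; exact e'))
      · intro e'
        refine hab ?_
        rw [cj] at e'
        show a * b = b * a
        nth_rewrite 2 [e']
        rw [mul_assoc, sq hG ha.1, mul_one]
  have hall : ∀ s, ReflTransGen (CRel D) x s → P s := by
    intro s hs
    induction hs with
    | refl => exact hPx
    | @tail p q _ hpq ih =>
      by_cases hqp : q = p
      · exact hqp ▸ ih
      obtain ⟨g, hg, rfl⟩ := ih
      have hq : q ∈ Nb D (g * x * g⁻¹) := ⟨hpq.2.1, hqp, hpq.2.2⟩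
      rw [← nb_image hG, hNx] at hq
      obtain ⟨z, hz, rfl⟩ := hq
      have hz' : P z := by
        rcases hz with rfl | rfl | rfl
        exacts [hPa, hPb, hPc]
      obtain ⟨k, hk', rfl⟩ := hz'
      exact ⟨g * k, mul_mem hg hk', by simp only [mul_inv_rev, mul_assoc]⟩
  have hgen : K = ⊤ := by
    rw [eq_top_iff, ← hG.2.2, Subgroup.closure_le]
    intro d hd
    obtain ⟨g, hg, rfl⟩ := hall d (commuting_connected hG hclass hperf hx hd)
    exact mul_mem (mul_mem hg (mK x (by simp))) (inv_mem hg)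
  refine CfsgLib.ThreeTransp.PermFive.nonempty_mulEquiv hgen (sq hG hx) (sq hG hea.1) (sq hG hb.1)
    (sq hG ha.1) (CfsgLib.ThreeTransp.Basic.braid hG.1 hx hea.1 hnxe)
    (CfsgLib.ThreeTransp.Basic.braid hG.1 hea.1 hb.1 hneb)
    (CfsgLib.ThreeTransp.Basic.braid hG.1 hb.1 ha.1 fun h => hab h.symm)
    hb.2.2.eq ha.2.2.eq hea.2.2.symm.eq ?_
  intro h1
  apply hnxe
  rw [eq_inv_of_mul_eq_one_left h1, inv_eq hG hea.1]

end Main

end CfsgLib.Sporadic.FischerOddCore
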