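import Cfsg.Agent.Lib.ThreeTransp.WidthOne
import Cfsg.Agent.Lib.Components.Signalizer.Basic
import Cfsg.Agent.S0144

/-!
# Fischer's transitivity theorem

For a class `D` of 3-transpositions of a finite group with no non-trivial solvable normal
subgroup and perfect derived group, the members commuting with a given `u ∈ D` (other than `u`)
form one connected component of the noncommuting graph.

The argument: if not, take components `Δ` of largest size; the sets `T = C_D(Δ)` are blocks of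
imprimitivity, products of two members of a block fix all blocks, and the group generated by
the products inside one block is solvable.
-/

set_option autoImplicit false

namespace CfsgLib.Sporadic.FischerTransitivity

open Relation
open scoped commutatorElement

variable {G : Type*} [Group G]

/-- Conjugation by an involution. -/
def cj (a x : G) : G := a * x * a

/-- The members of `D` commuting with `u`, other than `u`. -/
def Nb (D : Set G) (u : G) : Set G := {z | z ∈ D ∧ z ≠ u ∧ Commute u z}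

/-- The noncommuting graph on a set. -/
def Rel (S : Set G) (a b : G) : Prop := a ∈ S ∧ b ∈ S ∧ ¬ Commute a b

/-- The commuting graph on a set. -/
def CRel (S : Set G) (a b : G) : Prop := a ∈ S ∧ b ∈ S ∧ Commute a b

/-- The component of `y` among the neighbours of `u`. -/
def comp (D : Set G) (u y : G) : Set G := {z | ReflTransGen (Rel (Nb D u)) y z}

/-- `Δ` is a component of largest possible size, sitting among the neighbours of `u`. -/
def Good (D : Set G) (u : G) (Δ : Set G) : Prop :=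
  u ∈ D ∧ (∃ y ∈ Nb D u, Δ = comp D u y) ∧
    ∀ u' ∈ D, ∀ y' ∈ Nb D u', (comp D u' y').ncard ≤ Δ.ncard

/-- The members of `D` centralizing `Δ`. -/
def Tset (D Δ : Set G) : Set G := {v | v ∈ D ∧ ∀ y ∈ Δ, Commute v y}

/-- Two members have a largest component in common. -/
def Same (D : Set G) (a b : G) : Prop := ∃ Δ, Good D a Δ ∧ Good D b Δ

theorem rel_symm {S : Set G} {a b : G} (h : Rel S a b) : Rel S b a :=
  ⟨h.2.1, h.1, fun h' => h.2.2 h'.symm⟩

theorem rtg_symm {S : Set G} {a b : G} (h : ReflTransGen (Rel S) a b) :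
    ReflTransGen (Rel S) b a := by
  induction h with
  | refl => exact ReflTransGen.refl
  | tail _ h' ih => exact ReflTransGen.head (rel_symm h') ih

theorem crtg_symm {S : Set G} {a b : G} (h : ReflTransGen (CRel S) a b) :
    ReflTransGen (CRel S) b a := by
  induction h with
  | refl => exact ReflTransGen.refl
  | tail _ h' ih => exact ReflTransGen.head ⟨h'.2.1, h'.1, h'.2.2.symm⟩ ih

theorem comp_subset {D : Set G} {u y : G} (hy : y ∈ Nb D u) : comp D u y ⊆ Nb D u := by
  intro z hz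
  induction hz with
  | refl => exact hy
  | tail _ h _ => exact h.2.1

theorem self_mem_comp {D : Set G} {u y : G} : y ∈ comp D u y := ReflTransGen.refl

theorem comp_connected {D : Set G} {u y z : G} (hz : z ∈ comp D u y) :
    ReflTransGen (Rel (comp D u y)) y z := by
  induction hz with
  | refl => exact ReflTransGen.refl
  | tail h h' ih => exact ih.tail ⟨h, h.tail h', h'.2.2⟩

theorem solvable_of_two_three {Q : Type*} [Group Q] [Finite Q]
    (h : ∀ g : Q, g ^ 2 = 1 ∨ g ^ 3 = 1) : Group.IsSolvable Q := by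
  have hp : ∀ p : ℕ, p.Prime → p ∣ Nat.card Q → p = 2 ∨ p = 3 := by
    intro p hp hdvd
    haveI := Fact.mk hp
    obtain ⟨g, hg⟩ := exists_prime_orderOf_dvd_card' p hdvd
    rcases h g with h2 | h3
    · exact Or.inl ((Nat.prime_dvd_prime_iff_eq hp Nat.prime_two).1 (hg ▸ orderOf_dvd_of_pow_eq_one h2))
    · exact Or.inr ((Nat.prime_dvd_prime_iff_eq hp Nat.prime_three).1 (hg ▸ orderOf_dvd_of_pow_eq_one h3))
  have aux : ∀ n : ℕ, n ≠ 0 → (∀ p : ℕ, p.Prime → p ∣ n → p = 2 ∨ p = 3) →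
      ∃ a b, n = 2 ^ a * 3 ^ b := by
    intro n
    induction n using Nat.strong_induction_on with
    | _ n ih =>
      intro hn hdiv
      by_cases h1 : n = 1
      · exact ⟨0, 0, by simpa using h1⟩
      obtain ⟨p, hp, hpn⟩ := Nat.exists_prime_and_dvd h1
      obtain ⟨m, rfl⟩ := hpn
      have hm : m ≠ 0 := by rintro rfl; simp at hn
      obtain ⟨a, b, hab⟩ := ih m (lt_mul_left (Nat.pos_of_ne_zero hm) hp.one_lt) hm
        fun q hq hqm => hdiv q hq (hqm.mul_left p)
      rcases hdiv p hp (Nat.dvd_mul_right p m) with rfl | rfl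
      · exact ⟨a + 1, b, by rw [hab]; ring⟩
      · exact ⟨a, b + 1, by rw [hab]; ring⟩
  obtain ⟨a, b, hab⟩ := aux (Nat.card Q) Nat.card_pos.ne' hp
  exact Cfsg.Agent.S0144.isSolvable 2 3 Nat.prime_two Nat.prime_three (Nat.card Q) Q rfl a b hab

section Calculus

variable {D : Set G} (hG : Cfsg.IsThreeTranspositionGroup D)

include hG

theorem sq {a : G} (ha : a ∈ D) : a * a = 1 := CfsgLib.ThreeTransp.Basic.sq_one (hG.1.1 a ha)

theorem inv_eq {a : G} (ha : a ∈ D) : a⁻¹ = a := inv_eq_of_mul_eq_one_right (sq hG ha)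

theorem cj_conj {a : G} (ha : a ∈ D) (x : G) : cj a x = a * x * a⁻¹ := by rw [inv_eq hG ha, cj]

theorem cj_mem {a b : G} (ha : a ∈ D) (hb : b ∈ D) : cj a b ∈ D :=
  cj_conj hG ha b ▸ hG.2.1 a b hb

theorem cj_cj {a : G} (ha : a ∈ D) (x : G) : cj a (cj a x) = x := by
  have h := sq hG ha
  simp only [cj, mul_assoc, h, mul_one]
  rw [← mul_assoc, h, one_mul]

theorem cj_fix {a x : G} (ha : a ∈ D) (h : Commute a x) : cj a x = x := by
  rw [cj, h.eq, mul_assoc, sq hG ha, mul_one]

theorem cj_self {a : G} (ha : a ∈ D) : cj a a = a := cj_fix hG ha (Commute.refl a)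

theorem cj_comm {a x : G} (ha : a ∈ D) (hx : x ∈ D) (h : ¬ Commute a x) : cj a x = cj x a :=
  CfsgLib.ThreeTransp.Basic.braid hG.1 ha hx h

theorem cj_inj {a x y : G} (ha : a ∈ D) (h : cj a x = cj a y) : x = y := by
  have h' := congrArg (cj a) h
  rwa [cj_cj hG ha, cj_cj hG ha] at h'

theorem commute_cj {a : G} (ha : a ∈ D) (x y : G) :
    Commute (cj a x) (cj a y) ↔ Commute x y := by
  rw [cj_conj hG ha, cj_conj hG ha]; exact Commute.conj_iff a

theorem commute_cj' {a y : G} (ha : a ∈ D) (h : Commute a y) (x : G) :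
    Commute (cj a x) y ↔ Commute x y := by
  conv_lhs => rw [← cj_fix hG ha h]
  exact commute_cj hG ha x y

theorem commute_swap {a : G} (ha : a ∈ D) (x y : G) :
    Commute x (cj a y) ↔ Commute (cj a x) y := by
  rw [← commute_cj hG ha x (cj a y), cj_cj hG ha]

omit hG in
theorem cj_cj_eq (a b z : G) : cj (cj a b) z = cj a (cj b (cj a z)) := by
  simp only [cj, mul_assoc]

theorem nb_conj {u z : G} (g : G) (hz : z ∈ Nb D u) : g * z * g⁻¹ ∈ Nb D (g * u * g⁻¹) :=
  ⟨hG.2.1 g z hz.1, fun h => hz.2.1 (mul_left_cancel (mul_right_cancel h)),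
    (Commute.conj_iff g).2 hz.2.2⟩

theorem comp_conj_le {u y z : G} (g : G) (hz : z ∈ comp D u y) :
    g * z * g⁻¹ ∈ comp D (g * u * g⁻¹) (g * y * g⁻¹) :=
  ReflTransGen.lift (r := Rel (Nb D u)) (p := Rel (Nb D (g * u * g⁻¹))) (fun w => g * w * g⁻¹)
    (fun a b h => ⟨nb_conj hG g h.1, nb_conj hG g h.2.1,
      fun h' => h.2.2 ((Commute.conj_iff g).1 h')⟩) y z hz

theorem comp_conj (u y g : G) :
    comp D (g * u * g⁻¹) (g * y * g⁻¹) = (fun w => g * w * g⁻¹) '' comp D u y := by
  ext z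
  constructor
  · intro hz
    refine ⟨g⁻¹ * z * g, ?_, by group⟩
    have := comp_conj_le hG g⁻¹ hz
    simpa [mul_assoc] using this
  · rintro ⟨w, hw, rfl⟩
    exact comp_conj_le hG g hw

theorem good_conj {u : G} {Δ : Set G} (g : G) (h : Good D u Δ) :
    Good D (g * u * g⁻¹) ((fun w => g * w * g⁻¹) '' Δ) := by
  obtain ⟨hu, ⟨y, hy, hΔ⟩, hmax⟩ := h
  refine ⟨hG.2.1 g u hu, ⟨_, nb_conj hG g hy, by rw [comp_conj hG, hΔ]⟩, fun u' hu' y' hy' => ?_⟩
  rw [Set.ncard_image_of_injective _ (fun a b h => mul_left_cancel (mul_right_cancel h))]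
  exact hmax u' hu' y' hy'

theorem same_conj {a b : G} (g : G) (h : Same D a b) :
    Same D (g * a * g⁻¹) (g * b * g⁻¹) :=
  let ⟨_, h1, h2⟩ := h; ⟨_, good_conj hG g h1, good_conj hG g h2⟩

/-- The noncommuting graph of a conjugacy class generating the group is connected. -/
theorem noncommuting_connected (hclass : ∀ a ∈ D, ∀ b ∈ D, ∃ g : G, g * a * g⁻¹ = b) {a b : G}
    (ha : a ∈ D) (hb : b ∈ D) : ReflTransGen (Rel D) a b := by
  have step : ∀ d ∈ D, ∀ s ∈ D, ReflTransGen (Rel D) a s → ReflTransGen (Rel D) a (cj d s) := by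
    intro d hd s hs h
    by_cases hc : Commute d s
    · rwa [cj_fix hG hd hc]
    refine h.tail ⟨hs, cj_mem hG hd hs, fun h' => hc ?_⟩
    rw [cj_comm hG hd hs hc, commute_swap hG hs, cj_self hG hs] at h'
    exact h'.symm
  have key : ∀ g : G, ∀ s ∈ D,
      (ReflTransGen (Rel D) a s ↔ ReflTransGen (Rel D) a (g * s * g⁻¹)) := by
    intro g
    have hg : g ∈ Subgroup.closure D := by rw [hG.2.2]; exact Subgroup.mem_top g
    induction hg using Subgroup.closure_induction with
    | mem d hd =>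
      intro s hs
      rw [← cj_conj hG hd]
      refine ⟨step d hd s hs, fun h => ?_⟩
      have := step d hd _ (cj_mem hG hd hs) h
      rwa [cj_cj hG hd] at this
    | one => simp
    | mul g h _ _ ihg ihh =>
      intro s hs
      rw [ihh s hs, ihg _ (hG.2.1 h s hs)]
      simp [mul_assoc]
    | inv g _ ih =>
      intro s hs
      rw [ih _ (hG.2.1 g⁻¹ s hs)]
      simp [mul_assoc]
  obtain ⟨g, rfl⟩ := hclass a ha b hb
  exact (key g a ha).1 ReflTransGen.refl

theorem crel_conj (g : G) {a b : G} (h : ReflTransGen (CRel D) a b) :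
    ReflTransGen (CRel D) (g * a * g⁻¹) (g * b * g⁻¹) :=
  ReflTransGen.lift (r := CRel D) (p := CRel D) (fun w => g * w * g⁻¹)
    (fun a b h => ⟨hG.2.1 g a h.1, hG.2.1 g b h.2.1, (Commute.conj_iff g).2 h.2.2⟩) a b h

theorem crel_cj {a b s : G} (hs : s ∈ D) (h : ReflTransGen (CRel D) a b) :
    ReflTransGen (CRel D) (cj a s) (cj b s) := by
  induction h with
  | refl => exact ReflTransGen.refl
  | @tail b c _ h' ih =>
    refine ih.trans ?_
    obtain ⟨hb, hc, hbc⟩ := h'
    by_cases h1 : Commute b s <;> by_cases h2 : Commute c s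
    · rw [cj_fix hG hb h1, cj_fix hG hc h2]
    · rw [cj_fix hG hb h1]
      have e : Commute b (cj c s) := by
        rw [commute_swap hG hc, cj_fix hG hc hbc.symm]; exact h1
      exact (ReflTransGen.single (r := CRel D) ⟨hs, hb, h1.symm⟩).trans
        (.single ⟨hb, cj_mem hG hc hs, e⟩)
    · rw [cj_fix hG hc h2]
      have e : Commute c (cj b s) := by
        rw [commute_swap hG hb, cj_fix hG hb hbc]; exact h2
      exact (ReflTransGen.single (r := CRel D) ⟨cj_mem hG hb hs, hc, e.symm⟩).trans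
        (.single ⟨hc, hs, h2⟩)
    · rw [cj_comm hG hb hs h1, cj_comm hG hc hs h2]
      exact .single ⟨cj_mem hG hs hb, cj_mem hG hs hc, (commute_cj hG hs b c).2 hbc⟩

/-- The commuting graph is connected when the derived group is perfect. -/
theorem commuting_connected [Finite G]
    (hclass : ∀ a ∈ D, ∀ b ∈ D, ∃ g : G, g * a * g⁻¹ = b)
    (hperf : ⁅commutator G, commutator G⁆ = commutator G) {a b : G}
    (ha : a ∈ D) (hb : b ∈ D) : ReflTransGen (CRel D) a b := by
  let K : Subgroup G :=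
    { carrier := {g | ∀ s ∈ D, ReflTransGen (CRel D) (g * s * g⁻¹) s}
      one_mem' := fun s _ => by simpa using ReflTransGen.refl
      mul_mem' := fun {g h} hg hh s hs => by
        refine ReflTransGen.trans ?_ (hh s hs)
        simpa [mul_assoc] using hg _ (hG.2.1 h s hs)
      inv_mem' := fun {g} hg s hs => by
        refine crtg_symm ?_
        simpa [mul_assoc] using hg _ (hG.2.1 g⁻¹ s hs) }
  haveI hK : K.Normal := ⟨fun g hg r s hs => by
    have := crel_conj hG r (hg _ (hG.2.1 r⁻¹ s hs))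
    simpa [mul_assoc] using this⟩
  have hmem : ∀ x ∈ D, ∀ y ∈ D, ReflTransGen (CRel D) x y → x * y ∈ K := by
    intro x hx y hy h s hs
    have := crel_cj hG (cj_mem hG hy hs) h
    rw [cj_cj hG hy] at this
    simpa [cj, mul_assoc, inv_eq hG hx, inv_eq hG hy] using this
  by_contra hab
  have hnc : ¬ Commute a b := fun h => hab (.single ⟨ha, hb, h⟩)
  -- the key observation
  have hout : ¬ (a ∈ K ∧ b ∈ K) ∧ a * b ∉ K := by
    refine ⟨fun h => hab ?_, fun h => hab ?_⟩
    · have h1 := h.1 b hb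
      have h2 := h.2 a ha
      rw [← cj_conj hG ha] at h1
      rw [← cj_conj hG hb, ← cj_comm hG ha hb hnc] at h2
      exact (crtg_symm h2).trans h1
    · have h1 : ReflTransGen (CRel D) (cj a b) b := by
        have := h b hb
        simpa [cj, mul_assoc, inv_eq hG ha, inv_eq hG hb, sq hG hb] using this
      have h2 : ReflTransGen (CRel D) (cj b a) a := by
        have := (K.inv_mem h) a ha
        simpa [cj, mul_assoc, inv_eq hG ha, inv_eq hG hb, sq hG ha] using this
      rw [← cj_comm hG ha hb hnc] at h2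
      exact (crtg_symm h2).trans h1
  let π := QuotientGroup.mk' K
  have hker : ∀ g : G, π g = 1 ↔ g ∈ K := fun g => QuotientGroup.eq_one_iff g
  have hnone : ∀ x ∈ D, π x ≠ 1 := by
    intro x hx h1
    have : ∀ z ∈ D, z ∈ K := by
      intro z hz
      obtain ⟨g, rfl⟩ := hclass x hx z hz
      exact hK.conj_mem x ((hker x).1 h1) g
    exact hout.1 ⟨this a ha, this b hb⟩
  have hS : Cfsg.IsThreeTranspositionSet (π '' D) := by
    refine ⟨?_, ?_⟩
    · rintro _ ⟨x, hx, rfl⟩
      haveI := Fact.mk Nat.prime_two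
      exact orderOf_eq_prime (by rw [← map_pow, pow_two, sq hG hx, map_one]) (hnone x hx)
    · rintro _ ⟨x, hx, rfl⟩ _ ⟨y, hy, rfl⟩
      rcases hG.1.2 x hx y hy with h | h
      · exact Or.inl (by rw [← map_mul, ← map_pow, h, map_one])
      · exact Or.inr (by rw [← map_mul, ← map_pow, h, map_one])
  have hconj : ∀ g : G ⧸ K, ∀ d ∈ π '' D, g * d * g⁻¹ ∈ π '' D := by
    intro g
    obtain ⟨g, rfl⟩ := QuotientGroup.mk'_surjective K g
    rintro _ ⟨x, hx, rfl⟩
    exact ⟨g * x * g⁻¹, hG.2.1 g x hx, by simp [π]⟩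
  have hsep : ∀ x ∈ D, ∀ y ∈ D, Commute (π x) (π y) → π x = π y := by
    intro x hx y hy h
    rw [← inv_eq hG hy, map_inv, eq_inv_iff_mul_eq_one, ← map_mul, hker]
    by_cases hr : ReflTransGen (CRel D) x y
    · exact hmem x hx y hy hr
    have hxy : ¬ Commute x y := fun h' => hr (.single ⟨hx, hy, h'⟩)
    have h3 : (π (x * y)) ^ 3 = 1 := by
      rw [← map_pow, ← CfsgLib.ThreeTransp.Basic.orderOf_mul_three hG.1 hx hy hxy,
        pow_orderOf_eq_one, map_one]
    have h2 : (π (x * y)) ^ 2 = 1 := by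
      rw [map_mul, h.mul_pow, ← map_pow, ← map_pow, pow_two, pow_two, sq hG hx, sq hG hy, map_one,
        one_mul]
    rw [← hker]
    have h3' := h3
    rw [pow_succ, h2, one_mul] at h3'
    exact h3'
  have hw : ∀ x ∈ π '' D, ∀ y ∈ π '' D, Commute x y → x = y := by
    rintro _ ⟨x, hx, rfl⟩ _ ⟨y, hy, rfl⟩ h
    exact hsep x hx y hy h
  haveI : Fact (Nat.Prime 3) := ⟨Nat.prime_three⟩
  set P := Cfsg.pCore 3 (G ⧸ K) with hP
  -- the derived group of the quotient lies in the 3-core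
  let ρ : G →* (G ⧸ K) ⧸ P := (QuotientGroup.mk' P).comp π
  have hzp : ∀ g : G, ρ g ∈ Subgroup.zpowers (ρ a) := by
    intro g
    have hg : g ∈ Subgroup.closure D := by rw [hG.2.2]; exact Subgroup.mem_top g
    refine (Subgroup.closure_le ((Subgroup.zpowers (ρ a)).comap ρ)).2 (fun x hx => ?_) hg
    have hmem' := CfsgLib.ThreeTransp.WidthOne.mul_mem_pCore hS hconj hw ⟨x, hx, rfl⟩ ⟨a, ha, rfl⟩
    have : ρ x * ρ a = 1 := by
      rw [← map_mul]
      exact (QuotientGroup.eq_one_iff _).2 (by simpa [π] using hmem')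
    show ρ x ∈ Subgroup.zpowers (ρ a)
    rw [eq_inv_of_mul_eq_one_left this]
    exact Subgroup.inv_mem _ (Subgroup.mem_zpowers _)
  have hC : (commutator G).map π ≤ P := by
    rw [Subgroup.map_le_iff_le_comap, commutator_def, Subgroup.commutator_le]
    intro g _ h _
    rw [Subgroup.mem_comap, ← QuotientGroup.eq_one_iff]
    show ρ ⁅g, h⁆ = 1
    obtain ⟨i, hi⟩ := hzp g
    obtain ⟨j, hj⟩ := hzp h
    rw [map_commutatorElement, ← hi, ← hj, commutatorElement_eq_one_iff_mul_comm]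
    exact ((Commute.refl (ρ a)).zpow_zpow i j).eq
  have hbot : (commutator G).map π = ⊥ := by
    by_contra hne
    haveI : Group.IsNilpotent P :=
      (CfsgLib.Solvable.Cores.isPGroup_pCore (G := G ⧸ K) 3).isNilpotent
    haveI : Group.IsSolvable ↥((commutator G).map π) :=
      Group.isSolvable_of_isSolvable_injective (f := Subgroup.inclusion hC)
        (Subgroup.inclusion_injective hC)
    have hperf' : ⁅(commutator G).map π, (commutator G).map π⁆ = (commutator G).map π := by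
      rw [← Subgroup.map_commutator, hperf]
    set C := (commutator G).map π
    have hne' : (⊤ : Subgroup C) ≠ ⊥ := by
      intro h
      apply hne
      rw [eq_bot_iff]
      intro z hz
      have : (⟨z, hz⟩ : C) ∈ (⊥ : Subgroup C) := h ▸ Subgroup.mem_top _
      exact congrArg Subtype.val (Subgroup.mem_bot.1 this)
    have hlt := Group.IsSolvable.commutator_lt_of_ne_bot hne'
    have he : Subgroup.map C.subtype (⁅(⊤ : Subgroup C), (⊤ : Subgroup C)⁆ : Subgroup C) = (⊤ : Subgroup C).map C.subtype := by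
      rw [Subgroup.map_commutator, ← MonoidHom.range_eq_map, Subgroup.range_subtype, hperf']
    exact hlt.ne (Subgroup.map_injective C.subtype_injective he)
  have hcomm : Commute (π a) (π b) := by
    rw [commute_iff_eq, ← commutatorElement_eq_one_iff_mul_comm, ← map_commutatorElement,
      ← Subgroup.mem_bot, ← hbot]
    exact Subgroup.mem_map_of_mem _ (Subgroup.commutator_mem_commutator (Subgroup.mem_top a)
      (Subgroup.mem_top b))
  apply hout.2
  rw [← hker, map_mul, hsep a ha b hb hcomm, ← map_mul, sq hG hb, map_one]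

theorem exists_adj (hclass : ∀ a ∈ D, ∀ b ∈ D, ∃ g : G, g * a * g⁻¹ = b) {u w : G} (hu : u ∈ D)
    (hw : w ∈ D) (hne : u ≠ w) : ∃ f ∈ D, ¬ Commute u f := by
  rcases (noncommuting_connected hG hclass hu hw).cases_head with h | ⟨f, hf, -⟩
  · exact absurd h hne
  · exact ⟨f, hf.2.1, hf.2.2⟩

/-- Commuting members with a common noncommuting partner are moved by an explicit element. -/
theorem move {d v f : G} (hd : d ∈ D) (hv : v ∈ D) (hf : f ∈ D) (hdv : Commute d v)
    (hdf : ¬ Commute d f) (hvf : ¬ Commute v f) :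
    f * (d * v) * f * d * (f * (d * v) * f)⁻¹ = v := by
  have e : ∀ z, cj v (cj d z) = cj d (cj v z) := fun z => by
    simp only [cj, ← mul_assoc]; rw [hdv.eq]; simp only [mul_assoc]; rw [hdv.eq]
  calc f * (d * v) * f * d * (f * (d * v) * f)⁻¹ = cj f (cj d (cj v (cj f d))) := by
        simp only [cj, mul_inv_rev, inv_eq hG hd, inv_eq hG hv, inv_eq hG hf, mul_assoc]
    _ = v := by
      rw [cj_comm hG hf hd (fun h => hdf h.symm), e, cj_cj hG hd, cj_comm hG hv hf hvf,
        cj_cj hG hf]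

/-- Two members whose product is central coincide. -/
theorem eq_of_central (hclass : ∀ a ∈ D, ∀ b ∈ D, ∃ g : G, g * a * g⁻¹ = b) {u w : G}
    (hu : u ∈ D) (hw : w ∈ D) (hc : u * w ∈ Subgroup.center G) : u = w := by
  by_contra hne
  obtain ⟨f, hf, huf⟩ := exists_adj hG hclass hu hw hne
  have hz : ∀ g, g * (u * w) = u * w * g := fun g => Subgroup.mem_center_iff.1 hc g
  have huw : Commute u w := by
    have h := hz u
    rw [mul_assoc u w u] at h
    exact mul_left_cancel h
  have hwf : ¬ Commute w f := fun h => huf (by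
    have h' := hz f
    rw [← mul_assoc, mul_assoc u w f, h.eq, ← mul_assoc] at h'
    exact (mul_right_cancel h').symm)
  have hg : f * (u * w) * f = u * w := by rw [hz f, mul_assoc, sq hG hf, mul_one]
  have h := move hG hu hw hf huw huf hwf
  rw [hg, ← hz u, mul_assoc, mul_inv_cancel, mul_one] at h
  exact hne h

end Calculus

section Blocks

variable [Finite G] {D : Set G} (hG : Cfsg.IsThreeTranspositionGroup D)
  (hcc : ∀ a ∈ D, ∀ b ∈ D, ReflTransGen (CRel D) a b)
  (hnc : ∀ a ∈ D, ∀ b ∈ D, ReflTransGen (Rel D) a b)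
  {u : G} {Δ : Set G} (hg : Good D u Δ) (h2 : 2 ≤ Δ.ncard)

omit [Finite G] in
theorem good_subset_nb (hg : Good D u Δ) : Δ ⊆ Nb D u := by
  obtain ⟨-, ⟨y, hy, rfl⟩, -⟩ := hg
  exact comp_subset hy

omit [Finite G] in
theorem good_conn (hg : Good D u Δ) {y z : G} (hy : y ∈ Δ) (hz : z ∈ Δ) :
    ReflTransGen (Rel Δ) y z := by
  obtain ⟨-, ⟨y₀, hy₀, rfl⟩, -⟩ := hg
  exact (rtg_symm (comp_connected hy)).trans (comp_connected hz)

omit [Finite G] in
theorem u_mem (hg : Good D u Δ) : u ∈ Tset D Δ :=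
  ⟨hg.1, fun _ hy => (good_subset_nb hg hy).2.2⟩

include hg h2

theorem exists_adj_in {y : G} (hy : y ∈ Δ) : ∃ z ∈ Δ, ¬ Commute y z := by
  obtain ⟨z, hz, hzy⟩ := Set.exists_ne_of_one_lt_ncard (by omega : 1 < Δ.ncard) y
  rcases (good_conn hg hy hz).cases_head with h | ⟨w, hw, -⟩
  · exact absurd h.symm hzy
  · exact ⟨w, hw.2.1, hw.2.2⟩

theorem not_mem_of_T {v : G} (hv : v ∈ Tset D Δ) : v ∉ Δ := by
  intro h
  obtain ⟨z, hz, hn⟩ := exists_adj_in hg h2 h
  exact hn (hv.2 z hz)

theorem subset_nb {v : G} (hv : v ∈ Tset D Δ) : Δ ⊆ Nb D v := fun y hy =>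
  ⟨(good_subset_nb hg hy).1, fun h => not_mem_of_T hg h2 hv (h ▸ hy), hv.2 y hy⟩

theorem good_of_T {v : G} (hv : v ∈ Tset D Δ) : Good D v Δ := by
  obtain ⟨y₀, hy₀, hΔ⟩ := hg.2.1
  have hy : y₀ ∈ Δ := hΔ ▸ self_mem_comp
  have hyv := subset_nb hg h2 hv hy
  refine ⟨hv.1, ⟨y₀, hyv, ?_⟩, hg.2.2⟩
  refine Set.eq_of_subset_of_ncard_le ?_ (hg.2.2 v hv.1 y₀ hyv) (Set.toFinite _)
  intro z hz
  exact ReflTransGen.mono (r := Rel Δ) (p := Rel (Nb D v))
    (fun a b h => ⟨subset_nb hg h2 hv h.1, subset_nb hg h2 hv h.2.1, h.2.2⟩) y₀ z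
    (good_conn hg hy hz)

theorem nb_cases {v s : G} (hv : v ∈ Tset D Δ) (hs : s ∈ Nb D v) : s ∈ Δ ∨ s ∈ Tset D Δ := by
  by_cases h : s ∈ Δ
  · exact Or.inl h
  refine Or.inr ⟨hs.1, fun y hy => by_contra fun hn => h ?_⟩
  obtain ⟨-, ⟨y₁, hy₁, hΔ⟩, -⟩ := good_of_T hg h2 hv
  rw [hΔ] at hy ⊢
  exact hy.tail ⟨comp_subset hy₁ hy, hs, fun h' => hn h'.symm⟩

theorem adj_of_out {v s : G} (hv : v ∈ Tset D Δ) (hs : s ∈ D) (hsT : s ∉ Tset D Δ)
    (hsΔ : s ∉ Δ) : ¬ Commute v s := fun h =>
  (nb_cases hg h2 hv ⟨hs, fun e => hsT (e ▸ hv), h⟩).elim hsΔ hsT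

include hG hcc hnc

theorem exists_config : ∃ x ∈ D, ∃ y ∈ Δ, ∃ y' ∈ Δ, x ∉ Tset D Δ ∧ x ∉ Δ ∧ ¬ Commute y y' ∧
    Commute x y' ∧ ¬ Commute x y := by
  -- some member lies outside
  have hout : ∃ s ∈ D, s ∉ Tset D Δ ∧ s ∉ Δ := by
    by_contra hne
    push Not at hne
    obtain ⟨y₀, hy₀, hΔ⟩ := hg.2.1
    have hy : y₀ ∈ Δ := hΔ ▸ self_mem_comp
    have : ∀ z, ReflTransGen (Rel D) u z → z ∈ Tset D Δ := by
      intro z hz
      induction hz with
      | refl => exact u_mem hg
      | @tail b c _ h ih =>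
        by_contra hc
        exact h.2.2 (ih.2 c (hne c h.2.1 hc))
    exact not_mem_of_T hg h2 (this y₀ (hnc u hg.1 y₀ hy₀.1)) hy
  obtain ⟨s, hs, hsT, hsΔ⟩ := hout
  have hedge : ∀ z, ReflTransGen (CRel D) u z → (z ∈ Tset D Δ ∨ z ∈ Δ) ∨
      ∃ p q, (p ∈ Tset D Δ ∨ p ∈ Δ) ∧ q ∈ D ∧ q ∉ Tset D Δ ∧ q ∉ Δ ∧ Commute p q := by
    intro z hz
    induction hz with
    | refl => exact Or.inl (Or.inl (u_mem hg))
    | @tail b c _ h ih =>
      rcases ih with hb | hb
      · by_cases hc : c ∈ Tset D Δ ∨ c ∈ Δ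
        · exact Or.inl hc
        · exact Or.inr ⟨b, c, hb, h.2.1, fun h' => hc (Or.inl h'), fun h' => hc (Or.inr h'), h.2.2⟩
      · exact Or.inr hb
  rcases hedge s (hcc u hg.1 s hs) with h | ⟨p, q, hp, hq, hqT, hqΔ, hpq⟩
  · exact (h.elim hsT hsΔ).elim
  have hpΔ : p ∈ Δ := hp.resolve_left fun hpT => adj_of_out hg h2 hpT hq hqT hqΔ hpq
  obtain ⟨z, hz, hzn⟩ : ∃ z ∈ Δ, ¬ Commute q z := by
    by_contra hall
    push Not at hall
    exact hqT ⟨hq, hall⟩
  have : ∀ w, ReflTransGen (Rel Δ) p w → Commute q w ∨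
      ∃ y ∈ Δ, ∃ y' ∈ Δ, ¬ Commute y y' ∧ Commute q y' ∧ ¬ Commute q y := by
    intro w hw
    induction hw with
    | refl => exact Or.inl hpq.symm
    | @tail b c _ h ih =>
      rcases ih with hb | hb
      · by_cases hc : Commute q c
        · exact Or.inl hc
        · exact Or.inr ⟨c, h.2.1, b, h.1, fun h' => h.2.2 h'.symm, hb, hc⟩
      · exact Or.inr hb
  obtain ⟨y, hy, y', hy', h1, h3, h4⟩ :=
    (this z (good_conn hg hpΔ hz)).resolve_left hzn
  exact ⟨q, hq, y, hy, y', hy', hqT, hqΔ, h1, h3, h4⟩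

theorem good_unique {Δ' : Set G} (hg' : Good D u Δ') : Δ' = Δ := by
  by_contra hne
  have hle : Δ.ncard ≤ Δ'.ncard := by
    obtain ⟨-, ⟨y₀, hy₀, hΔ⟩, -⟩ := hg
    exact hΔ ▸ hg'.2.2 u hg'.1 y₀ hy₀
  have hsub : Δ' ⊆ Tset D Δ := by
    intro z hz
    rcases nb_cases hg h2 (u_mem hg) (good_subset_nb hg' hz) with h | h
    · exfalso
      apply hne
      obtain ⟨-, ⟨y₀, hy₀, rfl⟩, -⟩ := hg
      obtain ⟨-, ⟨y₁, hy₁, rfl⟩, -⟩ := hg'
      ext w
      exact ⟨fun hw => (h.trans (rtg_symm hz)).trans hw, fun hw => (hz.trans (rtg_symm h)).trans hw⟩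
    · exact h
  obtain ⟨x, hx, y, -, y', hy', hxT, hxΔ, -, hxy', -⟩ := exists_config hG hcc hnc hg h2
  have hxN : x ∈ Nb D y' := ⟨hx, fun h => hxΔ (h ▸ hy'), hxy'.symm⟩
  have hy'D : y' ∈ D := (good_subset_nb hg hy').1
  have hbig : insert x (Tset D Δ) ⊆ comp D y' x := by
    rintro z (rfl | hz)
    · exact self_mem_comp
    refine .single ⟨hxN, ⟨hz.1, fun h => not_mem_of_T hg h2 hz (h ▸ hy'), (hz.2 y' hy').symm⟩, ?_⟩
    exact fun h => adj_of_out hg h2 hz hx hxT hxΔ h.symm
  have h1 := Set.ncard_le_ncard hbig (Set.toFinite _)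
  rw [Set.ncard_insert_of_notMem hxT (Set.toFinite _)] at h1
  have h3 := Set.ncard_le_ncard hsub (Set.toFinite _)
  have h4 := hg.2.2 y' hy'D x hxN
  omega

end Blocks

section Main

variable [Finite G] {D : Set G} (hG : Cfsg.IsThreeTranspositionGroup D)
  (hclass : ∀ a ∈ D, ∀ b ∈ D, ∃ g : G, g * a * g⁻¹ = b)
  (hperf : ⁅commutator G, commutator G⁆ = commutator G)

include hG hclass hperf

theorem same_iff {u : G} {Δ : Set G} (hg : Good D u Δ) (h2 : 2 ≤ Δ.ncard) {v : G} :
    Same D u v ↔ v ∈ Tset D Δ := by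
  refine ⟨?_, fun hv => ⟨Δ, hg, good_of_T hg h2 hv⟩⟩
  rintro ⟨Δ', hu, hv⟩
  obtain rfl := good_unique hG (fun a ha b hb => commuting_connected hG hclass hperf ha hb)
    (fun a ha b hb => noncommuting_connected hG hclass ha hb) hg h2 hu
  exact u_mem hv

/-- Inside one block the products generate a solvable group acting trivially on the blocks. -/
theorem block_facts {u : G} {Δ : Set G} (hg : Good D u Δ) (h2 : 2 ≤ Δ.ncard) :
    Group.IsSolvable ↥(Subgroup.closure {k : G | ∃ a b, Same D u a ∧ Same D u b ∧ k = a * b}) ∧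
    ∀ a b, Same D u a → Same D u b → ∀ s ∈ D, ∀ t, Same D u t →
      Same D (a * b * s * (a * b)⁻¹) s := by
  have hcc : ∀ a ∈ D, ∀ b ∈ D, ReflTransGen (CRel D) a b := fun a ha b hb =>
    commuting_connected hG hclass hperf ha hb
  have hnc : ∀ a ∈ D, ∀ b ∈ D, ReflTransGen (Rel D) a b := fun a ha b hb =>
    noncommuting_connected hG hclass ha hb
  have hT : ∀ {v : G}, Same D u v ↔ v ∈ Tset D Δ := same_iff hG hclass hperf hg h2
  set T := Tset D Δ with hTdef
  have huT : u ∈ T := u_mem hg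
  have hex : ∀ s ∈ D, ∃ Δ', Good D s Δ' ∧ 2 ≤ Δ'.ncard := by
    intro s hs
    obtain ⟨g, rfl⟩ := hclass u hg.1 s hs
    exact ⟨_, good_conj hG g hg, by rwa [Set.ncard_image_of_injective _ (fun a b h => mul_left_cancel (mul_right_cancel h))]⟩
  have hrefl : ∀ s ∈ D, Same D s s := fun s hs => by
    obtain ⟨Δ', h, -⟩ := hex s hs; exact ⟨Δ', h, h⟩
  have htrans : ∀ {a b c : G}, Same D a b → Same D b c → Same D a c := by
    rintro a b c ⟨Δ₁, ha, hb⟩ ⟨Δ₂, hb', hc⟩
    obtain ⟨Δ₀, hb0, h20⟩ := hex b hb.1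
    obtain rfl := good_unique hG hcc hnc hb0 h20 hb
    obtain rfl := good_unique hG hcc hnc hb0 h20 hb'
    exact ⟨_, ha, hc⟩
  have hsymm : ∀ {a b : G}, Same D a b → Same D b a := fun ⟨d, h, h'⟩ => ⟨d, h', h⟩
  have hTcj : ∀ v ∈ T, ∀ s ∈ T, cj v s ∈ T := fun v hv s hs =>
    ⟨cj_mem hG hv.1 hs.1, fun y hy => (commute_cj' hG hv.1 (hv.2 y hy) s).2 (hs.2 y hy)⟩
  have hsame : ∀ a ∈ T, ∀ b ∈ T, ∀ s ∈ D, Same D (cj a s) (cj b s) := by
    intro a ha b hb s hs
    by_cases hsT : s ∈ T
    · exact htrans (hsymm (hT.2 (hTcj a ha s hsT))) (hT.2 (hTcj b hb s hsT))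
    by_cases hsΔ : s ∈ Δ
    · rw [cj_fix hG ha.1 (ha.2 s hsΔ), cj_fix hG hb.1 (hb.2 s hsΔ)]
      exact hrefl s hs
    rw [cj_comm hG ha.1 hs (adj_of_out hg h2 ha hs hsT hsΔ),
      cj_comm hG hb.1 hs (adj_of_out hg h2 hb hs hsT hsΔ), cj_conj hG hs, cj_conj hG hs]
    exact same_conj hG s (htrans (hsymm (hT.2 ha)) (hT.2 hb))
  have hfix : ∀ a ∈ T, ∀ b ∈ T, ∀ s ∈ D, Same D (a * b * s * (a * b)⁻¹) s := by
    intro a ha b hb s hs
    have h := hsame a ha b hb _ (cj_mem hG hb.1 hs)
    rw [cj_cj hG hb.1] at h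
    simpa [cj, mul_assoc, inv_eq hG ha.1, inv_eq hG hb.1] using h
  refine ⟨?_, fun a b ha hb s hs t _ => hfix a (hT.1 ha) b (hT.1 hb) s hs⟩
  set L := Subgroup.closure {k : G | ∃ a b, Same D u a ∧ Same D u b ∧ k = a * b} with hL
  have hLfix : ∀ k ∈ L, ∀ s ∈ D, Same D (k * s * k⁻¹) s := by
    intro k hk
    induction hk using Subgroup.closure_induction with
    | mem k hk =>
      obtain ⟨a, b, ha, hb, rfl⟩ := hk
      exact hfix a (hT.1 ha) b (hT.1 hb)
    | one => intro s hs; simpa using hrefl s hs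
    | mul g h _ _ ihg ihh =>
      intro s hs
      have := ihg _ (hG.2.1 h s hs)
      exact htrans (by simpa [mul_assoc] using this) (ihh s hs)
    | inv g _ ih =>
      intro s hs
      have := ih _ (hG.2.1 g⁻¹ s hs)
      exact hsymm (by simpa [mul_assoc] using this)
  obtain ⟨x, hx, y, hy, y', hy', hxT, hxΔ, hyy', hxy', hxy⟩ := exists_config hG hcc hnc hg h2
  have hyD := (good_subset_nb hg hy).1
  have hy'D := (good_subset_nb hg hy').1
  have hvx : ∀ v ∈ T, ¬ Commute v x := fun v hv => adj_of_out hg h2 hv hx hxT hxΔ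
  have hvy : ∀ v ∈ T, Commute v y := fun v hv => hv.2 y hy
  have hux : ¬ Commute u x := hvx u huT
  have huy : Commute u y := hvy u huT
  have hu := hg.1
  -- the key identity
  have hA : ∀ v ∈ T, ∃ A : G, (∀ w ∈ T, Commute A w) ∧
      A * x * A⁻¹ = cj v (cj u x) := by
    intro v hv
    have hvxn := hvx v hv
    set h := cj x (cj y (cj u (cj x v))) with hh
    have hhD : h ∈ D := cj_mem hG hx (cj_mem hG hyD (cj_mem hG hu (cj_mem hG hx hv.1)))
    have e1 : cj x (cj u x) = u := by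
      rw [cj_comm hG hu hx hux, cj_cj hG hx]
    have e1' : cj u (cj x u) = x := by
      rw [cj_comm hG hx hu (fun h' => hux h'.symm), cj_cj hG hu]
    have e2 : cj x (cj y x) = y := by
      rw [cj_comm hG hyD hx (fun h' => hxy h'.symm), cj_cj hG hx]
    have hcu : Commute u h := by
      rw [hh, commute_swap hG hx, commute_swap hG hyD, commute_swap hG hu, commute_swap hG hx]
      have e3 : cj u (cj y (cj x u)) = cj y x := by
        rw [show cj u (cj y (cj x u)) = cj y (cj u (cj x u)) by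
          simp only [cj, ← mul_assoc]; rw [huy.eq]; simp only [mul_assoc]; rw [huy.eq], e1']
      rw [e3, e2]
      exact (hvy v hv).symm
    have hy'h : ¬ Commute y' h := by
      rw [hh, commute_swap hG hx, cj_fix hG hx hxy', commute_swap hG hyD, commute_swap hG hu]
      have hcu' : cj u (cj y y') = cj y y' := cj_fix hG hu (by
        rw [commute_swap hG hyD, cj_fix hG hyD huy.symm]; exact huT.2 y' hy')
      rw [hcu', cj_comm hG hyD hy'D hyy', cj_comm hG hx hv.1 (fun h' => hvxn h'.symm),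
        ← commute_swap hG hy'D, cj_fix hG hy'D (by
          rw [commute_swap hG hv.1, cj_fix hG hv.1 (hv.2 y' hy')]; exact hxy'.symm),
        commute_swap hG hv.1, cj_fix hG hv.1 (hvy v hv)]
      exact fun h' => hxy h'.symm
    have hne : h ≠ u := fun e => hy'h (e ▸ (huT.2 y' hy').symm)
    have hhΔ : h ∈ Δ := (nb_cases hg h2 huT ⟨hhD, hne, hcu⟩).resolve_right
      fun hh' => hy'h (hh'.2 y' hy').symm
    refine ⟨h * y, fun w hw => ((hw.2 h hhΔ).symm.mul_left (hw.2 y hy).symm), ?_⟩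
    have e4 : h * y * x * (h * y)⁻¹ = cj h (cj y x) := by
      simp only [cj, mul_inv_rev, inv_eq hG hhD, inv_eq hG hyD, mul_assoc]
    rw [e4, hh, cj_cj_eq, cj_cj_eq, cj_cj_eq, cj_cj_eq, e2, cj_self hG hyD, cj_fix hG hu huy]
    -- simplify the inner word
    have hcomm : ∀ z, cj u (cj y z) = cj y (cj u z) := fun z => by
      simp only [cj, ← mul_assoc]; rw [huy.eq]; simp only [mul_assoc]; rw [huy.eq]
    have hcomm' : ∀ z, cj v (cj y z) = cj y (cj v z) := fun z => by
      simp only [cj, ← mul_assoc]; rw [(hvy v hv).eq]; simp only [mul_assoc]; rw [(hvy v hv).eq]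
    rw [cj_comm hG hx hyD hxy, hcomm']
    have e5 : cj x (cj y (cj v x)) = cj y (cj v x) := by
      rw [cj_comm hG hv.1 hx hvxn]
      have hb : ∀ z, cj x (cj y (cj x z)) = cj y (cj x (cj y z)) := fun z => by
        rw [← cj_cj_eq, ← cj_cj_eq, cj_comm hG hx hyD hxy]
      rw [hb, cj_fix hG hyD (hvy v hv).symm]
    rw [e5, hcomm, cj_cj hG hyD]
    -- now x fixes or moves
    by_cases huv : u = v
    · subst huv
      rw [cj_cj hG hu, cj_self hG hx]
    by_cases hc : Commute u v
    · have hswap : cj u (cj v x) = cj v (cj u x) := by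
        simp only [cj, ← mul_assoc]; rw [hc.eq]; simp only [mul_assoc]; rw [hc.eq]
      rw [← hswap, cj_fix hG hx]
      rw [commute_swap hG hu, cj_comm hG hu hx hux, cj_comm hG hv.1 hx hvxn, commute_cj hG hx]
      exact hc
    · have hw : cj u v ∈ T := hTcj u huT v hv
      rw [cj_comm hG hv.1 hx hvxn]
      have hb : ∀ z, cj x (cj u (cj x z)) = cj u (cj x (cj u z)) := fun z => by
        rw [← cj_cj_eq, ← cj_cj_eq, cj_comm hG hx hu (fun h' => hux h'.symm)]
      rw [hb, cj_comm hG hx hw.1 (fun h' => hvx _ hw h'.symm), cj_cj_eq, cj_cj hG hu]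
  -- the block of x
  set B := {z : G | Same D x z} with hB
  have hinjx : ∀ v ∈ T, ∀ w ∈ T, cj v x = cj w x → v = w := by
    intro v hv w hw h
    rw [cj_comm hG hv.1 hx (hvx v hv), cj_comm hG hw.1 hx (hvx w hw)] at h
    exact cj_inj hG hx h
  have hinj : ∀ v ∈ T, ∀ w ∈ T, cj v (cj u x) = cj w (cj u x) → v = w := by
    intro v hv w hw h
    have hx' : cj u x ∈ D := cj_mem hG hu hx
    have hn : ∀ t ∈ T, ¬ Commute t (cj u x) := fun t ht h' =>
      hvx _ (hTcj u huT t ht) ((commute_swap hG hu t x).1 h')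
    rw [cj_comm hG hv.1 hx' (hn v hv), cj_comm hG hw.1 hx' (hn w hw)] at h
    exact cj_inj hG hx' h
  have hmaps : ∀ v ∈ T, cj v (cj u x) ∈ B := fun v hv =>
    hsymm (by simpa [cj, mul_assoc, inv_eq hG hv.1, inv_eq hG hu] using hfix v hv u huT x hx)
  have hcard : B.ncard ≤ T.ncard := by
    obtain ⟨g, hgx⟩ := hclass u hu x hx
    have : B ⊆ (fun w => g * w * g⁻¹) '' T := by
      intro z hz
      refine ⟨g⁻¹ * z * g, hT.1 ?_, by group⟩
      have := same_conj hG g⁻¹ (show Same D x z from hz)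
      rw [← hgx] at this
      simpa [mul_assoc] using this
    exact (Set.ncard_le_ncard this (Set.toFinite _)).trans (Set.ncard_image_le (Set.toFinite _))
  have hsurj : ∀ z ∈ B, ∃ v ∈ T, cj v (cj u x) = z := by
    intro z hz
    obtain ⟨v, hv, hvz⟩ := Set.surj_on_of_inj_on_of_ncard_le (fun v _ => cj v (cj u x))
      hmaps (fun a b ha hb h => hinj a ha b hb h) hcard (Set.toFinite _) z hz
    exact ⟨v, hv, hvz.symm⟩
  have hLcomm : ∀ A : G, (∀ w ∈ T, Commute A w) → ∀ k ∈ L, Commute A k := by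
    intro A hA' k hk
    induction hk using Subgroup.closure_induction with
    | mem k hk =>
      obtain ⟨a, b, ha, hb, rfl⟩ := hk
      exact (hA' a (hT.1 ha)).mul_right (hA' b (hT.1 hb))
    | one => exact Commute.one_right A
    | mul g h _ _ ihg ihh => exact ihg.mul_right ihh
    | inv g _ ih => exact ih.inv_right
  have hgen : ∀ a ∈ T, ∀ b ∈ T, a * b ∈ L := fun a ha b hb =>
    Subgroup.subset_closure ⟨a, b, hT.2 ha, hT.2 hb, rfl⟩
  set M : Subgroup L := (Subgroup.centralizer {x}).subgroupOf L with hM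
  have hMmem : ∀ k : L, k ∈ M ↔ Commute (k : G) x := by
    intro k
    rw [hM, Subgroup.mem_subgroupOf, Subgroup.mem_centralizer_singleton_iff]
    exact ⟨fun h => h, fun h => h⟩
  have hsemi : ∀ k : L, k ∈ M → ∀ z ∈ B, Commute (k : G) z := by
    intro k hk z hz
    obtain ⟨v, hv, rfl⟩ := hsurj z hz
    obtain ⟨A, hA1, hA2⟩ := hA v hv
    have hAk := (hLcomm A hA1 k k.2).symm
    rw [← hA2]
    exact (hAk.mul_right ((hMmem k).1 hk)).mul_right hAk.inv_right
  haveI hMn : M.Normal := ⟨fun m hm l => by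
    rw [hMmem]
    have hz : (l : G)⁻¹ * x * l ∈ B :=
      hsymm (by simpa using hLfix _ (L.inv_mem l.2) x hx)
    have := (Commute.conj_iff (l : G)).2 (hsemi m hm _ hz)
    simpa [mul_assoc] using this⟩
  let π := QuotientGroup.mk' M
  have hker : ∀ k : L, π k = 1 ↔ Commute (k : G) x := fun k =>
    (QuotientGroup.eq_one_iff k).trans (hMmem k)
  have hrep : ∀ l : L, ∃ v, ∃ hv : v ∈ T, π l = π ⟨v * u, hgen v hv u huT⟩ := by
    intro l
    obtain ⟨v, hv, hvl⟩ := hsurj _ (hsymm (hLfix _ l.2 x hx))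
    refine ⟨v, hv, ?_⟩
    rw [← inv_mul_eq_one.trans eq_comm, ← map_inv, ← map_mul, hker]
    show Commute ((v * u)⁻¹ * (l : G)) x
    rw [commute_iff_eq, mul_inv_rev, inv_eq hG hv.1, inv_eq hG hu, ← mul_inv_eq_iff_eq_mul]
    simp only [cj] at hvl
    calc u * v * l * x * (u * v * l)⁻¹ = u * (v * ((l : G) * x * (l : G)⁻¹) * v) * u := by
          simp only [mul_inv_rev, inv_eq hG hv.1, inv_eq hG hu, mul_assoc]
      _ = x := by
          rw [← hvl]
          simp only [← mul_assoc]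
          simp [mul_assoc, sq hG hv.1, sq hG hu]
  haveI hQ : Group.IsSolvable (L ⧸ M) := by
    refine solvable_of_two_three fun q => ?_
    obtain ⟨l, rfl⟩ := QuotientGroup.mk'_surjective M q
    obtain ⟨v, hv, he⟩ := hrep l
    rcases hG.1.2 v hv.1 u hu with h | h
    · exact Or.inl (by
        rw [show QuotientGroup.mk' M l = _ from he, ← map_pow,
          show (⟨v * u, hgen v hv u huT⟩ : L) ^ 2 = 1 from Subtype.ext h, map_one])
    · exact Or.inr (by
        rw [show QuotientGroup.mk' M l = _ from he, ← map_pow,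
          show (⟨v * u, hgen v hv u huT⟩ : L) ^ 3 = 1 from Subtype.ext h, map_one])
  have hconjT : ∀ k : L, ∀ w ∈ T, (k : G) * w * (k : G)⁻¹ ∈ T := fun k w hw =>
    hT.1 (htrans (hT.2 hw) (hsymm (hLfix _ k.2 w hw.1)))
  let e : T → T → L ⧸ M := fun a b => π ⟨a.1 * b.1, hgen a.1 a.2 b.1 b.2⟩
  have he_mul : ∀ a b c, e a b * e b c = e a c := by
    intro a b c
    simp only [e, ← map_mul]
    congr 1
    refine Subtype.ext ?_
    show a.1 * b.1 * (b.1 * c.1) = a.1 * c.1
    rw [← mul_assoc, mul_assoc a.1, sq hG b.2.1, mul_one]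
  let act : L → T → T := fun k a => ⟨(k : G) * a.1 * (k : G)⁻¹, hconjT k a.1 a.2⟩
  have he_act : ∀ k : L, k ∈ M → ∀ a b, e (act k a) (act k b) = e a b := by
    intro k hk a b
    have h1 : π k = 1 := (hker k).2 ((hMmem k).1 hk)
    have : (⟨(act k a).1 * (act k b).1, hgen _ (act k a).2 _ (act k b).2⟩ : L) =
        k * ⟨a.1 * b.1, hgen a.1 a.2 b.1 b.2⟩ * k⁻¹ := Subtype.ext (by
      simp only [act, Subgroup.coe_mul, Subgroup.coe_inv]
      group)
    simp only [e, this, map_mul, map_inv, h1, one_mul, inv_one, mul_one]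
  let u₀ : T := ⟨u, huT⟩
  have hact_mul : ∀ k k' : L, ∀ a, act (k * k') a = act k (act k' a) := fun k k' a =>
    Subtype.ext (by simp [act, mul_assoc])
  let ψ : M →* L ⧸ M :=
    { toFun := fun k => e u₀ (act k.1 u₀)
      map_one' := by
        have : act (1 : M).1 u₀ = u₀ := Subtype.ext (by simp [act])
        simp only [this, e]
        rw [show (⟨u₀.1 * u₀.1, hgen u₀.1 u₀.2 u₀.1 u₀.2⟩ : L) = 1 from Subtype.ext (sq hG hu),
          map_one]
      map_mul' := fun k k' => by
        show e u₀ (act (k.1 * k'.1) u₀) = e u₀ (act k.1 u₀) * e u₀ (act k'.1 u₀)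
        rw [hact_mul, ← he_act k.1 k.2 u₀ (act k'.1 u₀), he_mul] }
  have he_inj : ∀ a b : T, e a b = 1 → a = b := by
    intro a b h
    have h' : Commute (a.1 * b.1) x := (hker _).1 h
    refine Subtype.ext (hinjx a.1 a.2 b.1 b.2 ?_)
    have h'' : cj a.1 (cj b.1 x) = x := by
      have := h'.eq
      calc cj a.1 (cj b.1 x) = a.1 * b.1 * x * (b.1 * a.1) := by simp only [cj, mul_assoc]
        _ = x * (a.1 * (b.1 * b.1) * a.1) := by rw [this]; simp only [mul_assoc]
        _ = x := by rw [sq hG b.2.1, mul_one, sq hG a.2.1, mul_one]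
    calc cj a.1 x = cj a.1 (cj a.1 (cj b.1 x)) := by rw [h'']
      _ = cj b.1 x := cj_cj hG a.2.1 _
  have hkerψ : ∀ k : M, ψ k = 1 → ∀ l : L, Commute ((k.1 : L) : G) l := by
    intro k hk
    have hu0 : act k.1 u₀ = u₀ := (he_inj _ _ hk).symm
    have hall : ∀ a : T, act k.1 a = a := by
      intro a
      have h := he_act k.1 k.2 u₀ a
      rw [hu0] at h
      have h' := he_mul (act k.1 a) u₀ a
      have hinv : e (act k.1 a) u₀ = (e u₀ (act k.1 a))⁻¹ := by
        refine eq_inv_of_mul_eq_one_left ?_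
        rw [he_mul]
        simp only [e]
        rw [show (⟨(act k.1 a).1 * (act k.1 a).1, _⟩ : L) = 1 from
          Subtype.ext (sq hG (act k.1 a).2.1), map_one]
      rw [hinv, h, inv_mul_cancel] at h'
      exact he_inj _ _ h'.symm
    intro l
    refine hLcomm _ (fun w hw => ?_) l.1 l.2
    exact mul_inv_eq_iff_eq_mul.1 (congrArg Subtype.val (hall ⟨w, hw⟩))
  haveI : Group.IsSolvable ψ.ker := by
    refine Group.isSolvable_of_comm fun a b => ?_
    exact Subtype.ext (Subtype.ext (Subtype.ext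
      (hkerψ a.1 (MonoidHom.mem_ker.1 a.2) b.1.1).eq))
  haveI : Group.IsSolvable M :=
    Group.isSolvable_of_ker_le_range ψ.ker.subtype ψ (by rw [Subgroup.range_subtype])
  exact Group.isSolvable_of_ker_le_range M.subtype π
    (by rw [Subgroup.range_subtype, QuotientGroup.ker_mk'])

omit hperf in
theorem mul_mem_commutator {a b : G} (ha : a ∈ D) (hb : b ∈ D) : a * b ∈ commutator G := by
  obtain ⟨g, rfl⟩ := hclass a ha b hb
  have : a * (g * a * g⁻¹) = ⁅a, g⁆ := by
    rw [commutatorElement_def, inv_eq hG ha]; simp only [mul_assoc]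
  rw [this]
  exact Subgroup.commutator_mem_commutator (Subgroup.mem_top a) (Subgroup.mem_top g)

omit hperf in
/-- An invariant equivalence on `D`, compatible with the action of its classes and with solvable
groups generated by the products inside a class, is trivial when the derived group contains no
solvable normal subgroup. -/
theorem eq_of_blocks (hsol : ∀ N : Subgroup G, N.Normal → Group.IsSolvable ↥N →
      N ≤ commutator G → N ≤ Subgroup.center G) {E : G → G → Prop} (hmem : ∀ a b, E a b → a ∈ D ∧ b ∈ D)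
    (hrefl : ∀ a ∈ D, E a a) (hsymm : ∀ a b, E a b → E b a)
    (htrans : ∀ a b c, E a b → E b c → E a c)
    (hconj : ∀ g a b, E a b → E (g * a * g⁻¹) (g * b * g⁻¹))
    (hcj : ∀ a b, E a b → ∀ s ∈ D, E (cj a s) (cj b s))
    (hloc : ∀ c ∈ D, Group.IsSolvable
      ↥(Subgroup.closure {k : G | ∃ a b, E c a ∧ E c b ∧ k = a * b})) :
    ∀ u w, E u w → u = w := by
  classical
  set S := {k : G | ∃ a b, E a b ∧ k = a * b} with hS
  set N := Subgroup.closure S with hN
  have hNfix : ∀ k ∈ N, ∀ s ∈ D, E (k * s * k⁻¹) s := by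
    intro k hk
    induction hk using Subgroup.closure_induction with
    | mem k hk =>
      obtain ⟨a, b, hab, rfl⟩ := hk
      intro s hs
      obtain ⟨ha, hb⟩ := hmem a b hab
      have h := hcj a b hab _ (cj_mem hG hb hs)
      rw [cj_cj hG hb] at h
      simpa [cj, mul_assoc, inv_eq hG ha, inv_eq hG hb] using h
    | one => intro s hs; simpa using hrefl s hs
    | mul g h _ _ ihg ihh =>
      intro s hs
      have := ihg _ (hG.2.1 h s hs)
      exact htrans _ _ _ (by simpa [mul_assoc] using this) (ihh s hs)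
    | inv g _ ih =>
      intro s hs
      have := ih _ (hG.2.1 g⁻¹ s hs)
      exact hsymm _ _ (by simpa [mul_assoc] using this)
  have hle : ∀ g : G, ∀ k ∈ N, g * k * g⁻¹ ∈ N := by
    intro g k hk
    refine (Subgroup.closure_le (N.comap (MulAut.conj g).toMonoidHom)).2 ?_ hk
    rintro _ ⟨a, b, hab, rfl⟩
    exact Subgroup.subset_closure ⟨g * a * g⁻¹, g * b * g⁻¹, hconj g a b hab, by simp [mul_assoc]⟩
  haveI hNn : N.Normal := ⟨fun k hk g => hle g k hk⟩
  let gen : Finset G → Set G := fun F => {k | ∃ c ∈ F, ∃ a b, E c a ∧ E c b ∧ k = a * b}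
  have hnorm : ∀ F, N ≤ Subgroup.normalizer ((Subgroup.closure (gen F) : Subgroup G) : Set G) := by
    intro F k hk
    have hle' : ∀ k ∈ N, ∀ l ∈ Subgroup.closure (gen F),
        k * l * k⁻¹ ∈ Subgroup.closure (gen F) := by
      intro k hk l hl
      refine (Subgroup.closure_le ((Subgroup.closure (gen F)).comap (MulAut.conj k).toMonoidHom)).2
        ?_ hl
      rintro _ ⟨c, hc, a, b, hca, hcb, rfl⟩
      exact Subgroup.subset_closure ⟨c, hc, k * a * k⁻¹, k * b * k⁻¹,
        htrans _ _ _ hca (hsymm _ _ (hNfix k hk a (hmem c a hca).2)),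
        htrans _ _ _ hcb (hsymm _ _ (hNfix k hk b (hmem c b hcb).2)), by simp [mul_assoc]⟩
    rw [Subgroup.mem_normalizer_iff]
    exact fun l => ⟨hle' k hk l, fun h => by simpa [mul_assoc] using hle' k⁻¹ (N.inv_mem hk) _ h⟩
  have hsolv : ∀ F : Finset G, (∀ c ∈ F, c ∈ D) → Group.IsSolvable ↥(Subgroup.closure (gen F)) := by
    intro F
    induction F using Finset.induction_on with
    | empty =>
      intro _
      have : gen ∅ = ∅ :=
        Set.eq_empty_iff_forall_notMem.2 fun k ⟨c, hc, _⟩ => Finset.notMem_empty c hc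
      rw [this, Subgroup.closure_empty]
      infer_instance
    | @insert c F hc ih =>
      intro hF
      have hins : gen (insert c F) = gen F ∪ {k | ∃ a b, E c a ∧ E c b ∧ k = a * b} := by
        ext k
        simp [gen, or_comm]
      rw [hins, Subgroup.closure_union]
      refine CfsgLib.Components.Signalizer.isSolvable_sup (le_trans ?_ (hnorm F))
        (ih fun d hd => hF d (Finset.mem_insert_of_mem hd)) (hloc c (hF c (Finset.mem_insert_self c F)))
      refine (Subgroup.closure_le N).2 ?_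
      rintro _ ⟨a, b, hca, hcb, rfl⟩
      exact Subgroup.subset_closure ⟨a, b, htrans _ _ _ (hsymm _ _ hca) hcb, rfl⟩
  have hNsolv : Group.IsSolvable ↥N := by
    have hall := hsolv (Set.toFinite D).toFinset fun c hc => (Set.Finite.mem_toFinset _).1 hc
    have hSg : gen (Set.toFinite D).toFinset = S := by
      ext k
      constructor
      · rintro ⟨c, -, a, b, hca, hcb, rfl⟩
        exact ⟨a, b, htrans _ _ _ (hsymm _ _ hca) hcb, rfl⟩
      · rintro ⟨a, b, hab, rfl⟩
        exact ⟨a, (Set.Finite.mem_toFinset _).2 (hmem a b hab).1, a, b, hrefl a (hmem a b hab).1,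
          hab, rfl⟩
    rwa [hSg] at hall
  have hNle : N ≤ commutator G := by
    refine (Subgroup.closure_le _).2 ?_
    rintro _ ⟨a, b, hab, rfl⟩
    exact mul_mem_commutator hG hclass (hmem a b hab).1 (hmem a b hab).2
  intro u w huw
  have h1 : u * w ∈ N := Subgroup.subset_closure ⟨u, w, huw, rfl⟩
  exact eq_of_central hG hclass (hmem u w huw).1 (hmem u w huw).2 (hsol N hNn hNsolv hNle h1)

/-- Fischer's theorem: the members commuting with `u` are connected by noncommuting steps. -/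
theorem connected (hsol : ∀ N : Subgroup G, N.Normal → Group.IsSolvable ↥N →
    N ≤ commutator G → N ≤ Subgroup.center G) {u y z : G}
    (hu : u ∈ D) (hy : y ∈ Nb D u) (hz : z ∈ Nb D u) : z ∈ comp D u y := by
  classical
  obtain ⟨p, ⟨hp1, hp2⟩, hmax⟩ :=
    ({p : G × G | p.1 ∈ D ∧ p.2 ∈ Nb D p.1}).exists_max_image
      (fun p => (comp D p.1 p.2).ncard) (Set.toFinite _) ⟨(u, y), hu, hy⟩
  have hg₀ : Good D p.1 (comp D p.1 p.2) :=
    ⟨hp1, ⟨p.2, hp2, rfl⟩, fun u' hu' y' hy' => hmax (u', y') ⟨hu', hy'⟩⟩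
  by_cases h2 : (comp D p.1 p.2).ncard ≤ 1
  · -- all components are single points: the group would be abelian
    exfalso
    have hsingle : ∀ a ∈ D, ∀ b ∈ Nb D a, ∀ c ∈ Nb D a, Commute b c := by
      intro a ha b hb c hc
      by_contra hn
      have hne : b ≠ c := fun e => hn (e ▸ Commute.refl b)
      have h1 : c ∈ comp D a b := .single ⟨hb, hc, hn⟩
      exact hne ((Set.ncard_le_one (Set.toFinite _)).1 ((hmax (a, b) ⟨ha, hb⟩).trans h2) b
        self_mem_comp c h1)
    have htr : ∀ a c, ReflTransGen (CRel D) a c → Commute a c := by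
      intro a c h
      induction h with
      | refl => exact Commute.refl a
      | @tail b c hab hbc ih =>
        by_cases h1 : a = b
        · exact h1 ▸ hbc.2.2
        by_cases h3 : c = b
        · exact h3 ▸ ih
        have haD : a ∈ D := by
          rcases hab.cases_head with h | ⟨w, hw, -⟩
          · exact absurd h h1
          · exact hw.1
        exact hsingle b hbc.1 a ⟨haD, h1, ih.symm⟩ c ⟨hbc.2.1, h3, hbc.2.2⟩
    haveI := Subgroup.isMulCommutative_closure (k := D) (fun a ha b hb =>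
      (htr a b (commuting_connected hG hclass hperf ha hb)).eq)
    have hm : ∀ g : G, g ∈ Subgroup.closure D := fun g => by rw [hG.2.2]; exact Subgroup.mem_top g
    obtain ⟨g, hgu⟩ := hclass u hu y hy.1
    have hc : g * u = u * g :=
      congrArg Subtype.val (mul_comm' (⟨g, hm g⟩ : Subgroup.closure D) ⟨u, hm u⟩)
    exact hy.2.1 (by rw [← hgu, hc, mul_assoc, mul_inv_cancel, mul_one])
  replace h2 : 2 ≤ (comp D p.1 p.2).ncard := by omega
  have hex : ∀ s ∈ D, ∃ Δ, Good D s Δ ∧ 2 ≤ Δ.ncard := by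
    intro s hs
    obtain ⟨g, rfl⟩ := hclass p.1 hp1 s hs
    exact ⟨_, good_conj hG g hg₀, by
      rwa [Set.ncard_image_of_injective _ (fun a b h => mul_left_cancel (mul_right_cancel h))]⟩
  by_contra hzy
  obtain ⟨Δ, hg, hΔ2⟩ := hex u hu
  -- two different members of one block
  obtain ⟨w, hw, hwu⟩ : ∃ w ∈ Tset D Δ, w ≠ u := by
    by_contra hno
    push Not at hno
    have hall : ∀ s ∈ Nb D u, s ∈ Δ := fun s hs =>
      (nb_cases hg hΔ2 (u_mem hg) hs).resolve_right fun h => hs.2.1 (hno s h)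
    obtain ⟨-, ⟨y₀, hy₀, rfl⟩, -⟩ := hg
    exact hzy ((rtg_symm (hall y hy)).trans (hall z hz))
  have huw : Same D u w := (same_iff hG hclass hperf hg hΔ2).2 hw
  have hrefl : ∀ s ∈ D, Same D s s := fun s hs => by
    obtain ⟨Δ', h, -⟩ := hex s hs; exact ⟨Δ', h, h⟩
  have htrans : ∀ a b c : G, Same D a b → Same D b c → Same D a c := by
    rintro a b c ⟨Δ₁, ha, hb⟩ hbc
    obtain ⟨Δ₀, hb0, h20⟩ := hex b hb.1
    obtain rfl := good_unique hG (fun a ha b hb => commuting_connected hG hclass hperf ha hb)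
      (fun a ha b hb => noncommuting_connected hG hclass ha hb) hb0 h20 hb
    exact ⟨_, ha, good_of_T hb0 h20 ((same_iff hG hclass hperf hb0 h20).1 hbc)⟩
  refine hwu (eq_of_blocks hG hclass hsol (E := Same D) (fun a b ⟨_, h, h'⟩ => ⟨h.1, h'.1⟩) hrefl
    (fun a b ⟨d, h, h'⟩ => ⟨d, h', h⟩) htrans (fun g a b h => same_conj hG g h)
    (fun a b hab s hs => ?_) (fun c hc => ?_) u w huw).symm
  · obtain ⟨Δa, hga, ha2⟩ := hex a (let ⟨_, h, _⟩ := hab; h.1)
    have hbD : b ∈ D := let ⟨_, _, h⟩ := hab; h.1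
    have h := (block_facts hG hclass hperf hga ha2).2 a b (hrefl a hga.1) hab
      (cj b s) (cj_mem hG hbD hs) a (hrefl a hga.1)
    have e : a * b * cj b s * (a * b)⁻¹ = cj a s := by
      have hb2 := sq hG hbD
      calc a * b * cj b s * (a * b)⁻¹ = a * ((b * b) * s * (b * b⁻¹)) * a⁻¹ := by
            simp only [cj, mul_inv_rev, mul_assoc]
        _ = cj a s := by rw [hb2, mul_inv_cancel, one_mul, mul_one, cj_conj hG hga.1]
    rwa [e] at h
  · obtain ⟨Δc, hgc, hc2⟩ := hex c hc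
    exact (block_facts hG hclass hperf hgc hc2).1

/-- The members commuting with `x` form one class of the group they generate. -/
theorem exists_conj (hsol : ∀ N : Subgroup G, N.Normal → Group.IsSolvable ↥N →
    N ≤ commutator G → N ≤ Subgroup.center G) {x y z : G}
    (hx : x ∈ D) (hy : y ∈ Nb D x) (hz : z ∈ Nb D x) :
    ∃ g ∈ Subgroup.closure (Nb D x), g * y * g⁻¹ = z := by
  have h := connected hG hclass hperf hsol hx hy hz
  clear hz
  induction h with
  | refl => exact ⟨1, Subgroup.one_mem _, by simp⟩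
  | @tail b c _ hbc ih =>
    obtain ⟨g, hg, hgy⟩ := ih
    refine ⟨b * c * g, Subgroup.mul_mem _ (Subgroup.mul_mem _ (Subgroup.subset_closure hbc.1)
      (Subgroup.subset_closure hbc.2.1)) hg, ?_⟩
    have h1 : cj b (cj c b) = c := by
      rw [← cj_comm hG hbc.1.1 hbc.2.1.1 hbc.2.2, cj_cj hG hbc.1.1]
    calc b * c * g * y * (b * c * g)⁻¹ = b * (c * (g * y * g⁻¹) * c⁻¹) * b⁻¹ := by
          simp [mul_assoc]
      _ = c := by rw [hgy, inv_eq hG hbc.1.1, inv_eq hG hbc.2.1.1]; exact h1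

end Main

end CfsgLib.Sporadic.FischerTransitivity
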