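import Cfsg.Agent.Lib.Sporadic.FiRepChecks
import Mathlib.LinearAlgebra.Matrix.GeneralLinearGroup.Defs

/-!
# The representation of Fi22 in dimension 78 over the field of 13 elements
-/

set_option autoImplicit false
set_option maxRecDepth 100000

namespace CfsgLib.Sporadic.FiRep

open Cfsg.Spor Matrix

attribute [local irreducible] PackedMatrix.powOne PackedMatrix.dig FiRepData.gen

/-- The matrix of a generator. -/
noncomputable def mat (x : Fi22.Gen) : Matrix (Fin 78) (Fin 78) (ZMod 13) :=
  PackedMatrix.dec 13 78 (pk x)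

theorem ok_pk (x : Fi22.Gen) : PackedMatrix.ok 13 78 (pk x) = true :=
  List.all_eq_true.1 ok_gen _ (List.mem_range.2 (by cases x <;> decide))

theorem prod_pow {L : List Fi22.Gen} {e : ℕ}
    (h : PackedMatrix.powOne 13 78 (L.map pk) e = true) : (L.map mat).prod ^ e = 1 := by
  have := PackedMatrix.powOne_spec (p := 13) (n := 78) (by norm_num) (by norm_num) (by norm_num)
    ok_one (L := L.map pk) (fun B hB => by
      obtain ⟨x, -, rfl⟩ := List.mem_map.1 hB
      exact ok_pk x) h
  rw [List.map_map] at this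
  exact this

theorem mat_sq (x : Fi22.Gen) : mat x * mat x = 1 := by
  have h := prod_pow (L := [x, x]) (e := 1)
    (List.all_eq_true.1 sq_gen _ (List.mem_range.2 (by cases x <;> decide)))
  simpa using h

/-- The invertible matrix of a generator. -/
noncomputable def unit (x : Fi22.Gen) : GL (Fin 78) (ZMod 13) :=
  ⟨mat x, mat x, mat_sq x, mat_sq x⟩

theorem val_prod (L : List Fi22.Gen) :
    (((L.map unit).prod : GL (Fin 78) (ZMod 13)) : Matrix (Fin 78) (Fin 78) (ZMod 13)) =
      (L.map mat).prod := by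
  induction L with
  | nil => rfl
  | cons x t ih => rw [List.map_cons, List.prod_cons, Units.val_mul, ih, List.map_cons, List.prod_cons]; rfl

theorem unit_pow {L : List Fi22.Gen} {e : ℕ}
    (h : PackedMatrix.powOne 13 78 (L.map pk) e = true) : (L.map unit).prod ^ e = 1 :=
  Units.ext (by rw [Units.val_pow_eq_pow_val, val_prod, prod_pow h]; rfl)

theorem unit_inv (x : Fi22.Gen) : (unit x)⁻¹ = unit x := Units.ext rfl

theorem label_symm : ∀ x ∈ CosetCert.FiP.gens, ∀ y ∈ CosetCert.FiP.gens,
    coxLabel Fi22.edges x y = coxLabel Fi22.edges y x := by decide +kernel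

theorem cases_pairs : ∀ x ∈ CosetCert.FiP.gens, ∀ y ∈ CosetCert.FiP.gens,
    x = y ∨ (x, y) ∈ pairs ∨ (y, x) ∈ pairs := by decide +kernel

theorem mem_gens (x : Fi22.Gen) : x ∈ CosetCert.FiP.gens := by cases x <;> decide

theorem pair_pow {x y : Fi22.Gen} (h : (x, y) ∈ pairs) :
    (unit x * unit y) ^ coxLabel Fi22.edges x y = 1 := by
  have h' : pairOK x y = true := List.all_eq_true.1 pairs_ok _ h
  have := unit_pow (L := [x, y]) (e := coxLabel Fi22.edges x y)
    (by rw [List.map_cons, List.map_cons, List.map_nil]; exact h')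
  simpa using this

theorem cox_pow (x y : Fi22.Gen) : (unit x * unit y) ^ coxLabel Fi22.edges x y = 1 := by
  rcases cases_pairs x (mem_gens x) y (mem_gens y) with rfl | h | h
  · rw [show unit x * unit x = 1 from Units.ext (mat_sq x), one_pow]
  · exact pair_pow h
  · rw [label_symm x (mem_gens x) y (mem_gens y),
      show unit x * unit y = (unit y * unit x)⁻¹ by rw [_root_.mul_inv_rev, unit_inv, unit_inv],
      inv_pow, pair_pow h, inv_one]

theorem rels : ∀ r ∈ coxRelators Fi22.edges ∪ {r | r ∈ Fi22.extra}, FreeGroup.lift unit r = 1 := by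
  rintro r (⟨x, -, y, -, rfl⟩ | hr)
  · rw [map_pow, map_mul, FreeGroup.lift_apply_of, FreeGroup.lift_apply_of, cox_pow]
  · simp only [Set.mem_ofPred_eq, Fi22.extra, List.mem_cons, List.not_mem_nil, or_false] at hr
    rcases hr with rfl | rfl | rfl
    all_goals simp only [map_pow, map_mul, FreeGroup.lift_apply_of, Fi22.a, Fi22.b, Fi22.c, Fi22.d,
      Fi22.e, Fi22.f, Fi22.g, Fi22.h, Fi22.i]
    · simpa [mul_assoc] using unit_pow (L := [.d, .c, .b, .d, .e, .f, .d, .h, .i]) rel0_ok
    · simpa [mul_assoc] using unit_pow (L := [.a, .b, .c, .d, .e, .f, .h]) rel1_ok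
    · simpa [mul_assoc] using unit_pow (L := [.b, .c, .d, .e, .f, .g, .h]) rel2_ok

/-- The representation. -/
noncomputable def rep : Fi22 →* GL (Fin 78) (ZMod 13) := PresentedGroup.toGroup rels

theorem rep_of (x : Fi22.Gen) : rep (PresentedGroup.of x) = unit x := PresentedGroup.toGroup.of rels

theorem entry : ((PackedMatrix.dig ((FiRepData.gen 0).getD 0 0) 2 : ℕ) : ZMod 13) ≠ 0 := by
  decide +kernel

theorem rep_injective : Function.Injective rep := by
  have := CosetCert.FiP.isSimple
  rw [← MonoidHom.ker_eq_bot_iff]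
  refine (rep.normal_ker.eq_bot_or_eq_top).resolve_right fun h => entry ?_
  have e : rep (PresentedGroup.of Fi22.Gen.a) = 1 :=
    MonoidHom.mem_ker.1 (h ▸ Subgroup.mem_top _)
  rw [rep_of] at e
  have hm : mat Fi22.Gen.a = 1 := Units.ext_iff.1 e
  have := Matrix.ext_iff.2 hm 0 2
  rw [Matrix.one_apply_ne (by decide)] at this
  have h2 : ((2 : Fin 78) : ℕ) = 2 := rfl
  simpa only [mat, PackedMatrix.dec, pk, CosetCert.FiP.code, Fin.val_zero, h2] using this

/-- A faithful representation of Fi22 in dimension 78 over the field of 13 elements. -/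
theorem exists_faithful : ∃ f : Fi22 →* GL (Fin 78) (ZMod 13), Function.Injective f :=
  ⟨rep, rep_injective⟩

end CfsgLib.Sporadic.FiRep
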