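import Cfsg.Agent.Lib.Sporadic.FiRepData.FiRepGens
import Cfsg.Agent.Lib.Sporadic.FiPresented

/-!
# Kernel checks: the nine matrices satisfy the relations of Fi22
-/

set_option maxRecDepth 100000

namespace CfsgLib.Sporadic.FiRep

open Cfsg.Spor

/-- The packed matrix of a generator. -/
def pk (x : Fi22.Gen) : List ℕ := FiRepData.gen (CosetCert.FiP.code x)

theorem ok_gen : (List.range 9).all (fun k => PackedMatrix.ok 13 78 (FiRepData.gen k)) = true := by
  decide +kernel

theorem ok_one : PackedMatrix.ok 13 78 (PackedMatrix.one 78) = true := by decide +kernel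

theorem sq_gen : (List.range 9).all
    (fun k => PackedMatrix.powOne 13 78 [FiRepData.gen k, FiRepData.gen k] 1) = true := by
  decide +kernel

/-- The check of the relation of two generators. -/
noncomputable def pairOK (x y : Fi22.Gen) : Bool :=
  PackedMatrix.powOne 13 78 [pk x, pk y] (coxLabel Fi22.edges x y)

/-- The unordered pairs of different generators. -/
def pairs : List (Fi22.Gen × Fi22.Gen) :=
  (List.range 9).flatMap fun i => ((List.range 9).filter fun j => decide (i < j)).map fun j =>
    (CosetCert.FiP.gens.getD i Fi22.Gen.a, CosetCert.FiP.gens.getD j Fi22.Gen.a)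

theorem pairs_ok : pairs.all (fun q => pairOK q.1 q.2) = true := by decide +kernel

theorem rel0_ok : PackedMatrix.powOne 13 78
    [pk .d, pk .c, pk .b, pk .d, pk .e, pk .f, pk .d, pk .h, pk .i] 10 = true := by decide +kernel

theorem rel1_ok : PackedMatrix.powOne 13 78
    [pk .a, pk .b, pk .c, pk .d, pk .e, pk .f, pk .h] 9 = true := by decide +kernel

theorem rel2_ok : PackedMatrix.powOne 13 78
    [pk .b, pk .c, pk .d, pk .e, pk .f, pk .g, pk .h] 9 = true := by decide +kernel

end CfsgLib.Sporadic.FiRep
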