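import Cfsg.Agent.Lib.Sporadic.RankOneMaps
import Cfsg.Agent.Lib.Orth.Omega
import Cfsg.Agent.Lib.Orth.Bridge
import Cfsg.Agent.Lib.Orth.Standard

/-!
Orthogonal transvections over the field with two elements form a class of 3-transpositions.
-/

set_option autoImplicit false

namespace CfsgLib.Sporadic.OrthTranspositions

open Cfsg CfsgLib.Orth QuadraticMap Module Matrix

local notation "𝕜" => ZMod 2

theorem zmod2 (x : 𝕜) : x = 0 ∨ x = 1 := by revert x; decide

variable {V : Type*} [AddCommGroup V] [Module 𝕜 V]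

theorem neg_eq (v : V) : -v = v := by
  have h : ((-1 : 𝕜)) = 1 := by decide
  rw [← neg_one_smul 𝕜 v, h, one_smul]

theorem refl_apply' {Q : QuadraticForm 𝕜 V} {a : V} (ha : Q a = 1) (v : V) :
    (refl Q a).1 v = v + polar Q a v • a := by
  rw [refl_apply, ha, inv_one, one_mul, sub_eq_add_neg, neg_eq]

variable [FiniteDimensional 𝕜 V] {Q : QuadraticForm 𝕜 V}
  (hQ : (QuadraticMap.polarBilin Q).Nondegenerate) (h6 : 6 ≤ finrank 𝕜 V)

/-- The orthogonal transvections. -/
def transv (Q : QuadraticForm 𝕜 V) : Set (orthGroup Q) := {g | ∃ a, Q a = 1 ∧ g = refl Q a}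

include hQ in
theorem refl_ne_one {a : V} (ha : Q a = 1) : refl Q a ≠ 1 := by
  intro h
  have ha0 : a ≠ 0 := by rintro rfl; simp at ha
  refine ha0 (hQ.1 a fun v => ?_)
  have := congrArg (fun g : orthGroup Q => g.1 v) h
  simp only [refl_apply' ha] at this
  change v + polar Q a v • a = v at this
  rw [add_eq_left, smul_eq_zero] at this
  exact this.resolve_right ha0

include hQ h6 in
theorem isClass : IsThreeTranspositionClass (transv Q) := by
  have hgood : Good 𝕜 V := Or.inr (by omega)
  refine ⟨⟨?_, ?_⟩, ?_, ?_⟩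
  · rintro _ ⟨a, ha, rfl⟩
    exact orderOf_eq_prime (by rw [pow_two, refl_mul_self]) (refl_ne_one hQ ha)
  · rintro _ ⟨a, ha, rfl⟩ _ ⟨b, hb, rfl⟩
    have key : ∀ x y : V, Q x = 1 → refl Q x * refl Q y * refl Q x = refl Q (y + polar Q x y • x) := by
      intro x y hx
      have := conj_refl Q (refl Q x) y
      rwa [refl_inv, refl_apply' hx] at this
    rcases zmod2 (polar Q a b) with h | h
    · refine Or.inl (RankOneMaps.sq_eq_one_of_conj (refl_mul_self Q b) ?_)
      rw [key a b ha, h, zero_smul, add_zero]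
    · refine Or.inr (RankOneMaps.cube_eq_one_of_swap (refl_mul_self Q a) (refl_mul_self Q b) ?_)
      rw [key a b ha, key b a hb, polar_comm _ b a, h, one_smul, one_smul, add_comm]
  · obtain ⟨a, ha⟩ : ∃ a, Q a = 1 := by
      by_contra hall
      push Not at hall
      have h0 : ∀ a, Q a = 0 := fun a => (zmod2 _).resolve_right (hall a)
      have : Subsingleton V := subsingleton_of_forall_eq 0 fun v => hQ.1 v fun w => by
        simp [polar, h0]
      have := finrank_zero_of_subsingleton (R := 𝕜) (M := V)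
      omega
    refine ⟨refl Q a, ⟨a, ha, rfl⟩, Set.ext fun g => ⟨?_, fun hg => ?_⟩⟩
    · rintro ⟨b, hb, rfl⟩
      have hne : ∀ x : V, Q x = 1 → x ≠ 0 := fun x hx h => by simp [h] at hx
      obtain ⟨k, hk⟩ := exists_map_eq hQ hgood (hne a ha) (hne b hb) (ha.trans hb.symm)
      show IsConj _ _
      rw [isConj_iff]
      exact ⟨k, by rw [conj_refl, hk]⟩
    · obtain ⟨k, rfl⟩ := isConj_iff.1 (hg : IsConj _ _)
      exact ⟨k.1 a, (apply_quad k a).trans ha, conj_refl Q k a⟩
  · rw [eq_top_iff, ← reflGroup_eq_top hQ hgood, reflGroup, Subgroup.closure_le]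
    rintro _ ⟨a, rfl⟩
    rcases zmod2 (Q a) with h | h
    · have : refl Q a = 1 := Subtype.ext (LinearEquiv.ext fun v => by simp [refl_apply, h])
      rw [this]; exact Subgroup.one_mem _
    · exact Subgroup.subset_closure ⟨a, h, rfl⟩

omit [FiniteDimensional 𝕜 V] in
/-- An isometry moving every vector along one line is a transvection. -/
theorem eq_refl {g : orthGroup Q} {a : V} (ha0 : a ≠ 0) {φ : V →ₗ[𝕜] 𝕜} (hφ : φ ≠ 0)
    (hQ : (QuadraticMap.polarBilin Q).Nondegenerate) (h : ∀ v, g.1 v = v + φ v • a) :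
    Q a = 1 ∧ g = refl Q a := by
  obtain ⟨v₀, hv₀⟩ : ∃ v, φ v = 1 := by
    by_contra hall
    push Not at hall
    exact hφ (LinearMap.ext fun v => (zmod2 _).resolve_right (hall v))
  have h1 : ∀ v, φ v = 1 → polar Q a v = Q a := by
    intro v hv
    have := apply_quad g v
    rw [h, hv, one_smul, quad_add', polar_comm] at this
    have e : Q a + polar Q a v = 0 := by linear_combination this
    have := congrArg (· + Q a) e
    simp only [zero_add] at this
    rw [← this]
    generalize Q a = x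
    generalize polar Q a v = y
    revert x y; decide
  have h2 : ∀ v, polar Q a v = φ v * Q a := by
    intro v
    rcases zmod2 (φ v) with hv | hv
    · have e := h1 (v + v₀) (by rw [map_add, hv, hv₀, zero_add])
      rw [polar_add_right, h1 v₀ hv₀, add_eq_right] at e
      rw [hv, zero_mul, e]
    · rw [h1 v hv, hv, one_mul]
  have hQa : Q a = 1 := by
    refine (zmod2 _).resolve_left fun h0 => ha0 (hQ.1 a fun v => ?_)
    rw [QuadraticMap.polarBilin_apply_apply, h2, h0, mul_zero]
  exact ⟨hQa, Subtype.ext (LinearEquiv.ext fun v => by rw [h, refl_apply' hQa, h2, hQa, mul_one])⟩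

theorem matrix_isClass {ι : Type} [Fintype ι] [DecidableEq ι] (Qf : (ι → 𝕜) → 𝕜)
    (Q : QuadraticForm 𝕜 (ι → 𝕜)) (hQf : ∀ v, Qf v = Q v)
    (hQ : (QuadraticMap.polarBilin Q).Nondegenerate) (h6 : 6 ≤ Fintype.card ι) :
    IsThreeTranspositionClass {g : ↥(Cfsg.isometryGroup 𝕜 Qf) |
      (((g : GL ι 𝕜) : Matrix ι ι 𝕜) - 1).rank = 1} := by
  have hclass := RankOneMaps.comap (toOrth Q hQf) (isClass hQ (by rwa [Module.finrank_pi]))
  convert hclass using 1
  ext g
  simp only [Set.mem_ofPred_eq, Set.mem_preimage, transv]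
  constructor
  · intro hr
    obtain ⟨a, ha, φ, hφ, h⟩ := RankOneMaps.exists_of_rank_one hr
    obtain ⟨h1, h2⟩ := eq_refl (g := toOrth Q hQf g) ha hφ hQ fun v => by
      rw [toOrth_apply, ← h v, Matrix.sub_mulVec, Matrix.one_mulVec]
      abel
    exact ⟨a, h1, h2⟩
  · rintro ⟨a, ha, he⟩
    have ha0 : a ≠ 0 := by rintro rfl; simp at ha
    refine RankOneMaps.rank_one_of ha0 (φ := QuadraticMap.polarBilin Q a) (fun h => ha0 (hQ.1 a fun v => by rw [h]; rfl)) fun v => ?_
    rw [Matrix.sub_mulVec, Matrix.one_mulVec, ← toOrth_apply Q hQf g v, he, refl_apply' ha,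
      QuadraticMap.polarBilin_apply_apply, add_sub_cancel_left]

end CfsgLib.Sporadic.OrthTranspositions
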