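import Cfsg.Agent.Lib.Sporadic.FiPresented
import Cfsg.Agent.Lib.Sporadic.FiUnitaryData.FiUnitaryTable
import Cfsg.Agent.Lib.Sporadic.FieldFour
import Cfsg.Prelude.Def_Classical

/-!
# The points of the unitary space: definitions of the checks
-/

set_option maxRecDepth 100000

open Cfsg.Spor Matrix

namespace CfsgLib.Sporadic.CosetCert.FiP

/-- The point of a coset, as a number. -/
noncomputable def pointOf (u : ℕ) : ℕ := FiUnitaryData.pointTab.get 10 u

/-- The row of a generator in the table on cosets. -/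
def rowU (i : ℕ) : ℕ := FiData.rowsH.getD i 0

/-- The row agrees with the word and is mapped to the small table. -/
noncomputable def genCheck (i : ℕ) : Bool :=
  allBelow (fun u => Nat.beq
      ((appWord code code (wordsH.getD i 1)).foldl (fun w x => FiData.table.img x w) u)
      (FiData.table.img (rowU i) u) &&
    Nat.beq (pointOf (FiData.table.img (rowU i) u)) (FiUnitaryData.table.img i (pointOf u))) 3510

/-- Vectors. -/
abbrev VecSix : Type := Fin 6 → FieldFour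

/-- The code of a vector. -/
def vecCode (v : VecSix) : ℕ :=
  1024 * (v 0).code + 256 * (v 1).code + 64 * (v 2).code + 16 * (v 3).code + 4 * (v 4).code + (v 5).code

/-- The vector of a code. -/
def codeVec (c : ℕ) : VecSix := fun k => FieldFour.ofCode (Fin.ofNat 4 (c / 4 ^ (5 - (k : ℕ))))

theorem code_lt : ∀ x : FieldFour, x.code < 4 ∧ FieldFour.ofCode (Fin.ofNat 4 x.code) = x := by decide

theorem codeVec_vecCode (v : VecSix) : codeVec (vecCode v) = v ∧ vecCode v < 4096 := by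
  have h0 := code_lt (v 0)
  have h1 := code_lt (v 1)
  have h2 := code_lt (v 2)
  have h3 := code_lt (v 3)
  have h4 := code_lt (v 4)
  have h5 := code_lt (v 5)
  refine ⟨funext fun k => ?_, by unfold vecCode; omega⟩
  rw [← (code_lt (v k)).2]
  unfold codeVec
  congr 1
  apply Fin.ext
  simp only [Fin.val_ofNat]
  fin_cases k <;> simp [vecCode] <;> omega

/-- The point of a vector. -/
noncomputable def vecPt (v : VecSix) : ℕ := FiUnitaryData.vecPointTab.get 10 (vecCode v)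

/-- A vector of a point. -/
noncomputable def ptVec (p : ℕ) : VecSix := codeVec (FiUnitaryData.pointVecTab.get 12 p)

/-- The nonzero scalars. -/
def units4 : List FieldFour := [1, FieldFour.ofCode 2, FieldFour.ofCode 3]

theorem mem_units4 : ∀ k : FieldFour, k ∈ units4 ↔ k ≠ 0 := by decide

/-- The facts on one vector. -/
noncomputable def vecCheck (c : ℕ) : Bool :=
  decide (vecPt (codeVec c) < 694) &&
    (units4.all fun k => decide (vecPt (k • codeVec c) = vecPt (codeVec c))) &&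
    bif decide (Cfsg.hermForm 6 FieldFour 2 (codeVec c) (codeVec c) = 0) then
      units4.any fun k => decide (k • codeVec c = ptVec (vecPt (codeVec c)))
    else decide (vecPt (codeVec c) = 693)

/-- The codes of the matrices of the generators. -/
def matListU : List (List (List (Fin 4))) :=
  [[[1, 0, 0, 0, 0, 0], [0, 1, 0, 0, 0, 0], [0, 0, 1, 0, 0, 0], [0, 0, 0, 1, 0, 0], [0, 0, 0, 0, 1, 0], [0, 0, 0, 0, 0, 1]],
    [[1, 0, 0, 0, 0, 0], [0, 1, 0, 0, 0, 0], [0, 0, 1, 0, 0, 0], [0, 0, 0, 1, 0, 0], [0, 0, 0, 0, 0, 1], [0, 0, 0, 0, 1, 0]],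
    [[1, 0, 0, 0, 0, 0], [0, 0, 0, 1, 2, 3], [0, 0, 1, 0, 0, 0], [0, 1, 0, 0, 2, 3], [0, 3, 0, 3, 0, 2], [0, 2, 0, 2, 3, 0]],
    [[1, 0, 0, 0, 0, 0], [0, 1, 0, 0, 0, 0], [0, 0, 0, 1, 0, 0], [0, 0, 1, 0, 0, 0], [0, 0, 0, 0, 1, 0], [0, 0, 0, 0, 0, 1]],
    [[1, 0, 0, 0, 0, 0], [0, 1, 0, 0, 0, 0], [0, 0, 0, 2, 2, 2], [0, 0, 3, 0, 1, 1], [0, 0, 3, 1, 0, 1], [0, 0, 3, 1, 1, 0]],
    [[1, 0, 0, 0, 0, 0], [0, 1, 0, 0, 0, 0], [0, 0, 0, 1, 1, 1], [0, 0, 1, 0, 1, 1], [0, 0, 1, 1, 0, 1], [0, 0, 1, 1, 1, 0]],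
    [[0, 1, 0, 0, 0, 0], [1, 0, 0, 0, 0, 0], [0, 0, 1, 0, 0, 0], [0, 0, 0, 1, 0, 0], [0, 0, 0, 0, 1, 0], [0, 0, 0, 0, 0, 1]],
    [[0, 2, 0, 0, 2, 2], [1, 0, 0, 0, 3, 3], [0, 0, 3, 0, 0, 0], [0, 0, 0, 3, 0, 0], [1, 3, 0, 0, 0, 3], [1, 3, 0, 0, 3, 0]],
    [[0, 1, 2, 2, 3, 3], [1, 0, 2, 2, 3, 3], [3, 3, 0, 1, 2, 2], [3, 3, 1, 0, 2, 2], [2, 2, 3, 3, 0, 1], [2, 2, 3, 3, 1, 0]]]

/-- The matrix of a generator. -/
def matU (i : ℕ) : Matrix (Fin 6) (Fin 6) FieldFour :=
  fun x y => FieldFour.ofCode (((matListU.getD i []).getD x []).getD y 0)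

/-- The matrix of a generator maps points as the table says. -/
noncomputable def modelCheck (i : ℕ) : Bool :=
  allBelow (fun p => Nat.beq (vecPt (matU i *ᵥ ptVec p)) (FiUnitaryData.table.img i p)) 694

/-- A word in the generators of the subgroup has order dividing `k`. -/
noncomputable def wordCheck (L : List ℕ) (k : ℕ) : Bool :=
  allBelow (fun u => Nat.beq
    ((List.replicate k L).flatten.foldl (fun w x => FiData.table.img (rowU x) w) u) u) 3510

end CfsgLib.Sporadic.CosetCert.FiP
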