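import Cfsg.Agent.Lib.Sporadic.FiUnitaryBase

/-!
# The points of the unitary space: the matrices of five generators
-/

set_option maxRecDepth 100000

open Cfsg.Spor Matrix

namespace CfsgLib.Sporadic.CosetCert.FiP

theorem model_gen0 : modelCheck 0 = true := by decide +kernel

theorem model_gen1 : modelCheck 1 = true := by decide +kernel

theorem model_gen2 : modelCheck 2 = true := by decide +kernel

theorem model_gen3 : modelCheck 3 = true := by decide +kernel

theorem model_gen4 : modelCheck 4 = true := by decide +kernel

end CfsgLib.Sporadic.CosetCert.FiP
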