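import Cfsg.Agent.Lib.Sporadic.FiUnitaryBase

/-!
# The points of the unitary space: the rows of the generators
-/

set_option maxRecDepth 100000

open Cfsg.Spor Matrix

namespace CfsgLib.Sporadic.CosetCert.FiP

theorem rows_gen0 : genCheck 0 = true := by decide +kernel

theorem rows_gen1 : genCheck 1 = true := by decide +kernel

theorem rows_gen2 : genCheck 2 = true := by decide +kernel

theorem rows_gen3 : genCheck 3 = true := by decide +kernel

theorem rows_gen4 : genCheck 4 = true := by decide +kernel

theorem rows_gen5 : genCheck 5 = true := by decide +kernel

theorem rows_gen6 : genCheck 6 = true := by decide +kernel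

theorem rows_gen7 : genCheck 7 = true := by decide +kernel

theorem rows_gen8 : genCheck 8 = true := by decide +kernel

end CfsgLib.Sporadic.CosetCert.FiP
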