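import Cfsg.Agent.Lib.Sporadic.FiUnitaryBase

/-!
# The points of the unitary space: one block of vectors
-/

set_option maxRecDepth 100000

open Cfsg.Spor Matrix

namespace CfsgLib.Sporadic.CosetCert.FiP

theorem vecs_okC : allBelow (fun i => vecCheck (2048 + i)) 1024 = true := by decide +kernel

end CfsgLib.Sporadic.CosetCert.FiP
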