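import Cfsg.Agent.Lib.Sporadic.FiUnitaryCheckVecA
import Cfsg.Agent.Lib.Sporadic.FiUnitaryCheckVecB
import Cfsg.Agent.Lib.Sporadic.FiUnitaryCheckVecC
import Cfsg.Agent.Lib.Sporadic.FiUnitaryCheckVecD

/-!
# The points of the unitary space: vectors and matrices
-/

set_option maxRecDepth 100000

open Cfsg.Spor Matrix

namespace CfsgLib.Sporadic.CosetCert.FiP

theorem vecs_ok : allBelow vecCheck 4096 = true := by
  have key : ∀ n, n ≤ 4096 → allBelow vecCheck n = true := by
    intro n hn
    induction n with
    | zero => rfl
    | succ n ih =>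
      show (vecCheck n && allBelow vecCheck n) = true
      rw [ih (by omega), Bool.and_true]
      rcases (show n < 1024 ∨ (1024 ≤ n ∧ n < 2048) ∨ (2048 ≤ n ∧ n < 3072) ∨ 3072 ≤ n by omega)
        with h | h | h | h
      · simpa using of_allBelow vecs_okA n h
      · simpa [show 1024 + (n - 1024) = n by omega] using of_allBelow vecs_okB (n - 1024) (by omega)
      · simpa [show 2048 + (n - 2048) = n by omega] using of_allBelow vecs_okC (n - 2048) (by omega)
      · simpa [show 3072 + (n - 3072) = n by omega] using of_allBelow vecs_okD (n - 3072) (by omega)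
  exact key 4096 le_rfl

theorem pts_ok : allBelow (fun p => Nat.beq (vecPt (ptVec p)) p) 694 = true := by decide +kernel

theorem ptVec_last : ptVec 693 = 0 ∧ vecPt (0 : VecSix) = 693 := by decide +kernel

theorem matU_det : ∀ i < 9, (matU i).det = 1 := by decide +kernel

theorem matU_herm : ∀ i < 9, ∀ j k : Fin 6,
    Cfsg.hermForm 6 FieldFour 2 (fun r => matU i r j) (fun r => matU i r k) =
      if j = k then 1 else 0 := by
  decide +kernel

end CfsgLib.Sporadic.CosetCert.FiP
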