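import Cfsg.Agent.Lib.Sporadic.FiUnitaryBase

/-!
# The points of the unitary space: words, cosets and parity
-/

set_option maxRecDepth 100000

open Cfsg.Spor Matrix

namespace CfsgLib.Sporadic.CosetCert.FiP

theorem word_ok0 : wordCheck [5, 4, 7, 8] 5 = true := by decide +kernel

theorem word_ok1 : wordCheck [7, 8] 3 = true := by decide +kernel

theorem word_ok2 : wordCheck [2, 3, 4, 8] 5 = true := by decide +kernel

theorem word_ok3 : wordCheck [0, 2, 8, 8, 0, 0, 3, 8, 0, 8] 3 = true := by decide +kernel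

theorem word_ok4 : wordCheck [4, 7, 4, 8, 2, 0, 0, 5, 6, 0, 5, 8, 0, 1] 5 = true := by decide +kernel

theorem word_ok5 : wordCheck [2, 3, 2, 7, 0, 2, 3, 3, 0, 1, 7, 3] 3 = true := by decide +kernel

theorem word_ok6 : wordCheck [2, 2, 6, 2] 3 = true := by decide +kernel

theorem word_ok7 : wordCheck [2, 3, 3, 6, 4, 0, 1, 3, 4, 5, 4, 8, 4] 5 = true := by decide +kernel

theorem word_ok8 : wordCheck [5, 1, 4, 3, 7, 6, 2] 9 = true := by decide +kernel

theorem parity_full : ∀ v : Fin 9 → ZMod 2,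
    (∀ w ∈ ([[5, 4, 7, 8], [7, 8], [2, 3, 4, 8], [0, 2, 8, 8, 0, 0, 3, 8, 0, 8], [4, 7, 4, 8, 2, 0, 0, 5, 6, 0, 5, 8, 0, 1], [2, 3, 2, 7, 0, 2, 3, 3, 0, 1, 7, 3], [2, 2, 6, 2], [2, 3, 3, 6, 4, 0, 1, 3, 4, 5, 4, 8, 4], [5, 1, 4, 3, 7, 6, 2]] : List (List ℕ)), (w.map fun x => v (Fin.ofNat 9 x)).sum = 0) → v = 0 := by
  decide +kernel

theorem pointOf_bound : allBelow (fun u => Nat.blt (pointOf u) 694) 3510 = true := by decide +kernel

theorem cosetTab_ok : allBelow (fun p => Nat.blt (FiUnitaryData.cosetTab.get 12 p) 3510 &&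
    Nat.beq (pointOf (FiUnitaryData.cosetTab.get 12 p)) p) 694 = true := by decide +kernel

end CfsgLib.Sporadic.CosetCert.FiP
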