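import Cfsg.Agent.Lib.Sporadic.FiUnitaryCheckVectors
import Cfsg.Agent.Lib.Sporadic.FiUnitaryCheckModelA
import Cfsg.Agent.Lib.Sporadic.FiUnitaryCheckModelB
import Cfsg.Agent.Lib.Sporadic.FiUnitaryCheckRows
import Cfsg.Agent.Lib.Sporadic.FiUnitaryCheckWords

/-!
# The points of the unitary space: checks
-/

set_option maxRecDepth 100000

open Cfsg.Spor Matrix

namespace CfsgLib.Sporadic.CosetCert.FiP

theorem genCheck_ok : ∀ i < 9, genCheck i = true := by
  intro i hi
  interval_cases i
  · exact rows_gen0
  · exact rows_gen1
  · exact rows_gen2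
  · exact rows_gen3
  · exact rows_gen4
  · exact rows_gen5
  · exact rows_gen6
  · exact rows_gen7
  · exact rows_gen8

theorem modelCheck_ok : ∀ i < 9, modelCheck i = true := by
  intro i hi
  interval_cases i
  · exact model_gen0
  · exact model_gen1
  · exact model_gen2
  · exact model_gen3
  · exact model_gen4
  · exact model_gen5
  · exact model_gen6
  · exact model_gen7
  · exact model_gen8

end CfsgLib.Sporadic.CosetCert.FiP
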