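import Cfsg.Agent.Lib.Sporadic.FischerTrans
import Cfsg.Agent.Lib.Sporadic.FieldFour

/-!
# Coordinates in the field with four elements on the translations

The translation group acts on each line through `x` as the translation group of that line; after
identifying these with the additive group of the field with four elements in a coherent way, all
transfer maps become multiplications.
-/

set_option autoImplicit false
set_option linter.style.haveILetI false

namespace CfsgLib.Sporadic.FischerCoord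

open CfsgLib.Sporadic.FischerTransitivity CfsgLib.Sporadic.FischerLines
open CfsgLib.Sporadic.FischerFive CfsgLib.Sporadic.FischerTrans

/-! ### Orientation of a graph with triangles -/

theorem exists_orientation {α : Type*} (P : Set α) (R par : α → α → Prop)
    (hR : ∀ a b, R a b → a ∈ P ∧ b ∈ P ∧ R b a)
    (hpar : ∀ a b, R a b → (par a b ↔ par b a))
    (tri : ∀ a r s, R a r → R r s → R a s → (par a s ↔ (par a r ↔ par r s)))
    (diam : ∀ a ∈ P, ∀ b ∈ P, ¬ R a b → ∃ c, R a c ∧ R c b)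
    (third : ∀ r s, R r s → ∃ t, ∀ q ∈ P, (R q r ∧ ¬ R q s ∨ ¬ R q r ∧ R q s) → R q t)
    (irr : ∀ a, ¬ R a a) :
    ∃ o : α → Prop, ∀ a b, R a b → (par a b ↔ (o a ↔ o b)) := by
  by_cases hP : ∃ a, a ∈ P
  swap
  · exact ⟨fun _ => True, fun a b hab => absurd ⟨a, (hR a b hab).1⟩ hP⟩
  obtain ⟨a₀, ha₀⟩ := hP
  have sym : ∀ {a b}, R a b → R b a := fun h => (hR _ _ h).2.2
  have memL : ∀ {a b}, R a b → a ∈ P := fun h => (hR _ _ h).1
  have shift : ∀ {r s q₁ q₂ : α}, R r s → (R q₁ r ∧ ¬ R q₁ s ∨ ¬ R q₁ r ∧ R q₁ s) → q₁ ∈ P →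
      (R q₂ r ∧ ¬ R q₂ s ∨ ¬ R q₂ r ∧ R q₂ s) → q₂ ∈ P →
      ∃ t, R q₁ t ∧ R q₂ t ∧ R r t ∧ R s t := by
    intro r s q₁ q₂ hrs h1 m1 h2 m2
    obtain ⟨t, ht⟩ := third r s hrs
    exact ⟨t, ht q₁ m1 h1, ht q₂ m2 h2, ht r (memL hrs) (Or.inr ⟨irr r, hrs⟩),
      ht s (memL (sym hrs)) (Or.inl ⟨sym hrs, irr s⟩)⟩
  let o : α → Prop := fun a => ∃ r, R a₀ r ∧ R r a ∧ (par a₀ r ↔ par r a)
  have val : ∀ {a r}, R a₀ r → R r a → (o a ↔ (par a₀ r ↔ par r a)) := by
    intro a r h1 h2
    refine ⟨?_, fun h => ⟨r, h1, h2, h⟩⟩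
    rintro ⟨r', h1', h2', h'⟩
    by_cases hadj : R a₀ a
    · exact (tri a₀ r a h1 h2 hadj).1 ((tri a₀ r' a h1' h2' hadj).2 h')
    by_cases hrr : R r r'
    · have e1 := tri a₀ r r' h1 hrr h1'
      have e2 := tri r r' a hrr h2' h2
      tauto
    obtain ⟨t, t1, t2, t3, t4⟩ := shift h2 (Or.inl ⟨h1, hadj⟩) (memL h1)
      (Or.inr ⟨fun hc => hrr (sym hc), h2'⟩) (memL h2')
    have e1 := tri a₀ r t h1 t3 t1
    have e2 := tri r t a t3 (sym t4) h2
    have e3 := tri a₀ r' t h1' t2 t1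
    have e4 := tri r' t a t2 (sym t4) h2'
    tauto
  have adj : ∀ {a}, R a₀ a → (o a ↔ par a₀ a) := by
    intro a ha
    obtain ⟨t, ht⟩ := third a₀ a ha
    have h1 := ht a₀ ha₀ (Or.inr ⟨irr a₀, ha⟩)
    have h2 := ht a (memL (sym ha)) (Or.inl ⟨sym ha, irr a⟩)
    exact (val h1 (sym h2)).trans (tri a₀ t a h1 (sym h2) ha).symm
  have base : o a₀ := by
    obtain ⟨c, h1, h2⟩ := diam a₀ ha₀ a₀ ha₀ (irr a₀)
    exact ⟨c, h1, h2, hpar a₀ c h1⟩
  refine ⟨o, fun a b hab => ?_⟩
  by_cases ha : R a₀ a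
  · by_cases hb : R a₀ b
    · have e := tri a₀ a b ha hab hb
      rw [adj ha, adj hb]; tauto
    · rw [adj ha, val ha hab]; tauto
  by_cases hb : R a₀ b
  · rw [adj hb, val hb (sym hab), hpar a b hab]; tauto
  obtain ⟨r, h1, h2⟩ := diam a₀ ha₀ a (memL hab) ha
  by_cases hrb : R r b
  · have e := tri r a b h2 hab hrb
    rw [val h1 h2, val h1 hrb]; tauto
  obtain ⟨t, t1, t2, t3, t4⟩ := shift h2 (Or.inl ⟨h1, ha⟩) ha₀
    (Or.inr ⟨fun hc => hrb (sym hc), sym hab⟩) (memL (sym hab))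
  have e := tri t a b (sym t4) hab (sym t2)
  rw [val t1 (sym t4), val t1 (sym t2)]; tauto

/-! ### Additive maps of the field with four elements -/

/-- The conjugation. -/
def conjF : FieldFour →+* FieldFour where
  toFun y := y * y
  map_one' := by decide
  map_mul' := by decide
  map_zero' := by decide
  map_add' := by decide

theorem conjF_apply (y : FieldFour) : conjF y = y * y := rfl

theorem conjF_conjF (y : FieldFour) : conjF (conjF y) = y := by revert y; decide

theorem add_self' (y : FieldFour) : y + y = 0 := by revert y; decide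

theorem mul_conjF (y : FieldFour) (hy : y ≠ 0) : y * conjF y = 1 := by revert y; decide

/-- The linear maps. -/
def IsLin (f : FieldFour → FieldFour) : Prop := ∀ y, f y = f 1 * y

/-- The semilinear maps. -/
def IsSemi (f : FieldFour → FieldFour) : Prop := ∀ y, f y = f 1 * (y * y)

theorem apply_eq {f : FieldFour → FieldFour} (hadd : ∀ y w, f (y + w) = f y + f w) (y : FieldFour) :
    f y = (if y.re = 0 then 0 else f ⟨1, 0⟩) + if y.im = 0 then 0 else f ⟨0, 1⟩ := by
  have h0 : f 0 = 0 := by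
    have e := hadd 0 0
    rw [add_zero] at e
    exact e.trans (add_self' _)
  rcases y with ⟨a, b⟩
  rcases (show a = 0 ∨ a = 1 by revert a; decide) with rfl | rfl <;>
    rcases (show b = 0 ∨ b = 1 by revert b; decide) with rfl | rfl
  · simp only [if_true, add_zero]
    exact h0
  · simp
  · simp
  · simp only [show ¬ (1 : ZMod 2) = 0 by decide, if_false]
    rw [show (⟨1, 1⟩ : FieldFour) = ⟨1, 0⟩ + ⟨0, 1⟩ by decide, hadd]

theorem lin_or_semi {f : FieldFour → FieldFour} (hadd : ∀ y w, f (y + w) = f y + f w)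
    (hinj : Function.Injective f) : f 1 ≠ 0 ∧ (IsLin f ∨ IsSemi f) := by
  have key : ∀ p q : FieldFour, p ≠ q → p ≠ 0 → q ≠ 0 →
      (∀ y : FieldFour, ((if y.re = 0 then 0 else p) + if y.im = 0 then 0 else q) = p * y) ∨
      (∀ y : FieldFour, ((if y.re = 0 then 0 else p) + if y.im = 0 then 0 else q) = p * (y * y)) := by
    decide
  have h0 : f 0 = 0 := by
    have e := hadd 0 0
    rw [add_zero] at e
    exact e.trans (add_self' _)
  have ne0 : ∀ y, y ≠ 0 → f y ≠ 0 := fun y hy e => hy (hinj (e.trans h0.symm))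
  refine ⟨ne0 1 (by decide), (key (f ⟨1, 0⟩) (f ⟨0, 1⟩) (fun e => absurd (hinj e) (by decide))
    (ne0 _ (by decide)) (ne0 _ (by decide))).imp (fun h y => ?_) fun h y => ?_⟩ <;>
  exact (apply_eq hadd y).trans (h y)

theorem semi_iff {f : FieldFour → FieldFour} (hadd : ∀ y w, f (y + w) = f y + f w)
    (hinj : Function.Injective f) : IsSemi f ↔ ¬ IsLin f := by
  obtain ⟨h1, h2⟩ := lin_or_semi hadd hinj
  refine ⟨fun hs hl => ?_, fun hl => h2.resolve_left hl⟩
  have e := (hl ⟨0, 1⟩).symm.trans (hs ⟨0, 1⟩)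
  exact absurd (mul_left_cancel₀ h1 e) (by decide)

/-- Linear and semilinear maps differ by a map with a kernel of order two. -/
theorem mixed (c d : FieldFour) (hc : c ≠ 0) (hd : d ≠ 0) :
    (∃ y, y ≠ 0 ∧ c * y + d * (y * y) = 0) ∧ ∃ y, c * y + d * (y * y) ≠ 0 := by
  revert c d; decide

/-! ### Translations of lines -/

variable {G : Type*} [Group G]

/-- The translation of the line through `x, a` moving `a` as `g` does. -/
noncomputable def tr (x a g : G) : G :=
  haveI := _root_.Classical.propDecidable (g * a * g⁻¹ = a)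
  if g * a * g⁻¹ = a then 1 else x * a * (g * a * g⁻¹)

variable {D : Set G} {x z : G} [Finite G] (F : Frame D x z)

include F

theorem xa_sq {a : G} (ha : a ∈ Cm D x z) : x * a * (x * a) = 1 := by
  have hG := F.thick.grp
  rw [mul_assoc, ← mul_assoc a x a, ← ha.1.2.2.eq, mul_assoc x a a, sq hG ha.1.1, mul_one,
    sq hG F.hx]

theorem cm_cj {a r : G} (ha : a ∈ Cm D x z) (hr : r ∈ Cm D x z) : cj a r ∈ Cm D x z := by
  have hG := F.thick.grp
  have h1 : Commute (cj a r) x := (commute_cj' hG ha.1.1 ha.1.2.2.symm r).2 hr.1.2.2.symm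
  have h2 : Commute (cj a r) z := (commute_cj' hG ha.2.1 ha.2.2.2.symm r).2 hr.2.2.2.symm
  have hD : cj a r ∈ D := cj_mem hG ha.1.1 hr.1.1
  exact ⟨⟨hD, fun e => F.hn (e ▸ h2), h1.symm⟩, hD, fun e => F.hn (e ▸ h1).symm, h2.symm⟩

theorem tr_mem {a g : G} (ha : a ∈ Cm D x z) (hg : g ∈ Qg D x z) : tr x a g ∈ Kl D x a := by
  unfold tr
  split_ifs with h
  · exact Or.inl rfl
  · exact Or.inr ⟨_, (conj_nb F hg ha.1).1, (conj_nb F hg ha.1).2, h, rfl⟩

theorem tr_eq_one_iff {a g : G} (ha : a ∈ Cm D x z) (hg : g ∈ Qg D x z) :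
    tr x a g = 1 ↔ g * a * g⁻¹ = a := by
  have hG := F.thick.grp
  unfold tr
  split_ifs with h
  · exact iff_of_true rfl h
  · refine iff_of_false (fun e => ?_) h
    obtain ⟨h1, h2⟩ := conj_nb F hg ha.1
    refine mul_ne F.thick F.hx ha.1 (self_mem_ln F.hx) (right_mem_ln ha.1) h1 ha.1.2.1.symm
      h2.symm ?_
    rw [eq_inv_of_mul_eq_one_left e, inv_eq hG h1.1]

/-- The point to which a translation moves `a`. -/
theorem conj_eq {a g : G} (ha : a ∈ Cm D x z) :
    (tr x a g = 1 → g * a * g⁻¹ = a ∨ g * a * g⁻¹ = x * a) ∧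
      (g * a * g⁻¹ ≠ a → g * a * g⁻¹ = x * a * tr x a g) := by
  unfold tr
  split_ifs with h
  · exact ⟨fun _ => Or.inl h, fun h' => absurd h h'⟩
  · refine ⟨fun e => Or.inr ?_, fun _ => ?_⟩
    · rw [eq_inv_of_mul_eq_one_right e, inv_eq_of_mul_eq_one_right (xa_sq F ha)]
    · rw [← mul_assoc, xa_sq F ha, one_mul]

theorem tr_congr {a g k : G} (ha : a ∈ Cm D x z) (hg : g ∈ Qg D x z) (hk : k ∈ Qg D x z)
    (e : tr x a g = tr x a k) : g * a * g⁻¹ = k * a * k⁻¹ := by
  by_cases h : g * a * g⁻¹ = a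
  · rw [h, (tr_eq_one_iff F ha hk).1 (e ▸ (tr_eq_one_iff F ha hg).2 h)]
  · have h' : k * a * k⁻¹ ≠ a := fun e' =>
      h ((tr_eq_one_iff F ha hg).1 (e.trans ((tr_eq_one_iff F ha hk).2 e')))
    rw [(conj_eq F ha).2 h, (conj_eq F ha).2 h', e]

theorem eq_of_or {a t t' : G} (ha : a ∈ Nb D x) (ht : t ∈ Kl D x a) (ht' : t' ∈ Kl D x a)
    (h : t = t' ∨ t = x * t') : t = t' := h.resolve_right fun e => by
  refine x_notMem_kl F ha ?_
  have : x = t * t' := by rw [e, mul_assoc, kl_sq F ha ht', mul_one]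
  exact this ▸ kl_mul F ha ht ht'

theorem shift_cases {a g : G} (ha : a ∈ Cm D x z) :
    a * (g * a * g⁻¹) = tr x a g ∨ a * (g * a * g⁻¹) = x * tr x a g := by
  have hG := F.thick.grp
  unfold tr
  split_ifs with h
  · exact Or.inl (by rw [h, sq hG ha.1.1])
  · exact Or.inr (by rw [mul_assoc x a, ← mul_assoc x x, sq hG F.hx, one_mul])

theorem tr_mul {a g k : G} (ha : a ∈ Cm D x z) (hg : g ∈ Qg D x z) (hk : k ∈ Qg D x z) :
    tr x a (g * k) = tr x a g * tr x a k := by
  have hG := F.thick.grp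
  have hxx : x * x = 1 := sq hG F.hx
  refine eq_of_or F ha.1 (tr_mem F ha (mul_mem hg hk))
    (kl_mul F ha.1 (tr_mem F ha hg) (tr_mem F ha hk)) ?_
  have e : a * (g * k * a * (g * k)⁻¹) =
      a * (g * a * g⁻¹) * (g * (a * (k * a * k⁻¹)) * g⁻¹) := by
    calc a * (g * k * a * (g * k)⁻¹) = a * (g * (k * a * k⁻¹) * g⁻¹) := by group
      _ = a * (g * ((a * a) * (k * a * k⁻¹)) * g⁻¹) := by rw [sq hG ha.1.1, one_mul]
      _ = _ := by group
  have hxg : g * x * g⁻¹ = x := by
    rw [← (commute_x F hg).eq, mul_assoc, mul_inv_cancel, mul_one]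
  have hxt := kl_commute F ha.1 (self_mem_ln F.hx) (tr_mem F ha hg)
  have hxt' := kl_commute F ha.1 (self_mem_ln F.hx) (tr_mem F ha hk)
  have hcase : g * (a * (k * a * k⁻¹)) * g⁻¹ = tr x a k ∨
      g * (a * (k * a * k⁻¹)) * g⁻¹ = x * tr x a k := by
    rcases shift_cases F (g := k) ha with h1 | h1 <;> rw [h1] <;>
      rcases kl_comm_Q F ha (tr_mem F ha hk) hg with h2 | h2
    · exact Or.inl h2
    · exact Or.inr (h2.trans hxt'.eq.symm)
    all_goals rw [show g * (x * tr x a k) * g⁻¹ = g * x * g⁻¹ * (g * tr x a k * g⁻¹) by group,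
      hxg, h2]
    · exact Or.inr rfl
    · exact Or.inl (by rw [← hxt'.eq, ← mul_assoc, hxx, one_mul])
  have hprod : a * (g * k * a * (g * k)⁻¹) = tr x a g * tr x a k ∨
      a * (g * k * a * (g * k)⁻¹) = x * (tr x a g * tr x a k) := by
    rw [e]
    rcases shift_cases F (g := g) ha with h1 | h1 <;> rw [h1] <;> rcases hcase with h2 | h2 <;> rw [h2]
    · exact Or.inl rfl
    · exact Or.inr (hxt.left_comm _).symm
    · exact Or.inr (mul_assoc _ _ _)
    · refine Or.inl ?_
      rw [mul_assoc, ← hxt.left_comm, ← mul_assoc, hxx, one_mul]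
  rcases shift_cases F (g := g * k) ha with h1 | h1 <;> rcases hprod with h2 | h2 <;>
    rw [h1] at h2
  · exact Or.inl h2
  · exact Or.inr h2
  · exact Or.inr (by rw [← h2, ← mul_assoc, hxx, one_mul])
  · exact Or.inl (mul_left_cancel h2)

theorem tr_one {a : G} (ha : a ∈ Cm D x z) : tr x a 1 = 1 :=
  (tr_eq_one_iff F ha (one_mem _)).2 (by simp)

theorem tr_x {a : G} (ha : a ∈ Cm D x z) : tr x a x = 1 :=
  (tr_eq_one_iff F ha (x_mem F)).2 (by rw [ha.1.2.2.eq, mul_inv_cancel_right])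

theorem tr_of_commute {a r l : G} (ha : a ∈ Cm D x z) (hr : r ∈ Cm D x z) (hc : Commute a r)
    (hl : l ∈ Kl D x r) : tr x a l = 1 := by
  refine (tr_eq_one_iff F ha (kl_le hr hl)).2 ?_
  rcases hl with rfl | ⟨b, hb, -, -, rfl⟩
  · simp
  have hba : Commute b a := commute_all F.thick.grp F.thick F.hx hr.1 (self_mem_ln F.hx)
    (right_mem_ln hr.1) hr.1.2.1.symm ha.1.1 ha.1.2.2 hc.symm hb
  have : Commute (x * r * b) a := (ha.1.2.2.mul_left hc.symm).mul_left hba
  rw [this.eq, mul_inv_cancel_right]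

theorem eq_one_of_tr {a r l : G} (ha : a ∈ Cm D x z) (hr : r ∈ Cm D x z) (hn : ¬ Commute a r)
    (hl : l ∈ Kl D x r) (e : tr x a l = 1) : l = 1 := by
  by_contra h1
  exact (kl_move F hr.1 hl ha.1).2.2 h1 (fun hc => hn hc.symm)
    ((tr_eq_one_iff F ha (kl_le hr hl)).1 e)

/-- The two transfers between the translations of two non-commuting lines are inverse. -/
theorem tr_tr {a r l : G} (ha : a ∈ Cm D x z) (hr : r ∈ Cm D x z) (hn : ¬ Commute a r)
    (hl : l ∈ Kl D x a) : tr x a (tr x r l) = l := by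
  have hG := F.thick.grp
  rcases hl with rfl | ⟨b, hb, hbx, hba, rfl⟩
  · rw [tr_one F hr, tr_one F ha]
  have hlQ : x * a * b ∈ Qg D x z := kl_le ha (Or.inr ⟨b, hb, hbx, hba, rfl⟩)
  obtain ⟨e1, h1, h2⟩ := conj_kl F ha.1 hb hbx hr.1 hn
  have hbr : ¬ Commute b r := not_commute_of_ln hG F.thick F.hx ha.1 hr.1 hn hb hbx
  have hne : x * a * b * r * (x * a * b)⁻¹ ≠ r := fun e => hba (by
    rw [e1] at e
    have e2 : cj b r = cj a r := by conv_rhs => rw [← e, cj_cj hG ha.1.1]
    rw [cj_comm hG hb.1 hr.1.1 hbr, cj_comm hG ha.1.1 hr.1.1 hn] at e2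
    exact cj_inj hG hr.1.1 e2)
  have hval : tr x r (x * a * b) = x * r * cj a (cj b r) := by
    unfold tr
    rw [if_neg hne, e1]
  have hrn : ¬ Commute (cj a (cj b r)) a := not_commute_of_ln hG F.thick F.hx hr.1 ha.1
    (fun e => hn e.symm) h1 h2
  obtain ⟨e2, -, -⟩ := conj_kl F hr.1 h1 h2 ha.1 (fun e => hn e.symm)
  have e3 : x * r * cj a (cj b r) * a * (x * r * cj a (cj b r))⁻¹ = b := by
    rw [e2, cj_comm hG h1.1 ha.1.1 hrn, cj_cj hG ha.1.1, cj_comm hG hb.1 hr.1.1 hbr,
      cj_cj hG hr.1.1]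
  rw [hval]
  unfold tr
  rw [e3, if_neg hba]

theorem conj_mem {a g : G} (ha : a ∈ Cm D x z) (hg : g ∈ Qg D x z) :
    a * g * a⁻¹ ∈ Qg D x z ∧
      ∀ r ∈ Cm D x z, tr x r (a * g * a⁻¹) = tr x r (tr x a g) * tr x r g := by
  have hG := F.thick.grp
  have e : a * g * a⁻¹ = a * (g * a * g⁻¹) * g := by rw [inv_eq hG ha.1.1]; group
  have htQ := kl_le ha (tr_mem F ha hg)
  rcases shift_cases F (g := g) ha with h1 | h1 <;> rw [e, h1]
  · exact ⟨mul_mem htQ hg, fun r hr => tr_mul F hr htQ hg⟩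
  · refine ⟨mul_mem (mul_mem (x_mem F) htQ) hg, fun r hr => ?_⟩
    rw [tr_mul F hr (mul_mem (x_mem F) htQ) hg, tr_mul F hr (x_mem F) htQ, tr_x F hr, one_mul]

theorem line_mul_comm {o g k : G} (ho : o ∈ Cm D x z) (hg : g ∈ Qg D x z) (hk : k ∈ Qg D x z) :
    tr x o g * tr x o k = tr x o k * tr x o g := by
  have h1 := kl_sq F ho.1 (kl_mul F ho.1 (tr_mem F ho hg) (tr_mem F ho hk))
  have h2 := kl_sq F ho.1 (tr_mem F ho hg)
  have h3 := kl_sq F ho.1 (tr_mem F ho hk)
  rw [eq_inv_of_mul_eq_one_left h1, mul_inv_rev, inv_eq_of_mul_eq_one_right h2,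
    inv_eq_of_mul_eq_one_right h3]

/-- The coordinate at the third point of a non-commuting pair. -/
theorem tr_third {a r g : G} (ha : a ∈ Cm D x z) (hr : r ∈ Cm D x z) (hn : ¬ Commute a r)
    (hg : g ∈ Qg D x z) :
    tr x (cj a r) g = tr x (cj a r) (tr x r g) * tr x (cj a r) (tr x r (tr x a g)) := by
  have hG := F.thick.grp
  have ho := cm_cj F ha hr
  have hax : cj a x = x := fix_nb hG ha.1
  have hro : ¬ Commute r (cj a r) := fun hc => hn (by
    rw [cj_comm hG ha.1.1 hr.1.1 hn, commute_swap hG hr.1.1, cj_self hG hr.1.1] at hc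
    exact hc.symm)
  have k1 : ∀ l ∈ Kl D x r, cj a l = tr x (cj a r) l := by
    rintro l (rfl | ⟨s, hs, hsx, hsr, rfl⟩)
    · rw [tr_one F ho, cj, mul_one, sq hG ha.1.1]
    obtain ⟨e1, h1, h2⟩ := conj_kl F hr.1 hs hsx ho.1 hro
    have hrs : Commute r s := line_commute F hr.1 (right_mem_ln hr.1) hs
    have e4 : cj r (cj s (cj a r)) = cj a s := by
      have has : ¬ Commute s a :=
        not_commute_of_ln hG F.thick F.hx hr.1 ha.1 (fun e => hn e.symm) hs hsx
      have e5 : ∀ w, cj s (cj r w) = cj r (cj s w) := fun w => by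
        simp only [cj, ← mul_assoc, hrs.eq]
        simp only [mul_assoc, hrs.eq]
      rw [cj_comm hG ha.1.1 hr.1.1 hn, e5, cj_cj hG hr.1.1, cj_comm hG hs.1 ha.1.1 has]
    have hne : x * r * s * cj a r * (x * r * s)⁻¹ ≠ cj a r := fun e => hsr (by
      rw [e1, e4] at e
      exact cj_inj hG ha.1.1 e)
    have hmul : ∀ u v, cj a (u * v) = cj a u * cj a v := fun u v => by
      simp only [cj_conj hG ha.1.1]; group
    unfold tr
    rw [if_neg hne, e1, e4, hmul, hmul, hax]
  obtain ⟨hq, htr⟩ := conj_mem F ha hg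
  have e6 : g * cj a r * g⁻¹ = cj a (a * g * a⁻¹ * r * (a * g * a⁻¹)⁻¹) := by
    simp only [cj, mul_inv_rev, inv_eq hG ha.1.1, ← mul_assoc, sq hG ha.1.1, one_mul]
    simp only [mul_assoc, sq hG ha.1.1, mul_one]
  have e7 : tr x (cj a r) g = cj a (tr x r (a * g * a⁻¹)) := by
    by_cases h : a * g * a⁻¹ * r * (a * g * a⁻¹)⁻¹ = r
    · rw [(tr_eq_one_iff F hr hq).2 h, (tr_eq_one_iff F ho hg).2 (by rw [e6, h]), cj, mul_one,
        sq hG ha.1.1]
    · have hmul : ∀ u v, cj a (u * v) = cj a u * cj a v := fun u v => by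
        simp only [cj_conj hG ha.1.1]; group
      have h' : g * cj a r * g⁻¹ ≠ cj a r := fun e => h (cj_inj hG ha.1.1 (e6.symm.trans e))
      unfold tr
      rw [if_neg h, if_neg h', e6]
      conv_rhs => rw [hmul, hmul, hax]
  have hK := tr_mem F hr (kl_le ha (tr_mem F ha hg))
  rw [e7, k1 _ (tr_mem F hr hq), htr r hr, tr_mul F ho (kl_le hr hK) (kl_le hr (tr_mem F hr hg))]
  exact line_mul_comm F ho (kl_le hr hK) (kl_le hr (tr_mem F hr hg))

/-! ### Coordinates -/

/-- Identifications of the translations of all lines with the additive group of the field. -/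
structure IsChart (D : Set G) (x z : G) (e : G → FieldFour → G) : Prop where
  mem : ∀ a ∈ Cm D x z, ∀ y, e a y ∈ Kl D x a
  add : ∀ a ∈ Cm D x z, ∀ y w, e a (y + w) = e a y * e a w
  inj : ∀ a ∈ Cm D x z, Function.Injective (e a)
  surj : ∀ a ∈ Cm D x z, ∀ l ∈ Kl D x a, ∃ y, e a y = l

theorem exists_chart_at {a : G} (ha : a ∈ Cm D x z) :
    ∃ e : FieldFour → G, (∀ y, e y ∈ Kl D x a) ∧ (∀ y w, e (y + w) = e y * e w) ∧
      Function.Injective e ∧ ∀ l ∈ Kl D x a, ∃ y, e y = l := by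
  have hG := F.thick.grp
  obtain ⟨b, hb, hbx, hba⟩ := exists_third hG F.thick F.hx ha.1
  obtain ⟨c, hc, hc'⟩ := Set.exists_mem_notMem_of_ncard_lt_ncard
    (show ({x, a, b} : Set G).ncard < (Ln D x a).ncard by
      rw [F.five x F.hx a ha.1]
      exact lt_of_le_of_lt ((Set.ncard_insert_le _ _).trans (Nat.succ_le_succ
        ((Set.ncard_insert_le _ _).trans (Nat.succ_le_succ (Set.ncard_singleton b).le))))
        (by norm_num))
  simp only [Set.mem_insert_iff, Set.mem_singleton_iff, not_or] at hc'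
  obtain ⟨hcx, hca, hcb⟩ := hc'
  have h1 : x * a * b ∈ Kl D x a := Or.inr ⟨b, hb, hbx, hba, rfl⟩
  have h2 : x * a * c ∈ Kl D x a := Or.inr ⟨c, hc, hcx, hca, rfl⟩
  have n1 : ∀ {d}, d ∈ Ln D x a → d ≠ x → x * a * d ≠ 1 := fun hd hdx e =>
    mul_ne F.thick F.hx ha.1 (self_mem_ln F.hx) (right_mem_ln ha.1) hd ha.1.2.1.symm hdx.symm
      (by rw [eq_inv_of_mul_eq_one_left e, inv_eq hG hd.1])
  have n2 : x * a * b ≠ x * a * c := fun e => hcb (mul_left_cancel e).symm
  set p := x * a * b with hp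
  set q := x * a * c with hq
  have pp := kl_sq F ha.1 h1
  have qq := kl_sq F ha.1 h2
  have h3 := kl_mul F ha.1 h1 h2
  have pq3 := kl_sq F ha.1 h3
  have qp : q * p = p * q := by
    rw [eq_inv_of_mul_eq_one_left pq3, mul_inv_rev, inv_eq_of_mul_eq_one_right pp,
      inv_eq_of_mul_eq_one_right qq]
  let f : ZMod 2 → G → G := fun i g => if i = 0 then 1 else g
  let e : FieldFour → G := fun y => f y.re p * f y.im q
  have hf : ∀ (i j : ZMod 2) (g : G), g * g = 1 → f (i + j) g = f i g * f j g := by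
    intro i j g hg
    rcases (show i = 0 ∨ i = 1 by revert i; decide) with rfl | rfl <;>
      rcases (show j = 0 ∨ j = 1 by revert j; decide) with rfl | rfl
    · simp [f]
    · simp [f]
    · simp [f]
    · rw [show (1 : ZMod 2) + 1 = 0 by decide]; simp [f, hg]
  have hfc : ∀ i j, Commute (f i p) (f j q) := by
    intro i j
    simp only [f]
    split_ifs <;> first | exact Commute.one_left _ | exact Commute.one_right _ | exact qp.symm
  have hmem : ∀ y, e y ∈ Kl D x a := fun y => by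
    refine kl_mul F ha.1 ?_ ?_ <;> simp only [f] <;> split_ifs <;>
      first | exact Or.inl rfl | assumption
  have hadd : ∀ y w, e (y + w) = e y * e w := fun y w => by
    show f (y.re + w.re) p * f (y.im + w.im) q = _
    rw [hf _ _ p pp, hf _ _ q qq]
    exact (hfc w.re y.im).mul_mul_mul_comm _ _
  have hinj : Function.Injective e := by
    intro y w hyw
    have h0 : e (y + w) = 1 := by
      rw [hadd, hyw]; exact kl_sq F ha.1 (hmem w)
    have key : ∀ v : FieldFour, e v = 1 → v = 0 := by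
      rintro ⟨i, j⟩ hv
      rcases (show ∀ i : ZMod 2, i = 0 ∨ i = 1 by decide) i with rfl | rfl <;>
        rcases (show ∀ i : ZMod 2, i = 0 ∨ i = 1 by decide) j with rfl | rfl <;>
        simp [e, f] at hv
      · rfl
      · exact absurd hv (n1 hc hcx)
      · exact absurd hv (n1 hb hbx)
      · exact absurd ((eq_inv_of_mul_eq_one_left hv).trans (inv_eq_of_mul_eq_one_right qq)) n2
    have := key _ h0
    calc y = y + (w + w) := by rw [add_self', add_zero]
      _ = w := by rw [← add_assoc, this, zero_add]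
  refine ⟨e, hmem, hadd, hinj, fun l hl => ?_⟩
  rcases hl with rfl | ⟨d, hd, hdx, hda, rfl⟩
  · exact ⟨0, by simp [e, f, show (0 : FieldFour).re = 0 from rfl, show (0 : FieldFour).im = 0 from rfl]⟩
  rw [line_list F ha.1 hb hc hbx hcx hba hca (Ne.symm hcb)] at hd
  rcases hd with rfl | rfl | rfl | rfl | rfl
  · exact absurd rfl hdx
  · exact absurd rfl hda
  · exact ⟨⟨1, 0⟩, by simp [e, f, hp]⟩
  · exact ⟨⟨0, 1⟩, by simp [e, f, hq]⟩
  · refine ⟨⟨1, 1⟩, ?_⟩
    have hb' : Commute (x * a) b := (line_commute F ha.1 (self_mem_ln F.hx) hb).mul_left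
      (line_commute F ha.1 (right_mem_ln ha.1) hb)
    simp only [e, f, if_neg (show ¬ (1 : ZMod 2) = 0 by decide)]
    rw [hp, hq, mul_assoc (x * a) b (x * a * c), ← mul_assoc b (x * a) c, ← hb'.eq]

theorem exists_chart : ∃ e : G → FieldFour → G, IsChart D x z e := by
  classical
  choose! e h1 h2 h3 h4 using fun a (ha : a ∈ Cm D x z) => exists_chart_at F ha
  exact ⟨e, h1, h2, h3, h4⟩

/-- The coordinate of `g` at `a`. -/
noncomputable def co (x : G) (e : G → FieldFour → G) (a g : G) : FieldFour :=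
  Function.invFun (e a) (tr x a g)

theorem e_co {e : G → FieldFour → G} (C : IsChart D x z e) {a g : G} (ha : a ∈ Cm D x z)
    (hg : g ∈ Qg D x z) : e a (co x e a g) = tr x a g :=
  Function.invFun_eq (C.surj a ha _ (tr_mem F ha hg))

theorem e_zero {e : G → FieldFour → G} (C : IsChart D x z e) {a : G} (ha : a ∈ Cm D x z) :
    e a 0 = 1 := by
  have := C.add a ha 0 0
  rw [add_zero] at this
  exact left_eq_mul.1 this

theorem co_mul {e : G → FieldFour → G} (C : IsChart D x z e) {a g k : G} (ha : a ∈ Cm D x z)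
    (hg : g ∈ Qg D x z) (hk : k ∈ Qg D x z) :
    co x e a (g * k) = co x e a g + co x e a k := C.inj a ha (by
  rw [C.add a ha, e_co F C ha hg, e_co F C ha hk, e_co F C ha (mul_mem hg hk),
    tr_mul F ha hg hk])

theorem co_eq_zero {e : G → FieldFour → G} (C : IsChart D x z e) {a g : G} (ha : a ∈ Cm D x z)
    (hg : g ∈ Qg D x z) : co x e a g = 0 ↔ g * a * g⁻¹ = a := by
  rw [← tr_eq_one_iff F ha hg, ← e_co F C ha hg, ← e_zero F C ha, (C.inj a ha).eq_iff]

theorem co_third {e : G → FieldFour → G} (C : IsChart D x z e) {a r g : G} (ha : a ∈ Cm D x z)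
    (hr : r ∈ Cm D x z) (hn : ¬ Commute a r) (hg : g ∈ Qg D x z) :
    co x e (cj a r) g =
      co x e (cj a r) (e r (co x e r g + co x e r (e a (co x e a g)))) := by
  have ho := cm_cj F ha hr
  have h1 := kl_le ha (C.mem a ha (co x e a g))
  apply C.inj _ ho
  rw [e_co F C ho hg, e_co F C ho (kl_le hr (C.mem r hr _)), C.add r hr, e_co F C hr hg,
    e_co F C hr h1, e_co F C ha hg,
    tr_mul F ho (kl_le hr (tr_mem F hr hg)) (kl_le hr (tr_mem F hr (kl_le ha (tr_mem F ha hg)))),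
    tr_third F ha hr hn hg]

theorem transfer_inj {e : G → FieldFour → G} (C : IsChart D x z e) {a r : G} (ha : a ∈ Cm D x z)
    (hr : r ∈ Cm D x z) (hn : ¬ Commute a r) : Function.Injective fun y => co x e a (e r y) := by
  intro y w h
  simp only at h
  apply C.inj r hr
  have hy := C.mem r hr y
  have hw := C.mem r hr w
  have h2 : tr x a (e r y * e r w) = 1 := by
    rw [tr_mul F ha (kl_le hr hy) (kl_le hr hw), ← e_co F C ha (kl_le hr hy),
      ← e_co F C ha (kl_le hr hw), h, kl_sq F ha.1 (C.mem a ha _)]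
  rw [eq_inv_of_mul_eq_one_left (eq_one_of_tr F ha hr hn (kl_mul F hr.1 hy hw) h2),
    inv_eq_of_mul_eq_one_right (kl_sq F hr.1 hw)]

theorem transfer_add {e : G → FieldFour → G} (C : IsChart D x z e) {a r : G} (ha : a ∈ Cm D x z)
    (hr : r ∈ Cm D x z) (y w : FieldFour) :
    co x e a (e r (y + w)) = co x e a (e r y) + co x e a (e r w) := by
  rw [C.add r hr, co_mul F C ha (kl_le hr (C.mem r hr y)) (kl_le hr (C.mem r hr w))]

theorem transfer_commute {e : G → FieldFour → G} (C : IsChart D x z e) {a r : G}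
    (ha : a ∈ Cm D x z) (hr : r ∈ Cm D x z) (hc : Commute a r) (y : FieldFour) :
    co x e a (e r y) = 0 :=
  (co_eq_zero F C ha (kl_le hr (C.mem r hr y))).2
    ((tr_eq_one_iff F ha (kl_le hr (C.mem r hr y))).1 (tr_of_commute F ha hr hc (C.mem r hr y)))

theorem transfer_transfer {e : G → FieldFour → G} (C : IsChart D x z e) {a r : G}
    (ha : a ∈ Cm D x z) (hr : r ∈ Cm D x z) (hn : ¬ Commute a r) (y : FieldFour) :
    co x e a (e r (co x e r (e a y))) = y := C.inj a ha (by
  rw [e_co F C ha (kl_le hr (C.mem r hr _)), e_co F C hr (kl_le ha (C.mem a ha y)),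
    tr_tr F ha hr hn (C.mem a ha y)])

/-- A common non-commuting neighbour of two common neighbours. -/
theorem exists_between {a b : G} (ha : a ∈ Cm D x z) (hb : b ∈ Cm D x z) (hab : Commute a b) :
    ∃ c ∈ Cm D x z, ¬ Commute a c ∧ ¬ Commute c b := by
  have hG := F.thick.grp
  obtain ⟨p, hp, hap⟩ := exists_adj_cm F ha
  by_cases hpb : Commute p b
  swap
  · exact ⟨p, hp, hap, hpb⟩
  obtain ⟨q, hq, hbq⟩ := exists_adj_cm F hb
  by_cases hqa : Commute a q
  swap
  · exact ⟨q, hq, hqa, fun e => hbq e.symm⟩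
  have hne : q ≠ p := fun e => hap (e ▸ hqa)
  by_cases hpq : Commute p q
  · have hqN : q ∈ Nb D p := ⟨hq.1.1, hne, hpq⟩
    obtain ⟨u, hu, hup, huq⟩ := exists_third hG F.thick hp.1.1 hqN
    have h1 : Commute u x := commute_all hG F.thick hp.1.1 hqN (self_mem_ln hp.1.1)
      (right_mem_ln hqN) hne.symm F.hx hp.1.2.2.symm hq.1.2.2.symm hu
    have h2 : Commute u z := commute_all hG F.thick hp.1.1 hqN (self_mem_ln hp.1.1)
      (right_mem_ln hqN) hne.symm F.hz hp.2.2.2.symm hq.2.2.2.symm hu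
    refine ⟨u, ⟨⟨hu.1, fun e => F.hn (e ▸ h2), h1.symm⟩, hu.1, fun e => F.hn (e ▸ h1).symm,
      h2.symm⟩, fun hc => hap ?_, fun hc => hbq ?_⟩
    · exact (commute_all hG F.thick hp.1.1 hqN hu (right_mem_ln hqN) huq ha.1.1 hc.symm hqa.symm
        (self_mem_ln hp.1.1)).symm
    · exact (commute_all hG F.thick hp.1.1 hqN hu (self_mem_ln hp.1.1) hup hb.1.1 hc hpb
        (right_mem_ln hqN)).symm
  · refine ⟨cj p q, cm_cj F hp hq, fun hc => hap ?_, fun hc => hbq ?_⟩
    · rw [cj_comm hG hp.1.1 hq.1.1 hpq] at hc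
      exact ((commute_cj' hG hq.1.1 hqa.symm p).1 hc.symm).symm
    · exact ((commute_cj' hG hp.1.1 hpb q).1 hc).symm

omit F

/-- Coordinates in which all transfers are multiplications. -/
structure Coord (D : Set G) (x z : G) where
  e : G → FieldFour → G
  K : G → G → FieldFour
  chart : IsChart D x z e
  transfer : ∀ a ∈ Cm D x z, ∀ r ∈ Cm D x z, ∀ y, co x e a (e r y) = K a r * y

include F

theorem exists_coord : Nonempty (Coord D x z) := by
  classical
  have hG := F.thick.grp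
  obtain ⟨e, C⟩ := exists_chart F
  let M : G → G → FieldFour → FieldFour := fun a r y => co x e a (e r y)
  let R : G → G → Prop := fun a r => a ∈ Cm D x z ∧ r ∈ Cm D x z ∧ ¬ Commute a r
  let par : G → G → Prop := fun a r => IsLin (M a r)
  have sym : ∀ {a r}, R a r → R r a := fun h => ⟨h.2.1, h.1, fun e => h.2.2 e.symm⟩
  have hadd : ∀ {a r}, R a r → ∀ y w, M a r (y + w) = M a r y + M a r w :=
    fun h => transfer_add F C h.1 h.2.1
  have hinj : ∀ {a r}, R a r → Function.Injective (M a r) := fun h =>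
    transfer_inj F C h.1 h.2.1 h.2.2
  have hpar : ∀ a r, R a r → (par a r ↔ par r a) := by
    suffices H : ∀ a r, R a r → par a r → par r a from fun a r h => ⟨H a r h, H r a (sym h)⟩
    intro a r h hl y
    have e1 : ∀ w, M a r (M r a w) = w := transfer_transfer F C h.1 h.2.1 h.2.2
    refine hinj h ?_
    rw [e1, hl (M r a 1 * y), ← mul_assoc, ← hl, e1, one_mul]
  have htri : ∀ a r s, R a r → R r s → R a s → (par a s ↔ (par a r ↔ par r s)) := by
    intro a r s har hrs has
    have ho := cm_cj F har.1 har.2.1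
    have hor : R (cj a r) r := ⟨ho, har.2.1, fun hc => har.2.2 (by
      rw [cj_comm hG har.1.1.1 har.2.1.1.1 har.2.2] at hc
      have := (commute_cj' hG har.2.1.1.1 (Commute.refl r) a).1 hc
      exact this)⟩
    have hkey : ∀ y, M (cj a r) s y = M (cj a r) r (M r s y + M r a (M a s y)) :=
      fun y => co_third F C har.1 har.2.1 har.2.2 (kl_le hrs.2.1 (C.mem s hrs.2.1 y))
    have hz0 : ∀ {p q}, R p q → M p q 0 = 0 := fun h => by
      have := hadd h 0 0; rw [add_zero] at this; exact this.trans (add_self' _)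
    have hdich : (∀ y, M r s y + M r a (M a s y) = 0) ∨
        ∀ y, M r s y + M r a (M a s y) = 0 → y = 0 := by
      by_cases hos : Commute (cj a r) s
      · left
        intro y
        refine hinj hor ?_
        rw [hz0 hor, ← hkey]
        exact transfer_commute F C ho hrs.2.1 hos y
      · right
        intro y hy
        have hRos : R (cj a r) s := ⟨ho, hrs.2.1, hos⟩
        refine hinj hRos ?_
        rw [hz0 hRos, hkey, hy, hz0 hor]
    have s1 := semi_iff (hadd (sym har)) (hinj (sym har))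
    have s2 := semi_iff (hadd has) (hinj has)
    have s3 := semi_iff (hadd hrs) (hinj hrs)
    have p1 := (lin_or_semi (hadd (sym har)) (hinj (sym har))).1
    have p2 := (lin_or_semi (hadd has) (hinj has)).1
    have p3 := (lin_or_semi (hadd hrs) (hinj hrs)).1
    have hmix : ∀ {c d : FieldFour}, c ≠ 0 → d ≠ 0 →
        ¬ ((∀ y : FieldFour, c * y + d * (y * y) = 0) ∨ ∀ y, c * y + d * (y * y) = 0 → y = 0) :=
      fun hc hd h => by
        obtain ⟨⟨y, hy, h1⟩, w, hw⟩ := mixed _ _ hc hd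
        rcases h with h | h
        exacts [hw (h w), hy (h y h1)]
    rw [hpar a r har]
    by_cases q1 : par r a <;> by_cases q2 : par a s <;> by_cases q3 : par r s <;>
      simp only [q1, q2, q3, iff_true, iff_false, true_iff, false_iff, not_true_eq_false,
        not_false_eq_true]
    · have e : ∀ y, M r s y + M r a (M a s y) = M r a 1 * M a s 1 * y + M r s 1 * (y * y) :=
        fun y => by rw [q1 (M a s y), q2 y, s3.2 q3 y]; ring
      exact hmix (mul_ne_zero p1 p2) p3 (by simpa only [e] using hdich)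
    · have e : ∀ y, M r s y + M r a (M a s y) = M r s 1 * y + M r a 1 * M a s 1 * (y * y) :=
        fun y => by rw [q1 (M a s y), s2.2 q2 y, q3 y]; ring
      exact hmix p3 (mul_ne_zero p1 p2) (by simpa only [e] using hdich)
    · have e : ∀ y, M r s y + M r a (M a s y) =
          M r s 1 * y + M r a 1 * (M a s 1 * M a s 1) * (y * y) :=
        fun y => by rw [s1.2 q1 (M a s y), q2 y, q3 y]; ring
      exact hmix p3 (mul_ne_zero p1 (mul_ne_zero p2 p2)) (by simpa only [e] using hdich)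
    · have e : ∀ y, M r s y + M r a (M a s y) =
          M r a 1 * (M a s 1 * M a s 1) * y + M r s 1 * (y * y) := fun y => by
        rw [s1.2 q1 (M a s y), s2.2 q2 y, s3.2 q3 y]
        conv_rhs => rw [← conjF_conjF y]
        simp only [conjF_apply]
        rw [show y * y * (y * y) * (y * y * (y * y)) = y * y by revert y; decide]
        ring
      exact hmix (mul_ne_zero p1 (mul_ne_zero p2 p2)) p3 (by simpa only [e] using hdich)
  obtain ⟨o, ho⟩ := exists_orientation (Cm D x z) R par (fun a b h => ⟨h.1, h.2.1, sym h⟩) hpar htri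
    (fun a ha b hb h => by
      obtain ⟨c, hc, h1, h2⟩ := exists_between F ha hb (by_contra fun h' => h ⟨ha, hb, h'⟩)
      exact ⟨c, ⟨ha, hc, h1⟩, hc, hb, h2⟩)
    (fun r s h => ⟨cj r s, fun q hq hh => ⟨hq, cm_cj F h.1 h.2.1, fun hc => by
      rcases hh with ⟨h1, h2⟩ | ⟨h1, h2⟩
      · have hqs : Commute q s := by_contra fun h' => h2 ⟨hq, h.2.1, h'⟩
        rw [cj_comm hG h.1.1.1 h.2.1.1.1 h.2.2] at hc
        exact h1.2.2 ((commute_cj' hG h.2.1.1.1 hqs.symm r).1 hc.symm).symm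
      · have hqr : Commute q r := by_contra fun h' => h1 ⟨hq, h.1, h'⟩
        exact h2.2.2 ((commute_cj' hG h.1.1.1 hqr.symm s).1 hc.symm).symm⟩⟩)
    (fun a h => h.2.2 (Commute.refl a))
  let tw : G → FieldFour → FieldFour := fun a y => if o a then y else conjF y
  have twtw : ∀ a y, tw a (tw a y) = y := fun a y => by
    simp only [tw]; split_ifs
    · rfl
    · exact conjF_conjF y
  have tw_add : ∀ a y w, tw a (y + w) = tw a y + tw a w := fun a y w => by
    simp only [tw]; split_ifs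
    · rfl
    · exact map_add conjF y w
  let e' : G → FieldFour → G := fun a y => e a (tw a y)
  have C' : IsChart D x z e' := by
    refine ⟨fun a ha y => C.mem a ha _, fun a ha y w => ?_, fun a ha y w h => ?_, fun a ha l hl => ?_⟩
    · simp only [e', tw_add]; exact C.add a ha _ _
    · rw [← twtw a y, ← twtw a w, C.inj a ha h]
    · obtain ⟨y, hy⟩ := C.surj a ha l hl
      exact ⟨tw a y, by simp only [e', twtw]; exact hy⟩
  have hM' : ∀ a ∈ Cm D x z, ∀ r ∈ Cm D x z, ∀ y,
      co x e' a (e' r y) = tw a (M a r (tw r y)) := fun a ha r hr y => C'.inj a ha (by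
    rw [e_co F C' ha (kl_le hr (C'.mem r hr y))]
    simp only [e', twtw]
    exact (e_co F C ha (kl_le hr (C.mem r hr _))).symm)
  refine ⟨⟨e', fun a r => co x e' a (e' r 1), C', fun a ha r hr y => ?_⟩⟩
  rw [hM' a ha r hr, hM' a ha r hr]
  by_cases hc : Commute a r
  · simp only [M, transfer_commute F C ha hr hc, tw]
    split_ifs <;> simp
  have hR : R a r := ⟨ha, hr, hc⟩
  have h1 := ho a r hR
  have s1 := semi_iff (hadd hR) (hinj hR)
  simp only [tw]
  by_cases q1 : o a <;> by_cases q2 : o r <;>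
    simp only [q1, q2, if_true, if_false, iff_true, iff_false, true_iff, not_true_eq_false] at h1 ⊢
  · rw [h1 y]
  · rw [s1.2 h1 (conjF y), ← conjF_apply, conjF_conjF, map_one]
  · rw [s1.2 h1 y, map_mul, ← conjF_apply, conjF_conjF]
  · rw [h1 (conjF y), map_mul, conjF_conjF, map_one]

end CfsgLib.Sporadic.FischerCoord
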