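import Cfsg.Agent.Lib.Sporadic.FischerLines

/-!
# Lines have three or five points

Four points `x, a, b, c` of a line determine a fifth one, their product, since the product of the
five centralizes the members commuting with `x` or with `a`. A product of two points of a line is
never a point of it, so a line has at most five points.
-/

set_option autoImplicit false
set_option linter.style.haveILetI false

namespace CfsgLib.Sporadic.FischerFive

open CfsgLib.Sporadic.FischerTransitivity CfsgLib.Sporadic.FischerLines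
open Relation

variable {G : Type*} [Group G] {D : Set G} [Finite G] (h : Thick D)

include h

/-- The centre is trivial. -/
theorem center_eq_bot : Subgroup.center G = ⊥ := by
  exact h.rad _ inferInstance (Group.isSolvable_of_comm fun a b => Subtype.ext
    (Subgroup.mem_center_iff.1 b.2 a))

/-- An element centralizing all members is trivial. -/
theorem eq_one_of_commute {r : G} (hr : ∀ d ∈ D, Commute d r) : r = 1 := by
  have : r ∈ Subgroup.center G :=
    FischerCores.le_center_of_fix (D := D) (N := Subgroup.zpowers r) h.grp.2.2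
      (fun d hd n hn => by
        obtain ⟨k, rfl⟩ := hn
        exact (hr d hd).zpow_right k) (Subgroup.mem_zpowers r)
  rwa [center_eq_bot h, Subgroup.mem_bot] at this

/-- Every neighbour of `x` fails to commute with some other one. -/
theorem exists_adj {x a : G} (hx : x ∈ D) (ha : a ∈ Nb D x) :
    ∃ a' ∈ Nb D x, ¬ Commute a a' := by
  obtain ⟨b, hb, hbx, hba⟩ := exists_third h.grp h hx ha
  have hco := FischerTransitivity.connected h.grp h.cls h.perf h.central hx ha
    (nb_of_ln h.grp hb hbx)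
  rcases hco.cases_head with e | ⟨c, hc, -⟩
  · exact absurd e.symm hba
  · exact ⟨c, hc.2.1, hc.2.2⟩

/-- Two points of a line move a line meeting it into itself. -/
theorem cj_cj_mem {x a p q u : G} (hx : x ∈ D) (ha : a ∈ Nb D x) (hp : p ∈ Ln D x a) (hpx : p ≠ x)
    (hq : q ∈ Ln D x a) (hqx : q ≠ x) (hu : u ∈ Nb D x) (hn : ¬ Commute a u) :
    cj p (cj q u) ∈ Ln D x u ∧ cj p (cj q u) ≠ x := by
  have hG := h.grp
  have hpN := nb_of_ln hG hp hpx
  have hq' : q ∈ Ln D x p := by
    rw [ln_eq hG h hx ha (self_mem_ln hx) hp (Ne.symm hpx)]; exact hq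
  exact ln_third hG h hx hpN hu (not_commute_of_ln hG h hx ha hu hn hp hpx) hq' hqx

/-- A member of a neighbourhood is moved onto a whole line by the points of a line. -/
theorem exists_cj_eq {x a u v : G} (hx : x ∈ D) (ha : a ∈ Nb D x) (hu : u ∈ Nb D x)
    (hn : ¬ Commute a u) (hv : v ∈ Ln D x (cj a u)) (hvx : v ≠ x) :
    ∃ q ∈ Ln D x a, q ≠ x ∧ cj q u = v := by
  have hG := h.grp
  have hcu : cj a u ∈ Nb D x := by
    have := nb_conj hG a hu
    rwa [← cj_conj hG ha.1, ← cj_conj hG ha.1, fix_nb hG ha] at this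
  let T : Set G := Ln D x (cj a u) \ {x}
  have hmaps : ∀ q ∈ Ln D x a \ {x}, cj q u ∈ T := by
    rintro q ⟨hq, hqx⟩
    obtain ⟨h1, h2⟩ := cj_cj_mem h hx ha (right_mem_ln ha) ha.2.1 hq hqx hu hn
    have h3 := ln_cj_mem hG ha.1 h1
    rw [fix_nb hG ha, cj_cj hG ha.1] at h3
    refine ⟨h3, fun e => h2 ?_⟩
    rw [Set.mem_singleton_iff.1 e, fix_nb hG ha]
  have hinj : Set.InjOn (fun q => cj q u) (Ln D x a \ {x}) := by
    rintro p ⟨hp, hpx⟩ q ⟨hq, hqx⟩ he
    have e1 := not_commute_of_ln hG h hx ha hu hn hp hpx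
    have e2 := not_commute_of_ln hG h hx ha hu hn hq hqx
    dsimp only at he
    rw [cj_comm hG hp.1 hu.1 e1, cj_comm hG hq.1 hu.1 e2] at he
    exact cj_inj hG hu.1 he
  have himg : (fun q => cj q u) '' (Ln D x a \ {x}) = T := by
    refine Set.eq_of_subset_of_ncard_le (fun _ ⟨q, hq, e⟩ => e ▸ hmaps q hq) ?_ (Set.toFinite _)
    rw [Set.InjOn.ncard_image hinj, Set.ncard_sdiff_singleton_of_mem (self_mem_ln hx),
      Set.ncard_sdiff_singleton_of_mem (self_mem_ln hx), ln_card hG h hx hcu hx ha]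
  obtain ⟨q, ⟨hq, hqx⟩, e⟩ := himg.ge (show v ∈ T from ⟨hv, hvx⟩)
  exact ⟨q, hq, hqx, e⟩

/-- If the members commuting with `x` and with `a` centralize `r`, then `r` is trivial. -/
theorem eq_one_of_nb {x a r : G} (hx : x ∈ D) (ha : a ∈ Nb D x) (h1 : ∀ u ∈ Nb D x, Commute u r)
    (h2 : ∀ u ∈ Nb D a, Commute u r) : r = 1 := by
  have hG := h.grp
  let P : G → Prop := fun s => ∀ u ∈ Nb D s, Commute u r
  have step : ∀ s t, s ∈ D → t ∈ Nb D s → P s → P t → ∀ t' ∈ Nb D s, P t' := by
    intro s t hs ht hPs hPt t' ht' u hu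
    obtain ⟨k, hk, hkt⟩ := exists_conj hG h.cls h.perf h.central hs ht ht'
    have hkr : Commute k r := by
      clear hkt
      induction hk using Subgroup.closure_induction with
      | mem z hz => exact hPs z hz
      | one => exact Commute.one_left r
      | mul _ _ _ _ e1 e2 => exact e1.mul_left e2
      | inv _ _ e => exact e.inv_left
    have hm : k⁻¹ * u * k ∈ Nb D t := by
      have := nb_conj hG k⁻¹ hu
      rw [← hkt] at this
      simpa [mul_assoc] using this
    have := (hkr.mul_left (hPt _ hm)).mul_left hkr.inv_left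
    simpa [mul_assoc] using this
  have hall : ∀ s, ReflTransGen (CRel D) x s → P s ∧ ∃ t ∈ Nb D s, P t := by
    intro s hs
    induction hs with
    | refl => exact ⟨h1, a, ha, h2⟩
    | @tail b c _ hbc ih =>
      by_cases e : c = b
      · exact e ▸ ih
      obtain ⟨hPb, t, ht, hPt⟩ := ih
      exact ⟨step b t hbc.1 ht hPb hPt c ⟨hbc.2.1, e, hbc.2.2⟩, b,
        ⟨hbc.1, Ne.symm e, hbc.2.2.symm⟩, hPb⟩
  refine eq_one_of_commute h fun d hd => ?_
  obtain ⟨-, t, ht, hPt⟩ := hall d (commuting_connected hG h.cls h.perf hx hd)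
  exact hPt d (FischerLines.nb_symm hd ht)

/-- If `r` fixes a line at `x` and stabilizes a line at `a`, it fixes the latter. -/
theorem fix_of_fix {x a u z r : G} (hx : x ∈ D) (ha : a ∈ Nb D x) (hu : u ∈ Nb D x)
    (hn : ¬ Commute a u) (hz : z ∈ Nb D a) (hxz : ¬ Commute x z)
    (hfix : ∀ v ∈ Ln D x u, v ≠ x → Commute v r)
    (hline : r * z * r⁻¹ ∈ Ln D a z) : Commute z r := by
  have hG := h.grp
  obtain ⟨v, hv, hvz⟩ := exists_hit hG h hx hu hz.1
  have hvx : v ≠ x := fun e => hxz (e ▸ hvz)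
  have hva : ¬ Commute v a := fun hc =>
    not_commute_of_ln hG h hx hu ha (fun e => hn e.symm) hv hvx hc
  have h1 : Commute v (r * z * r⁻¹) := by
    have := (Commute.conj_iff r).2 hvz
    rwa [← (hfix v hv hvx).eq, mul_inv_cancel_right] at this
  have he : z = r * z * r⁻¹ := hit_unique hG h ha.1 hz (right_mem_ln hz) hline
    (self_mem_ln ha.1) hv.1 hvz.symm h1.symm fun hc => hva hc.symm
  have : r * z = z * r := mul_inv_eq_iff_eq_mul.1 he.symm
  exact this.symm

/-- The product of four points of a line is a point of the line. -/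
theorem five {x a b c : G} (hx : x ∈ D) (ha : a ∈ Nb D x) (hb : b ∈ Ln D x a) (hc : c ∈ Ln D x a)
    (hbx : b ≠ x) (hcx : c ≠ x) (hab : a ≠ b) (hac : a ≠ c) (hbc : b ≠ c) :
    x * a * b * c ∈ Ln D x a := by
  have hG := h.grp
  have hL : ∀ p ∈ Ln D x a, ∀ q ∈ Ln D x a, Commute p q := fun p hp q hq => by
    by_cases e : p = q
    · rw [e]
    · exact (ln_pair hG h hx ha hp hq e).1.2.2
  have hxL : x ∈ Ln D x a := self_mem_ln hx
  have haL : a ∈ Ln D x a := right_mem_ln ha
  obtain ⟨u₀, hu₀, hau⟩ := exists_adj h hx ha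
  obtain ⟨h1, h2⟩ := cj_cj_mem h hx ha hb hbx hc hcx hu₀ hau
  have h3 := ln_cj_mem hG ha.1 h1
  rw [fix_nb hG ha] at h3
  have h4 : cj a (cj b (cj c u₀)) ≠ x := fun e => h2 (cj_inj hG ha.1 (e.trans (fix_nb hG ha).symm))
  obtain ⟨e, he, hex, heq⟩ := exists_cj_eq h hx ha hu₀ hau h3 h4
  have hea : e ≠ a := by
    rintro rfl
    have e1 : cj b (cj c u₀) = u₀ := cj_inj hG ha.1 heq.symm
    have e2 : cj c u₀ = cj b u₀ := by conv_rhs => rw [← e1, cj_cj hG hb.1]
    have n1 := not_commute_of_ln hG h hx ha hu₀ hau hb hbx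
    have n2 := not_commute_of_ln hG h hx ha hu₀ hau hc hcx
    rw [cj_comm hG hc.1 hu₀.1 n2, cj_comm hG hb.1 hu₀.1 n1] at e2
    exact hbc (cj_inj hG hu₀.1 e2).symm
  have heb : e ≠ b := by
    rintro rfl
    have e1 : cj a (cj c u₀) = u₀ := by
      have hcomm : ∀ w, cj a (cj e w) = cj e (cj a w) := fun w => by
        simp only [cj, ← mul_assoc, (hL a haL e hb).eq]
        simp only [mul_assoc, (hL e hb a haL).eq]
      rw [hcomm] at heq
      exact cj_inj hG hb.1 heq.symm
    have e2 : cj c u₀ = cj a u₀ := by conv_rhs => rw [← e1, cj_cj hG ha.1]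
    rw [cj_comm hG hc.1 hu₀.1 (not_commute_of_ln hG h hx ha hu₀ hau hc hcx),
      cj_comm hG ha.1 hu₀.1 hau] at e2
    exact hac (cj_inj hG hu₀.1 e2).symm
  -- the product of the five points
  set r := x * a * b * c * e with hr
  have hconj : ∀ w, r * w * r⁻¹ = cj x (cj a (cj b (cj c (cj e w)))) := fun w => by
    simp only [hr, cj_conj hG hx, cj_conj hG ha.1, cj_conj hG hb.1, cj_conj hG hc.1,
      cj_conj hG he.1, mul_inv_rev, mul_assoc]
  have hswap : ∀ p ∈ Ln D x a, ∀ q ∈ Ln D x a, ∀ w, cj p (cj q w) = cj q (cj p w) := by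
    intro p hp q hq w
    simp only [cj, ← mul_assoc, (hL p hp q hq).eq]
    simp only [mul_assoc, (hL q hq p hp).eq]
  have hrL : ∀ p ∈ Ln D x a, Commute p r := fun p hp =>
    ((((hL p hp x hxL).mul_right (hL p hp a haL)).mul_right (hL p hp b hb)).mul_right
      (hL p hp c hc)).mul_right (hL p hp e he)
  have fix_of_conj : ∀ w, r * w * r⁻¹ = w → Commute w r := fun w hw =>
    (mul_inv_eq_iff_eq_mul.1 hw).symm
  -- the line through `x, u₀` is fixed
  have hu : Commute u₀ r := fix_of_conj _ <| by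
    rw [hconj, heq, hswap c hc a haL, hswap b hb a haL, cj_cj hG ha.1, hswap c hc b hb,
      cj_cj hG hb.1, cj_cj hG hc.1, cj_fix hG hx hu₀.2.2]
  have hA : ∀ v ∈ Ln D x u₀, v ≠ x → Commute v r := by
    intro v hv hvx
    have hv' := ln_cj_mem hG ha.1 hv
    rw [fix_nb hG ha] at hv'
    have hv'x : cj a v ≠ x := fun e' => hvx (cj_inj hG ha.1 (e'.trans (fix_nb hG ha).symm))
    obtain ⟨q, hq, hqx, hqv⟩ := exists_cj_eq h hx ha hu₀ hau hv' hv'x
    have hv2 : v = cj a (cj q u₀) := by rw [hqv, cj_cj hG ha.1]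
    rw [hv2]
    simp only [cj]
    exact (((hrL a haL).mul_left (((hrL q hq).mul_left hu).mul_left (hrL q hq))).mul_left (hrL a haL))
  -- lines at `a` meeting the outside are fixed
  have hB : ∀ z ∈ Nb D a, ¬ Commute x z → Commute z r := by
    intro z hz hxz
    have hax : x ∈ Nb D a := FischerLines.nb_symm hx ha
    have hLa : Ln D a x = Ln D x a := ln_eq hG h hx ha haL hxL ha.2.1
    have key : ∀ p ∈ Ln D x a, p ≠ a → ∀ q ∈ Ln D x a, q ≠ a → ∀ w ∈ Ln D a z, w ≠ a →
        cj p (cj q w) ∈ Ln D a z ∧ cj p (cj q w) ≠ a := by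
      intro p hp hpa q hq hqa w hw hwa
      have hwn : ¬ Commute x w := fun hc' =>
        not_commute_of_ln hG h ha.1 hz hax (fun e' => hxz e'.symm) hw hwa hc'.symm
      have := cj_cj_mem h ha.1 hax (hLa.symm ▸ hp) hpa (hLa.symm ▸ hq) hqa
        (nb_of_ln hG hw hwa) hwn
      rwa [ln_eq hG h ha.1 hz (self_mem_ln ha.1) hw (Ne.symm hwa)] at this
    refine fix_of_fix h hx ha hu₀ hau hz hxz hA ?_
    rw [hconj, hswap a haL b hb, hswap a haL c hc, hswap a haL e he, cj_fix hG ha.1 hz.2.2]
    obtain ⟨k1, k2⟩ := key c hc (Ne.symm hac) e he hea z (right_mem_ln hz) hz.2.1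
    exact (key x hxL ha.2.1.symm b hb (Ne.symm hab) _ k1 k2).1
  -- all neighbours of `x` are fixed
  have hC : ∀ u ∈ Nb D x, Commute u r := by
    intro u hu'
    by_cases hun : Commute a u
    · exact (((((hu'.2.2.symm).mul_right hun.symm).mul_right
        (commute_all hG h hx ha hxL haL ha.2.1.symm hu'.1 hu'.2.2 hun hb).symm).mul_right
        (commute_all hG h hx ha hxL haL ha.2.1.symm hu'.1 hu'.2.2 hun hc).symm)).mul_right
        (commute_all hG h hx ha hxL haL ha.2.1.symm hu'.1 hu'.2.2 hun he).symm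
    obtain ⟨z, hz, hxz⟩ := exists_adj h ha.1 (FischerLines.nb_symm hx ha)
    refine fix_of_fix h ha.1 (FischerLines.nb_symm hx ha) hz hxz hu' hun ?_ ?_
    · intro v hv hva
      refine hB v (nb_of_ln hG hv hva) fun hc' => ?_
      exact not_commute_of_ln hG h ha.1 hz (FischerLines.nb_symm hx ha) (fun e' => hxz e'.symm)
        hv hva hc'.symm
    · rw [hconj]
      obtain ⟨k1, k2⟩ := cj_cj_mem h hx ha hc hcx he hex hu' hun
      have k3 := cj_cj_mem h hx ha haL ha.2.1 hb hbx (nb_of_ln hG k1 k2) fun hc' =>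
        not_commute_of_ln hG h hx hu' ha (fun e' => hun e'.symm) k1 k2 hc'.symm
      rw [ln_eq hG h hx hu' (self_mem_ln hx) k1 (Ne.symm k2)] at k3
      rw [cj_fix hG hx (nb_of_ln hG k3.1 k3.2).2.2]
      exact k3.1
  have hD : ∀ w ∈ Nb D a, Commute w r := by
    intro w hw
    by_cases hxw : Commute x w
    · by_cases e' : w = x
      · exact e' ▸ hrL x hxL
      · exact hC w ⟨hw.1, e', hxw⟩
    · exact hB w hw hxw
  have h1' := eq_one_of_nb h hx ha hC hD
  have : x * a * b * c = e := by
    rw [hr] at h1'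
    rw [eq_inv_of_mul_eq_one_left h1', inv_eq hG he.1]
  rwa [this]

/-- A product of two points of a line is not a point of it. -/
theorem mul_ne {x a u v w : G} (hx : x ∈ D) (ha : a ∈ Nb D x) (hu : u ∈ Ln D x a)
    (hv : v ∈ Ln D x a) (hw : w ∈ Ln D x a) (huv : u ≠ v) (huw : u ≠ w) : u * v ≠ w := by
  intro e
  have hG := h.grp
  obtain ⟨huN, -⟩ := ln_pair hG h hx ha hu hv huv
  have hwN := (ln_pair hG h hx ha hu hw huw).1
  obtain ⟨z, hz, hvz⟩ := exists_adj h hu.1 huN
  have hwz : ¬ Commute w z := by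
    intro hc
    refine hvz (commute_all hG h hx ha hu hw huw hz.1 hz.2.2 hc hv)
  have huc : Commute u (cj v z) := ((commute_cj' hG hv.1 huN.2.2.symm z).2 hz.2.2.symm).symm
  have e1 : cj w z = cj v z := by
    have hinv : w = v * u := by rw [← e, huN.2.2.eq]
    calc cj w z = u * v * z * (v * u) := by
          rw [← hinv, e]
          rfl
      _ = u * cj v z * u := by simp only [cj, mul_assoc]
      _ = cj v z := cj_fix hG hu.1 huc
  rw [cj_comm hG hw.1 hz.1 hwz, cj_comm hG hv.1 hz.1 hvz] at e1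
  have hu1 : u = 1 := mul_right_cancel (b := v) (by rw [one_mul, e, cj_inj hG hz.1 e1])
  have h2 := hG.1.1 u hu.1
  rw [hu1, orderOf_one] at h2
  omega

/-- A line has three or five points. -/
theorem card_line {x a : G} (hx : x ∈ D) (ha : a ∈ Nb D x) :
    (Ln D x a).ncard = 3 ∨ (Ln D x a).ncard = 5 := by
  have hG := h.grp
  obtain ⟨b, hb, hbx, hba⟩ := exists_third hG h hx ha
  have hxL : x ∈ Ln D x a := self_mem_ln hx
  have haL : a ∈ Ln D x a := right_mem_ln ha
  by_cases h3 : Ln D x a ⊆ {x, a, b}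
  · refine Or.inl ?_
    have : Ln D x a = {x, a, b} := Set.Subset.antisymm h3 (by
      rintro p (rfl | rfl | rfl)
      exacts [hxL, haL, hb])
    rw [this]
    exact Set.ncard_eq_three.2 ⟨x, a, b, ha.2.1.symm, hbx.symm, hba.symm, rfl⟩
  obtain ⟨c, hc, hcn⟩ := Set.not_subset.1 h3
  simp only [Set.mem_insert_iff, Set.mem_singleton_iff, not_or] at hcn
  obtain ⟨hcx, hca, hcb⟩ := hcn
  have s : ∀ {p : G}, p ∈ Ln D x a → p * p = 1 := fun hp => sq hG hp.1
  have cm : ∀ {p q : G}, p ∈ Ln D x a → q ∈ Ln D x a → Commute p q := fun {p q} hp hq => by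
    by_cases e : p = q
    · rw [e]
    · exact (ln_pair hG h hx ha hp hq e).1.2.2
  have he := five h hx ha hb hc hbx hcx hba.symm (Ne.symm hca) (Ne.symm hcb)
  set e := x * a * b * c with hedef
  have x2 : ∀ {p : G} (_ : p ∈ Ln D x a) (v : G), p * (p * v) = v := fun hp v => by
    rw [← mul_assoc, s hp, one_mul]
  -- the fifth point is new
  have hex : e ≠ x := by
    intro e'
    refine mul_ne h hx ha haL hb hc hba.symm (Ne.symm hca) ?_
    have h1 : a * b * c = 1 := mul_left_cancel (a := x) (by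
      rw [mul_one]; simpa [hedef, mul_assoc] using e')
    rw [eq_inv_of_mul_eq_one_left h1, inv_eq hG hc.1]
  have hea : e ≠ a := by
    intro e'
    refine mul_ne h hx ha hxL hb hc hbx.symm (Ne.symm hcx) ?_
    have h1 : x * b * c = 1 := mul_left_cancel (a := a) (by
      rw [mul_one]
      simpa [hedef, mul_assoc, ((cm haL hxL).left_comm)] using e')
    rw [eq_inv_of_mul_eq_one_left h1, inv_eq hG hc.1]
  have heb : e ≠ b := by
    intro e'
    refine mul_ne h hx ha hxL haL hc ha.2.1.symm (Ne.symm hcx) ?_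
    have h1 : x * a * c = 1 := mul_left_cancel (a := b) (by
      rw [mul_one]
      simpa [hedef, mul_assoc, (cm hb hxL).left_comm, (cm hb haL).left_comm] using e')
    rw [eq_inv_of_mul_eq_one_left h1, inv_eq hG hc.1]
  have hec : e ≠ c := by
    intro e'
    refine mul_ne h hx ha hxL haL hb ha.2.1.symm hbx.symm ?_
    have h1 : x * a * b = 1 := mul_right_cancel (b := c) (by rw [one_mul]; exact e')
    rw [eq_inv_of_mul_eq_one_left h1, inv_eq hG hb.1]
  refine Or.inr ?_
  have hall : Ln D x a = {x, a, b, c, e} := by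
    refine Set.Subset.antisymm (fun f hf => ?_) ?_
    · by_contra hfn
      simp only [Set.mem_insert_iff, Set.mem_singleton_iff, not_or] at hfn
      obtain ⟨hfx, hfa, hfb, hfc, hfe⟩ := hfn
      have hg := five h hx ha hb hf hbx hfx hba.symm (Ne.symm hfa) (Ne.symm hfb)
      have hlc : Ln D x c = Ln D x a := ln_eq hG h hx ha hxL hc (Ne.symm hcx)
      have hh := five h hx (nb_of_ln hG hc hcx) (b := f) (c := e) (hlc ▸ hf) (hlc ▸ he) hfx hex
        (Ne.symm hfc) (Ne.symm hec) hfe
      rw [hlc] at hh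
      have e1 : x * c * f * e = x * (x * a * b * f) := by
        rw [hedef]
        have c1 : Commute (c * f) (x * a * b) :=
          (((cm hc hxL).mul_right (cm hc haL)).mul_right (cm hc hb)).mul_left
            (((cm hf hxL).mul_right (cm hf haL)).mul_right (cm hf hb))
        calc x * c * f * (x * a * b * c) = x * (c * f * (x * a * b)) * c := by
              simp only [mul_assoc]
          _ = x * (x * a * b) * (c * f) * c := by rw [c1.eq]; simp only [mul_assoc]
          _ = x * (x * a * b * f) := by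
              rw [(cm hc hf).eq]; simp only [mul_assoc, s hc, mul_one]
      rw [e1] at hh
      refine mul_ne h hx ha hxL hg hh ?_ ?_ rfl
      · intro e'
        refine mul_ne h hx ha haL hb hf hba.symm (Ne.symm hfa) ?_
        have h1 : a * b * f = 1 := mul_left_cancel (a := x) (by
          rw [mul_one]; simpa [mul_assoc] using e'.symm)
        rw [eq_inv_of_mul_eq_one_left h1, inv_eq hG hf.1]
      · intro e'
        have h1 : x * a * b * f = 1 := mul_left_cancel (a := x) (by rw [mul_one]; exact e'.symm)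
        have h2 := hG.1.1 _ hg.1
        rw [h1, orderOf_one] at h2
        omega
    · rintro p (rfl | rfl | rfl | rfl | rfl)
      exacts [hxL, haL, hb, hc, he]
  rw [hall, Set.ncard_insert_of_notMem, Set.ncard_insert_of_notMem, Set.ncard_insert_of_notMem,
    Set.ncard_pair (Ne.symm hec)]
  · simp [Ne.symm hcb, heb.symm]
  · simp [hba.symm, Ne.symm hca, hea.symm]
  · simp [ha.2.1.symm, hbx.symm, Ne.symm hcx, hex.symm]

end CfsgLib.Sporadic.FischerFive
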