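import Cfsg.Agent.Lib.Sporadic.FischerQuad
import Cfsg.Agent.Lib.Classical.HermTransv

/-!
# The Hermitian space of a frame

The coordinate vectors of the translations span a space with a non-degenerate Hermitian form; with
a hyperbolic plane added, the members are isotropic points and translations act as isometries.
-/

set_option autoImplicit false
set_option linter.style.haveILetI false
set_option linter.unusedSectionVars false

namespace CfsgLib.Sporadic.FischerCoord

open CfsgLib.Sporadic.FischerTransitivity CfsgLib.Sporadic.FischerLines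
open CfsgLib.Sporadic.FischerFive CfsgLib.Sporadic.FischerTrans CfsgLib.Classical

theorem conjF_conj : IsConjugation conjF :=
  ⟨conjF_conjF, fun e => absurd (DFunLike.congr_fun e ⟨0, 1⟩) (by decide)⟩

theorem conjF_eq_pow (y : FieldFour) : conjF y = y ^ 2 := (conjF_apply y).trans (_root_.sq y).symm

theorem two_eq_zero : (2 : FieldFour) = 0 := by decide

attribute [local instance] Fintype.ofFinite

variable {G : Type*} [Group G] {D : Set G} {x z : G} [Finite G] (F : Frame D x z)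
  (Cd : Coord D x z)

/-- The combination of the columns of the transfer matrix. -/
noncomputable def comb : (↥(Cm D x z) → FieldFour) →ₗ[FieldFour] (↥(Cm D x z) → FieldFour) where
  toFun l := fun t => ∑ s : ↥(Cm D x z), Cd.K (t : G) (s : G) * l s
  map_add' l m := funext fun t => by simp [mul_add, Finset.sum_add_distrib]
  map_smul' c l := funext fun t => by simp [Finset.mul_sum, mul_left_comm]

/-- The space spanned by the columns. -/
noncomputable abbrev Sp : Type _ := ↥(LinearMap.range (comb Cd))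

/-- A linear choice of coefficients. -/
noncomputable def sec : Sp Cd →ₗ[FieldFour] (↥(Cm D x z) → FieldFour) :=
  ((comb Cd).rangeRestrict.exists_rightInverse_of_surjective
    (LinearMap.range_rangeRestrict _)).choose

theorem comb_sec (u : Sp Cd) : comb Cd (sec Cd u) = u.1 :=
  congrArg Subtype.val (LinearMap.congr_fun ((comb Cd).rangeRestrict.exists_rightInverse_of_surjective
    (LinearMap.range_rangeRestrict _)).choose_spec u)

/-- The form on the span of the columns. -/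
noncomputable def inner : Sp Cd →ₛₗ[conjF] Sp Cd →ₗ[FieldFour] FieldFour :=
  LinearMap.mk₂'ₛₗ conjF (RingHom.id FieldFour) (fun u v => ∑ t : ↥(Cm D x z), conjF (sec Cd u t) * v.1 t)
    (fun u₁ u₂ v => by simp [add_mul, Finset.sum_add_distrib])
    (fun c u v => by simp [Finset.mul_sum, mul_assoc])
    (fun u v₁ v₂ => by simp [mul_add, Finset.sum_add_distrib])
    (fun c u v => by simp [Finset.mul_sum, mul_left_comm])

theorem inner_apply (u v : Sp Cd) : inner Cd u v = ∑ t : ↥(Cm D x z), conjF (sec Cd u t) * v.1 t := rfl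

/-- The column of a common neighbour. -/
noncomputable def col (a : ↥(Cm D x z)) : Sp Cd :=
  haveI := _root_.Classical.decEq ↥(Cm D x z)
  ⟨comb Cd (Pi.single a 1), LinearMap.mem_range_self _ _⟩

theorem col_apply (a t : ↥(Cm D x z)) : (col Cd a).1 t = Cd.K (t : G) (a : G) := by
  haveI := _root_.Classical.decEq ↥(Cm D x z)
  simp only [col, comb, LinearMap.coe_mk, AddHom.coe_mk]
  rw [Finset.sum_eq_single a]
  · simp
  · intro b _ hb; exact mul_eq_zero_of_right _ (@Pi.single_eq_of_ne _ (fun _ => FieldFour) _ (_) _ _ hb _)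
  · simp

/-- The space of the group. -/
noncomputable abbrev Tot : Type _ := FieldFour × Sp Cd × FieldFour

/-- The form of the group. -/
noncomputable def form : Tot Cd →ₛₗ[conjF] Tot Cd →ₗ[FieldFour] FieldFour :=
  LinearMap.mk₂'ₛₗ conjF (RingHom.id FieldFour)
    (fun v w => conjF v.1 * w.2.2 + conjF v.2.2 * w.1 + inner Cd v.2.1 w.2.1)
    (fun v₁ v₂ w => by simp; ring)
    (fun c v w => by simp; ring)
    (fun v w₁ w₂ => by simp; ring)
    (fun c v w => by simp; ring)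

theorem form_apply (v w : Tot Cd) :
    form Cd v w = conjF v.1 * w.2.2 + conjF v.2.2 * w.1 + inner Cd v.2.1 w.2.1 := rfl

include F

theorem inner_symm (u v : Sp Cd) : conjF (inner Cd u v) = inner Cd v u := by
  have hu := comb_sec Cd u
  have hv := comb_sec Cd v
  have e : ∀ (w : Sp Cd) (t : ↥(Cm D x z)), w.1 t = ∑ s : ↥(Cm D x z), Cd.K (t : G) (s : G) * sec Cd w s :=
    fun w t => (congrFun (comb_sec Cd w) t).symm
  rw [inner_apply, inner_apply, map_sum]
  simp only [map_mul, conjF_conjF]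
  conv_lhs => enter [2, t]; rw [e v t, map_sum, Finset.mul_sum]
  rw [Finset.sum_comm]
  refine Finset.sum_congr rfl fun s _ => ?_
  rw [e u s, Finset.mul_sum]
  refine Finset.sum_congr rfl fun t _ => ?_
  rw [map_mul, K_conj F Cd t.2 s.2]
  ring

theorem inner_col (a : ↥(Cm D x z)) (u : Sp Cd) : inner Cd u (col Cd a) = conjF (u.1 a) := by
  conv_rhs => rw [← comb_sec Cd u]
  rw [inner_apply]
  show _ = conjF (∑ s : ↥(Cm D x z), Cd.K (a : G) (s : G) * sec Cd u s)
  rw [map_sum]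
  refine Finset.sum_congr rfl fun s _ => ?_
  rw [col_apply, map_mul, K_conj F Cd a.2 s.2, mul_comm]

theorem col_inner (a : ↥(Cm D x z)) (u : Sp Cd) : inner Cd (col Cd a) u = u.1 a := by
  rw [← inner_symm F Cd u, inner_col F, conjF_conjF]

theorem inner_sepRight : (inner Cd).SeparatingRight := fun u hu =>
  Subtype.ext (funext fun a => by rw [← col_inner F Cd a u, hu]; rfl)

theorem form_isHermitian : IsHermitian (form Cd) := ⟨conjF_conj, fun v w => by
  simp only [form_apply, map_add, map_mul, conjF_conjF, inner_symm F]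
  ring⟩

theorem form_sepRight : (form Cd).SeparatingRight := by
  intro v hv
  have h1 : v.2.2 = 0 := by simpa [form_apply] using hv (1, 0, 0)
  have h2 : v.1 = 0 := by simpa [form_apply] using hv (0, 0, 1)
  have h3 : v.2.1 = 0 := inner_sepRight F Cd _ fun u => by
    simpa [form_apply, h1, h2] using hv (0, u, 0)
  exact Prod.ext h2 (Prod.ext h3 h1)

omit F in
theorem self_fixed {c : FieldFour} (h : c + conjF c = 0) : c = 0 ∨ c = 1 := by
  revert c; decide

theorem eta_range {g : G} (hg : g ∈ Qg D x z) :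
    (fun t : ↥(Cm D x z) => eta Cd (t : G) g) ∈ LinearMap.range (comb Cd) := by
  induction hg using Subgroup.closure_induction with
  | mem k hk =>
    obtain ⟨a, ha, hk⟩ := Set.mem_iUnion₂.1 hk
    obtain ⟨y, rfl⟩ := Cd.chart.surj a ha k hk
    refine (LinearMap.range (comb Cd)).smul_mem y (col Cd ⟨a, ha⟩).2 |> fun h => ?_
    convert h using 1
    funext t
    rw [Pi.smul_apply, col_apply, eta_e F Cd t.2 ha, smul_eq_mul, mul_comm]
  | one =>
    convert (LinearMap.range (comb Cd)).zero_mem using 1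
    funext t; exact eta_one F Cd t.2
  | mul k l hk hl h1 h2 =>
    convert (LinearMap.range (comb Cd)).add_mem h1 h2 using 1
    funext t; exact eta_mul F Cd t.2 hk hl
  | inv k hk h =>
    convert h using 1
    funext t; exact eta_inv F Cd t.2 hk

omit F

/-- The coordinate vector. -/
noncomputable def vec (g : G) : Sp Cd :=
  haveI := _root_.Classical.propDecidable ((fun t : ↥(Cm D x z) => eta Cd (t : G) g) ∈ LinearMap.range (comb Cd))
  if h : (fun t : ↥(Cm D x z) => eta Cd (t : G) g) ∈ LinearMap.range (comb Cd) then ⟨_, h⟩ else 0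

include F

theorem vec_apply {g : G} (hg : g ∈ Qg D x z) (t : ↥(Cm D x z)) : (vec Cd g).1 t = eta Cd (t : G) g := by
  unfold vec
  rw [dif_pos (eta_range F Cd hg)]

theorem vec_mul {g k : G} (hg : g ∈ Qg D x z) (hk : k ∈ Qg D x z) :
    vec Cd (g * k) = vec Cd g + vec Cd k := Subtype.ext (funext fun t => by
  rw [Submodule.coe_add, Pi.add_apply, vec_apply F Cd (mul_mem hg hk), vec_apply F Cd hg,
    vec_apply F Cd hk, eta_mul F Cd t.2 hg hk])

theorem vec_one : vec Cd 1 = 0 := Subtype.ext (funext fun t => by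
  rw [vec_apply F Cd (one_mem _), eta_one F Cd t.2]; rfl)

theorem vec_x : vec Cd x = 0 := Subtype.ext (funext fun t => by
  rw [vec_apply F Cd (x_mem F), eta_x F Cd t.2]; rfl)

theorem vec_e {a : G} (ha : a ∈ Cm D x z) (y : FieldFour) :
    vec Cd (Cd.e a y) = y • col Cd ⟨a, ha⟩ := Subtype.ext (funext fun t => by
  rw [vec_apply F Cd (e_le F Cd ha y), Submodule.coe_smul, Pi.smul_apply, col_apply,
    eta_e F Cd t.2 ha, smul_eq_mul, mul_comm])

theorem vec_surj (u : Sp Cd) : ∃ g ∈ Qg D x z, vec Cd g = u := by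
  haveI := _root_.Classical.decEq ↥(Cm D x z)
  obtain ⟨_, l, rfl⟩ := u
  suffices H : ∀ T : Finset ↥(Cm D x z), ∃ g ∈ Qg D x z, ∀ t : ↥(Cm D x z),
      eta Cd (t : G) g = ∑ s ∈ T, Cd.K (t : G) (s : G) * l s by
    obtain ⟨g, hg, e⟩ := H Finset.univ
    exact ⟨g, hg, Subtype.ext (funext fun t => (vec_apply F Cd hg t).trans (e t))⟩
  intro T
  induction T using Finset.induction_on with
  | empty => exact ⟨1, one_mem _, fun t => by simpa using eta_one F Cd t.2⟩
  | @insert a T haT ih =>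
    obtain ⟨g, hg, e⟩ := ih
    refine ⟨Cd.e (a : G) (l a) * g, mul_mem (e_le F Cd a.2 _) hg, fun t => ?_⟩
    rw [eta_mul F Cd t.2 (e_le F Cd a.2 _) hg, eta_e F Cd t.2 a.2, Finset.sum_insert haT, e t]

/-- The quadratic coordinate is additive up to the form. -/
theorem quad_mul {g k : G} (hg : g ∈ Qg D x z) (hk : k ∈ Qg D x z) :
    quad Cd (g * k) = quad Cd g + quad Cd k + inner Cd (vec Cd g) (vec Cd k) := by
  rw [Qg, ← Subgroup.mem_toSubmonoid, Subgroup.closure_toSubmonoid_of_finite] at hk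
  induction hk using Submonoid.closure_induction_right with
  | one => simp [quad_one F Cd, vec_one F Cd]
  | mul_right k hk l hl ih =>
    have hkQ : k ∈ Qg D x z := by
      rw [Qg, ← Subgroup.mem_toSubmonoid, Subgroup.closure_toSubmonoid_of_finite]; exact hk
    obtain ⟨a, ha, hl⟩ := Set.mem_iUnion₂.1 hl
    obtain ⟨y, rfl⟩ := Cd.chart.surj a ha l hl
    rw [← mul_assoc, quad_mul_e F Cd ha (mul_mem hg hkQ), quad_mul_e F Cd ha hkQ, ih,
      vec_mul F Cd hkQ (e_le F Cd ha y), map_add, eta_mul F Cd ha hg hkQ, map_add, vec_e F Cd ha,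
      map_smul, inner_col F, vec_apply F Cd hg, smul_eq_mul]
    ring

theorem quad_norm {g : G} (hg : g ∈ Qg D x z) :
    quad Cd g + conjF (quad Cd g) = inner Cd (vec Cd g) (vec Cd g) := by
  rw [Qg, ← Subgroup.mem_toSubmonoid, Subgroup.closure_toSubmonoid_of_finite] at hg
  induction hg using Submonoid.closure_induction_right with
  | one => simp [quad_one F Cd, vec_one F Cd]
  | mul_right k hk l hl ih =>
    have hkQ : k ∈ Qg D x z := by
      rw [Qg, ← Subgroup.mem_toSubmonoid, Subgroup.closure_toSubmonoid_of_finite]; exact hk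
    obtain ⟨a, ha, hl⟩ := Set.mem_iUnion₂.1 hl
    obtain ⟨y, rfl⟩ := Cd.chart.surj a ha l hl
    rw [quad_mul_e F Cd ha hkQ, vec_mul F Cd hkQ (e_le F Cd ha y), vec_e F Cd ha]
    simp only [map_add, map_mul, map_smul, map_smulₛₗ, LinearMap.add_apply, LinearMap.smul_apply,
      inner_col F, col_inner F, vec_apply F Cd hkQ, smul_eq_mul, col_apply, K_self F Cd ha,
      conjF_conjF, map_zero, mul_zero, zero_mul, add_zero]
    linear_combination ih

/-- The translation by `g` on the space. -/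
theorem exists_trans {g : G} (hg : g ∈ Qg D x z) :
    ∃ h : isomGroup (form Cd), ∀ v : Tot Cd, h.1 v =
      (v.1 + inner Cd (vec Cd g) v.2.1 + v.2.2 * quad Cd g, v.2.1 + v.2.2 • vec Cd g, v.2.2) := by
  let L : Tot Cd →ₗ[FieldFour] Tot Cd :=
    { toFun := fun v => (v.1 + inner Cd (vec Cd g) v.2.1 + v.2.2 * quad Cd g,
        v.2.1 + v.2.2 • vec Cd g, v.2.2)
      map_add' := fun v w => Prod.ext (by simp; ring) (Prod.ext (by simp [add_smul]; abel) rfl)
      map_smul' := fun c v => Prod.ext (by simp; ring) (Prod.ext (by simp [smul_add, smul_smul]) rfl) }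
  obtain ⟨h, hh⟩ := (form_isHermitian F Cd).exists_of_preserving (form_sepRight F Cd) L fun v w => by
    have n := quad_norm F Cd hg
    simp only [L, LinearMap.coe_mk, AddHom.coe_mk, form_apply, map_add, map_mul, map_smul,
      map_smulₛₗ, LinearMap.add_apply, LinearMap.smul_apply, smul_eq_mul, inner_symm F]
    linear_combination (conjF v.2.2 * w.2.2) * n + (w.2.2 * inner Cd v.2.1 (vec Cd g) +
      conjF v.2.2 * inner Cd (vec Cd g) w.2.1 +
      conjF v.2.2 * w.2.2 * inner Cd (vec Cd g) (vec Cd g)) * two_eq_zero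
  exact ⟨h, hh⟩

omit F

/-- The members and their isotropic vectors. -/
def Rep (d : G) (v : Tot Cd) : Prop :=
  ∃ l : FieldFour, l ≠ 0 ∧
    ((d = x ∧ v = l • ((1, 0, 0) : Tot Cd)) ∨
      (∃ a : ↥(Cm D x z), ∃ y, d = pt Cd (a : G) y ∧ v = l • ((conjF y, col Cd a, 0) : Tot Cd)) ∨
      ∃ g ∈ Qg D x z, d = g * z * g⁻¹ ∧ v = l • ((quad Cd g, vec Cd g, 1) : Tot Cd))

include F

theorem rep_x : Rep Cd x ((1, 0, 0) : Tot Cd) := ⟨1, one_ne_zero, Or.inl ⟨rfl, (one_smul _ _).symm⟩⟩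

theorem rep_pt (a : ↥(Cm D x z)) (y : FieldFour) :
    Rep Cd (pt Cd (a : G) y) ((conjF y, col Cd a, 0) : Tot Cd) :=
  ⟨1, one_ne_zero, Or.inr (Or.inl ⟨a, y, rfl, (one_smul _ _).symm⟩)⟩

theorem rep_out {g : G} (hg : g ∈ Qg D x z) :
    Rep Cd (g * z * g⁻¹) ((quad Cd g, vec Cd g, 1) : Tot Cd) :=
  ⟨1, one_ne_zero, Or.inr (Or.inr ⟨g, hg, rfl, (one_smul _ _).symm⟩)⟩

theorem rep_smul {d : G} {v : Tot Cd} (h : Rep Cd d v) {c : FieldFour} (hc : c ≠ 0) :
    Rep Cd d (c • v) := by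
  obtain ⟨l, hl, h⟩ := h
  refine ⟨c * l, mul_ne_zero hc hl, h.imp (fun h => ⟨h.1, by rw [h.2, smul_smul]⟩)
    (Or.imp (fun ⟨a, y, h1, h2⟩ => ⟨a, y, h1, by rw [h2, smul_smul]⟩)
      fun ⟨g, hg, h1, h2⟩ => ⟨g, hg, h1, by rw [h2, smul_smul]⟩)⟩

theorem rep_exists {d : G} (hd : d ∈ D) : ∃ v, Rep Cd d v := by
  rcases cases_mem F hd with rfl | hd | ⟨g, hg, rfl⟩
  · exact ⟨_, rep_x F Cd⟩
  · obtain ⟨a, ha, -, hL⟩ := exists_base F hd
    obtain ⟨y, rfl⟩ := exists_pt F Cd ha (hL.symm ▸ right_mem_ln hd) hd.2.1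
    exact ⟨_, rep_pt F Cd ⟨a, ha⟩ y⟩
  · exact ⟨_, rep_out F Cd hg⟩

theorem rep_mem {d : G} {v : Tot Cd} (h : Rep Cd d v) : d ∈ D := by
  obtain ⟨l, -, ⟨rfl, -⟩ | ⟨a, y, rfl, -⟩ | ⟨g, hg, rfl, -⟩⟩ := h
  exacts [F.hx, (pt_mem F Cd a.2 y).1.1, F.thick.grp.2.1 g z F.hz]

theorem col_ne_zero (a : ↥(Cm D x z)) : col Cd a ≠ 0 := fun e => by
  obtain ⟨r, hr, hn⟩ := exists_adj_cm F a.2
  have h := congrArg (fun u : Sp Cd => u.1 ⟨r, hr⟩) e
  simp only [col_apply] at h
  exact K_ne_zero F Cd hr a.2 (fun e => hn e.symm) h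

theorem rep_unique {d : G} {v w : Tot Cd} (h1 : Rep Cd d v) (h2 : Rep Cd d w) :
    ∃ c : FieldFour, c ≠ 0 ∧ w = c • v := by
  have hG := F.thick.grp
  have sc : ∀ {l m : FieldFour} {u : Tot Cd}, l ≠ 0 → m ≠ 0 →
      ∃ c : FieldFour, c ≠ 0 ∧ m • u = c • l • u := fun {l m u} hl hm =>
    ⟨m / l, div_ne_zero hm hl, by rw [smul_smul, div_mul_cancel₀ _ hl]⟩
  have k1 : ∀ (a : ↥(Cm D x z)) (y : FieldFour), pt Cd (a : G) y ≠ x := fun a y => (pt_mem F Cd a.2 y).2
  have k2 : ∀ g ∈ Qg D x z, g * z * g⁻¹ ≠ x := fun g hg e =>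
    conj_not_commute F hg (e.symm ▸ Commute.refl x)
  have k3 : ∀ (a : ↥(Cm D x z)) (y : FieldFour), ∀ g ∈ Qg D x z, pt Cd (a : G) y ≠ g * z * g⁻¹ :=
    fun a y g hg e => conj_not_commute F hg
      (e ▸ (nb_of_ln hG (pt_mem F Cd a.2 y).1 (pt_mem F Cd a.2 y).2).2.2)
  obtain ⟨l, hl, ⟨rfl, rfl⟩ | ⟨a, y, rfl, rfl⟩ | ⟨g, hg, rfl, rfl⟩⟩ := h1 <;>
    obtain ⟨m, hm, ⟨e, rfl⟩ | ⟨b, y', e, rfl⟩ | ⟨k, hk, e, rfl⟩⟩ := h2
  · exact sc hl hm
  · exact absurd e.symm (k1 b y')
  · exact absurd e.symm (k2 k hk)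
  · exact absurd e (k1 a y)
  · have hab : a = b := Subtype.ext (base_unique F a.2.1 (right_mem_ln a.2.1) (by
      obtain ⟨ha, hax⟩ := pt_mem F Cd a.2 y
      obtain ⟨hb, hbx⟩ := pt_mem F Cd b.2 y'
      rw [← ln_eq hG F.thick F.hx a.2.1 (self_mem_ln F.hx) ha hax.symm, e,
        ln_eq hG F.thick F.hx b.2.1 (self_mem_ln F.hx) hb hbx.symm]
      exact right_mem_ln b.2.1) a.2.2.2.2.symm b.2.2.2.2.symm)
    subst hab
    obtain rfl := pt_inj F Cd a.2 e
    exact sc hl hm
  · exact absurd e (k3 a y k hk)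
  · exact absurd e (k2 g hg)
  · exact absurd e.symm (k3 b y' g hg)
  · obtain rfl := conj_inj_z F hg hk e
    exact sc hl hm

theorem col_inj {a b : ↥(Cm D x z)} {c : FieldFour} (e : col Cd a = c • col Cd b) : a = b := by
  have hG := F.thick.grp
  by_contra hne
  have hc : c ≠ 0 := fun h => col_ne_zero F Cd a (by rw [e, h, zero_smul])
  have hv : vec Cd (Cd.e (a : G) 1) = vec Cd (Cd.e (b : G) c) := by
    rw [vec_e F Cd a.2, vec_e F Cd b.2, one_smul, e]
  have hla := e_le F Cd a.2 1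
  have hlb := e_le F Cd b.2 c
  obtain ⟨h1, h1'⟩ := trans_mem F a.2 (Cd.chart.mem (a : G) a.2 1)
  obtain ⟨h2, h2'⟩ := trans_mem F b.2 (Cd.chart.mem (b : G) b.2 c)
  rcases eq_or_of_eta F Cd hlb hla (fun t ht => by
    rw [← vec_apply F Cd hlb ⟨t, ht⟩, ← vec_apply F Cd hla ⟨t, ht⟩, hv]) with h | h
  · have haz : z ∈ Nb D (a : G) := FischerLines.nb_symm F.hz a.2.2
    have hbz : z ∈ Nb D (b : G) := FischerLines.nb_symm F.hz b.2.2
    rw [h] at h2 h2'
    set w := Cd.e (a : G) 1 * z * (Cd.e (a : G) 1)⁻¹ with hw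
    have hwz : w ≠ z := fun e' => by
      have h0 := eq_one_of_fix F hla e'
      rw [← e_zero F Cd.chart a.2] at h0
      exact absurd (Cd.chart.inj (a : G) a.2 h0) one_ne_zero
    have eL : Ln D (a : G) z = Ln D (b : G) z := by
      rw [← ln_eq hG F.thick a.2.1.1 haz h1 (right_mem_ln haz) hwz,
        ← ln_eq hG F.thick b.2.1.1 hbz h2 (right_mem_ln hbz) hwz]
    exact hne (Subtype.ext (hit_unique hG F.thick a.2.1.1 haz (self_mem_ln a.2.1.1)
      (eL ▸ self_mem_ln b.2.1.1) (right_mem_ln haz) F.hx a.2.1.2.2.symm b.2.1.2.2.symm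
      fun e' => F.hn e'.symm))
  · have q := (quad_e F Cd a.2 1).2
    rw [← h, (quad_e F Cd b.2 c).1] at q
    exact zero_ne_one q

theorem rep_inj {d d' : G} {v : Tot Cd} (h1 : Rep Cd d v) (h2 : Rep Cd d' v) : d = d' := by
  obtain ⟨l, hl, ⟨hd, e1⟩ | ⟨a, y, rfl, e1⟩ | ⟨g, hg, rfl, e1⟩⟩ := h1 <;>
    obtain ⟨m, hm, ⟨hd', e2⟩ | ⟨b, y', rfl, e2⟩ | ⟨k, hk, rfl, e2⟩⟩ := h2 <;>
    rw [e1] at e2 <;>
    simp only [Prod.ext_iff, Prod.smul_fst, Prod.smul_snd, smul_zero, smul_eq_mul, mul_one,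
      mul_zero] at e2 <;> obtain ⟨p, q, r⟩ := e2
  · exact hd.trans hd'.symm
  · exact absurd ((smul_eq_zero.1 q.symm).resolve_left hm) (col_ne_zero F Cd b)
  · exact absurd r.symm hm
  · exact absurd ((smul_eq_zero.1 q).resolve_left hl) (col_ne_zero F Cd a)
  · have hab := col_inj F Cd (a := a) (b := b) (c := l⁻¹ * m) (by
      rw [← smul_smul, ← q, smul_smul, inv_mul_cancel₀ hl, one_smul])
    subst hab
    have hlm : l = m := by
      by_contra hne
      refine col_ne_zero F Cd a ((smul_eq_zero.1 ?_).resolve_left (sub_ne_zero.2 hne))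
      rw [sub_smul, q, sub_self]
    subst hlm
    rw [← conjF_conjF y, mul_left_cancel₀ hl p, conjF_conjF]
  · exact absurd r.symm hm
  · exact absurd r hl
  · exact absurd r hl
  · subst r
    have hv : vec Cd g = vec Cd k := smul_right_injective _ hl q
    rcases eq_or_of_eta F Cd hg hk (fun t ht => by
      rw [← vec_apply F Cd hg ⟨t, ht⟩, ← vec_apply F Cd hk ⟨t, ht⟩, hv]) with rfl | rfl
    · rfl
    · have h := mul_left_cancel₀ hl p
      rw [quad_mul F Cd hk (x_mem F), quad_x F Cd, vec_x F Cd, map_zero, add_zero] at h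
      exact absurd (add_eq_left.1 h) one_ne_zero

theorem rep_iso {d : G} {v : Tot Cd} (h : Rep Cd d v) : v ≠ 0 ∧ form Cd v v = 0 := by
  have hS := form_isHermitian F Cd
  obtain ⟨l, hl, ⟨-, rfl⟩ | ⟨a, y, -, rfl⟩ | ⟨g, hg, -, rfl⟩⟩ := h <;>
    refine ⟨smul_ne_zero hl fun e => ?_, ?_⟩
  · exact one_ne_zero (congrArg Prod.fst e)
  · rw [hS.smul_self]
    simp [form_apply]
  · exact col_ne_zero F Cd a (congrArg (fun w : Tot Cd => w.2.1) e)
  · rw [hS.smul_self]
    simp [form_apply, col_inner F, col_apply, K_self F Cd a.2]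
  · exact one_ne_zero (congrArg (fun w : Tot Cd => w.2.2) e)
  · rw [hS.smul_self]
    simp only [form_apply, map_one, mul_one, one_mul, ← quad_norm F Cd hg, mul_eq_zero]
    exact Or.inr (by linear_combination (quad Cd g + conjF (quad Cd g)) * two_eq_zero)

omit F

/-- An isometry inducing conjugation by a group element on the members. -/
def Cor (h : isomGroup (form Cd)) (g : G) : Prop :=
  ∀ d v, Rep Cd d v → Rep Cd (g * d * g⁻¹) (h.1 v)

include F

theorem cor_one : Cor Cd 1 1 := fun d v hv => by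
  simpa using hv

theorem cor_mul {h h' : isomGroup (form Cd)} {g g' : G} (c : Cor Cd h g) (c' : Cor Cd h' g') :
    Cor Cd (h * h') (g * g') := fun d v hv => by
  rw [show g * g' * d * (g * g')⁻¹ = g * (g' * d * g'⁻¹) * g⁻¹ by group]
  exact c _ _ (c' d v hv)

theorem cor_inv {h : isomGroup (form Cd)} {g : G} (c : Cor Cd h g) : Cor Cd h⁻¹ g⁻¹ := fun d v hv => by
  rw [inv_inv]
  obtain ⟨w, hw⟩ := rep_exists F Cd (show g⁻¹ * d * g ∈ D by
    simpa using F.thick.grp.2.1 g⁻¹ d (rep_mem F Cd hv))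
  have h1 := c _ _ hw
  rw [show g * (g⁻¹ * d * g) * g⁻¹ = d by group] at h1
  obtain ⟨k, hk, e⟩ := rep_unique F Cd h1 hv
  have e2 : (h⁻¹ : isomGroup (form Cd)).1 v = k • w := by
    change h.1.symm v = k • w
    rw [LinearEquiv.symm_apply_eq, map_smul, e]
  rw [e2]
  exact rep_smul F Cd hw hk

theorem cor_eq {h : isomGroup (form Cd)} {g g' : G} (c : Cor Cd h g) (c' : Cor Cd h g') :
    g = g' := by
  refine (inv_mul_eq_one.1 (eq_one_of_commute F.thick fun d hd => ?_)).symm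
  obtain ⟨v, hv⟩ := rep_exists F Cd hd
  have e : g * d * g⁻¹ = g' * d * g'⁻¹ := rep_inj F Cd (c d v hv) (c' d v hv)
  refine (mul_inv_eq_iff_eq_mul.1 ?_).symm
  calc g'⁻¹ * g * d * (g'⁻¹ * g)⁻¹ = g'⁻¹ * (g * d * g⁻¹) * g' := by group
    _ = d := by rw [e]; group

theorem exists_cor_trans {g : G} (hg : g ∈ Qg D x z) :
    ∃ h : isomGroup (form Cd), Cor Cd h g ∧ ∀ v : Tot Cd, h.1 v =
      (v.1 + inner Cd (vec Cd g) v.2.1 + v.2.2 * quad Cd g, v.2.1 + v.2.2 • vec Cd g, v.2.2) := by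
  obtain ⟨h, hh⟩ := exists_trans F Cd hg
  refine ⟨h, fun d v hv => ?_, hh⟩
  obtain ⟨l, hl, ⟨rfl, rfl⟩ | ⟨a, y, rfl, rfl⟩ | ⟨k, hk, rfl, rfl⟩⟩ := hv <;>
    rw [map_smul] <;> refine rep_smul F Cd ?_ hl <;> rw [hh]
  · rw [← (commute_x F hg).eq, mul_inv_cancel_right]
    simpa using rep_x F Cd
  · obtain ⟨k, hk, rfl⟩ := exists_move F Cd a.2 y
    rw [← conj_pt F Cd a.2 hk, show g * (k * (a : G) * k⁻¹) * g⁻¹ = g * k * (a : G) * (g * k)⁻¹ by
      group, conj_pt F Cd a.2 (mul_mem hg hk), eta_mul F Cd a.2 hg hk, add_comm (eta Cd (a : G) g)]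
    simpa [inner_col F, vec_apply F Cd hg] using rep_pt F Cd a (eta Cd (a : G) k + eta Cd (a : G) g)
  · rw [show g * (k * z * k⁻¹) * g⁻¹ = g * k * z * (g * k)⁻¹ by group]
    convert rep_out F Cd (mul_mem hg hk) using 2 <;>
      simp [quad_mul F Cd hg hk, vec_mul F Cd hg hk, add_comm, add_left_comm, add_assoc]

end CfsgLib.Sporadic.FischerCoord
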