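import Cfsg.Agent.Lib.Sporadic.FischerCores
import Cfsg.Agent.Lib.Components.GenFitting

/-!
# The layer of a group generated by a class of 3-transpositions

Every component is normal, there is at most one, and it exists exactly when the 2- and 3-cores
are central.
-/

set_option autoImplicit false
set_option linter.style.haveILetI false

namespace CfsgLib.Sporadic.FischerLayer

open CfsgLib.Sporadic.FischerTransitivity CfsgLib.Sporadic.FischerRankThree
open CfsgLib.Sporadic.FischerCores
open CfsgLib.Solvable CfsgLib.ThreeTransp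
open CfsgLib.Components
open scoped commutatorElement

variable {G : Type*} [Group G] [Finite G] {D : Set G} (hG : Cfsg.IsThreeTranspositionGroup D)
  (hclass : ∀ a ∈ D, ∀ b ∈ D, ∃ g : G, g * a * g⁻¹ = b) (hD2 : ∃ a ∈ D, ∃ b ∈ D, a ≠ b)

include hG hclass hD2

omit [Finite G] in
theorem exists_adj' {d : G} (hd : d ∈ D) : ∃ f ∈ D, ¬ Commute d f := by
  obtain ⟨a, ha, b, hb, hab⟩ := hD2
  by_cases h : d = a
  · exact exists_adj hG hclass hd hb (h ▸ hab)
  · exact exists_adj hG hclass hd ha h

omit [Finite G] in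
theorem center_ne_top : Subgroup.center G ≠ ⊤ := by
  intro h
  obtain ⟨a, ha, -⟩ := id hD2
  obtain ⟨f, -, hn⟩ := exists_adj' hG hclass hD2 ha
  exact hn ((Subgroup.mem_center_iff.1 (h ▸ Subgroup.mem_top f)) a)

/-- Every component is normal. -/
theorem component_normal {L : Subgroup G} (hL : Cfsg.IsComponent L) : L.Normal := by
  have key : ∀ d ∈ D, L.map (MulAut.conj d).toMonoidHom = L := by
    intro d hd
    by_contra hne
    have hc := IsComponent.le_centralizer_of_ne hL (IsComponent.conj hL d) (Ne.symm hne)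
    apply IsComponent.not_isSolvable hL
    haveI : Group.IsSolvable (↥L ⧸ Subgroup.center ↥L) := by
      refine solvable_of_two_three fun q => ?_
      obtain ⟨x, rfl⟩ := QuotientGroup.mk_surjective q
      have hm : d * (x : G)⁻¹ * d ∈ L.map (MulAut.conj d).toMonoidHom :=
        ⟨(x : G)⁻¹, L.inv_mem x.2, by simp [inv_eq hG hd]⟩
      have hxm : Commute (x : G) (d * (x : G)⁻¹ * d) :=
        (Subgroup.mem_centralizer_iff.1 (hc x.2) _ hm).symm
      have e : (x : G) * d * (x : G)⁻¹ * d = (x : G) * (d * (x : G)⁻¹ * d) := by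
        simp only [mul_assoc]
      have hn : ∀ n : ℕ, ((x : G) * d * (x : G)⁻¹ * d) ^ n = 1 →
          ((x : L) : ↥L ⧸ Subgroup.center ↥L) ^ n = 1 := by
        intro n hn
        rw [← QuotientGroup.mk_pow, QuotientGroup.eq_one_iff, Subgroup.mem_center_iff]
        intro y
        rw [e, hxm.mul_pow] at hn
        have hmem : ((x : G) ^ n) ∈ L.map (MulAut.conj d).toMonoidHom := by
          rw [eq_inv_of_mul_eq_one_left hn]
          exact Subgroup.inv_mem _ (Subgroup.pow_mem _ hm n)
        exact Subtype.ext (by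
          simpa using (Subgroup.mem_centralizer_iff.1 (hc y.2) _ hmem).symm)
      rcases hG.1.2 _ (hG.2.1 (x : G) d hd) d hd with h | h
      · exact Or.inl (hn 2 h)
      · exact Or.inr (hn 3 h)
    haveI : Group.IsSolvable ↥(Subgroup.center ↥L) :=
      Group.isSolvable_of_comm fun a b => Subtype.ext (Subgroup.mem_center_iff.1 b.2 a)
    exact Group.isSolvable_of_ker_le_range (Subgroup.center ↥L).subtype
      (QuotientGroup.mk' (Subgroup.center ↥L))
      (by rw [QuotientGroup.ker_mk', Subgroup.range_subtype])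
  refine Subgroup.normalizer_eq_top_iff.1 (top_le_iff.1 ?_)
  rw [← hG.2.2, Subgroup.closure_le]
  intro d hd
  exact Components.mem_normalizer_iff_map_conj_eq.2 (key d hd)

variable {L : Subgroup G} (hL : Cfsg.IsComponent L)

include hL

theorem conj_mul_mem {d : G} (hd : d ∈ D) {x : G} (hx : x ∈ L) : x * d * x⁻¹ * d ∈ L := by
  haveI := component_normal hG hclass hD2 hL
  have h1 : d * x⁻¹ * d⁻¹ ∈ L := Subgroup.Normal.conj_mem inferInstance _ (L.inv_mem hx) d
  rw [inv_eq hG hd] at h1
  simpa [mul_assoc] using L.mul_mem hx h1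

/-- No member centralizes a component. -/
theorem not_centralize {d : G} (hd : d ∈ D) : ¬ ∀ x ∈ L, Commute d x := by
  intro hall
  haveI := component_normal hG hclass hD2 hL
  apply IsComponent.not_isSolvable hL
  have hc : L ≤ Subgroup.center G := by
    refine le_center_of_fix hG.2.2 fun e he x hx => ?_
    obtain ⟨g, rfl⟩ := hclass d hd e he
    have h1 := hall (g⁻¹ * x * g) (by
      simpa using Subgroup.Normal.conj_mem inferInstance x hx g⁻¹)
    have h2 := (Commute.conj_iff g).2 h1
    simpa [mul_assoc] using h2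
  exact Group.isSolvable_of_comm fun a b =>
    Subtype.ext (Subgroup.mem_center_iff.1 (hc b.2) a)

/-- The products with one member generate the component. -/
theorem products_top {d : G} (hd : d ∈ D) :
    Subgroup.closure {k : G | ∃ x ∈ L, k = x * d * x⁻¹ * d} = L := by
  haveI := component_normal hG hclass hD2 hL
  set M := Subgroup.closure {k : G | ∃ x ∈ L, k = x * d * x⁻¹ * d} with hM
  have hle : M ≤ L := (Subgroup.closure_le L).2 (by
    rintro _ ⟨x, hx, rfl⟩; exact conj_mul_mem hG hclass hD2 hL hd hx)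
  haveI hn : (M.subgroupOf L).Normal := ⟨fun k hk y => by
    rw [Subgroup.mem_subgroupOf] at hk ⊢
    refine (Subgroup.closure_le (M.comap (MulAut.conj (y : G)).toMonoidHom)).2 ?_ hk
    rintro _ ⟨x, hx, rfl⟩
    have h1 : (y : G) * x * d * ((y : G) * x)⁻¹ * d ∈ M :=
      Subgroup.subset_closure ⟨_, L.mul_mem y.2 hx, rfl⟩
    have h2 : (y : G) * d * (y : G)⁻¹ * d ∈ M := Subgroup.subset_closure ⟨_, y.2, rfl⟩
    have h3 := M.mul_mem h1 (M.inv_mem h2)
    show (y : G) * (x * d * x⁻¹ * d) * (y : G)⁻¹ ∈ M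
    convert h3 using 1
    simp only [mul_inv_rev, inv_eq hG hd, inv_inv]
    calc (y : G) * (x * d * x⁻¹ * d) * (y : G)⁻¹
        = (y : G) * x * d * x⁻¹ * 1 * (d * (y : G)⁻¹) := by simp only [mul_assoc, one_mul]
      _ = (y : G) * x * d * (x⁻¹ * (y : G)⁻¹) * ((d * d) * ((y : G) * (d * (y : G)⁻¹))) := by
          rw [sq hG hd]; simp only [mul_assoc, one_mul, inv_mul_cancel_left]
      _ = (y : G) * x * d * (x⁻¹ * (y : G)⁻¹) * d * (d * ((y : G) * (d * (y : G)⁻¹))) := by
          simp only [mul_assoc]⟩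
  rcases IsQuasisimple.normal_le_center_or_top hL.2 (M.subgroupOf L) with h | h
  · exfalso
    refine not_centralize hG hclass hD2 hL hd fun x hx => ?_
    have hz : ∀ x ∈ L, ∀ y ∈ L, Commute (x * d * x⁻¹ * d) y := by
      intro x hx y hy
      have hm : (⟨_, conj_mul_mem hG hclass hD2 hL hd hx⟩ : L) ∈ M.subgroupOf L :=
        Subgroup.subset_closure ⟨x, hx, rfl⟩
      exact (congrArg Subtype.val (Subgroup.mem_center_iff.1 (h hm) ⟨y, hy⟩)).symm
    have hφ : ∀ y : G, y ∈ ⁅L, L⁆ → d * y * d⁻¹ = y := by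
      have hle' : ⁅L, L⁆ ≤ (MulAut.conj d).toMonoidHom.eqLocus (MonoidHom.id G) := by
        rw [Subgroup.commutator_le]
        intro a ha b hb
        show d * ⁅a, b⁆ * d⁻¹ = ⁅a, b⁆
        have hza : ∀ a ∈ L, ∃ z : L, z ∈ Subgroup.center L ∧ d * a * d⁻¹ = a * z := by
          intro a ha
          refine ⟨⟨_, L.inv_mem (conj_mul_mem hG hclass hD2 hL hd ha)⟩, ?_, ?_⟩
          · rw [Subgroup.mem_center_iff]
            intro y
            exact Subtype.ext (((hz a ha y y.2).inv_left).eq.symm)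
          · show d * a * d⁻¹ = a * (a * d * a⁻¹ * d)⁻¹
            rw [← ((hz a ha a ha).inv_left).eq, inv_eq hG hd]
            simp only [mul_inv_rev, inv_inv, inv_eq hG hd, mul_assoc, inv_mul_cancel, mul_one]
        obtain ⟨za, hza1, hza2⟩ := hza a ha
        obtain ⟨zb, hzb1, hzb2⟩ := hza b hb
        have h0 : ⁅(⟨a, ha⟩ : L) * za, ⟨b, hb⟩ * zb⁆ = ⁅(⟨a, ha⟩ : L), ⟨b, hb⟩⁆ :=
          commutatorElement_mul_center hza1 hzb1
        have h0' := congrArg Subtype.val h0
        simp only [commutatorElement_def, Subgroup.coe_mul, Subgroup.coe_inv] at h0'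
        calc d * ⁅a, b⁆ * d⁻¹ = (d * a * d⁻¹) * (d * b * d⁻¹) * (d * a * d⁻¹)⁻¹ *
              (d * b * d⁻¹)⁻¹ := by simp [commutatorElement_def, mul_assoc]
          _ = ⁅a, b⁆ := by rw [hza2, hzb2, h0']; rfl
      exact fun y hy => hle' hy
    exact mul_inv_eq_iff_eq_mul.1 (hφ x ((IsComponent.commutator_self hL).symm ▸ hx))
  · exact le_antisymm hle (Subgroup.subgroupOf_eq_top.1 h)

/-- Some conjugate under the component does not commute with the member. -/
theorem exists_adjacent_conj {d : G} (hd : d ∈ D) : ∃ x ∈ L, ¬ Commute d (x * d * x⁻¹) := by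
  by_contra hno
  push Not at hno
  apply IsComponent.not_isSolvable hL
  set X : Set G := {e | ∃ x ∈ L, e = x * d * x⁻¹} with hX
  have hp : IsPGroup 2 (Subgroup.closure X) := by
    refine SylowWidth.isPGroup_closure ?_ ?_
    · rintro _ ⟨x, -, rfl⟩; exact hG.1.1 _ (hG.2.1 x d hd)
    · rintro _ ⟨x, hx, rfl⟩ _ ⟨y, hy, rfl⟩
      have h := (Commute.conj_iff x).2 (hno (x⁻¹ * y) (L.mul_mem (L.inv_mem hx) hy))
      simpa [mul_assoc] using h
  have hdX : d ∈ Subgroup.closure X := Subgroup.subset_closure ⟨1, L.one_mem, by simp⟩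
  have hle : L ≤ Subgroup.closure X := by
    rw [← products_top hG hclass hD2 hL hd, Subgroup.closure_le]
    rintro _ ⟨x, hx, rfl⟩
    exact Subgroup.mul_mem _ (Subgroup.subset_closure ⟨x, hx, rfl⟩) hdX
  haveI : Fact (Nat.Prime 2) := ⟨Nat.prime_two⟩
  haveI := hp.isNilpotent
  exact Group.isSolvable_of_isSolvable_injective (f := Subgroup.inclusion hle)
    (Subgroup.inclusion_injective _)

/-- Some other conjugate under the component commutes with the member. -/
theorem exists_commuting_conj {d : G} (hd : d ∈ D) :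
    ∃ x ∈ L, Commute d (x * d * x⁻¹) ∧ x * d * x⁻¹ ≠ d := by
  by_contra hno
  push Not at hno
  haveI := component_normal hG hclass hD2 hL
  apply IsComponent.not_isSolvable hL
  set X : Set G := {e | ∃ x ∈ L, e = x * d * x⁻¹} with hX
  set H := Subgroup.closure X with hH
  set S : Set H := {z | (z : G) ∈ X} with hS
  have hXconj : ∀ k ∈ H, ∀ z, z ∈ X ↔ k * z * k⁻¹ ∈ X := by
    intro k hk
    induction hk using Subgroup.closure_induction with
    | mem e he =>
      obtain ⟨x, hx, rfl⟩ := he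
      have he' := hG.2.1 x d hd
      have hstep : ∀ z ∈ X, cj (x * d * x⁻¹) z ∈ X := by
        rintro _ ⟨y, hy, rfl⟩
        have hc : d * (x⁻¹ * y) * d⁻¹ ∈ L :=
          Subgroup.Normal.conj_mem inferInstance _ (L.mul_mem (L.inv_mem hx) hy) d
        refine ⟨x * (d * (x⁻¹ * y) * d⁻¹), L.mul_mem hx hc, ?_⟩
        simp only [cj, mul_inv_rev, inv_inv, mul_assoc, inv_eq hG hd]
        rw [← mul_assoc d d, sq hG hd, one_mul]
      intro z
      rw [← cj_conj hG he']
      exact ⟨hstep z, fun h => by simpa [cj_cj hG he'] using hstep _ h⟩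
    | one => simp
    | mul g k _ _ ihg ihk => intro z; rw [ihk z, ihg (k * z * k⁻¹)]; simp [mul_assoc]
    | inv g _ ih => intro z; rw [ih (g⁻¹ * z * g⁻¹⁻¹)]; simp [mul_assoc]
  have hS3 : Cfsg.IsThreeTranspositionSet S := by
    have hXD : ∀ z ∈ X, z ∈ D := by rintro _ ⟨x, -, rfl⟩; exact hG.2.1 x d hd
    refine ⟨fun z hz => ?_, fun a ha b hb => ?_⟩
    · rw [← Subgroup.orderOf_coe]
      exact hG.1.1 _ (hXD _ hz)
    · rcases hG.1.2 _ (hXD _ ha) _ (hXD _ hb) with h | h
      · exact Or.inl (Subtype.ext (by simpa using h))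
      · exact Or.inr (Subtype.ext (by simpa using h))
  have hSconj : ∀ g : H, ∀ z ∈ S, g * z * g⁻¹ ∈ S := fun g z hz => (hXconj g g.2 z).1 hz
  have hw : ∀ a ∈ S, ∀ b ∈ S, Commute a b → a = b := by
    rintro ⟨a, ha'⟩ ⟨x, hx, (rfl : a = _)⟩ ⟨b, hb'⟩ ⟨y, hy, (rfl : b = _)⟩ hab
    apply Subtype.ext
    have h1 : Commute (x * d * x⁻¹) (y * d * y⁻¹) := congrArg Subtype.val hab.eq
    have h2 : Commute d (x⁻¹ * y * d * (x⁻¹ * y)⁻¹) := by
      have := (Commute.conj_iff x⁻¹).2 h1
      simpa [mul_assoc] using this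
    have h3 := hno (x⁻¹ * y) (L.mul_mem (L.inv_mem hx) hy) h2
    have h4 := congrArg (fun g => x * g * x⁻¹) h3
    show x * d * x⁻¹ = y * d * y⁻¹
    rw [← h4]
    simp [mul_assoc]
  haveI : Fact (Nat.Prime 3) := ⟨Nat.prime_three⟩
  haveI : Group.IsNilpotent ↥((Cfsg.pCore 3 H).map H.subtype) :=
    ((Cores.isPGroup_pCore (G := H) 3).map _).isNilpotent
  have hle : L ≤ (Cfsg.pCore 3 H).map H.subtype := by
    rw [← products_top hG hclass hD2 hL hd, Subgroup.closure_le]
    rintro _ ⟨x, hx, rfl⟩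
    have hd' : d ∈ X := ⟨1, L.one_mem, by simp⟩
    exact ⟨⟨_, Subgroup.subset_closure ⟨x, hx, rfl⟩⟩ * ⟨d, Subgroup.subset_closure hd'⟩,
      WidthOne.mul_mem_pCore hS3 hSconj hw ⟨x, hx, rfl⟩ hd', rfl⟩
  exact Group.isSolvable_of_isSolvable_injective (f := Subgroup.inclusion hle)
    (Subgroup.inclusion_injective _)

/-- There is only one component. -/
theorem component_unique {K : Subgroup G} (hK : Cfsg.IsComponent K) : K = L := by
  by_contra hne
  obtain ⟨d, hd, -⟩ := id hD2
  obtain ⟨x, hx, hxc, hxne⟩ := exists_commuting_conj hG hclass hD2 hL hd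
  obtain ⟨y, hy, hya⟩ := exists_adjacent_conj hG hclass hD2 hK hd
  have hp2K := conj_mul_mem hG hclass hD2 hK hd hy
  set p1 := x * d * x⁻¹ * d with hp1
  set p2 := y * d * y⁻¹ * d with hp2
  have hp1L := conj_mul_mem hG hclass hD2 hL hd hx
  have hc : ∀ a ∈ L, ∀ b ∈ K, Commute a b := fun a ha b hb =>
    (Subgroup.mem_centralizer_iff.1 (IsComponent.le_centralizer_of_ne hL hK (Ne.symm hne) ha)
      b hb).symm
  have h12 : p1 ^ 2 = 1 :=
    (Basic.commute_iff (sq hG (hG.2.1 x d hd)) (sq hG hd)).1 hxc.symm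
  have h23 : p2 ^ 3 = 1 :=
    (congrArg (p2 ^ ·) (Basic.orderOf_mul_three hG.1 (hG.2.1 y d hd) hd fun h => hya h.symm)).symm.trans
      (pow_orderOf_eq_one _)
  have hq : x * y * d * (x * y)⁻¹ * d = p2 * p1 := by
    have h1 : Commute x p2 := hc x hx p2 hp2K
    calc x * y * d * (x * y)⁻¹ * d = x * (y * d * y⁻¹ * d) * d * x⁻¹ * d := by
          simp only [mul_inv_rev, mul_assoc]
          rw [← mul_assoc d d, sq hG hd, one_mul]
      _ = p2 * p1 := by rw [← hp2, h1.eq, hp1]; simp only [mul_assoc]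
  have hc' : Commute p2 p1 := (hc p1 hp1L p2 hp2K).symm
  rcases hG.1.2 _ (hG.2.1 (x * y) d hd) d hd with h | h
  · rw [hq, hc'.mul_pow, h12, mul_one] at h
    rw [pow_succ, h, one_mul] at h23
    apply hya
    rw [eq_inv_of_mul_eq_one_left h23, inv_eq hG hd]
  · rw [hq, hc'.mul_pow, h23, one_mul] at h
    rw [pow_succ, h12, one_mul] at h
    exact hxne (by rw [eq_inv_of_mul_eq_one_left h, inv_eq hG hd])

theorem layer_eq : Cfsg.layer G = L :=
  le_antisymm (layer_le_iff.2 fun _ hK => (component_unique hG hclass hD2 hL hK).le)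
    (IsComponent.le_layer hL)

theorem commute_pCore (p : ℕ) [Fact p.Prime] {x o : G} (hx : x ∈ L) (ho : o ∈ Cfsg.pCore p G) :
    Commute x o := by
  haveI := Cores.pCore_isNilpotent (G := G) p
  have h := Subgroup.commutator_eq_bot_iff_le_centralizer.1
    (layer_commutator_solvable_eq_bot (G := G) (Cfsg.pCore p G))
    (IsComponent.le_layer hL hx)
  exact (Subgroup.mem_centralizer_iff.1 h o ho).symm

/-- A component makes `O₂(G)` central. -/
theorem pCore_two_le_center : Cfsg.pCore 2 G ≤ Subgroup.center G := by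
  haveI : Fact (Nat.Prime 2) := ⟨Nat.prime_two⟩
  by_contra hnc
  obtain ⟨d, v, hdv, hne⟩ := exists_sameV_of_noncentral hG hnc
  obtain ⟨o, ho, rfl⟩ := sameV_orbit hG hclass hdv
  have hd := hdv.1
  set v := o * d * o⁻¹ with hvdef
  have hv : v ∈ D := hdv.2.1
  obtain ⟨x, hx, hxa⟩ := exists_adjacent_conj hG hclass hD2 hL hd
  have hu := mul_mem_pCore_two hG hdv
  have hxu : Commute x (d * v) := commute_pCore hG hclass hD2 hL 2 hx hu
  set a := x * d * x⁻¹ with hadef
  have ha : a ∈ D := hG.2.1 x d hd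
  have hxo := commute_pCore hG hclass hD2 hL 2 hx ho
  set v' := o * a * o⁻¹ with hv'def
  have hv' : v' ∈ D := hG.2.1 o a ha
  have hv'x : v' = x * v * x⁻¹ := by
    rw [hv'def, hvdef, hadef]
    calc o * (x * d * x⁻¹) * o⁻¹ = (o * x) * d * (o * x)⁻¹ := by simp only [mul_inv_rev, mul_assoc]
      _ = (x * o) * d * (x * o)⁻¹ := by rw [hxo.eq]
      _ = x * (o * d * o⁻¹) * x⁻¹ := by simp only [mul_inv_rev, mul_assoc]
  have hav' : a * v' = d * v := by
    rw [hv'x, hadef]
    calc x * d * x⁻¹ * (x * v * x⁻¹) = x * (d * v) * x⁻¹ := by simp [mul_assoc]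
      _ = d * v := by rw [hxu.eq, mul_assoc, mul_inv_cancel, mul_one]
  have hc : Commute a v' :=
    (sameV_of_coset hG ha hv' (orbit_coset hG ha ho)).commute
  have hva : ¬ Commute a v := fun h => hxa ((hdv.2.2 a ha).2 h.symm)
  have hvv : v' = a * (d * v) := by rw [← hav', ← mul_assoc, sq hG ha, one_mul]
  have h1 : cj a d * cj a v = d * v := by
    have h' := hc.eq
    rw [hvv, ← mul_assoc, sq hG ha, one_mul] at h'
    calc cj a d * cj a v = a * d * (a * a) * v * a := by simp only [cj, mul_assoc]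
      _ = a * (d * v) * a := by rw [sq hG ha, mul_one]; simp only [mul_assoc]
      _ = d * v := h'.symm
  rw [cj_comm hG ha hd (fun h => hxa h.symm), cj_comm hG ha hv hva] at h1
  have h2 : a * (d * v) * a = 1 := by
    simp only [cj, mul_assoc] at h1 ⊢
    have h3 := mul_left_cancel h1
    have h4 : a * d * v * a * v = 1 * v := by rw [one_mul]; simpa [mul_assoc] using h3
    simpa [mul_assoc] using mul_right_cancel h4
  have h5 : d * v = 1 := by
    have h6 := congrArg (cj a) h2
    rw [← cj, cj_cj hG ha, cj, mul_one, sq hG ha] at h6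
    exact h6
  exact hne ((eq_inv_of_mul_eq_one_left h5).trans (inv_eq hG hv))

/-- A component makes `O₃(G)` central. -/
theorem pCore_three_le_center : Cfsg.pCore 3 G ≤ Subgroup.center G := by
  haveI : Fact (Nat.Prime 3) := ⟨Nat.prime_three⟩
  by_contra hnc
  obtain ⟨d, hd, w, hw, hdw, hne⟩ := exists_nb_of_noncentral hG hnc
  obtain ⟨x, hx, hxc, hxne⟩ := exists_commuting_conj hG hclass hD2 hL hd
  have hu := mul_mem_pCore_three hG hd hw hdw
  have hxu : Commute x (d * w) := commute_pCore hG hclass hD2 hL 3 hx hu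
  set a := x * d * x⁻¹ with hadef
  have ha : a ∈ D := hG.2.1 x d hd
  have haw : Commute a w := by
    have : a ∈ Nb D w := hdw ▸ (⟨ha, hxne, hxc⟩ : a ∈ Nb D d)
    exact this.2.2.symm
  set w' := x * w * x⁻¹ with hw'def
  have hw' : w' ∈ D := hG.2.1 x w hw
  have haw' : a * w' = d * w := by
    rw [hadef, hw'def]
    calc x * d * x⁻¹ * (x * w * x⁻¹) = x * (d * w) * x⁻¹ := by simp [mul_assoc]
      _ = d * w := by rw [hxu.eq, mul_assoc, mul_inv_cancel, mul_one]
  have hnb : Nb D a = Nb D w' := nb_eq_conj hG x hdw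
  have hne' : a ≠ w' := fun h => hne (mul_left_cancel (mul_right_cancel h))
  have hc : Commute a w' := by
    have e : w' = a * (d * w) := by rw [← haw', ← mul_assoc, sq hG ha, one_mul]
    rw [e]
    exact (Commute.refl a).mul_right (hxc.symm.mul_right haw)
  exact hne' (eq_of_nb_commute hnb hw' hc)

omit hL

/-- With central cores there is a component. -/
theorem exists_component (h2 : Cfsg.pCore 2 G ≤ Subgroup.center G)
    (h3 : Cfsg.pCore 3 G ≤ Subgroup.center G) : ∃ L : Subgroup G, Cfsg.IsComponent L := by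
  by_contra hno
  push Not at hno
  have hbot := layer_eq_bot_iff.2 hno
  have hC := centralizer_fitting_le_iff.2 hbot
  have hF := fitting_le_center hG h2 h3
  refine center_ne_top hG hclass hD2 (top_le_iff.1 (le_trans ?_ (hC.trans hF)))
  intro g _
  rw [Subgroup.mem_centralizer_iff]
  exact fun h hh => (Subgroup.mem_center_iff.1 (hF hh) g).symm

omit hclass hD2 in
theorem fitting_eq_center (h2 : Cfsg.pCore 2 G ≤ Subgroup.center G)
    (h3 : Cfsg.pCore 3 G ≤ Subgroup.center G) : Cfsg.fittingSubgroup G = Subgroup.center G := by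
  refine le_antisymm (fitting_le_center hG h2 h3) ?_
  haveI := isNilpotent_of_isMulCommutative (Subgroup.center G)
  exact Cores.le_fittingSubgroup inferInstance

include hL

/-- Two members with commutator in the component agree modulo the component. -/
theorem mul_mem_component {a b : G} (ha : a ∈ D) (hb : b ∈ D)
    (h : a * b * a⁻¹ * b⁻¹ ∈ L) : a⁻¹ * b ∈ L := by
  haveI := component_normal hG hclass hD2 hL
  rw [inv_eq hG ha] at h ⊢
  rw [inv_eq hG hb] at h
  by_cases hc : Commute a b
  · by_contra hab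
    have hcomm : ∀ x ∈ L, Commute (x * a * x⁻¹) b := by
      intro x hx
      by_contra hn
      have h3 : (x * a * x⁻¹ * b) ^ 3 = 1 :=
        (congrArg ((x * a * x⁻¹ * b) ^ ·)
          (Basic.orderOf_mul_three hG.1 (hG.2.1 x a ha) hb hn)).symm.trans (pow_orderOf_eq_one _)
      let π := QuotientGroup.mk' L
      have hx1 : π x = 1 := (QuotientGroup.eq_one_iff x).2 hx
      have h4 : π ((a * b) ^ 3) = 1 := by
        have h5 := congrArg π h3
        simpa only [map_pow, map_mul, map_inv, hx1, one_mul, inv_one, mul_one, map_one] using h5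
      rw [pow_succ, (Basic.commute_iff (sq hG ha) (sq hG hb)).1 hc, one_mul] at h4
      exact hab ((QuotientGroup.eq_one_iff _).1 h4)
    refine not_centralize hG hclass hD2 hL hb fun y hy => ?_
    rw [← products_top hG hclass hD2 hL ha] at hy
    induction hy using Subgroup.closure_induction with
    | mem k hk =>
      obtain ⟨x, hx, rfl⟩ := hk
      exact (hcomm x hx).symm.mul_right hc.symm
    | one => exact Commute.one_right b
    | mul _ _ _ _ h1 h2 => exact h1.mul_right h2
    | inv _ _ h => exact h.inv_right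
  · have h3 : (a * b) ^ 3 = 1 :=
      (congrArg ((a * b) ^ ·) (Basic.orderOf_mul_three hG.1 ha hb hc)).symm.trans
        (pow_orderOf_eq_one _)
    have h2 : (a * b) ^ 2 ∈ L := by simpa [pow_two, mul_assoc] using h
    have e : a * b = ((a * b) ^ 2) ^ 2 := by
      rw [← pow_mul, show 2 * 2 = 3 + 1 from rfl, pow_succ, h3, one_mul]
    rw [e]
    exact L.pow_mem h2 2

/-- A connected commuting graph forces index at most two. -/
theorem index_le_two (hconn : ∀ a ∈ D, ∀ b ∈ D, Relation.ReflTransGen (CRel D) a b) :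
    L.index ≤ 2 := by
  haveI := component_normal hG hclass hD2 hL
  obtain ⟨d, hd, -⟩ := id hD2
  let π := QuotientGroup.mk' L
  have heq : ∀ e ∈ D, π e = π d := by
    intro e he
    have hr := hconn d hd e he
    clear he
    induction hr with
    | refl => rfl
    | @tail p q _ hpq ih =>
      rw [← ih]
      refine (QuotientGroup.eq.2 ?_).symm
      refine mul_mem_component hG hclass hD2 hL hpq.1 hpq.2.1 ?_
      rw [hpq.2.2.eq]
      simp
  have htop : (⊤ : Subgroup (G ⧸ L)) = Subgroup.zpowers (π d) := by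
    refine le_antisymm (fun q _ => ?_) le_top
    obtain ⟨g, rfl⟩ := QuotientGroup.mk'_surjective L q
    have hg : g ∈ Subgroup.closure D := by rw [hG.2.2]; exact Subgroup.mem_top g
    exact (Subgroup.closure_le ((Subgroup.zpowers (π d)).comap π)).2
      (fun e he => Subgroup.mem_comap.2 (heq e he ▸ Subgroup.mem_zpowers _)) hg
  rw [Subgroup.index_eq_card, ← Subgroup.card_top, htop, Nat.card_zpowers]
  exact Nat.le_of_dvd two_pos
    (orderOf_dvd_of_pow_eq_one (by rw [← map_pow, pow_two, sq hG hd, map_one]))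

end CfsgLib.Sporadic.FischerLayer
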