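import Cfsg.Agent.Lib.Sporadic.FischerCores

/-!
# Lines in a 3-transposition group with twins

If two commuting members `a, b` of `Nb x` have the same commuting set in `Nb x`, the commuting
graph is the collinearity graph of a polar space: the line through commuting `x, a` is the set of
members with the same common commuting set, every member commutes with one or all points of a
line, and a line has three or five points.
-/

set_option autoImplicit false
set_option linter.style.haveILetI false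

namespace CfsgLib.Sporadic.FischerLines

open CfsgLib.Sporadic.FischerTransitivity CfsgLib.Sporadic.FischerRankThree
open Relation

variable {G : Type*} [Group G]

/-- A generating class of 3-transpositions with two members having the same commuting set among
the neighbours of a third. -/
structure Thick (D : Set G) : Prop where
  grp : Cfsg.IsThreeTranspositionGroup D
  cls : ∀ a ∈ D, ∀ b ∈ D, ∃ g : G, g * a * g⁻¹ = b
  perf : ⁅commutator G, commutator G⁆ = commutator G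
  rad : ∀ N : Subgroup G, N.Normal → Group.IsSolvable ↥N → N = ⊥
  twins : ∃ x a b, x ∈ D ∧ a ∈ Nb D x ∧ b ∈ Nb D x ∧ a ≠ b ∧ Commute a b ∧
    ∀ e ∈ Nb D x, (Commute a e ↔ Commute b e)

/-- The members commuting with both of two members. -/
def Pp (D : Set G) (x a : G) : Set G := {e | e ∈ D ∧ Commute x e ∧ Commute a e}

/-- The line through two commuting members. -/
def Ln (D : Set G) (x a : G) : Set G :=
  {c | c ∈ D ∧ (c = x ∨ Commute x c ∧ Pp D x c = Pp D x a)}

theorem pp_comm (D : Set G) (x a : G) : Pp D x a = Pp D a x := by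
  ext e; exact ⟨fun h => ⟨h.1, h.2.2, h.2.1⟩, fun h => ⟨h.1, h.2.2, h.2.1⟩⟩

variable {D : Set G}

theorem self_mem_ln {x a : G} (hx : x ∈ D) : x ∈ Ln D x a := ⟨hx, Or.inl rfl⟩

theorem right_mem_ln {x a : G} (ha : a ∈ Nb D x) : a ∈ Ln D x a :=
  ⟨ha.1, Or.inr ⟨ha.2.2, rfl⟩⟩

theorem nb_symm {a b : G} (ha : a ∈ D) (h : b ∈ Nb D a) : a ∈ Nb D b :=
  ⟨ha, Ne.symm h.2.1, h.2.2.symm⟩

theorem Thick.central [Finite G] (h : Thick D) : ∀ N : Subgroup G, N.Normal →
    Group.IsSolvable ↥N → N ≤ commutator G → N ≤ Subgroup.center G :=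
  fun N h1 h2 _ => (h.rad N h1 h2).le.trans bot_le

variable (hG : Cfsg.IsThreeTranspositionGroup D)

include hG

theorem pp_conj (g x a : G) :
    Pp D (g * x * g⁻¹) (g * a * g⁻¹) = (fun w => g * w * g⁻¹) '' Pp D x a := by
  ext e
  refine ⟨fun he => ⟨g⁻¹ * e * g, ⟨?_, ?_, ?_⟩, by group⟩, ?_⟩
  · simpa using hG.2.1 g⁻¹ e he.1
  · have := (Commute.conj_iff g⁻¹).2 he.2.1
    simpa [mul_assoc] using this
  · have := (Commute.conj_iff g⁻¹).2 he.2.2
    simpa [mul_assoc] using this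
  · rintro ⟨w, hw, rfl⟩
    exact ⟨hG.2.1 g w hw.1, (Commute.conj_iff g).2 hw.2.1, (Commute.conj_iff g).2 hw.2.2⟩

theorem ln_conj_mem {x a c : G} (g : G) (hc : c ∈ Ln D x a) :
    g * c * g⁻¹ ∈ Ln D (g * x * g⁻¹) (g * a * g⁻¹) := by
  refine ⟨hG.2.1 g c hc.1, hc.2.imp (fun e => by rw [e]) fun h => ⟨(Commute.conj_iff g).2 h.1, ?_⟩⟩
  rw [pp_conj hG, pp_conj hG, h.2]

theorem ln_conj (g x a : G) :
    Ln D (g * x * g⁻¹) (g * a * g⁻¹) = (fun w => g * w * g⁻¹) '' Ln D x a := by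
  ext c
  refine ⟨fun hc => ⟨g⁻¹ * c * g, ?_, by group⟩, ?_⟩
  · have := ln_conj_mem hG g⁻¹ hc
    simpa [mul_assoc] using this
  · rintro ⟨w, hw, rfl⟩
    exact ln_conj_mem hG g hw

theorem ln_cj_mem {x a c d : G} (hd : d ∈ D) (hc : c ∈ Ln D x a) :
    cj d c ∈ Ln D (cj d x) (cj d a) := by
  rw [cj_conj hG hd, cj_conj hG hd, cj_conj hG hd]
  exact ln_conj_mem hG d hc

omit hG in
theorem conj_inj (g : G) : Function.Injective fun w => g * w * g⁻¹ :=
  fun _ _ h => mul_left_cancel (mul_right_cancel h)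

theorem fix_nb {x d : G} (hd : d ∈ Nb D x) : cj d x = x := cj_fix hG hd.1 hd.2.2.symm

section Main

variable [Finite G] (h : Thick D)

include h

omit hG in
theorem pair_transitive {x a y b : G} (hx : x ∈ D) (ha : a ∈ Nb D x) (hy : y ∈ D)
    (hb : b ∈ Nb D y) : ∃ g : G, g * x * g⁻¹ = y ∧ g * a * g⁻¹ = b := by
  obtain ⟨g, rfl⟩ := h.cls x hx y hy
  obtain ⟨k, hk, hkb⟩ := exists_conj h.grp h.cls h.perf h.central (h.grp.2.1 g x hx)
    (nb_conj h.grp g ha) hb
  have hfix : Commute k (g * x * g⁻¹) := by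
    clear hkb
    induction hk using Subgroup.closure_induction with
    | mem z hz => exact hz.2.2.symm
    | one => exact Commute.one_left _
    | mul _ _ _ _ h1 h2 => exact h1.mul_left h2
    | inv _ _ h => exact h.inv_left
  refine ⟨k * g, ?_, by simpa [mul_assoc] using hkb⟩
  have : k * (g * x * g⁻¹) * k⁻¹ = g * x * g⁻¹ := by rw [hfix.eq, mul_assoc, mul_inv_cancel, mul_one]
  simpa [mul_assoc] using this

theorem pp_card {x a y b : G} (hx : x ∈ D) (ha : a ∈ Nb D x) (hy : y ∈ D) (hb : b ∈ Nb D y) :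
    (Pp D x a).ncard = (Pp D y b).ncard := by
  obtain ⟨g, rfl, rfl⟩ := pair_transitive h hx ha hy hb
  rw [pp_conj hG, Set.ncard_image_of_injective _ (conj_inj g)]

theorem ln_card {x a y b : G} (hx : x ∈ D) (ha : a ∈ Nb D x) (hy : y ∈ D) (hb : b ∈ Nb D y) :
    (Ln D x a).ncard = (Ln D y b).ncard := by
  obtain ⟨g, rfl, rfl⟩ := pair_transitive h hx ha hy hb
  rw [ln_conj hG, Set.ncard_image_of_injective _ (conj_inj g)]

theorem ln_pair {x a u v : G} (hx : x ∈ D) (ha : a ∈ Nb D x) (hu : u ∈ Ln D x a)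
    (hv : v ∈ Ln D x a) (hne : u ≠ v) : v ∈ Nb D u ∧ Pp D u v = Pp D x a := by
  rcases hu.2 with rfl | ⟨hxu, hpu⟩
  · rcases hv.2 with rfl | ⟨hxv, hpv⟩
    · exact absurd rfl hne
    · exact ⟨⟨hv.1, hne.symm, hxv⟩, hpv⟩
  rcases hv.2 with rfl | ⟨hxv, hpv⟩
  · exact ⟨⟨hx, hne.symm, hxu.symm⟩, by rw [pp_comm, hpu]⟩
  have huv : Commute u v := by
    have : v ∈ Pp D x v := ⟨hv.1, hxv, Commute.refl v⟩
    rw [hpv, ← hpu] at this
    exact this.2.2
  refine ⟨⟨hv.1, hne.symm, huv⟩, (Set.eq_of_subset_of_ncard_le ?_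
    (pp_card hG h hu.1 ⟨hv.1, hne.symm, huv⟩ hx ha).le (Set.toFinite _)).symm⟩
  intro e he
  have h1 : e ∈ Pp D x u := hpu ▸ he
  have h2 : e ∈ Pp D x v := hpv ▸ he
  exact ⟨he.1, h1.2.2, h2.2.2⟩

theorem ln_eq {x a u v : G} (hx : x ∈ D) (ha : a ∈ Nb D x) (hu : u ∈ Ln D x a)
    (hv : v ∈ Ln D x a) (hne : u ≠ v) : Ln D u v = Ln D x a := by
  obtain ⟨huv, hp⟩ := ln_pair hG h hx ha hu hv hne
  refine (Set.eq_of_subset_of_ncard_le ?_ (ln_card hG h hu.1 huv hx ha).le (Set.toFinite _)).symm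
  intro c hc
  refine ⟨hc.1, ?_⟩
  by_cases hcu : c = u
  · exact Or.inl hcu
  obtain ⟨h1, h2⟩ := ln_pair hG h hx ha hu hc (Ne.symm hcu)
  exact Or.inr ⟨h1.2.2, h2.trans hp.symm⟩

/-- A member commuting with two points of a line commutes with all of them. -/
theorem commute_all {x a u v e : G} (hx : x ∈ D) (ha : a ∈ Nb D x) (hu : u ∈ Ln D x a)
    (hv : v ∈ Ln D x a) (hne : u ≠ v) (he : e ∈ D) (h1 : Commute u e) (h2 : Commute v e) {c : G}
    (hc : c ∈ Ln D x a) : Commute c e := by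
  have h3 : e ∈ Pp D x a := (ln_pair hG h hx ha hu hv hne).2 ▸ ⟨he, h1, h2⟩
  rcases hc.2 with rfl | ⟨-, hp⟩
  · exact h3.2.1
  · exact (hp ▸ h3 : e ∈ Pp D x c).2.2

/-- A line has at least three points. -/
theorem exists_third {x a : G} (hx : x ∈ D) (ha : a ∈ Nb D x) :
    ∃ b ∈ Ln D x a, b ≠ x ∧ b ≠ a := by
  obtain ⟨x₀, a₀, b₀, hx₀, ha₀, hb₀, hne, hab, hsame⟩ := h.twins
  obtain ⟨g, rfl, rfl⟩ := pair_transitive h hx₀ ha₀ hx ha
  have hb : b₀ ∈ Ln D x₀ a₀ := by
    refine ⟨hb₀.1, Or.inr ⟨hb₀.2.2, Set.ext fun e => ?_⟩⟩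
    by_cases hex : e = x₀
    · subst hex
      exact ⟨fun _ => ⟨hx₀, Commute.refl _, ha₀.2.2.symm⟩,
        fun _ => ⟨hx₀, Commute.refl _, hb₀.2.2.symm⟩⟩
    exact ⟨fun he => ⟨he.1, he.2.1, (hsame e ⟨he.1, hex, he.2.1⟩).2 he.2.2⟩,
      fun he => ⟨he.1, he.2.1, (hsame e ⟨he.1, hex, he.2.1⟩).1 he.2.2⟩⟩
  exact ⟨_, ln_conj_mem hG g hb, fun e => hb₀.2.1 (conj_inj g e), fun e => hne (conj_inj g e).symm⟩

omit h in
/-- Members of a line other than `x` are neighbours of `x`. -/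
theorem nb_of_ln {x a c : G} (hc : c ∈ Ln D x a) (hcx : c ≠ x) : c ∈ Nb D x :=
  ⟨hc.1, hcx, (hc.2.resolve_left hcx).1⟩

theorem not_commute_of_ln {x a a' b : G} (hx : x ∈ D) (ha : a ∈ Nb D x) (ha' : a' ∈ Nb D x)
    (hn : ¬ Commute a a') (hb : b ∈ Ln D x a) (hbx : b ≠ x) : ¬ Commute b a' := fun hc =>
  hn (commute_all hG h hx ha (self_mem_ln hx) hb (Ne.symm hbx) ha'.1 ha'.2.2 hc (right_mem_ln ha))

/-- Conjugation by two points of one line moves a line meeting it into itself. -/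
theorem ln_third {x a a' b : G} (hx : x ∈ D) (ha : a ∈ Nb D x) (ha' : a' ∈ Nb D x)
    (hn : ¬ Commute a a') (hb : b ∈ Ln D x a) (hbx : b ≠ x) :
    cj a (cj b a') ∈ Ln D x a' ∧ cj a (cj b a') ≠ x := by
  have hba := not_commute_of_ln hG h hx ha ha' hn hb hbx
  have hfa : cj a x = x := fix_nb hG ha
  have hfb : cj b x = x := fix_nb hG (nb_of_ln hG hb hbx)
  refine ⟨?_, fun e => ha'.2.1 ?_⟩
  · have h1 := ln_cj_mem hG ha.1 (ln_cj_mem hG ha'.1 hb)
    rwa [fix_nb hG ha', hfa, ← cj_comm hG ha.1 ha'.1 hn, cj_cj hG ha.1,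
      ← cj_comm hG hb.1 ha'.1 hba] at h1
  · exact cj_inj hG hb.1 (by rw [hfb]; exact cj_inj hG ha.1 (by rw [hfa]; exact e))

/-- Two non-commuting members have a common neighbour. -/
theorem exists_common {x z : G} (hx : x ∈ D) (hz : z ∈ D) (hn : ¬ Commute x z) :
    ∃ a ∈ Nb D x, a ∈ Nb D z := by
  by_contra hno
  push Not at hno
  have htr : ∀ a c, ReflTransGen (CRel D) a c → a ∈ D → Commute a c := by
    intro a c hac haD
    induction hac with
    | refl => exact Commute.refl a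
    | @tail b c _ hbc ih =>
      by_contra hnac
      obtain ⟨g, hg1, hg2⟩ := FischerRankThree.adj_transitive h.grp h.cls h.perf h.central haD hbc.2.1
        hbc.2.1 hnac hnac
      obtain ⟨k, rfl⟩ := h.cls x hx a haD
      obtain ⟨l, hl1, hl2⟩ := FischerRankThree.adj_transitive h.grp h.cls h.perf h.central
        (hG.2.1 k x hx) (hG.2.1 k z hz) hbc.2.1 (fun e => hn ((Commute.conj_iff k).1 e)) hnac
      have hb : b ∈ Nb D (k * x * k⁻¹) ∧ b ∈ Nb D c :=
        ⟨⟨hbc.1, fun e => hnac (e ▸ hbc.2.2), ih⟩, ⟨hbc.1, fun e => hnac (e ▸ ih), hbc.2.2.symm⟩⟩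
      have hm1 := nb_conj hG (l * k)⁻¹ hb.1
      have hm2 := nb_conj hG (l * k)⁻¹ hb.2
      have e1 : (l * k)⁻¹ * (k * x * k⁻¹) * ((l * k)⁻¹)⁻¹ = x := by
        nth_rewrite 1 [← hl1]; group
      have e2 : (l * k)⁻¹ * c * ((l * k)⁻¹)⁻¹ = z := by
        rw [← hl2]; group
      rw [e1] at hm1
      rw [e2] at hm2
      exact hno _ hm1 hm2
  exact hn (htr x z (commuting_connected hG h.cls h.perf hx hz) hx)

/-- Three conjugations carrying the line through `x, a` to the line through `a', x`. -/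
theorem hit_step {x z a a' : G} (hx : x ∈ D) (hz : z ∈ D) (hn : ¬ Commute x z)
    (ha : a ∈ Nb D x) (haz : Commute a z) (ha' : a' ∈ Nb D x) (hna : ¬ Commute a a') :
    ∃ c ∈ Ln D x a', c ≠ x ∧ Commute c z := by
  by_cases hza : Commute a' z
  · exact ⟨a', right_mem_ln ha', ha'.2.1, hza⟩
  obtain ⟨b, hb, hbx, hba⟩ := exists_third hG h hx ha
  have hbn := nb_of_ln hG hb hbx
  have hba' := not_commute_of_ln hG h hx ha ha' hna hb hbx
  have hbz : ¬ Commute b z := fun hc => hn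
    (commute_all hG h hx ha hb (right_mem_ln ha) hba hz hc haz (self_mem_ln hx))
  set e := cj a' z with he
  have heD : e ∈ D := cj_mem hG ha'.1 hz
  by_cases hc : Commute b e
  · obtain ⟨h1, h2⟩ := ln_third hG h hx ha ha' hna hb hbx
    refine ⟨_, h1, h2, ?_⟩
    rw [commute_cj' hG ha.1 haz, cj_comm hG hb.1 ha'.1 hba', ← commute_swap hG ha'.1]
    exact hc
  -- the triangle `b, z, a'` generates a plane
  let φ : G → G := fun u => cj b (cj z (cj a' (cj x (cj b (cj z (cj a' (cj z u)))))))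
  have hφ : ∀ u, φ u = (b * z * a' * x * b * z * a' * z) * u * (b * z * a' * x * b * z * a' * z)⁻¹ := by
    intro u
    simp only [φ, cj_conj hG hb.1, cj_conj hG hz, cj_conj hG ha'.1, cj_conj hG hx, mul_inv_rev,
      mul_assoc]
  have hze : cj z a' = e := cj_comm hG hz ha'.1 (fun h' => hza h'.symm)
  have hfx' : cj x a' = a' := cj_fix hG hx ha'.2.2
  have hfa'x : cj a' x = x := fix_nb hG ha'
  have ea : cj a' e = z := cj_cj hG ha'.1 z
  have eze : cj z e = a' := by rw [← hze, cj_cj hG hz]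
  have hdist : ∀ {d : G} (_ : d ∈ D) (p q : G), cj d (cj p q) = cj (cj d p) (cj d q) :=
    fun hd p q => by rw [cj_cj_eq, cj_cj hG hd]
  have hxe : ¬ Commute e x := fun h' => hn
    ((commute_cj' hG ha'.1 ha'.2.2.symm z).1 h').symm
  have hbe : ¬ Commute (cj a' b) z := fun h' => hc ((commute_swap hG ha'.1 b z).2 h')
  have hfxb : cj b x = x := fix_nb hG hbn
  have hxb : cj x b = b := cj_fix hG hx hbn.2.2
  have three : ∀ u, cj z (cj a' (cj z u)) = cj e u := fun u => by rw [← hze, cj_cj_eq]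
  have φx : φ x = a' := by
    calc φ x = cj b (cj z (cj a' (cj x (cj b (cj x e))))) := by
          simp only [φ]; rw [three, cj_comm hG heD hx hxe]
      _ = cj b (cj z (cj a' (cj b e))) := by
          rw [hdist hbn.1 x e, hfxb, cj_cj hG hx]
      _ = cj b (cj z (cj (cj a' b) z)) := by rw [hdist ha'.1 b e, ea]
      _ = cj b (cj a' b) := by
          rw [cj_comm hG (cj_mem hG ha'.1 hbn.1) hz hbe, cj_cj hG hz]
      _ = a' := by
          rw [cj_comm hG ha'.1 hbn.1 (fun h' => hba' h'.symm), cj_cj hG hbn.1]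
  have φb : φ b = x := by
    calc φ b = cj b (cj z (cj a' (cj x (cj b (cj b e))))) := by
          simp only [φ]; rw [three, cj_comm hG heD hbn.1 (fun h' => hc h'.symm)]
      _ = cj b (cj z (cj x z)) := by rw [cj_cj hG hbn.1, hdist ha'.1 x e, hfa'x, ea]
      _ = x := by rw [cj_comm hG hx hz hn, cj_cj hG hz, hfxb]
  have φz : φ z = z := by
    calc φ z = cj b (cj z (cj a' (cj x (cj b a')))) := by
          simp only [φ]; rw [cj_self hG hz, ← he, eze]
      _ = cj b (cj z (cj a' (cj b a'))) := by rw [hdist hx b a', hxb, hfx']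
      _ = cj b (cj z b) := by rw [cj_comm hG hbn.1 ha'.1 hba', cj_cj hG ha'.1]
      _ = z := by rw [cj_comm hG hz hbn.1 (fun h' => hbz h'.symm), cj_cj hG hbn.1]
  have hax : φ a ∈ Ln D x a' := by
    have h1 : a ∈ Ln D x b := by rw [ln_eq hG h hx ha (self_mem_ln hx) hb (Ne.symm hbx)]; exact right_mem_ln ha
    have h2 := ln_conj_mem hG (b * z * a' * x * b * z * a' * z) h1
    rw [← hφ, ← hφ, ← hφ, φx, φb] at h2
    rwa [ln_eq hG h hx ha' (right_mem_ln ha') (self_mem_ln hx) ha'.2.1] at h2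
  refine ⟨φ a, hax, fun e' => hba ?_, ?_⟩
  · rw [← φb, hφ, hφ] at e'
    exact (conj_inj _ e').symm
  · rw [← φz, hφ, hφ, Commute.conj_iff]
    exact haz

/-- A member commutes with a point of every line. -/
theorem exists_hit {x a z : G} (hx : x ∈ D) (ha : a ∈ Nb D x) (hz : z ∈ D) :
    ∃ c ∈ Ln D x a, Commute c z := by
  by_cases hn : Commute x z
  · exact ⟨x, self_mem_ln hx, hn⟩
  obtain ⟨a₀, ha₀, ha₀z⟩ := exists_common hG h hx hz hn
  suffices H : ∃ c ∈ Ln D x a, c ≠ x ∧ Commute c z by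
    obtain ⟨c, hc, -, hcz⟩ := H; exact ⟨c, hc, hcz⟩
  have hco := FischerTransitivity.connected h.grp h.cls h.perf h.central hx ha₀ ha
  clear ha
  induction hco with
  | refl => exact ⟨a₀, right_mem_ln ha₀, ha₀.2.1, ha₀z.2.2.symm⟩
  | @tail b c _ hbc ih =>
    obtain ⟨d, hd, hdx, hdz⟩ := ih
    exact hit_step hG h hx hz hn (nb_of_ln hG hd hdx) hdz hbc.2.1
      (not_commute_of_ln hG h hx hbc.1 hbc.2.1 hbc.2.2 hd hdx)

/-- Exactly one point of a line commutes with a member not commuting with all. -/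
theorem hit_unique {x a u v c z : G} (hx : x ∈ D) (ha : a ∈ Nb D x) (hu : u ∈ Ln D x a)
    (hv : v ∈ Ln D x a) (hc : c ∈ Ln D x a) (hz : z ∈ D) (h1 : Commute u z) (h2 : Commute v z)
    (hcz : ¬ Commute c z) : u = v :=
  by_contra fun hne => hcz (commute_all hG h hx ha hu hv hne hz h1 h2 hc)

end Main

end CfsgLib.Sporadic.FischerLines
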