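import Cfsg.Agent.Lib.Sporadic.FischerCoord

/-!
# The quadratic coordinate on the translation group

For a translation `g` the third point of `z` and `g z g⁻¹` meets the line through `x, a` in a point
whose coordinate is a fixed multiple of that of `g`; this multiple is additive up to the form.
-/

set_option autoImplicit false
set_option linter.style.haveILetI false
set_option linter.unusedSectionVars false

namespace CfsgLib.Sporadic.FischerCoord

open CfsgLib.Sporadic.FischerTransitivity CfsgLib.Sporadic.FischerLines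
open CfsgLib.Sporadic.FischerFive CfsgLib.Sporadic.FischerTrans

variable {G : Type*} [Group G] {D : Set G} {x z : G} [Finite G] (F : Frame D x z)
  (Cd : Coord D x z)

/-- The coordinate of `g` at `a`. -/
noncomputable def eta (a g : G) : FieldFour := co x Cd.e a g

/-- The point with given coordinate on the line through `x, a`. -/
noncomputable def pt (a : G) (y : FieldFour) : G := if y = 0 then a else x * a * Cd.e a y

include F

theorem e_le {a : G} (ha : a ∈ Cm D x z) (y : FieldFour) : Cd.e a y ∈ Qg D x z :=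
  kl_le ha (Cd.chart.mem a ha y)

theorem eta_mul {a g k : G} (ha : a ∈ Cm D x z) (hg : g ∈ Qg D x z) (hk : k ∈ Qg D x z) :
    eta Cd a (g * k) = eta Cd a g + eta Cd a k := co_mul F Cd.chart ha hg hk

theorem eta_e {a r : G} (ha : a ∈ Cm D x z) (hr : r ∈ Cm D x z) (y : FieldFour) :
    eta Cd a (Cd.e r y) = Cd.K a r * y := Cd.transfer a ha r hr y

theorem eta_eq_zero {a g : G} (ha : a ∈ Cm D x z) (hg : g ∈ Qg D x z) :
    eta Cd a g = 0 ↔ g * a * g⁻¹ = a := co_eq_zero F Cd.chart ha hg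

theorem eta_one {a : G} (ha : a ∈ Cm D x z) : eta Cd a 1 = 0 :=
  (eta_eq_zero F Cd ha (one_mem _)).2 (by simp)

theorem eta_x {a : G} (ha : a ∈ Cm D x z) : eta Cd a x = 0 :=
  (eta_eq_zero F Cd ha (x_mem F)).2 (by rw [ha.1.2.2.eq, mul_inv_cancel_right])

theorem eta_inv {a g : G} (ha : a ∈ Cm D x z) (hg : g ∈ Qg D x z) :
    eta Cd a g⁻¹ = eta Cd a g := by
  have h := eta_mul F Cd ha (Subgroup.inv_mem _ hg) hg
  rw [inv_mul_cancel, eta_one F Cd ha] at h
  calc eta Cd a g⁻¹ = eta Cd a g⁻¹ + (eta Cd a g + eta Cd a g) := by rw [add_self', add_zero]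
    _ = eta Cd a g := by rw [← add_assoc, ← h, zero_add]

theorem K_commute {a r : G} (ha : a ∈ Cm D x z) (hr : r ∈ Cm D x z) (h : Commute a r) :
    Cd.K a r = 0 := by
  simpa using (Cd.transfer a ha r hr 1).symm.trans (transfer_commute F Cd.chart ha hr h 1)

theorem K_self {a : G} (ha : a ∈ Cm D x z) : Cd.K a a = 0 := K_commute F Cd ha ha (Commute.refl a)

theorem K_mul {a r : G} (ha : a ∈ Cm D x z) (hr : r ∈ Cm D x z) (h : ¬ Commute a r) :
    Cd.K a r * Cd.K r a = 1 := by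
  have := transfer_transfer F Cd.chart ha hr h 1
  rwa [Cd.transfer r hr a ha, Cd.transfer a ha r hr, mul_one] at this

theorem K_ne_zero {a r : G} (ha : a ∈ Cm D x z) (hr : r ∈ Cm D x z) (h : ¬ Commute a r) :
    Cd.K a r ≠ 0 := left_ne_zero_of_mul_eq_one (K_mul F Cd ha hr h)

theorem K_conj {a r : G} (ha : a ∈ Cm D x z) (hr : r ∈ Cm D x z) :
    conjF (Cd.K a r) = Cd.K r a := by
  by_cases h : Commute a r
  · rw [K_commute F Cd ha hr h, K_commute F Cd hr ha h.symm, map_zero]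
  · refine mul_left_cancel₀ (K_ne_zero F Cd ha hr h) ?_
    rw [mul_conjF _ (K_ne_zero F Cd ha hr h), K_mul F Cd ha hr h]

theorem eta_third {a r g : G} (ha : a ∈ Cm D x z) (hr : r ∈ Cm D x z) (hn : ¬ Commute a r)
    (hg : g ∈ Qg D x z) :
    eta Cd (cj a r) g = Cd.K (cj a r) r * (eta Cd r g + Cd.K r a * eta Cd a g) := by
  rw [eta, co_third F Cd.chart ha hr hn hg, Cd.transfer _ (cm_cj F ha hr) r hr,
    Cd.transfer r hr a ha]
  rfl

/-- The coordinates determine a translation up to `x`. -/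
theorem eq_or_of_eta {g k : G} (hg : g ∈ Qg D x z) (hk : k ∈ Qg D x z)
    (h : ∀ a ∈ Cm D x z, eta Cd a g = eta Cd a k) : g = k ∨ g = k * x := by
  have hm := mul_mem (Subgroup.inv_mem _ hk) hg
  rcases eq_one_or_x F hm (fun a ha => (eta_eq_zero F Cd ha hm).1 (by
    rw [eta_mul F Cd ha (Subgroup.inv_mem _ hk) hg, eta_inv F Cd ha hk, h a ha, add_self'])) with
    e | e
  · exact Or.inl (inv_mul_eq_one.1 e).symm
  · exact Or.inr (inv_mul_eq_iff_eq_mul.1 e)

theorem conj_pt {a g : G} (ha : a ∈ Cm D x z) (hg : g ∈ Qg D x z) :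
    g * a * g⁻¹ = pt Cd a (eta Cd a g) := by
  unfold pt
  split_ifs with h
  · exact (eta_eq_zero F Cd ha hg).1 h
  · rw [show Cd.e a (eta Cd a g) = tr x a g from e_co F Cd.chart ha hg]
    exact (conj_eq F ha).2 fun e => h ((eta_eq_zero F Cd ha hg).2 e)

theorem exists_move {a : G} (ha : a ∈ Cm D x z) (y : FieldFour) :
    ∃ g ∈ Qg D x z, eta Cd a g = y := by
  obtain ⟨r, hr, hn⟩ := exists_adj_cm F ha
  exact ⟨_, e_le F Cd hr (Cd.K r a * y), by
    rw [eta_e F Cd ha hr, ← mul_assoc, K_mul F Cd ha hr hn, one_mul]⟩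

theorem pt_mem {a : G} (ha : a ∈ Cm D x z) (y : FieldFour) :
    pt Cd a y ∈ Ln D x a ∧ pt Cd a y ≠ x := by
  obtain ⟨g, hg, rfl⟩ := exists_move F Cd ha y
  rw [← conj_pt F Cd ha hg]
  exact conj_nb F hg ha.1

theorem pt_inj {a : G} (ha : a ∈ Cm D x z) : Function.Injective (pt Cd a) := by
  intro y w h
  obtain ⟨g, hg, rfl⟩ := exists_move F Cd ha y
  obtain ⟨k, hk, rfl⟩ := exists_move F Cd ha w
  have hm := mul_mem (Subgroup.inv_mem _ hk) hg
  rw [← conj_pt F Cd ha hg, ← conj_pt F Cd ha hk] at h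
  have h2 : eta Cd a (k⁻¹ * g) = 0 := (eta_eq_zero F Cd ha hm).2 (by
    calc k⁻¹ * g * a * (k⁻¹ * g)⁻¹ = k⁻¹ * (g * a * g⁻¹) * k := by group
      _ = a := by rw [h]; group)
  rw [eta_mul F Cd ha (Subgroup.inv_mem _ hk) hg, eta_inv F Cd ha hk] at h2
  calc eta Cd a g = eta Cd a g + (eta Cd a k + eta Cd a k) := by rw [add_self', add_zero]
    _ = eta Cd a k := by rw [← add_assoc, add_comm (eta Cd a g), h2, zero_add]

theorem exists_pt {a b : G} (ha : a ∈ Cm D x z) (hb : b ∈ Ln D x a) (hbx : b ≠ x) :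
    ∃ y, pt Cd a y = b := by
  obtain ⟨r, hr, hn⟩ := exists_adj_cm F ha
  obtain ⟨g, hg, e⟩ := exists_kl F ha hr (fun e => hn e.symm) hb hbx
  exact ⟨_, (conj_pt F Cd ha (kl_le hr hg)).symm.trans e⟩

theorem pt_zero (a : G) : pt Cd a 0 = a := if_pos rfl

theorem pt_not_commute {a : G} (ha : a ∈ Cm D x z) {y : FieldFour} (hy : y ≠ 0) :
    ¬ Commute (pt Cd a y) z := fun hc => hy (pt_inj F Cd ha ((base_unique F ha.1 (pt_mem F Cd ha y).1
      (right_mem_ln ha.1) hc ha.2.2.2.symm).trans (pt_zero F Cd a).symm))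

/-- Conjugating `z` by a point of a line is conjugating by `x` times its translation. -/
theorem cj_pt {a : G} (ha : a ∈ Cm D x z) {y : FieldFour} (hy : y ≠ 0) :
    cj (pt Cd a y) z = x * Cd.e a y * z * (x * Cd.e a y)⁻¹ := by
  have hc : Commute a (Cd.e a y) :=
    kl_commute F ha.1 (right_mem_ln ha.1) (Cd.chart.mem a ha y)
  have haz : a * z * a⁻¹ = z := by rw [ha.2.2.2.symm.eq, mul_inv_cancel_right]
  rw [cj_conj F.thick.grp (pt_mem F Cd ha y).1.1]
  unfold pt
  rw [if_neg hy, mul_assoc x a, hc.eq, ← mul_assoc x]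
  calc x * Cd.e a y * a * z * (x * Cd.e a y * a)⁻¹
      = x * Cd.e a y * (a * z * a⁻¹) * (x * Cd.e a y)⁻¹ := by group
    _ = _ := by rw [haz]

theorem trans_mem {a l : G} (ha : a ∈ Cm D x z) (hl : l ∈ Kl D x a) :
    l * z * l⁻¹ ∈ Ln D a z ∧ l * z * l⁻¹ ≠ a := by
  refine ⟨?_, fun e => conj_not_commute F (kl_le ha hl) (e.symm ▸ ha.1.2.2)⟩
  have hG := F.thick.grp
  have haz : z ∈ Nb D a := FischerLines.nb_symm F.hz ha.2
  rcases hl with rfl | ⟨b, hb, hbx, hba, rfl⟩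
  · simpa using right_mem_ln haz
  have hax : x ∈ Nb D a := FischerLines.nb_symm F.hx ha.1
  have hab : Commute a b := line_commute F ha.1 (right_mem_ln ha.1) hb
  have e : x * a * b * z * (x * a * b)⁻¹ = cj x (cj b (cj a z)) := by
    have h' : x * a * b = x * (b * a) := by rw [mul_assoc, hab.eq]
    simp only [h', cj_conj hG F.hx, cj_conj hG ha.1.1, cj_conj hG hb.1, mul_inv_rev, mul_assoc]
  rw [e, cj_fix hG ha.1.1 haz.2.2]
  refine (ln_third hG F.thick ha.1.1 hax haz F.hn ?_ hba).1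
  rw [ln_eq hG F.thick F.hx ha.1 (right_mem_ln ha.1) (self_mem_ln F.hx) ha.1.2.1]
  exact hb

/-- The member whose behaviour on the line through `a, z` governs that of a translate. -/
theorem commute_shift {a g l : G} (ha : a ∈ Cm D x z) (hg : g ∈ Qg D x z) (hl : l ∈ Kl D x a) :
    Commute z (g * l * z * (g * l)⁻¹) ↔ Commute (l * z * l⁻¹) (g⁻¹ * z * g) := by
  rw [← Commute.conj_iff g⁻¹]
  constructor <;> intro h
  · have := h.symm
    simpa [mul_assoc] using this
  · have := h.symm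
    simpa [mul_assoc] using this

theorem commute_iff_of_fix {a g : G} (ha : a ∈ Cm D x z) (hg : g ∈ Qg D x z)
    (hga : g * a * g⁻¹ = a) (y : FieldFour) :
    Commute z (g * Cd.e a y * z * (g * Cd.e a y)⁻¹) ↔ Commute z (g * z * g⁻¹) := by
  have hG := F.thick.grp
  have hl := Cd.chart.mem a ha y
  obtain ⟨h1, h2⟩ := trans_mem F ha hl
  have haz : z ∈ Nb D a := FischerLines.nb_symm F.hz ha.2
  have haw : Commute a (g⁻¹ * z * g) := by
    have := (Commute.conj_iff g⁻¹).2 ha.2.2.2.symm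
    have e : g⁻¹ * a * g = a := by conv_lhs => rw [← hga]
                                   group
    rwa [inv_inv, e] at this
  have h0 : Commute z (g * z * g⁻¹) ↔ Commute z (g⁻¹ * z * g) := by
    rw [← Commute.conj_iff g⁻¹]
    constructor <;> intro h <;> have := h.symm <;> simpa [mul_assoc] using this
  have hwD : g⁻¹ * z * g ∈ D := by simpa using hG.2.1 g⁻¹ z F.hz
  rw [commute_shift F ha hg hl, h0]
  exact ⟨fun h => commute_all hG F.thick ha.1.1 haz (self_mem_ln ha.1.1) h1 h2.symm hwD haw h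
      (right_mem_ln haz),
    fun h => commute_all hG F.thick ha.1.1 haz (self_mem_ln ha.1.1) (right_mem_ln haz)
      haz.2.1.symm hwD haw h h1⟩

theorem exists_val {a g : G} (ha : a ∈ Cm D x z) (hg : g ∈ Qg D x z) (hne : eta Cd a g ≠ 0) :
    ∃! y, Commute z (g * Cd.e a y * z * (g * Cd.e a y)⁻¹) := by
  have hG := F.thick.grp
  have haz : z ∈ Nb D a := FischerLines.nb_symm F.hz ha.2
  have hwD : g⁻¹ * z * g ∈ D := by simpa using hG.2.1 g⁻¹ z F.hz
  have haw : ¬ Commute a (g⁻¹ * z * g) := fun h => hne ((eta_eq_zero F Cd ha hg).2 (by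
    have h' := (Commute.conj_iff g).2 h
    rw [show g * (g⁻¹ * z * g) * g⁻¹ = z by group] at h'
    exact base_unique F ha.1 (conj_nb F hg ha.1).1 (right_mem_ln ha.1) h' ha.2.2.2.symm))
  obtain ⟨c, hc, hcw⟩ := exists_hit hG F.thick ha.1.1 haz hwD
  obtain ⟨l, hl, rfl⟩ := exists_kl_z F ha hc (fun e => haw (e ▸ hcw))
  obtain ⟨y, rfl⟩ := Cd.chart.surj a ha l hl
  refine ⟨y, (commute_shift F ha hg hl).2 hcw, fun w hw => Cd.chart.inj a ha ?_⟩
  have hw' := Cd.chart.mem a ha w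
  exact conj_inj_z F (kl_le ha hw') (kl_le ha hl) (hit_unique hG F.thick ha.1.1 haz
    (trans_mem F ha hw').1 hc (self_mem_ln ha.1.1) hwD ((commute_shift F ha hg hw').1 hw) hcw haw)

theorem e_twist {a g : G} (ha : a ∈ Cm D x z) (hg : g ∈ Qg D x z) {y : FieldFour} (hy : y ≠ 0)
    (hne : eta Cd a g ≠ 0) (hyg : y ≠ eta Cd a g) :
    g * Cd.e a y * g⁻¹ = Cd.e a y * x := by
  have hG := F.thick.grp
  refine (kl_comm_Q F ha (Cd.chart.mem a ha y) hg).resolve_left fun h => ?_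
  obtain ⟨hb, hbx⟩ := pt_mem F Cd ha y
  obtain ⟨ha', ha'x⟩ := conj_nb F hg ha.1
  have hba : pt Cd a y ≠ a := fun e => hy (pt_inj F Cd ha (e.trans (pt_zero F Cd a).symm))
  have ha'a : g * a * g⁻¹ ≠ a := fun e => hne ((eta_eq_zero F Cd ha hg).2 e)
  have hba' : pt Cd a y ≠ g * a * g⁻¹ := fun e => hyg (pt_inj F Cd ha (e.trans (conj_pt F Cd ha hg)))
  obtain ⟨hb', hb'x⟩ := conj_nb F hg (nb_of_ln hG hb hbx)
  rw [ln_eq hG F.thick F.hx ha.1 (self_mem_ln F.hx) hb hbx.symm] at hb'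
  set b := pt Cd a y with hbdef
  have hbe : Cd.e a y = x * a * b := by
    simp only [hbdef, pt, if_neg hy]
    rw [← mul_assoc, xa_sq F ha, one_mul]
  obtain ⟨h1, h2, -, -, -⟩ := fifth F ha.1 ha' hb ha'x hbx ha'a hba hba'.symm
  refine mul_ne F.thick F.hx ha.1 (self_mem_ln F.hx) h1 hb' h2.symm hb'x.symm ?_
  have hxg : g * x * g⁻¹ = x := by
    rw [← (commute_x F hg).eq, mul_assoc, mul_inv_cancel, mul_one]
  rw [hbe, show g * (x * a * b) * g⁻¹ = g * x * g⁻¹ * (g * a * g⁻¹) * (g * b * g⁻¹) by group,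
    hxg] at h
  have h' : g * a * g⁻¹ * (g * b * g⁻¹) = a * b :=
    mul_left_cancel (a := x) (by rw [← mul_assoc, h, mul_assoc])
  have hac : Commute a (g * a * g⁻¹) := line_commute F ha.1 (right_mem_ln ha.1) ha'
  have hD := hG.2.1 g a ha.1.1
  calc x * (x * a * (g * a * g⁻¹) * b) = a * (g * a * g⁻¹) * b := by
        simp only [← mul_assoc, sq hG F.hx, one_mul]
    _ = g * a * g⁻¹ * (a * b) := by rw [hac.eq, mul_assoc]
    _ = g * b * g⁻¹ := by rw [← h', ← mul_assoc, sq hG hD, one_mul]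

theorem not_commute_base {a g : G} (ha : a ∈ Cm D x z) (hg : g ∈ Qg D x z)
    (hne : eta Cd a g ≠ 0) : ¬ Commute a (g * z * g⁻¹) := fun hc => hne
  ((eta_eq_zero F Cd ha hg).2 (hit_unique F.thick.grp F.thick F.hx ha.1 (conj_nb F hg ha.1).1
    (right_mem_ln ha.1) (self_mem_ln F.hx) (F.thick.grp.2.1 g z F.hz)
    ((Commute.conj_iff g).2 ha.2.2.2.symm) hc (conj_not_commute F hg)))

/-- Where the third point of `z` and a translate meets the line through `x, a`. -/
theorem commute_pt_iff {a g : G} (ha : a ∈ Cm D x z) (hg : g ∈ Qg D x z) (hne : eta Cd a g ≠ 0)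
    (hzw : ¬ Commute z (g * z * g⁻¹)) (y : FieldFour) :
    Commute (pt Cd a y) (cj z (g * z * g⁻¹)) ↔
      Commute z (g * Cd.e a y * z * (g * Cd.e a y)⁻¹) ∧ y ≠ eta Cd a g ∧ y ≠ 0 := by
  have hG := F.thick.grp
  set w := g * z * g⁻¹ with hw
  have hwD : w ∈ D := hG.2.1 g z F.hz
  by_cases hy : y = 0
  · subst hy
    refine iff_of_false (fun h => ?_) (fun h => h.2.2 rfl)
    rw [pt_zero F] at h
    exact not_commute_base F Cd ha hg hne ((commute_cj' hG F.hz ha.2.2.2 w).1 h.symm).symm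
  by_cases hyg : y = eta Cd a g
  · subst hyg
    refine iff_of_false (fun h => ?_) (fun h => h.2.1 rfl)
    have hbw : Commute w (pt Cd a (eta Cd a g)) := by
      rw [← conj_pt F Cd ha hg]; exact (Commute.conj_iff g).2 ha.2.2.2
    rw [cj_comm hG F.hz hwD hzw] at h
    exact pt_not_commute F Cd ha hy ((commute_cj' hG hwD hbw z).1 h.symm).symm
  rw [commute_swap hG F.hz, cj_comm hG F.hz (pt_mem F Cd ha y).1.1
    (fun e => pt_not_commute F Cd ha hy e.symm), cj_pt F Cd ha hy, hw]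
  simp only [ne_eq, hyg, hy, not_false_eq_true, and_true]
  set t := Cd.e a y with ht
  have e1 : (x * t)⁻¹ * g = g * t := by
    have hxt : Commute x t := kl_commute F ha.1 (self_mem_ln F.hx) (Cd.chart.mem a ha y)
    have htt : t * t = 1 := kl_sq F ha.1 (Cd.chart.mem a ha y)
    have h' : g * t = t * x * g := mul_inv_eq_iff_eq_mul.1 (e_twist F Cd ha hg hy hne hyg)
    rw [h', mul_inv_rev, inv_eq_of_mul_eq_one_right htt, inv_eq hG F.hx]
  rw [← e1, ← Commute.conj_iff (x * t)⁻¹]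
  simp [mul_assoc]

/-- When the third point is at `x` rather than outside. -/
theorem val_eq_iff {a g : G} (ha : a ∈ Cm D x z) (hg : g ∈ Qg D x z) (hne : eta Cd a g ≠ 0)
    (hzw : ¬ Commute z (g * z * g⁻¹)) {y : FieldFour}
    (hy : Commute z (g * Cd.e a y * z * (g * Cd.e a y)⁻¹)) :
    y ≠ 0 ∧ (y = eta Cd a g ↔ Commute x (cj z (g * z * g⁻¹))) := by
  have hG := F.thick.grp
  have huD : cj z (g * z * g⁻¹) ∈ D := cj_mem hG F.hz (hG.2.1 g z F.hz)
  have hy0 : y ≠ 0 := by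
    rintro rfl
    rw [e_zero F Cd.chart ha, mul_one] at hy
    exact hzw hy
  refine ⟨hy0, fun e => ?_, fun hc => by_contra fun e => ?_⟩
  · obtain ⟨c, hc, hcu⟩ := exists_hit hG F.thick F.hx ha.1 huD
    by_cases hcx : c = x
    · exact hcx ▸ hcu
    obtain ⟨w, rfl⟩ := exists_pt F Cd ha hc hcx
    obtain ⟨h1, h2, -⟩ := (commute_pt_iff F Cd ha hg hne hzw w).1 hcu
    exact absurd ((exists_val F Cd ha hg hne).unique h1 hy |>.trans e) h2
  · have h := (commute_pt_iff F Cd ha hg hne hzw y).2 ⟨hy, e, hy0⟩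
    refine not_commute_base F Cd ha hg hne ((commute_cj' hG F.hz ha.2.2.2 _).1 (commute_all hG
      F.thick F.hx ha.1 (self_mem_ln F.hx) (pt_mem F Cd ha y).1 (pt_mem F Cd ha y).2.symm huD hc h
      (right_mem_ln ha.1)).symm).symm

omit F in
theorem ratio {c k p q r u v : FieldFour} (hc : c ≠ 0) (hk : k ≠ 0) (hu : u ≠ 0) (hv : v ≠ 0)
    (h0 : p ≠ 0 ∧ q ≠ 0 ∧ r ≠ 0) (h1 : p ≠ 1 ∧ q ≠ 1 ∧ r ≠ 1)
    (e : r * (c * (v + k * u)) = c * (q * v + k * (p * u))) : p = q := by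
  have e' : (r - q) * v + (r - p) * (k * u) = 0 :=
    mul_left_cancel₀ hc (by linear_combination e)
  have three : ∀ p q r : FieldFour, p ≠ 0 → q ≠ 0 → r ≠ 0 → p ≠ 1 → q ≠ 1 → r ≠ 1 →
      p = q ∨ r = p ∨ r = q := by decide
  rcases three p q r h0.1 h0.2.1 h0.2.2 h1.1 h1.2.1 h1.2.2 with h | rfl | rfl
  · exact h
  · simpa [hv, sub_eq_zero] using e'
  · simpa [hk, hu, sub_eq_zero, eq_comm] using e'

/-- The third point outside the neighbourhood is a translate with proportional coordinates. -/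
theorem exists_outside {g : G} (hg : g ∈ Qg D x z) (hzw : ¬ Commute z (g * z * g⁻¹))
    (hxu : ¬ Commute x (cj z (g * z * g⁻¹))) :
    ∃ g' ∈ Qg D x z, cj z (g * z * g⁻¹) = g' * z * g'⁻¹ ∧
      ∃ s, s ≠ 1 ∧ s ≠ 0 ∧ (∀ a ∈ Cm D x z, eta Cd a g' = s * eta Cd a g) ∧
        ∀ a ∈ Cm D x z, ∀ y, eta Cd a g ≠ 0 →
          Commute z (g * Cd.e a y * z * (g * Cd.e a y)⁻¹) → y * conjF (eta Cd a g) = s := by
  have hG := F.thick.grp
  obtain ⟨g', hg', hu⟩ := exists_conj_z F (cj_mem hG F.hz (hG.2.1 g z F.hz)) hxu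
  have hval : ∀ a ∈ Cm D x z, ∀ y, eta Cd a g ≠ 0 →
      Commute z (g * Cd.e a y * z * (g * Cd.e a y)⁻¹) →
      eta Cd a g' = y ∧ y ≠ 0 ∧ y ≠ eta Cd a g := by
    intro a ha y hne hy
    obtain ⟨hy0, hy1⟩ := val_eq_iff F Cd ha hg hne hzw hy
    have hyne : y ≠ eta Cd a g := fun e => hxu (hy1.1 e)
    have h := (commute_pt_iff F Cd ha hg hne hzw y).2 ⟨hy, hyne, hy0⟩
    refine ⟨pt_inj F Cd ha ?_, hy0, hyne⟩
    rw [← conj_pt F Cd ha hg']
    exact hit_unique hG F.thick F.hx ha.1 (conj_nb F hg' ha.1).1 (pt_mem F Cd ha y).1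
      (self_mem_ln F.hx) (cj_mem hG F.hz (hG.2.1 g z F.hz))
      (hu ▸ (Commute.conj_iff g').2 ha.2.2.2.symm) h hxu
  have hzero : ∀ a ∈ Cm D x z, eta Cd a g = 0 → eta Cd a g' = 0 := by
    intro a ha h0
    have h1 : Commute (g * z * g⁻¹) a := by
      have := (Commute.conj_iff g).2 ha.2.2.2
      rwa [(eta_eq_zero F Cd ha hg).1 h0] at this
    exact (eta_eq_zero F Cd ha hg').2 (hit_unique hG F.thick F.hx ha.1 (conj_nb F hg' ha.1).1
      (right_mem_ln ha.1) (self_mem_ln F.hx) (cj_mem hG F.hz (hG.2.1 g z F.hz))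
      (hu ▸ (Commute.conj_iff g').2 ha.2.2.2.symm)
      ((commute_cj' hG F.hz ha.2.2.2 _).2 h1).symm hxu)
  let k : G → FieldFour := fun a => eta Cd a g' * conjF (eta Cd a g)
  have hk : ∀ a ∈ Cm D x z, eta Cd a g ≠ 0 →
      eta Cd a g' = k a * eta Cd a g ∧ k a ≠ 0 ∧ k a ≠ 1 := by
    intro a ha hne
    obtain ⟨y, hy, -⟩ := exists_val F Cd ha hg hne
    obtain ⟨e, hy0, hy1⟩ := hval a ha y hne hy
    have h1 : k a * eta Cd a g = eta Cd a g' := by
      simp only [k]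
      rw [mul_assoc, mul_comm (conjF _), mul_conjF _ hne, mul_one]
    refine ⟨h1.symm, fun h => ?_, fun h => ?_⟩ <;> rw [h] at h1
    · exact hy0 (by rw [← e, ← h1, zero_mul])
    · exact hy1 (by rw [← e, ← h1, one_mul])
  have heq : ∀ a ∈ Cm D x z, ∀ r ∈ Cm D x z, eta Cd a g ≠ 0 → eta Cd r g ≠ 0 → ¬ Commute a r →
      k a = k r := by
    intro a ha r hr hna hnr hn
    obtain ⟨ea, a0, a1⟩ := hk a ha hna
    obtain ⟨er, r0, r1⟩ := hk r hr hnr
    have ho := cm_cj F ha hr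
    have hor : ¬ Commute (cj a r) r := fun hc => hn (by
      rw [cj_comm hG ha.1.1 hr.1.1 hn] at hc
      exact (commute_cj' hG hr.1.1 (Commute.refl r) a).1 hc)
    have K1 := K_ne_zero F Cd ho hr hor
    have K2 := K_ne_zero F Cd hr ha fun e => hn e.symm
    have e1 := eta_third F Cd ha hr hn hg
    have e2 := eta_third F Cd ha hr hn hg'
    rw [ea, er] at e2
    by_cases hno : eta Cd (cj a r) g = 0
    · rw [hzero _ ho hno] at e2
      rw [hno] at e1
      have h1 := (mul_eq_zero.1 e1.symm).resolve_left K1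
      have h2 := (mul_eq_zero.1 e2.symm).resolve_left K1
      have h3 : (k a - k r) * (Cd.K r a * eta Cd a g) = 0 := by
        linear_combination h2 - k r * h1
      exact sub_eq_zero.1 ((mul_eq_zero.1 h3).resolve_right (mul_ne_zero K2 hna))
    · obtain ⟨eo, o0, o1⟩ := hk _ ho hno
      rw [eo, e1] at e2
      exact ratio K1 K2 hna hnr ⟨a0, r0, o0⟩ ⟨a1, r1, o1⟩ e2
  have hall : ∀ a ∈ Cm D x z, ∀ r ∈ Cm D x z, eta Cd a g ≠ 0 → eta Cd r g ≠ 0 → k a = k r := by
    intro a ha r hr hna hnr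
    by_cases hn : Commute a r
    swap
    · exact heq a ha r hr hna hnr hn
    obtain ⟨t, ht, hat, htr⟩ := exists_between F ha hr hn
    by_cases hnt : eta Cd t g = 0
    swap
    · exact (heq a ha t ht hna hnt hat).trans (heq t ht r hr hnt hnr htr)
    have ho := cm_cj F ha ht
    have hot : ¬ Commute (cj a t) t := fun hc => hat (by
      rw [cj_comm hG ha.1.1 ht.1.1 hat] at hc
      exact (commute_cj' hG ht.1.1 (Commute.refl t) a).1 hc)
    have hoa : ¬ Commute a (cj a t) := fun hc => hat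
      ((commute_cj' hG ha.1.1 (Commute.refl a) t).1 hc.symm).symm
    have hor : ¬ Commute (cj a t) r := fun hc => htr ((commute_cj' hG ha.1.1 hn t).1 hc)
    have hno : eta Cd (cj a t) g ≠ 0 := by
      rw [eta_third F Cd ha ht hat hg, hnt, zero_add]
      exact mul_ne_zero (K_ne_zero F Cd ho ht hot)
        (mul_ne_zero (K_ne_zero F Cd ht ha fun e => hat e.symm) hna)
    exact (heq a ha _ ho hna hno hoa).trans (heq _ ho r hr hno hnr hor)
  obtain ⟨a, ha, hna⟩ : ∃ a ∈ Cm D x z, eta Cd a g ≠ 0 := by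
    by_contra h
    push Not at h
    rcases eq_one_or_x F hg (fun a ha => (eta_eq_zero F Cd ha hg).1 (h a ha)) with rfl | rfl
    · exact hzw (by simpa using Commute.refl z)
    · refine hxu ?_
      rw [← cj_conj hG F.hx, cj_comm hG F.hx F.hz F.hn, cj_cj hG F.hz]
  refine ⟨g', hg', hu.symm, k a, (hk a ha hna).2.2, (hk a ha hna).2.1, fun r hr => ?_,
    fun r hr y hne hy => ?_⟩
  · by_cases h0 : eta Cd r g = 0
    · rw [h0, hzero r hr h0, mul_zero]
    · rw [(hk r hr h0).1, hall a ha r hr hna h0]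
  · rw [← (hval r hr y hne hy).1, hall a ha r hr hna hne]

theorem val_unique {a r g : G} {y w : FieldFour} (ha : a ∈ Cm D x z) (hr : r ∈ Cm D x z)
    (hg : g ∈ Qg D x z) (hna : eta Cd a g ≠ 0) (hnr : eta Cd r g ≠ 0)
    (hy : Commute z (g * Cd.e a y * z * (g * Cd.e a y)⁻¹))
    (hw : Commute z (g * Cd.e r w * z * (g * Cd.e r w)⁻¹)) :
    y * conjF (eta Cd a g) = w * conjF (eta Cd r g) := by
  by_cases hzw : Commute z (g * z * g⁻¹)
  · have h0 : ∀ b ∈ Cm D x z, Commute z (g * Cd.e b 0 * z * (g * Cd.e b 0)⁻¹) := fun b hb => by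
      rwa [e_zero F Cd.chart hb, mul_one]
    rw [(exists_val F Cd ha hg hna).unique hy (h0 a ha),
      (exists_val F Cd hr hg hnr).unique hw (h0 r hr), zero_mul, zero_mul]
  by_cases hxu : Commute x (cj z (g * z * g⁻¹))
  · rw [(val_eq_iff F Cd ha hg hna hzw hy).2.2 hxu, (val_eq_iff F Cd hr hg hnr hzw hw).2.2 hxu,
      mul_conjF _ hna, mul_conjF _ hnr]
  · obtain ⟨-, -, -, s, -, -, -, h⟩ := exists_outside F Cd hg hzw hxu
    rw [h a ha y hna hy, h r hr w hnr hw]

omit F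

/-- The values of the quadratic coordinate. -/
def Val (g : G) (s : FieldFour) : Prop :=
  ∃ a ∈ Cm D x z, ∃ y, eta Cd a g ≠ 0 ∧ Commute z (g * Cd.e a y * z * (g * Cd.e a y)⁻¹) ∧
    s = y * conjF (eta Cd a g)

/-- The quadratic coordinate. -/
noncomputable def quad (g : G) : FieldFour :=
  haveI := _root_.Classical.propDecidable (g = x)
  haveI := _root_.Classical.propDecidable (∃ s, Val Cd g s)
  if h : ∃ s, Val Cd g s then h.choose else if g = x then 1 else 0

include F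

theorem quad_val {a g : G} (ha : a ∈ Cm D x z) (hg : g ∈ Qg D x z) (hna : eta Cd a g ≠ 0)
    {y : FieldFour} (hy : Commute z (g * Cd.e a y * z * (g * Cd.e a y)⁻¹)) :
    quad Cd g = y * conjF (eta Cd a g) := by
  have h : ∃ s, Val Cd g s := ⟨_, a, ha, y, hna, hy, rfl⟩
  unfold quad
  rw [dif_pos h]
  obtain ⟨r, hr, w, hnr, hw, e⟩ := h.choose_spec
  rw [e, val_unique F Cd hr ha hg hnr hna hw hy]

theorem quad_one : quad Cd 1 = 0 := by
  unfold quad
  rw [dif_neg, if_neg]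
  · intro e
    have := F.thick.grp.1.1 x F.hx
    rw [← e, orderOf_one] at this
    omega
  · rintro ⟨s, a, ha, y, hna, -⟩
    exact hna (eta_one F Cd ha)

theorem quad_x : quad Cd x = 1 := by
  unfold quad
  rw [dif_neg, if_pos rfl]
  rintro ⟨s, a, ha, y, hna, -⟩
  exact hna (eta_x F Cd ha)

theorem quad_eq_zero_iff {g : G} (hg : g ∈ Qg D x z) :
    quad Cd g = 0 ↔ Commute z (g * z * g⁻¹) := by
  by_cases h : ∃ a ∈ Cm D x z, eta Cd a g ≠ 0
  · obtain ⟨a, ha, hna⟩ := h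
    obtain ⟨y, hy, -⟩ := exists_val F Cd ha hg hna
    rw [quad_val F Cd ha hg hna hy, mul_eq_zero, or_iff_left (fun e => hna (by
      rw [← conjF_conjF (eta Cd a g), e, map_zero]))]
    constructor
    · rintro rfl
      rwa [e_zero F Cd.chart ha, mul_one] at hy
    · intro hc
      exact (exists_val F Cd ha hg hna).unique hy (by rwa [e_zero F Cd.chart ha, mul_one])
  push Not at h
  rcases eq_one_or_x F hg (fun a ha => (eta_eq_zero F Cd ha hg).1 (h a ha)) with rfl | rfl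
  · simp [quad_one F Cd]
  · rw [quad_x F Cd]
    refine iff_of_false one_ne_zero (fix_not_commute F hg
      (fun a ha => (eta_eq_zero F Cd ha hg).1 (h a ha)) fun e => ?_)
    exact one_ne_zero (((quad_x F Cd).symm.trans (congrArg (quad Cd) e)).trans (quad_one F Cd))

theorem quad_eq_one_iff {g : G} (hg : g ∈ Qg D x z) (hzw : ¬ Commute z (g * z * g⁻¹)) :
    quad Cd g = 1 ↔ Commute x (cj z (g * z * g⁻¹)) := by
  have hG := F.thick.grp
  by_cases h : ∃ a ∈ Cm D x z, eta Cd a g ≠ 0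
  · obtain ⟨a, ha, hna⟩ := h
    obtain ⟨y, hy, -⟩ := exists_val F Cd ha hg hna
    rw [quad_val F Cd ha hg hna hy, ← (val_eq_iff F Cd ha hg hna hzw hy).2]
    constructor
    · intro e
      calc y = y * (eta Cd a g * conjF (eta Cd a g)) := by rw [mul_conjF _ hna, mul_one]
        _ = y * conjF (eta Cd a g) * eta Cd a g := by ring
        _ = eta Cd a g := by rw [e, one_mul]
    · rintro rfl
      exact mul_conjF _ hna
  push Not at h
  rcases eq_one_or_x F hg (fun a ha => (eta_eq_zero F Cd ha hg).1 (h a ha)) with rfl | rfl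
  · exact absurd (by simpa using Commute.refl z) hzw
  · refine iff_of_true (quad_x F Cd) ?_
    rw [← cj_conj hG F.hx, cj_comm hG F.hx F.hz F.hn, cj_cj hG F.hz]

theorem quad_outside {g : G} (hg : g ∈ Qg D x z) (hzw : ¬ Commute z (g * z * g⁻¹))
    (hxu : ¬ Commute x (cj z (g * z * g⁻¹))) :
    ∃ g' ∈ Qg D x z, cj z (g * z * g⁻¹) = g' * z * g'⁻¹ ∧
      ∀ a ∈ Cm D x z, eta Cd a g' = quad Cd g * eta Cd a g := by
  obtain ⟨g', hg', hu, s, -, -, h1, h2⟩ := exists_outside F Cd hg hzw hxu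
  refine ⟨g', hg', hu, fun a ha => ?_⟩
  by_cases hna : eta Cd a g = 0
  · rw [h1 a ha, hna, mul_zero, mul_zero]
  obtain ⟨y, hy, -⟩ := exists_val F Cd ha hg hna
  rw [h1 a ha, quad_val F Cd ha hg hna hy, h2 a ha y hna hy]

theorem quad_e {a : G} (ha : a ∈ Cm D x z) (y : FieldFour) :
    quad Cd (Cd.e a y) = 0 ∧ quad Cd (Cd.e a y * x) = 1 := by
  have hG := F.thick.grp
  have haz : z ∈ Nb D a := FischerLines.nb_symm F.hz ha.2
  have hl := Cd.chart.mem a ha y
  refine ⟨(quad_eq_zero_iff F Cd (kl_le ha hl)).2 ?_, ?_⟩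
  · by_cases e : z = Cd.e a y * z * (Cd.e a y)⁻¹
    · rw [← e]
    · exact (ln_pair hG F.thick ha.1.1 haz (right_mem_ln haz) (trans_mem F ha hl).1 e).1.2.2
  rcases eq_or_ne y 0 with rfl | hy
  · rw [e_zero F Cd.chart ha, one_mul, quad_x F Cd]
  have hb := pt_mem F Cd ha y
  have hbz := pt_not_commute F Cd ha hy
  have e : Cd.e a y * x * z * (Cd.e a y * x)⁻¹ = cj (pt Cd a y) z := by
    rw [cj_pt F Cd ha hy, (kl_commute F ha.1 (self_mem_ln F.hx) hl).eq]
  have hnc : ¬ Commute z (Cd.e a y * x * z * (Cd.e a y * x)⁻¹) := by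
    rw [e, cj_comm hG hb.1.1 F.hz hbz, commute_swap hG F.hz, cj_self hG F.hz]
    exact fun h => hbz h.symm
  rw [quad_eq_one_iff F Cd (mul_mem (kl_le ha hl) (x_mem F)) hnc, e,
    cj_comm hG hb.1.1 F.hz hbz, cj_cj hG F.hz]
  exact (nb_of_ln hG hb.1 hb.2).2.2

/-- The effect of a translation of one line. -/
theorem quad_mul_e {a g : G} (ha : a ∈ Cm D x z) (hg : g ∈ Qg D x z) (y : FieldFour) :
    quad Cd (g * Cd.e a y) = quad Cd g + y * conjF (eta Cd a g) := by
  have hG := F.thick.grp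
  have hgl : g * Cd.e a y ∈ Qg D x z := mul_mem hg (e_le F Cd ha y)
  have hη : eta Cd a (g * Cd.e a y) = eta Cd a g := by
    rw [eta_mul F Cd ha hg (e_le F Cd ha y), eta_e F Cd ha ha, K_self F Cd ha, zero_mul, add_zero]
  by_cases hna : eta Cd a g = 0
  swap
  · obtain ⟨y₀, hy₀, -⟩ := exists_val F Cd ha hg hna
    have e : g * Cd.e a y * Cd.e a (y₀ + y) = g * Cd.e a y₀ := by
      rw [mul_assoc, ← Cd.chart.add a ha, add_comm y₀ y, ← add_assoc, add_self', zero_add]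
    rw [quad_val F Cd ha hg hna hy₀,
      quad_val F Cd ha hgl (hη.symm ▸ hna) (y := y₀ + y) (e ▸ hy₀), hη]
    ring
  rw [hna, map_zero, mul_zero, add_zero]
  have hga := (eta_eq_zero F Cd ha hg).1 hna
  by_cases hm : ∃ m, ∀ r ∈ Cm D x z, eta Cd r g = Cd.K r a * m
  · obtain ⟨m, hm⟩ := hm
    obtain ⟨q1, q2⟩ := quad_e F Cd ha m
    obtain ⟨q3, q4⟩ := quad_e F Cd ha (m + y)
    rcases eq_or_of_eta F Cd hg (e_le F Cd ha m)
      (fun r hr => by rw [hm r hr, eta_e F Cd hr ha]) with rfl | rfl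
    · rw [← Cd.chart.add a ha, q1, q3]
    · rw [q2, mul_assoc, (kl_commute F ha.1 (self_mem_ln F.hx) (Cd.chart.mem a ha y)).eq,
        ← mul_assoc, ← Cd.chart.add a ha, q4]
  by_cases hzw : Commute z (g * z * g⁻¹)
  · rw [(quad_eq_zero_iff F Cd hg).2 hzw,
      (quad_eq_zero_iff F Cd hgl).2 ((commute_iff_of_fix F Cd ha hg hga y).2 hzw)]
  have hzw' := fun h => hzw ((commute_iff_of_fix F Cd ha hg hga y).1 h)
  obtain ⟨hl1, hl2⟩ := trans_mem F ha (Cd.chart.mem a ha y)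
  set u := cj z (g * z * g⁻¹) with hudef
  set u' := cj z (g * Cd.e a y * z * (g * Cd.e a y)⁻¹) with hu'def
  have huD : u ∈ D := cj_mem hG F.hz (hG.2.1 g z F.hz)
  have hza : cj z a = a := cj_fix hG F.hz ha.2.2.2
  have hmem : u' ∈ Ln D a u := by
    have h1 := ln_cj_mem hG F.hz (ln_conj_mem hG g hl1)
    rw [hga, hza] at h1
    rwa [show g * (Cd.e a y * z * (Cd.e a y)⁻¹) * g⁻¹ =
      g * Cd.e a y * z * (g * Cd.e a y)⁻¹ by group] at h1
  have hne : ∀ k ∈ Qg D x z, cj z (k * z * k⁻¹) ≠ a := fun k hk e =>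
    conj_not_commute F hk (by rw [cj_inj hG F.hz (e.trans hza.symm)]; exact ha.1.2.2)
  have hau : u ∈ Nb D a := by
    refine ⟨huD, hne g hg, ?_⟩
    have := (Commute.conj_iff g).2 ha.2.2.2
    rw [hga] at this
    exact ((commute_cj' hG F.hz ha.2.2.2 _).2 this).symm
  have hiff : Commute x u ↔ Commute x u' := by
    constructor <;> intro h
    · exact (commute_all hG F.thick ha.1.1 hau (self_mem_ln ha.1.1) (right_mem_ln hau)
        hau.2.1.symm F.hx ha.1.2.2.symm h.symm hmem).symm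
    · exact (commute_all hG F.thick ha.1.1 hau (self_mem_ln ha.1.1) hmem (hne _ hgl).symm F.hx
        ha.1.2.2.symm h.symm (right_mem_ln hau)).symm
  by_cases hxu : Commute x u
  · rw [(quad_eq_one_iff F Cd hg hzw).2 hxu, (quad_eq_one_iff F Cd hgl hzw').2 (hiff.1 hxu)]
  obtain ⟨g', hg', hu, h1⟩ := quad_outside F Cd hg hzw hxu
  obtain ⟨k', hk', hu', h2⟩ := quad_outside F Cd hgl hzw' (fun h => hxu (hiff.2 h))
  rw [← hudef] at hu
  rw [← hu'def] at hu'
  have hg'a := (eta_eq_zero F Cd ha hg').1 (by rw [h1 a ha, hna, mul_zero])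
  have hw : g'⁻¹ * u' * g' ∈ Ln D a z := by
    have h3 := ln_conj_mem hG g'⁻¹ hmem
    have e : g'⁻¹ * a * g' = a := by conv_lhs => rw [← hg'a]
                                     group
    rw [hu, inv_inv, e] at h3
    simpa [mul_assoc] using h3
  obtain ⟨l, hl, e⟩ := exists_kl_z F ha hw (fun e => hne _ hgl (by
    rw [← hu'def, show u' = g' * (g'⁻¹ * u' * g') * g'⁻¹ by group, e, hg'a]))
  obtain ⟨y', rfl⟩ := Cd.chart.surj a ha l hl
  have hk : k' = g' * Cd.e a y' := conj_inj_z F hk' (mul_mem hg' (e_le F Cd ha y')) (by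
    rw [← hu', show g' * Cd.e a y' * z * (g' * Cd.e a y')⁻¹ =
      g' * (Cd.e a y' * z * (Cd.e a y')⁻¹) * g'⁻¹ by group, e]
    group)
  by_contra hne'
  refine hm ⟨(quad Cd (g * Cd.e a y) * y - y') / (quad Cd g - quad Cd (g * Cd.e a y)),
    fun r hr => ?_⟩
  have h3 := h2 r hr
  rw [hk, eta_mul F Cd hr hg' (e_le F Cd ha y'), eta_e F Cd hr ha, h1 r hr,
    eta_mul F Cd hr hg (e_le F Cd ha y), eta_e F Cd hr ha] at h3
  have hd : quad Cd g - quad Cd (g * Cd.e a y) ≠ 0 := sub_ne_zero.2 fun e => hne' e.symm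
  rw [← mul_div_assoc, eq_div_iff hd]
  linear_combination h3

end CfsgLib.Sporadic.FischerCoord
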