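import Cfsg.Agent.Lib.Sporadic.FischerTransitivity

/-!
# Fischer's rank three theorem

For a class `D` of 3-transpositions of a finite group with perfect derived group containing no
non-trivial solvable normal subgroup of the whole group, the centralizer of `d ∈ D` is transitive
on the members not commuting with `d`.
-/

set_option autoImplicit false

namespace CfsgLib.Sporadic.FischerRankThree

open Relation
open CfsgLib.Sporadic.FischerTransitivity

variable {G : Type*} [Group G]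

/-- Two ordered pairs are conjugate. -/
def PR (x y x' y' : G) : Prop := ∃ g : G, g * x * g⁻¹ = x' ∧ g * y * g⁻¹ = y'

theorem PR.symm' {x y x' y' : G} (h : PR x y x' y') : PR x' y' x y := by
  obtain ⟨g, rfl, rfl⟩ := h
  exact ⟨g⁻¹, by group, by group⟩

theorem PR.trans' {x y x' y' x'' y'' : G} (h : PR x y x' y') (h' : PR x' y' x'' y'') :
    PR x y x'' y'' := by
  obtain ⟨g, rfl, rfl⟩ := h
  obtain ⟨k, rfl, rfl⟩ := h'
  exact ⟨k * g, by group, by group⟩

theorem PR.flip' {x y x' y' : G} (h : PR x y x' y') : PR y x y' x' :=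
  let ⟨g, h1, h2⟩ := h; ⟨g, h2, h1⟩

variable {D : Set G} (hG : Cfsg.IsThreeTranspositionGroup D)

include hG

theorem cj_swap {a s : G} (ha : a ∈ D) (hs : s ∈ D) (h : ¬ Commute a s ∨ a = s) :
    cj a s = cj s a := by
  rcases h with h | h
  · exact cj_comm hG ha hs h
  · rw [h]

theorem swap {x y : G} (hx : x ∈ D) (hy : y ∈ D) (h : ¬ Commute x y) : PR x y y x := by
  refine ⟨cj x y, ?_, ?_⟩
  · have hd := cj_mem hG hx hy
    rw [← cj_conj hG hd, cj_cj_eq, cj_self hG hx, cj_comm hG hy hx (fun e => h e.symm),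
      cj_cj hG hx]
  · have hd := cj_mem hG hx hy
    rw [← cj_conj hG hd, cj_cj_eq]
    have e1 : cj x y = cj y x := cj_comm hG hx hy h
    rw [e1, cj_cj hG hy, cj_self hG hx]

/-- If `d`, `s` commute and `b` commutes with neither, some element fixes `b` and moves `d` to `s`. -/
theorem rule {b d s : G} (hb : b ∈ D) (hd : d ∈ D) (hs : s ∈ D) (hds : Commute d s)
    (hbd : ¬ Commute b d) (hbs : ¬ Commute b s) : PR b d b s := by
  set e := cj s (cj d b) with he
  have heD : e ∈ D := cj_mem hG hs (cj_mem hG hd hb)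
  have hdb : ¬ Commute d b := fun h => hbd h.symm
  have hsb : ¬ Commute s b := fun h => hbs h.symm
  have hbe : Commute b e := by
    rw [he, commute_swap hG hs, cj_comm hG hs hb hsb, cj_comm hG hd hb hdb, commute_cj hG hb]
    exact hds.symm
  have hconj : ∀ z, b * e * z * (b * e)⁻¹ = cj b (cj e z) := fun z => by
    simp only [cj, mul_inv_rev, inv_eq hG hb, inv_eq hG heD, mul_assoc]
  refine ⟨b * e, ?_, ?_⟩
  · rw [hconj, cj_fix hG heD hbe.symm, cj_self hG hb]
  · rw [hconj, he, cj_cj_eq, cj_fix hG hs hds.symm, cj_cj_eq, cj_self hG hd,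
      cj_comm hG hb hd hbd, cj_cj hG hd, cj_comm hG hs hb hsb, cj_cj hG hb]

omit hG in
theorem nb_image (hG : Cfsg.IsThreeTranspositionGroup D) (g u : G) :
    (fun w => g * w * g⁻¹) '' Nb D u = Nb D (g * u * g⁻¹) := by
  ext z
  constructor
  · rintro ⟨w, hw, rfl⟩
    exact nb_conj hG g hw
  · intro hz
    refine ⟨g⁻¹ * z * g, ?_, by group⟩
    have := nb_conj hG g⁻¹ hz
    simpa [mul_assoc] using this

variable [Finite G] (hclass : ∀ a ∈ D, ∀ b ∈ D, ∃ g : G, g * a * g⁻¹ = b)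
  (hperf : ⁅commutator G, commutator G⁆ = commutator G)
  (hsol : ∀ N : Subgroup G, N.Normal → Group.IsSolvable ↥N → N ≤ commutator G →
    N ≤ Subgroup.center G)

omit hG in
theorem eq_of_nb_commute {a b : G} (h : Nb D a = Nb D b) (hb : b ∈ D) (hc : Commute a b) : a = b := by
  by_contra hne
  exact ((h ▸ (⟨hb, Ne.symm hne, hc⟩ : b ∈ Nb D a)) : b ∈ Nb D b).2.1 rfl

omit hG in
theorem nb_eq_conj (hG : Cfsg.IsThreeTranspositionGroup D) (g : G) {a b : G} (h : Nb D a = Nb D b) :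
    Nb D (g * a * g⁻¹) = Nb D (g * b * g⁻¹) := by rw [← nb_image hG, ← nb_image hG, h]

theorem nb_cj {a b : G} (ha : a ∈ D) (hb : b ∈ D) (hab : Nb D a = Nb D b) {s : G} (hs : s ∈ D) :
    Nb D (cj a s) = Nb D (cj b s) := by
  by_cases hsa : s ∈ Nb D a
  · rw [cj_fix hG ha hsa.2.2, cj_fix hG hb (hab ▸ hsa).2.2]
  · have key : ∀ c ∈ D, s ∉ Nb D c → ¬ Commute c s ∨ c = s := fun c _ hn => by
      by_contra hh
      push Not at hh
      exact hn ⟨hs, hh.2.symm, hh.1⟩
    rw [cj_swap hG ha hs (key a ha hsa), cj_swap hG hb hs (key b hb (hab ▸ hsa)),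
      cj_conj hG hs, cj_conj hG hs]
    exact nb_eq_conj hG s hab

/-- The products inside a class of equal neighbourhoods generate a 3-group. -/
theorem nb_class_isPGroup {c : G} (hc : c ∈ D) :
    IsPGroup 3 (Subgroup.closure {k : G | ∃ a b, (c ∈ D ∧ a ∈ D ∧ Nb D c = Nb D a) ∧
      (c ∈ D ∧ b ∈ D ∧ Nb D c = Nb D b) ∧ k = a * b}) := by
  have hnc : ∀ a b, Nb D a = Nb D b → b ∈ D → Commute a b → a = b := fun a b => eq_of_nb_commute
  have hconj : ∀ g a b, Nb D a = Nb D b → Nb D (g * a * g⁻¹) = Nb D (g * b * g⁻¹) :=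
    fun g a b => nb_eq_conj hG g
  set X : Set G := {x | c ∈ D ∧ x ∈ D ∧ Nb D c = Nb D x} with hX
  set H := Subgroup.closure X with hH
  set S : Set H := {z | (z : G) ∈ X} with hS
  have hXconj : ∀ k ∈ H, ∀ z, z ∈ X ↔ k * z * k⁻¹ ∈ X := by
    intro k hk
    induction hk using Subgroup.closure_induction with
    | mem x hx =>
      obtain ⟨-, hx, hcx⟩ := hx
      have hstep : ∀ z ∈ X, cj x z ∈ X := by
        rintro z ⟨-, hz, hcz⟩
        refine ⟨hc, cj_mem hG hx hz, ?_⟩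
        have h1 := hconj x x z (hcx.symm.trans hcz)
        rw [← cj_conj hG hx, ← cj_conj hG hx, cj_self hG hx] at h1
        exact hcx.trans h1
      intro z
      rw [← cj_conj hG hx]
      exact ⟨hstep z, fun h => by simpa [cj_cj hG hx] using hstep _ h⟩
    | one => simp
    | mul g k _ _ ihg ihk => intro z; rw [ihk z, ihg (k * z * k⁻¹)]; simp [mul_assoc]
    | inv g _ ih => intro z; rw [ih (g⁻¹ * z * g⁻¹⁻¹)]; simp [mul_assoc]
  have hS3 : Cfsg.IsThreeTranspositionSet S := by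
    refine ⟨fun z hz => ?_, fun a ha b hb => ?_⟩
    · rw [← Subgroup.orderOf_coe]
      exact hG.1.1 _ hz.2.1
    · rcases hG.1.2 _ ha.2.1 _ hb.2.1 with h | h
      · exact Or.inl (Subtype.ext (by simpa using h))
      · exact Or.inr (Subtype.ext (by simpa using h))
  have hSconj : ∀ g : H, ∀ d ∈ S, g * d * g⁻¹ ∈ S := fun g d hd => (hXconj g g.2 d).1 hd
  have hw' : ∀ a ∈ S, ∀ b ∈ S, Commute a b → a = b := fun a ha b hb hab =>
    Subtype.ext (hnc _ _ (ha.2.2.symm.trans hb.2.2) hb.2.1 (congrArg Subtype.val hab.eq))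
  haveI : Fact (Nat.Prime 3) := ⟨Nat.prime_three⟩
  haveI : Group.IsNilpotent ↥((Cfsg.pCore 3 H).map H.subtype) :=
    ((CfsgLib.Solvable.Cores.isPGroup_pCore (G := H) 3).map _).isNilpotent
  have hle : Subgroup.closure {k : G | ∃ a b, (c ∈ D ∧ a ∈ D ∧ Nb D c = Nb D a) ∧
      (c ∈ D ∧ b ∈ D ∧ Nb D c = Nb D b) ∧ k = a * b} ≤ (Cfsg.pCore 3 H).map H.subtype := by
    refine (Subgroup.closure_le _).2 ?_
    rintro _ ⟨a, b, ha, hb, rfl⟩
    exact ⟨⟨a, Subgroup.subset_closure ha⟩ * ⟨b, Subgroup.subset_closure hb⟩,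
      CfsgLib.ThreeTransp.WidthOne.mul_mem_pCore hS3 hSconj hw' ha hb, rfl⟩
  exact ((CfsgLib.Solvable.Cores.isPGroup_pCore (G := H) 3).map _).to_le hle

include hclass hsol in
/-- Members with the same commuting neighbours coincide. -/
theorem eq_of_nb_eq {u w : G} (hu : u ∈ D) (hw : w ∈ D) (h : Nb D u = Nb D w) : u = w := by
  refine eq_of_blocks hG hclass hsol (E := fun a b => a ∈ D ∧ b ∈ D ∧ Nb D a = Nb D b)
    (fun a b h => ⟨h.1, h.2.1⟩) (fun a ha => ⟨ha, ha, rfl⟩) (fun a b h => ⟨h.2.1, h.1, h.2.2.symm⟩)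
    (fun a b c h h' => ⟨h.1, h'.2.1, h.2.2.trans h'.2.2⟩)
    (fun g a b h => ⟨hG.2.1 g a h.1, hG.2.1 g b h.2.1, nb_eq_conj hG g h.2.2⟩) ?_ ?_ u w ⟨hu, hw, h⟩
  · rintro a b ⟨ha, hb, hab⟩ s hs
    exact ⟨cj_mem hG ha hs, cj_mem hG hb hs, nb_cj hG ha hb hab hs⟩
  · intro c hc
    haveI : Fact (Nat.Prime 3) := ⟨Nat.prime_three⟩
    haveI := (nb_class_isPGroup hG hc).isNilpotent
    infer_instance

include hclass hperf hsol in
/-- Fischer: the centralizer of `d` is transitive on the members not commuting with `d`. -/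
theorem adj_transitive {d a b : G} (hd : d ∈ D) (ha : a ∈ D) (hb : b ∈ D) (hda : ¬ Commute d a)
    (hdb : ¬ Commute d b) : PR d a d b := by
  classical
  have hcc := fun x (hx : x ∈ D) y (hy : y ∈ D) => commuting_connected hG hclass hperf hx hy
  obtain ⟨⟨d₀, a₀⟩, ⟨hd₀, ha₀, hn₀⟩, hmax⟩ :=
    ({p : G × G | p.1 ∈ D ∧ p.2 ∈ D ∧ ¬ Commute p.1 p.2}).exists_max_image
      (fun p => (Nb D p.1 ∩ Nb D p.2).ncard) (Set.toFinite _) ⟨(d, a), hd, ha, hda⟩
  suffices hall : ∀ z ∈ D, ¬ Commute d₀ z → PR d₀ a₀ d₀ z by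
    have aux : ∀ z ∈ D, ¬ Commute d z → PR d₀ a₀ d z := by
      intro z hz hn
      obtain ⟨g, hg⟩ := hclass d hd d₀ hd₀
      have h2 : ¬ Commute d₀ (g * z * g⁻¹) := by
        rw [← hg]; exact fun h => hn ((Commute.conj_iff g).1 h)
      exact (hall _ (hG.2.1 g z hz) h2).trans' (PR.symm' ⟨g, hg, rfl⟩)
    exact (aux a ha hda).symm'.trans' (aux b hb hdb)
  intro b₁ hb₁ hn₁
  by_contra hne
  -- pairs outside the class of the chosen pair
  let Out : G → G → Prop := fun x z => x ∈ D ∧ z ∈ D ∧ ¬ Commute x z ∧ ¬ PR d₀ a₀ x z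
  have hcard : ∀ x z, PR d₀ a₀ x z → (Nb D x ∩ Nb D z).ncard = (Nb D d₀ ∩ Nb D a₀).ncard := by
    rintro _ _ ⟨g, rfl, rfl⟩
    have hinj : Function.Injective fun w => g * w * g⁻¹ :=
      fun p q h => mul_left_cancel (mul_right_cancel h)
    rw [← nb_image hG, ← nb_image hG, ← Set.image_inter hinj,
      Set.ncard_image_of_injective _ hinj]
  -- common neighbours are fewer outside
  have hsub : ∀ a', PR d₀ a₀ d₀ a' → ∀ b', Out d₀ b' → Nb D d₀ ∩ Nb D b' ⊆ Nb D a' := by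
    rintro a' ha' b' ⟨-, hb', hnb', hout⟩ s ⟨hsd, hsb⟩
    by_contra hsa
    have ha'D : a' ∈ D := by obtain ⟨g, -, rfl⟩ := ha'; exact hG.2.1 g a₀ ha₀
    have ha'n : ¬ Commute d₀ a' := by
      obtain ⟨g, h1, rfl⟩ := ha'
      rw [← h1]
      exact fun h => hn₀ ((Commute.conj_iff g).1 h)
    have hab' : ¬ Commute a' b' := fun h => hout (ha'.trans'
      (rule hG hd₀ ha'D hb' h ha'n hnb'))
    have hsa' : ¬ Commute a' s := fun h =>
      hsa ⟨hsd.1, fun e => ha'n (e ▸ hsd.2.2), h⟩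
    -- the pair (a', b') is conjugate to (a', d₀)
    have h1 : PR a' b' a' d₀ :=
      (rule hG ha'D hb' hsd.1 hsb.2.2 hab' hsa').trans'
        (rule hG ha'D hsd.1 hd₀ hsd.2.2.symm hsa' (fun h => ha'n h.symm))
    have hle : Nb D d₀ ∩ Nb D a' ⊆ Nb D d₀ ∩ Nb D b' := by
      rintro t ⟨htd, hta⟩
      refine ⟨htd, ?_⟩
      by_contra htb
      have hbt : ¬ Commute b' t := fun h => htb ⟨htd.1, fun e => hnb' (e ▸ htd.2.2), h⟩
      have h2 : PR b' a' b' d₀ :=
        (rule hG hb' ha'D htd.1 hta.2.2 (fun h => hab' h.symm) hbt).trans'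
          (rule hG hb' htd.1 hd₀ htd.2.2.symm hbt (fun h => hnb' h.symm))
      exact hout (ha'.trans' ((swap hG hd₀ ha'D ha'n).trans' (h1.symm'.trans'
        ((swap hG ha'D hb' hab').trans' (h2.trans' (swap hG hb' hd₀ fun h => hnb' h.symm))))))
    have hlt : (Nb D d₀ ∩ Nb D a').ncard < (Nb D d₀ ∩ Nb D b').ncard :=
      Set.ncard_lt_ncard ⟨hle, fun h => hsa (h ⟨hsd, hsb⟩).2⟩ (Set.toFinite _)
    have := hmax (d₀, b') ⟨hd₀, hb', hnb'⟩
    rw [hcard _ _ ha'] at hlt
    simp only at this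
    omega
  by_cases hcase : ∃ b', Out d₀ b' ∧ (Nb D d₀ ∩ Nb D b').Nonempty
  · -- then `a₀` has the same neighbours as `d₀`
    obtain ⟨b', hout, s₀, hs₀⟩ := hcase
    have hall : Nb D d₀ ⊆ Nb D a₀ := by
      intro t ht
      obtain ⟨k, hk, rfl⟩ := exists_conj hG hclass hperf hsol hd₀ hs₀.1 ht
      have hkd : k * d₀ * k⁻¹ = d₀ := by
        have : Commute d₀ k := by
          clear ht
          induction hk using Subgroup.closure_induction with
          | mem z hz => exact hz.2.2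
          | one => exact Commute.one_right _
          | mul _ _ _ _ h1 h2 => exact h1.mul_right h2
          | inv _ _ h => exact h.inv_right
        rw [← this.eq, mul_assoc, mul_inv_cancel, mul_one]
      have hP : PR d₀ a₀ d₀ (k⁻¹ * a₀ * k) :=
        PR.symm' ⟨k, hkd, by group⟩
      have h := nb_conj hG k (hsub _ hP b' hout hs₀)
      simpa [mul_assoc] using h
    have heq : Nb D d₀ = Nb D a₀ := by
      refine Set.eq_of_subset_of_ncard_le hall ?_ (Set.toFinite _)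
      obtain ⟨g, rfl⟩ := hclass d₀ hd₀ a₀ ha₀
      rw [← nb_image hG, Set.ncard_image_of_injective _
        (fun p q h => mul_left_cancel (mul_right_cancel h))]
    exact hn₀ (eq_of_nb_eq hG hclass hsol hd₀ ha₀ heq ▸ Commute.refl d₀)
  -- outside pairs have no common neighbours at all
  push Not at hcase
  have hempty : ∀ x z, Out x z → ∀ s ∈ Nb D x, s ∉ Nb D z := by
    rintro x z ⟨hx, hz, hn, hP⟩ s hsx hsz
    obtain ⟨g, hg⟩ := hclass x hx d₀ hd₀
    have hout : Out d₀ (g * z * g⁻¹) := by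
      refine ⟨hd₀, hG.2.1 g z hz, ?_, fun h => hP (h.trans' (PR.symm' ⟨g, hg, rfl⟩))⟩
      rw [← hg]
      exact fun h => hn ((Commute.conj_iff g).1 h)
    have h1 := hcase _ hout
    rw [← hg] at h1
    exact Set.eq_empty_iff_forall_notMem.1 h1 (g * s * g⁻¹) ⟨nb_conj hG g hsx, nb_conj hG g hsz⟩
  have hkey : ∀ x z s, Out x z → s ∈ D → Commute x s → Out s z := by
    intro x z s hout hs hxs
    by_cases hsx : s = x
    · exact hsx ▸ hout
    obtain ⟨hx, hz, hn, hP⟩ := hout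
    have hzs : ¬ Commute z s := fun h =>
      hempty x z ⟨hx, hz, hn, hP⟩ s ⟨hs, hsx, hxs⟩ ⟨hs, fun e => hn (e ▸ hxs), h⟩
    have h1 : PR z x z s := rule hG hz hx hs hxs (fun h => hn h.symm) hzs
    exact ⟨hs, hz, fun h => hzs h.symm, fun h => hP (h.trans' h1.flip'.symm')⟩
  have hrtg : ∀ y, ReflTransGen (CRel D) d₀ y → Out y b₁ := by
    intro y hy
    induction hy with
    | refl => exact ⟨hd₀, hb₁, hn₁, hne⟩
    | tail _ h ih => exact hkey _ _ _ ih h.2.1 h.2.2
  exact (hrtg b₁ (hcc d₀ hd₀ b₁ hb₁)).2.2.1 (Commute.refl b₁)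

end CfsgLib.Sporadic.FischerRankThree
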