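import Cfsg.Agent.Lib.Sporadic.FischerFive
import Cfsg.Agent.Lib.Classical.SympMatrix

/-!
# Lines of three points: the symplectic groups over the field with two elements

When lines have three points, the vectors `e ↦ [e and a do not commute]` of the members `a` form,
with zero, a subspace, commutation is the value of an alternating form on it, and the group acts
as the isometry group.
-/

set_option autoImplicit false
set_option linter.style.haveILetI false

namespace CfsgLib.Sporadic.FischerSymplectic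

open CfsgLib.Sporadic.FischerTransitivity CfsgLib.Sporadic.FischerLines
open CfsgLib.Sporadic.FischerFive CfsgLib.Classical

variable {G : Type*} [Group G] {D : Set G}

theorem fun_self {D : Set G} (u : ↥D → ZMod 2) : u + u = 0 :=
  funext fun e => CharTwo.add_self_eq_zero (u e)

/-- The commutation vector of a member. -/
noncomputable def phi (D : Set G) (a : G) : ↥D → ZMod 2 :=
  haveI := fun e : ↥D => _root_.Classical.propDecidable (Commute a (e : G))
  fun e => if Commute a (e : G) then 0 else 1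

theorem phi_eq_zero_iff {a : G} (e : ↥D) : phi D a e = 0 ↔ Commute a (e : G) := by
  unfold phi; split <;> simp_all

theorem phi_symm (a b : ↥D) : phi D (a : G) b = phi D (b : G) a := by
  simp only [phi]
  split_ifs with h1 h2 h2 <;> first | rfl | exact absurd h1.symm h2 | exact absurd h2.symm h1

/-- The span of the commutation vectors. -/
noncomputable def space (D : Set G) : Submodule (ZMod 2) (↥D → ZMod 2) :=
  Submodule.span (ZMod 2) (Set.range fun a : ↥D => phi D (a : G))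

variable [Finite G] (h : Thick D) (h3 : ∀ x ∈ D, ∀ a ∈ Nb D x, (Ln D x a).ncard = 3)

include h h3

theorem line_eq {x a b : G} (hx : x ∈ D) (ha : a ∈ Nb D x) (hb : b ∈ Ln D x a) (hbx : b ≠ x)
    (hba : b ≠ a) : Ln D x a = {x, a, b} := by
  refine (Set.eq_of_subset_of_ncard_le ?_ ?_ (Set.toFinite _)).symm
  · rintro p (rfl | rfl | rfl)
    exacts [self_mem_ln hx, right_mem_ln ha, hb]
  · rw [h3 x hx a ha]
    exact (Set.ncard_eq_three.2 ⟨x, a, b, ha.2.1.symm, hbx.symm, hba.symm, rfl⟩).ge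

theorem config {u v w q : G} (hu : u ∈ D) (hw : w ∈ D) (hv : v ∈ D) (huv : ¬ Commute v u)
    (hwu : ¬ Commute w u) (hwv : ¬ Commute v w) (hq : q ∈ Nb D v) (hqu : Commute q u)
    (hqw : ¬ Commute q w) : Commute v (cj w u) := by
  have hG := h.grp
  obtain ⟨x, hxL, hxw⟩ := exists_hit hG h hv hq hw
  have hxv : x ≠ v := fun e => hwv (e ▸ hxw)
  have hxq : x ≠ q := fun e => hqw (e ▸ hxw)
  obtain ⟨hxqN, -⟩ := ln_pair hG h hv hq hxL (right_mem_ln hq) hxq
  obtain ⟨hxvN, -⟩ := ln_pair hG h hv hq hxL (self_mem_ln hv) hxv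
  have hwN : w ∈ Nb D x := ⟨hw, fun e => hwv (e ▸ hxvN.2.2.symm), hxw⟩
  have hxu : ¬ Commute x u := fun hc =>
    huv (commute_all hG h hv hq hxL (right_mem_ln hq) hxq hu hc hqu (self_mem_ln hv))
  have hvL : v ∈ Ln D x q := by
    rw [ln_eq hG h hv hq hxL (right_mem_ln hq) hxq]; exact self_mem_ln hv
  obtain ⟨hm, hmx⟩ := ln_third hG h hxL.1 hxqN hwN hqw hvL hxv.symm
  have hvq : ¬ Commute v q → False := fun e => e hq.2.2
  have hmw : cj q (cj v w) ≠ w := by
    intro e
    have e2 : cj v w = cj q w := by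
      conv_rhs => rw [← e, cj_cj hG hq.1]
    rw [cj_comm hG hv hw hwv, cj_comm hG hq.1 hw hqw] at e2
    exact hq.2.1 (cj_inj hG hw e2).symm
  obtain ⟨c, hc, hcu⟩ := exists_hit hG h hxL.1 hwN hu
  rw [line_eq h h3 hxL.1 hwN hm hmx hmw] at hc
  rcases hc with rfl | rfl | rfl
  · exact absurd hcu hxu
  · exact absurd hcu hwu
  · rw [commute_cj' hG hq.1 hqu, cj_comm hG hv hw hwv] at hcu
    exact (commute_swap hG hw v u).2 hcu

theorem third_rule {e a b : G} (he : e ∈ D) (ha : a ∈ D) (hb : b ∈ D) (hea : ¬ Commute e a)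
    (heb : ¬ Commute e b) (hab : ¬ Commute a b) : Commute e (cj a b) := by
  have hG := h.grp
  have flip : ∀ {p q : G}, ¬ Commute p q → ¬ Commute q p := fun hn hc => hn hc.symm
  -- a common neighbour of `a, b` not commuting with `e'`
  have case3 : ∀ e' ∈ D, ¬ Commute e' a → ¬ Commute e' b →
      ∀ q ∈ Nb D a, Commute q b → ¬ Commute q e' → Commute e' (cj a b) := by
    intro e' he' hea' heb' q hq hqb hqe
    have h2 := (commute_swap hG he' a b).1 (config h h3 hb he' ha hab heb' (flip hea') hq hqb hqe)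
    rw [cj_comm hG he' ha hea'] at h2
    exact (commute_swap hG ha e' b).2 h2
  by_cases hA : ∃ q ∈ Nb D e, Commute q a ∧ ¬ Commute q b
  · obtain ⟨q, hq, hqa, hqb⟩ := hA
    have := config h h3 ha hb he hea (flip hab) heb hq hqa hqb
    rwa [cj_comm hG hb ha (flip hab)] at this
  by_cases hB : ∃ q ∈ Nb D e, Commute q b ∧ ¬ Commute q a
  · obtain ⟨q, hq, hqb, hqa⟩ := hB
    exact config h h3 hb ha he heb hab hea hq hqb hqa
  push Not at hA hB
  obtain ⟨p, hpe, hpa⟩ := exists_common hG h he ha hea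
  have hpb : Commute p b := hA p hpe hpa.2.2.symm
  obtain ⟨e₁, he₁, he₁p, he₁e⟩ := exists_third hG h hpe.1 (nb_symm he hpe)
  have hN₁ := (ln_pair hG h hpe.1 (nb_symm he hpe) (self_mem_ln hpe.1) he₁ he₁p.symm).1
  have hn : ∀ d ∈ D, Commute p d → ¬ Commute e d → ¬ Commute e₁ d := fun d hd hpd hed hc =>
    hed (commute_all hG h hpe.1 (nb_symm he hpe) (self_mem_ln hpe.1) he₁ he₁p.symm hd hpd hc
      (right_mem_ln (nb_symm he hpe)))
  -- a common neighbour of `a, b` not commuting with `p`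
  obtain ⟨a', ha', hpa'⟩ := exists_adj h ha (⟨hpe.1, fun e' => hea (e' ▸ hpe.2.2), hpa.2.2⟩ :
    p ∈ Nb D a)
  obtain ⟨q, hqL, hqb⟩ := exists_hit hG h ha ha' hb
  have hqa : q ≠ a := fun e' => hab (e' ▸ hqb)
  have hqN := nb_of_ln hG hqL hqa
  have hqp : ¬ Commute q p := not_commute_of_ln hG h ha ha' ⟨hpe.1, fun e' => hea (e' ▸ hpe.2.2),
    hpa.2.2⟩ (flip hpa') hqL hqa
  by_cases hqe : Commute q e
  · have hqe₁ : ¬ Commute e₁ q := fun hc => hqp (commute_all hG h hpe.1 (nb_symm he hpe)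
      (right_mem_ln (nb_symm he hpe)) he₁ he₁e.symm hqN.1 hqe.symm hc (self_mem_ln hpe.1)).symm
    have h1 := case3 e₁ he₁.1 (hn a ha hpa.2.2.symm hea) (hn b hb hpb heb) q hqN hqb (flip hqe₁)
    exact commute_all hG h hpe.1 (nb_symm he hpe) (self_mem_ln hpe.1) he₁ he₁p.symm
      (cj_mem hG ha hb) ((commute_swap hG ha p b).2 (by rwa [cj_fix hG ha hpa.2.2])) h1
      (right_mem_ln (nb_symm he hpe))
  · exact case3 e he hea heb q hqN hqb hqe

theorem phi_third {x a : G} (hx : x ∈ D) (ha : a ∈ Nb D x) :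
    ∃ b ∈ D, phi D b = phi D x + phi D a := by
  have hG := h.grp
  obtain ⟨b, hb, hbx, hba⟩ := exists_third hG h hx ha
  refine ⟨b, hb.1, funext fun e => ?_⟩
  have hxL : x ∈ Ln D x a := self_mem_ln hx
  have haL : a ∈ Ln D x a := right_mem_ln ha
  have k1 : Commute x (e : G) → Commute a (e : G) → Commute b (e : G) := fun p q =>
    commute_all hG h hx ha hxL haL ha.2.1.symm e.2 p q hb
  have k2 : Commute x (e : G) → Commute b (e : G) → Commute a (e : G) := fun p q =>
    commute_all hG h hx ha hxL hb hbx.symm e.2 p q haL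
  have k3 : Commute a (e : G) → Commute b (e : G) → Commute x (e : G) := fun p q =>
    commute_all hG h hx ha haL hb hba.symm e.2 p q hxL
  have k4 : Commute x (e : G) ∨ Commute a (e : G) ∨ Commute b (e : G) := by
    obtain ⟨c, hc, hce⟩ := exists_hit hG h hx ha e.2
    rw [line_eq h h3 hx ha hb hbx hba] at hc
    rcases hc with rfl | rfl | rfl
    exacts [Or.inl hce, Or.inr (Or.inl hce), Or.inr (Or.inr hce)]
  simp only [Pi.add_apply, phi]
  split_ifs <;> first | rfl | tauto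

theorem phi_cj {a b : G} (ha : a ∈ D) (hb : b ∈ D) (hn : ¬ Commute a b) :
    phi D (cj a b) = phi D a + phi D b := by
  have hG := h.grp
  funext e
  have k1 : Commute a (e : G) → (Commute (cj a b) (e : G) ↔ Commute b (e : G)) := fun p =>
    commute_cj' hG ha p b
  have k2 : Commute b (e : G) → (Commute (cj a b) (e : G) ↔ Commute a (e : G)) := fun p => by
    rw [cj_comm hG ha hb hn]
    exact commute_cj' hG hb p a
  have k3 : ¬ Commute a (e : G) → ¬ Commute b (e : G) → Commute (cj a b) (e : G) := fun p q =>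
    (third_rule h h3 e.2 ha hb (fun c => p c.symm) (fun c => q c.symm) hn).symm
  simp only [Pi.add_apply, phi]
  split_ifs <;> first | rfl | tauto

theorem phi_inj {a b : G} (ha : a ∈ D) (hb : b ∈ D) (e : phi D a = phi D b) : a = b := by
  have hV : FischerCores.SameV D a b := ⟨ha, hb, fun c hc => by
    rw [← phi_eq_zero_iff ⟨c, hc⟩, ← phi_eq_zero_iff ⟨c, hc⟩, e]⟩
  have h2 : Cfsg.pCore 2 G = ⊥ := by
    haveI := Fact.mk Nat.prime_two
    haveI : Group.IsNilpotent ↥(Cfsg.pCore 2 G) :=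
      (CfsgLib.Solvable.Cores.isPGroup_pCore (G := G) 2).isNilpotent
    exact h.rad _ (CfsgLib.Solvable.Cores.pCore_normal 2) inferInstance
  have h1 := FischerCores.mul_mem_pCore_two h.grp hV
  rw [h2, Subgroup.mem_bot] at h1
  rw [eq_inv_of_mul_eq_one_left h1, inv_eq h.grp hb]

theorem mem_space {v : ↥D → ZMod 2} (hv : v ∈ space D) :
    v = 0 ∨ ∃ a : ↥D, v = phi D (a : G) := by
  refine Submodule.span_induction (p := fun v _ => v = 0 ∨ ∃ a : ↥D, v = phi D (a : G)) ?_
    (Or.inl rfl) ?_ ?_ hv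
  · rintro _ ⟨a, rfl⟩
    exact Or.inr ⟨a, rfl⟩
  · rintro u w - - hu hw
    rcases hu with rfl | ⟨a, rfl⟩
    · rwa [zero_add]
    rcases hw with rfl | ⟨b, rfl⟩
    · rw [add_zero]; exact Or.inr ⟨a, rfl⟩
    by_cases e : (a : G) = b
    · exact Or.inl (by rw [e]; exact fun_self _)
    by_cases hc : Commute (a : G) b
    · obtain ⟨c, hc', e'⟩ := phi_third h h3 a.2
        (⟨b.2, fun e' => e e'.symm, hc⟩ : (b : G) ∈ Nb D (a : G))
      exact Or.inr ⟨⟨c, hc'⟩, e'.symm⟩
    · exact Or.inr ⟨⟨_, cj_mem h.grp a.2 b.2⟩, (phi_cj h h3 a.2 b.2 hc).symm⟩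
  · intro c u _ hu
    rcases (show c = 0 ∨ c = 1 by revert c; decide) with rfl | rfl
    · exact Or.inl (zero_smul _ _)
    · rwa [one_smul]

theorem phi_ne_zero (a : ↥D) : phi D (a : G) ≠ 0 := by
  intro e
  have : (a : G) = 1 := eq_one_of_commute h fun d hd =>
    ((phi_eq_zero_iff ⟨d, hd⟩).1 (congrFun e ⟨d, hd⟩)).symm
  have h2 := h.grp.1.1 _ a.2
  rw [this, orderOf_one] at h2
  omega

/-- A 3-transposition group with lines of three points is a symplectic group over the field with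
two elements; in dimension at least six some neighbourhood contains a chain of four members. -/
theorem main : ∃ m : ℕ, Nonempty (G ≃* Matrix.symplecticGroup (Fin m) (ZMod 2)) ∧ 2 ≤ m ∧
    (3 ≤ m → ∃ x ∈ D, ∃ p q r s, p ∈ Nb D x ∧ q ∈ Nb D x ∧ r ∈ Nb D x ∧ s ∈ Nb D x ∧
      ¬ Commute p q ∧ ¬ Commute q r ∧ ¬ Commute r s ∧ Commute p r ∧ Commute p s ∧ Commute q s) := by
  classical
  have hG := h.grp
  haveI : Fintype ↥D := Fintype.ofFinite _
  let V := space D
  let vec : ↥D → V := fun a => ⟨phi D (a : G), Submodule.subset_span ⟨a, rfl⟩⟩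
  have hcover : ∀ v : V, v = 0 ∨ ∃ a, v = vec a := fun v =>
    (mem_space h h3 v.2).imp (fun e => Subtype.ext e) fun ⟨a, e⟩ => ⟨a, Subtype.ext e⟩
  have hinj : Function.Injective vec := fun a b e =>
    Subtype.ext (phi_inj h h3 a.2 b.2 (congrArg Subtype.val e))
  obtain ⟨d₀, -⟩ : ∃ d₀ : ↥D, True := by
    obtain ⟨x, -, -, hx, -⟩ := h.twins; exact ⟨⟨x, hx⟩, trivial⟩
  let pick : V → ↥D := fun v => if hv : ∃ a, v = vec a then hv.choose else d₀
  have hpick : ∀ a, pick (vec a) = a := fun a => by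
    have hex : ∃ b, vec a = vec b := ⟨a, rfl⟩
    simp only [pick, dif_pos hex]
    exact (hinj hex.choose_spec).symm
  let bf : V → V → ZMod 2 := fun v w => if w = 0 then 0 else v.1 (pick w)
  have bne : ∀ b, vec b ≠ 0 := fun b e => phi_ne_zero h h3 b (congrArg Subtype.val e)
  have bval : ∀ (v : V) b, bf v (vec b) = v.1 b := fun v b => by
    simp only [bf, if_neg (bne b), hpick]
  have bsymm : ∀ v w, bf v w = bf w v := by
    intro v w
    rcases hcover v with rfl | ⟨a, rfl⟩ <;> rcases hcover w with rfl | ⟨b, rfl⟩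
    · rfl
    · rw [bval]; simp [bf]
    · rw [bval]; simp [bf]
    · rw [bval, bval]; exact phi_symm a b
  have badd : ∀ u v w, bf (u + v) w = bf u w + bf v w := by
    intro u v w
    simp only [bf]; split <;> simp
  have bsmul : ∀ (c : ZMod 2) v w, bf (c • v) w = c • bf v w := by
    intro c v w
    simp only [bf]; split <;> simp
  let B : V →ₗ[ZMod 2] V →ₗ[ZMod 2] ZMod 2 := LinearMap.mk₂ (ZMod 2) bf badd bsmul
    (fun v u w => by rw [bsymm, badd, bsymm u, bsymm w])
    (fun c v w => by rw [bsymm, bsmul, bsymm w])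
  have hBv : ∀ (v : V) b, B v (vec b) = v.1 b := bval
  have hBc : ∀ a b, B (vec a) (vec b) = 0 ↔ Commute (a : G) (b : G) := fun a b => by
    rw [hBv]; exact phi_eq_zero_iff b
  have hA : B.IsAlt := fun v => by
    rcases hcover v with rfl | ⟨a, rfl⟩
    · simp
    · exact (hBc a a).2 (Commute.refl _)
  have hN : B.Nondegenerate := by
    constructor <;> intro v hv <;> refine Subtype.ext (funext fun b => ?_)
    · rw [← hBv]; exact hv (vec b)
    · rw [← hBv]; exact (bsymm _ _).trans (hv (vec b))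
  -- the action
  have hconj : ∀ (g : G) (a : ↥D), g * (a : G) * g⁻¹ ∈ D := fun g a => hG.2.1 g a a.2
  let mv : G → ↥D ≃ ↥D := fun g =>
    { toFun := fun a => ⟨g * a * g⁻¹, hconj g a⟩
      invFun := fun a => ⟨g⁻¹ * a * g, by simpa using hconj g⁻¹ a⟩
      left_inv := fun a => Subtype.ext (by simp [mul_assoc])
      right_inv := fun a => Subtype.ext (by simp [mul_assoc]) }
  let L : G → ((↥D → ZMod 2) ≃ₗ[ZMod 2] (↥D → ZMod 2)) := fun g =>
    LinearEquiv.funCongrLeft (ZMod 2) (ZMod 2) (mv g).symm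
  have hL : ∀ g (a : ↥D), L g (phi D (a : G)) = phi D ((mv g a : ↥D) : G) := by
    intro g a
    funext e
    show phi D (a : G) ((mv g).symm e) = _
    have : Commute (a : G) (((mv g).symm e : ↥D) : G) ↔
        Commute (((mv g a : ↥D)) : G) (e : G) := by
      conv_rhs => rw [← (mv g).apply_symm_apply e]
      exact (Commute.conj_iff g).symm
    simp only [phi, this]
  have hLV : ∀ g, ∀ v ∈ V, L g v ∈ V := by
    intro g v hv
    rcases mem_space h h3 hv with rfl | ⟨a, rfl⟩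
    · rw [map_zero]; exact zero_mem _
    · rw [hL]; exact Submodule.subset_span ⟨_, rfl⟩
  let R : G → (V ≃ₗ[ZMod 2] V) := fun g => LinearEquiv.ofBijective ((L g).toLinearMap.restrict (hLV g))
    (Finite.injective_iff_bijective.1 fun v w e =>
      Subtype.ext ((L g).injective (congrArg Subtype.val e)))
  have hR : ∀ g a, R g (vec a) = vec (mv g a) := fun g a => Subtype.ext (hL g a)
  have hRiso : ∀ g, R g ∈ isomGroup B := by
    intro g v w
    rcases hcover v with rfl | ⟨a, rfl⟩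
    · simp
    rcases hcover w with rfl | ⟨b, rfl⟩
    · simp
    rw [hR, hR, hBv, hBv]
    show phi D _ _ = phi D _ _
    have : Commute ((mv g a : ↥D) : G) ((mv g b : ↥D) : G) ↔ Commute (a : G) (b : G) :=
      Commute.conj_iff g
    simp only [phi, this]
  let ρ : G →* isomGroup B :=
    { toFun := fun g => ⟨R g, hRiso g⟩
      map_one' := Subtype.ext (LinearEquiv.ext fun v => by
        rcases hcover v with rfl | ⟨a, rfl⟩
        · simp
        · show R 1 (vec a) = vec a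
          rw [hR]; exact congrArg vec (Subtype.ext (by simp [mv])))
      map_mul' := fun g k => Subtype.ext (LinearEquiv.ext fun v => by
        rcases hcover v with rfl | ⟨a, rfl⟩
        · simp
        · show R (g * k) (vec a) = R g (R k (vec a))
          rw [hR, hR, hR]; exact congrArg vec (Subtype.ext (by simp [mv, mul_assoc]))) }
  have hρinj : Function.Injective ρ := by
    refine (injective_iff_map_eq_one ρ).2 fun g hg => eq_one_of_commute h fun d hd => ?_
    have e : R g (vec ⟨d, hd⟩) = vec ⟨d, hd⟩ := by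
      rw [show R g = 1 from congrArg Subtype.val hg]; rfl
    rw [hR] at e
    have e2 : g * d * g⁻¹ = d := congrArg Subtype.val (hinj e)
    exact (mul_inv_eq_iff_eq_mul.1 e2).symm
  have hρd : ∀ d : ↥D, ρ (d : G) = tv hA (vec d) 1 := by
    intro d
    refine Subtype.ext (LinearEquiv.ext fun v => ?_)
    show R (d : G) v = _
    rw [tv_apply, one_mul]
    rcases hcover v with rfl | ⟨a, rfl⟩
    · simp
    rw [hR]
    have hmv : ((mv (d : G) a : ↥D) : G) = cj (d : G) (a : G) := (cj_conj hG d.2 _).symm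
    by_cases hc : Commute (a : G) (d : G)
    · rw [(hBc a d).2 hc, zero_smul, add_zero]
      exact congrArg vec (Subtype.ext (hmv.trans (cj_fix hG d.2 hc.symm)))
    · have h1 : B (vec a) (vec d) = 1 :=
        ((show ∀ c : ZMod 2, c ≠ 0 → c = 1 by decide)) _ fun e => hc ((hBc a d).1 e)
      rw [h1, one_smul]
      refine Subtype.ext ?_
      show phi D _ = phi D (a : G) + phi D (d : G)
      rw [hmv, phi_cj h h3 d.2 a.2 (fun e => hc e.symm), add_comm]
  have hρsurj : Function.Surjective ρ := by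
    rw [← MonoidHom.range_eq_top, eq_top_iff, ← tvGroup_eq_top hA hN, tvGroup, Subgroup.closure_le]
    rintro _ ⟨v, c, rfl⟩
    have one : ∀ w : V, ∀ c : ZMod 2, (w = 0 ∨ c = 0) → tv hA w c = 1 := fun w c hwc =>
      Subtype.ext (LinearEquiv.ext fun u => by
        rw [tv_apply]; rcases hwc with rfl | rfl <;> simp)
    rcases (show c = 0 ∨ c = 1 by revert c; decide) with rfl | rfl
    · rw [one v 0 (Or.inr rfl)]; exact one_mem _
    rcases hcover v with rfl | ⟨d, rfl⟩
    · rw [one 0 1 (Or.inl rfl)]; exact one_mem _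
    · exact ⟨(d : G), hρd d⟩
  obtain ⟨m, b, hb⟩ := exists_sympBasis hA hN
  obtain ⟨m', b', hb'⟩ := exists_sympBasis (sympBil_isAlt (F := ZMod 2) m) (sympBil_nondegenerate m)
  obtain rfl : m = m' := by
    have := Module.finrank_eq_card_basis b'
    rw [Module.finrank_eq_card_basis (Pi.basisFun (ZMod 2) (Fin m ⊕ Fin m))] at this
    simp at this
    omega
  have e : G ≃* Matrix.symplecticGroup (Fin m) (ZMod 2) :=
    ((MulEquiv.ofBijective ρ ⟨hρinj, hρsurj⟩).trans (isomGroupCongr (b.equiv b' (Equiv.refl _))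
      (hb.basisEquiv_mem hA (sympBil_isAlt m) b b' hb'))).trans (spEquiv m).symm
  refine ⟨m, ⟨e⟩, ?_, ?_⟩
  · by_contra hm
    obtain ⟨x, a, b₀, hx, ha, hb₀, hab, -, -⟩ := h.twins
    obtain ⟨z, hz, haz⟩ := exists_adj h hx ha
    have h4 : Nat.card V ≤ 4 := by
      rw [Nat.card_congr b.equivFun.toEquiv, Nat.card_fun, Nat.card_zmod]
      simp only [Nat.card_sum, Nat.card_fin]
      calc 2 ^ (m + m) ≤ 2 ^ 2 := Nat.pow_le_pow_right two_pos (by omega)
        _ = 4 := rfl
    have h5 : ({0, vec ⟨x, hx⟩, vec ⟨a, ha.1⟩, vec ⟨z, hz.1⟩,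
        (vec ⟨x, hx⟩ + vec ⟨a, ha.1⟩)} : Set V).ncard ≤ Nat.card V := Set.ncard_le_card _
    obtain ⟨c, hc, e'⟩ := phi_third h h3 hx ha
    have hce : vec ⟨x, hx⟩ + vec ⟨a, ha.1⟩ = vec ⟨c, hc⟩ := Subtype.ext e'.symm
    have hne : ∀ {p q : G} (hp : p ∈ D) (hq : q ∈ D), p ≠ q → vec ⟨p, hp⟩ ≠ vec ⟨q, hq⟩ :=
      fun hp hq hpq e => hpq (congrArg Subtype.val (hinj e))
    have hxa := hne hx ha.1 ha.2.1.symm
    have hxz := hne hx hz.1 hz.2.1.symm
    have haz' := hne ha.1 hz.1 fun e => haz (e ▸ Commute.refl a)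
    have hc0 : vec ⟨x, hx⟩ + vec ⟨a, ha.1⟩ ≠ 0 := hce ▸ bne _
    have hcx : vec ⟨x, hx⟩ + vec ⟨a, ha.1⟩ ≠ vec ⟨x, hx⟩ := by simpa using bne ⟨a, ha.1⟩
    have hca : vec ⟨x, hx⟩ + vec ⟨a, ha.1⟩ ≠ vec ⟨a, ha.1⟩ := by simpa using bne ⟨x, hx⟩
    have hcz : vec ⟨x, hx⟩ + vec ⟨a, ha.1⟩ ≠ vec ⟨z, hz.1⟩ := by
      intro e
      have e1 : B (vec ⟨x, hx⟩ + vec ⟨a, ha.1⟩) (vec ⟨a, ha.1⟩) = B (vec ⟨z, hz.1⟩) (vec ⟨a, ha.1⟩) := by
        rw [e]
      rw [map_add, LinearMap.add_apply, hA _, add_zero,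
        (hBc ⟨x, hx⟩ ⟨a, ha.1⟩).2 ha.2.2] at e1
      exact haz ((hBc ⟨z, hz.1⟩ ⟨a, ha.1⟩).1 e1.symm).symm
    rw [Set.ncard_insert_of_notMem, Set.ncard_insert_of_notMem, Set.ncard_insert_of_notMem,
      Set.ncard_pair hcz.symm] at h5
    · omega
    · simp [haz', hca.symm]
    · simp [hxa, hxz, hcx.symm]
    · simp [(bne ⟨x, hx⟩).symm, (bne ⟨a, ha.1⟩).symm, (bne ⟨z, hz.1⟩).symm, hc0.symm]
  · intro hm
    let i₁ : Fin m := ⟨0, by omega⟩
    let i₂ : Fin m := ⟨1, by omega⟩
    let i₃ : Fin m := ⟨2, by omega⟩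
    have h12 : i₁ ≠ i₂ := by simp [i₁, i₂]
    have h13 : i₁ ≠ i₃ := by simp [i₁, i₃]
    have h23 : i₂ ≠ i₃ := by simp [i₂, i₃]
    have hswap : ∀ i j, B (b (.inr i)) (b (.inl j)) = if j = i then 1 else 0 := fun i j =>
      (bsymm _ _).trans (hb.1 j i)
    have h0 : ∀ v : V, v ≠ 0 → ∃ d : ↥D, v = vec d := fun v hv => (hcover v).resolve_left hv
    obtain ⟨x, hx⟩ := h0 _ (b.ne_zero (.inl i₃))
    obtain ⟨p, hp⟩ := h0 _ (b.ne_zero (.inl i₁))
    obtain ⟨q, hq⟩ := h0 _ (b.ne_zero (.inr i₁))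
    obtain ⟨s, hs⟩ := h0 _ (b.ne_zero (.inr i₂))
    have hr0 : b (.inl i₁) + b (.inl i₂) ≠ 0 := by
      intro e
      have := congrArg (fun v => B v (b (.inr i₂))) e
      simp [hb.1, h12] at this
    obtain ⟨r, hr⟩ := h0 _ hr0
    have ne' : ∀ d : ↥D, vec d ≠ vec x → (d : G) ≠ (x : G) :=
      fun d hd e => hd (congrArg vec (Subtype.ext e))
    refine ⟨x, x.2, p, q, r, s, ⟨p.2, ne' p ?_, ?_⟩, ⟨q.2, ne' q ?_, ?_⟩, ⟨r.2, ne' r ?_, ?_⟩,
      ⟨s.2, ne' s ?_, ?_⟩, ?_, ?_, ?_, ?_, ?_, ?_⟩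
    · rw [← hp, ← hx]; exact fun e => h13 (Sum.inl.inj (b.injective e))
    · rw [← hBc, ← hp, ← hx]; exact hb.2.1 _ _
    · rw [← hq, ← hx]; exact fun e => Sum.inl_ne_inr (b.injective e).symm
    · rw [← hBc, ← hq, ← hx, hb.1]; simp [h13.symm]
    · rw [← hr, ← hx]
      intro e
      have := congrArg (fun v => B v (b (.inr i₃))) e
      simp [hb.1, h13, h23] at this
    · rw [← hBc, ← hr, ← hx, map_add, hb.2.1, hb.2.1, add_zero]
    · rw [← hs, ← hx]; exact fun e => Sum.inl_ne_inr (b.injective e).symm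
    · rw [← hBc, ← hs, ← hx, hb.1]; simp [h23.symm]
    · rw [← hBc, ← hp, ← hq, hb.1]; simp
    · rw [← hBc, ← hq, ← hr, map_add, hswap, hswap]; simp [h12.symm]
    · rw [← hBc, ← hr, ← hs, map_add, LinearMap.add_apply, hb.1, hb.1]; simp [h12]
    · rw [← hBc, ← hp, ← hr, map_add, hb.2.1, hb.2.1, add_zero]
    · rw [← hBc, ← hp, ← hs, hb.1]; simp [h12]
    · rw [← hBc, ← hq, ← hs]; exact hb.2.2 _ _

end CfsgLib.Sporadic.FischerSymplectic
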