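import Cfsg.Agent.Lib.Sporadic.FischerFive

/-!
# Lines of five points: the translation group of a non-commuting pair

For non-commuting `x, z` the products `x a b` (`a` a common neighbour, `b` on the line through
`x, a`) generate a group fixing all lines at `x`, regular on the members not commuting with `x`;
its commutators lie in `{1, x}`, and only `1, x` fix every common neighbour.
-/

set_option autoImplicit false
set_option linter.style.haveILetI false

namespace CfsgLib.Sporadic.FischerTrans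

open CfsgLib.Sporadic.FischerTransitivity CfsgLib.Sporadic.FischerLines
open CfsgLib.Sporadic.FischerFive
open Relation

variable {G : Type*} [Group G]

/-- A non-commuting pair in a thick class with lines of five points. -/
structure Frame (D : Set G) (x z : G) : Prop where
  thick : Thick D
  five : ∀ y ∈ D, ∀ a ∈ Nb D y, (Ln D y a).ncard = 5
  hx : x ∈ D
  hz : z ∈ D
  hn : ¬ Commute x z

/-- The common neighbours. -/
def Cm (D : Set G) (x z : G) : Set G := Nb D x ∩ Nb D z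

/-- The translations of the line through `x, a`. -/
def Kl (D : Set G) (x a : G) : Set G :=
  {g | g = 1 ∨ ∃ b ∈ Ln D x a, b ≠ x ∧ b ≠ a ∧ g = x * a * b}

/-- The translations of all lines. -/
def gens (D : Set G) (x z : G) : Set G := ⋃ a ∈ Cm D x z, Kl D x a

/-- The translation group. -/
def Qg (D : Set G) (x z : G) : Subgroup G := Subgroup.closure (gens D x z)

variable {D : Set G} {x z : G}

theorem kl_le {a : G} (ha : a ∈ Cm D x z) {g : G} (hg : g ∈ Kl D x a) : g ∈ Qg D x z :=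
  Subgroup.subset_closure (Set.mem_biUnion ha hg)

section Facts

variable [Finite G] (F : Frame D x z)

include F

theorem line_commute {a p q : G} (ha : a ∈ Nb D x) (hp : p ∈ Ln D x a) (hq : q ∈ Ln D x a) :
    Commute p q := by
  by_cases e : p = q
  · rw [e]
  · exact (ln_pair F.thick.grp F.thick F.hx ha hp hq e).1.2.2

/-- The five points of a line through two given ones. -/
theorem fifth {a b c : G} (ha : a ∈ Nb D x) (hb : b ∈ Ln D x a) (hc : c ∈ Ln D x a) (hbx : b ≠ x)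
    (hcx : c ≠ x) (hba : b ≠ a) (hca : c ≠ a) (hbc : b ≠ c) :
    x * a * b * c ∈ Ln D x a ∧ x * a * b * c ≠ x ∧ x * a * b * c ≠ a ∧ x * a * b * c ≠ b ∧
      x * a * b * c ≠ c := by
  have hG := F.thick.grp
  have hxL : x ∈ Ln D x a := self_mem_ln F.hx
  have haL : a ∈ Ln D x a := right_mem_ln ha
  have cm : ∀ {p q : G}, p ∈ Ln D x a → q ∈ Ln D x a → Commute p q := line_commute F ha
  have key : ∀ p q r, p ∈ Ln D x a → q ∈ Ln D x a → r ∈ Ln D x a → p ≠ q → p ≠ r →
      p * q * r ≠ 1 := fun p q r hp hq hr hpq hpr e =>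
    mul_ne F.thick F.hx ha hp hq hr hpq hpr (by rw [eq_inv_of_mul_eq_one_left e, inv_eq hG hr.1])
  refine ⟨FischerFive.five F.thick F.hx ha hb hc hbx hcx hba.symm hca.symm hbc, ?_, ?_, ?_, ?_⟩
  · intro e
    refine key a b c haL hb hc hba.symm hca.symm (mul_left_cancel (a := x) ?_)
    rw [mul_one]; simpa [mul_assoc] using e
  · intro e
    refine key x b c hxL hb hc hbx.symm hcx.symm (mul_left_cancel (a := a) ?_)
    rw [mul_one]; simpa [mul_assoc, (cm haL hxL).left_comm] using e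
  · intro e
    refine key x a c hxL haL hc ha.2.1.symm hcx.symm (mul_left_cancel (a := b) ?_)
    rw [mul_one]; simpa [mul_assoc, (cm hb hxL).left_comm, (cm hb haL).left_comm] using e
  · intro e
    refine key x a b hxL haL hb ha.2.1.symm hbx.symm (mul_right_cancel (b := c) ?_)
    rw [one_mul]; exact e

theorem line_list {a b c : G} (ha : a ∈ Nb D x) (hb : b ∈ Ln D x a) (hc : c ∈ Ln D x a)
    (hbx : b ≠ x) (hcx : c ≠ x) (hba : b ≠ a) (hca : c ≠ a) (hbc : b ≠ c) :
    Ln D x a = {x, a, b, c, x * a * b * c} := by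
  obtain ⟨h1, h2, h3, h4, h5⟩ := fifth F ha hb hc hbx hcx hba hca hbc
  refine (Set.eq_of_subset_of_ncard_le ?_ ?_ (Set.toFinite _)).symm
  · rintro p (rfl | rfl | rfl | rfl | rfl)
    exacts [self_mem_ln F.hx, right_mem_ln ha, hb, hc, h1]
  · rw [F.five x F.hx a ha, Set.ncard_insert_of_notMem, Set.ncard_insert_of_notMem,
      Set.ncard_insert_of_notMem, Set.ncard_pair h5.symm]
    · simp [hbc, h4.symm]
    · simp [hba.symm, hca.symm, h3.symm]
    · simp [ha.2.1.symm, hbx.symm, hcx.symm, h2.symm]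

theorem kl_commute {a p g : G} (ha : a ∈ Nb D x) (hp : p ∈ Ln D x a) (hg : g ∈ Kl D x a) :
    Commute p g := by
  rcases hg with rfl | ⟨b, hb, -, -, rfl⟩
  · exact Commute.one_right p
  · exact ((line_commute F ha hp (self_mem_ln F.hx)).mul_right
      (line_commute F ha hp (right_mem_ln ha))).mul_right (line_commute F ha hp hb)

theorem kl_sq {a g : G} (ha : a ∈ Nb D x) (hg : g ∈ Kl D x a) : g * g = 1 := by
  rcases hg with rfl | ⟨b, hb, -, -, rfl⟩
  · exact one_mul 1
  have hG := F.thick.grp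
  have h1 : Commute (x * a) b := (line_commute F ha (self_mem_ln F.hx) hb).mul_left
    (line_commute F ha (right_mem_ln ha) hb)
  have h2 : Commute x a := ha.2.2
  calc x * a * b * (x * a * b) = x * a * (x * a) * (b * b) := by
        rw [mul_assoc, ← mul_assoc b (x * a) b, ← h1.eq]; simp only [mul_assoc]
    _ = 1 := by
        rw [sq hG hb.1, mul_one, mul_assoc, ← mul_assoc a x a, ← h2.eq, mul_assoc x a a,
          sq hG ha.1, mul_one, sq hG F.hx]

theorem kl_mul {a g k : G} (ha : a ∈ Nb D x) (hg : g ∈ Kl D x a) (hk : k ∈ Kl D x a) :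
    g * k ∈ Kl D x a := by
  rcases hg with rfl | ⟨b, hb, hbx, hba, rfl⟩
  · rwa [one_mul]
  rcases hk with rfl | ⟨c, hc, hcx, hca, rfl⟩
  · rw [mul_one]; exact Or.inr ⟨b, hb, hbx, hba, rfl⟩
  by_cases hbc : b = c
  · subst hbc
    exact Or.inl (kl_sq F ha (Or.inr ⟨b, hb, hbx, hba, rfl⟩))
  obtain ⟨h1, h2, h3, -, -⟩ := fifth F ha hb hc hbx hcx hba hca hbc
  refine Or.inr ⟨_, h1, h2, h3, ?_⟩
  have h4 : Commute (x * a) (x * a * b) :=
    ((Commute.refl (x * a))).mul_right ((line_commute F ha (self_mem_ln F.hx) hb).mul_left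
      (line_commute F ha (right_mem_ln ha) hb))
  calc x * a * b * (x * a * c) = x * a * b * (x * a) * c := by simp only [mul_assoc]
    _ = x * a * (x * a * b) * c := by rw [← h4.eq]
    _ = x * a * (x * a * b * c) := by simp only [mul_assoc]

theorem x_notMem_kl {a : G} (ha : a ∈ Nb D x) : x ∉ Kl D x a := by
  rintro (e | ⟨b, hb, -, hba, e⟩)
  · have := F.thick.grp.1.1 x F.hx
    rw [e, orderOf_one] at this
    omega
  · have : a * b = 1 := mul_left_cancel (a := x) (by rw [mul_one, ← mul_assoc]; exact e.symm)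
    exact hba (by rw [eq_inv_of_mul_eq_one_right this, inv_eq F.thick.grp ha.1])

theorem conj_kl {a b u : G} (ha : a ∈ Nb D x) (hb : b ∈ Ln D x a) (hbx : b ≠ x) (hu : u ∈ Nb D x)
    (hn : ¬ Commute a u) :
    (x * a * b) * u * (x * a * b)⁻¹ = cj a (cj b u) ∧
      cj a (cj b u) ∈ Ln D x u ∧ cj a (cj b u) ≠ x := by
  have hG := F.thick.grp
  obtain ⟨h1, h2⟩ := ln_third hG F.thick F.hx ha hu hn hb hbx
  refine ⟨?_, h1, h2⟩
  have : x * a * b * u * (x * a * b)⁻¹ = cj x (cj a (cj b u)) := by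
    simp only [cj_conj hG F.hx, cj_conj hG ha.1, cj_conj hG hb.1, mul_inv_rev, mul_assoc]
  rw [this, cj_fix hG F.hx (nb_of_ln hG h1 h2).2.2]

theorem kl_move {a g u : G} (ha : a ∈ Nb D x) (hg : g ∈ Kl D x a) (hu : u ∈ Nb D x) :
    g * u * g⁻¹ ∈ Ln D x u ∧ g * u * g⁻¹ ≠ x ∧
      (g ≠ 1 → ¬ Commute a u → g * u * g⁻¹ ≠ u) := by
  have hG := F.thick.grp
  rcases hg with rfl | ⟨b, hb, hbx, hba, rfl⟩
  · simpa using ⟨right_mem_ln hu, hu.2.1⟩
  by_cases hn : Commute a u
  · have hub : Commute b u := commute_all hG F.thick F.hx ha (self_mem_ln F.hx) (right_mem_ln ha)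
      ha.2.1.symm hu.1 hu.2.2 hn hb
    have hc : Commute (x * a * b) u := ((hu.2.2).mul_left hn).mul_left hub
    rw [hc.eq, mul_assoc, mul_inv_cancel, mul_one]
    exact ⟨right_mem_ln hu, hu.2.1, fun _ h' => absurd hn h'⟩
  obtain ⟨h1, h2, h3⟩ := conj_kl F ha hb hbx hu hn
  rw [h1]
  refine ⟨h2, h3, fun _ _ e => hba ?_⟩
  have e2 : cj b u = cj a u := by conv_rhs => rw [← e, cj_cj hG ha.1]
  rw [cj_comm hG hb.1 hu.1 (not_commute_of_ln hG F.thick F.hx ha hu hn hb hbx),
    cj_comm hG ha.1 hu.1 hn] at e2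
  exact cj_inj hG hu.1 e2

theorem commute_x {g : G} (hg : g ∈ Qg D x z) : Commute x g := by
  induction hg using Subgroup.closure_induction with
  | mem k hk =>
    obtain ⟨a, ha, hk⟩ := Set.mem_iUnion₂.1 hk
    exact kl_commute F ha.1 (self_mem_ln F.hx) hk
  | one => exact Commute.one_right x
  | mul _ _ _ _ h1 h2 => exact h1.mul_right h2
  | inv _ _ h => exact h.inv_right

theorem conj_nb {g u : G} (hg : g ∈ Qg D x z) (hu : u ∈ Nb D x) :
    g * u * g⁻¹ ∈ Ln D x u ∧ g * u * g⁻¹ ≠ x := by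
  rw [Qg, ← Subgroup.mem_toSubmonoid, Subgroup.closure_toSubmonoid_of_finite] at hg
  induction hg using Submonoid.closure_induction_right generalizing u with
  | one => simpa using ⟨right_mem_ln hu, hu.2.1⟩
  | mul_right g _ k hk ih =>
    obtain ⟨a, ha, hk⟩ := Set.mem_iUnion₂.1 hk
    obtain ⟨h1, h2, -⟩ := kl_move F ha.1 hk hu
    obtain ⟨h3, h4⟩ := ih (nb_of_ln F.thick.grp h1 h2)
    rw [ln_eq F.thick.grp F.thick F.hx hu (self_mem_ln F.hx) h1 h2.symm] at h3
    simpa [mul_assoc] using And.intro h3 h4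

/-- The point of the line through `x, u` commuting with `z`. -/
theorem exists_base {u : G} (hu : u ∈ Nb D x) :
    ∃ a ∈ Cm D x z, a ∈ Ln D x u ∧ Ln D x a = Ln D x u := by
  obtain ⟨c, hc, hcz⟩ := exists_hit F.thick.grp F.thick F.hx hu F.hz
  have hcx : c ≠ x := fun e => F.hn (e ▸ hcz)
  have hcN := nb_of_ln F.thick.grp hc hcx
  exact ⟨c, ⟨hcN, hcN.1, fun e => F.hn (e ▸ hcN.2.2), hcz.symm⟩, hc,
    ln_eq F.thick.grp F.thick F.hx hu (self_mem_ln F.hx) hc hcx.symm⟩

theorem base_unique {u p q : G} (hu : u ∈ Nb D x) (hp : p ∈ Ln D x u) (hq : q ∈ Ln D x u)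
    (hpz : Commute p z) (hqz : Commute q z) : p = q :=
  hit_unique F.thick.grp F.thick F.hx hu hp hq (self_mem_ln F.hx) F.hz hpz hqz F.hn

theorem exists_adj_cm {a : G} (ha : a ∈ Cm D x z) : ∃ r ∈ Cm D x z, ¬ Commute a r := by
  obtain ⟨u, hu, hau⟩ := FischerFive.exists_adj F.thick F.hx ha.1
  obtain ⟨r, hr, hrL, -⟩ := exists_base F hu
  exact ⟨r, hr, fun hc => not_commute_of_ln F.thick.grp F.thick F.hx hu ha.1
    (fun e => hau e.symm) hrL hr.1.2.1 hc.symm⟩

theorem cm_nonempty : ∃ a, a ∈ Cm D x z := by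
  obtain ⟨a, ha, haz⟩ := exists_common F.thick.grp F.thick F.hx F.hz F.hn
  exact ⟨a, ha, haz⟩

/-- Every translation is an involution moving a point to a prescribed one. -/
theorem exists_kl {a r b : G} (ha : a ∈ Cm D x z) (hr : r ∈ Cm D x z) (hn : ¬ Commute r a)
    (hb : b ∈ Ln D x a) (hbx : b ≠ x) : ∃ g ∈ Kl D x r, g * a * g⁻¹ = b := by
  have hG := F.thick.grp
  by_cases hba : b = a
  · exact ⟨1, Or.inl rfl, by simp [hba]⟩
  have hcj := ln_cj_mem hG hr.1.1 hb
  rw [fix_nb hG hr.1] at hcj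
  have hne : cj r b ≠ x := fun e => hbx (cj_inj hG hr.1.1 (e.trans (fix_nb hG hr.1).symm))
  obtain ⟨q, hq, hqx, hqe⟩ := exists_cj_eq F.thick F.hx hr.1 ha.1 hn hcj hne
  have hqr : q ≠ r := fun e => hba (cj_inj hG hr.1.1 (by rw [← hqe, e]))
  refine ⟨x * r * q, Or.inr ⟨q, hq, hqx, hqr, rfl⟩, ?_⟩
  rw [(conj_kl F hr.1 hq hqx ha.1 hn).1, hqe, cj_cj hG hr.1.1]

/-- Conjugation moves a translation by at most `x`. -/
theorem kl_conj {a r g k : G} (ha : a ∈ Cm D x z) (hg : g ∈ Kl D x a) (hr : r ∈ Cm D x z)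
    (hk : k ∈ Kl D x r) : g * k * g⁻¹ = k ∨ g * k * g⁻¹ = k * x := by
  have hG := F.thick.grp
  have hgx : Commute x g := kl_commute F ha.1 (self_mem_ln F.hx) hg
  by_cases hg1 : g = 1
  · exact Or.inl (by simp [hg1])
  rcases hk with rfl | ⟨c, hc, hcx, hcr, rfl⟩
  · exact Or.inl (by simp)
  have hcN := nb_of_ln hG hc hcx
  have e : g * (x * r * c) * g⁻¹ = x * (g * r * g⁻¹) * (g * c * g⁻¹) := by
    have : g * x * g⁻¹ = x := by rw [← hgx.eq, mul_assoc, mul_inv_cancel, mul_one]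
    calc g * (x * r * c) * g⁻¹ = (g * x * g⁻¹) * (g * r * g⁻¹) * (g * c * g⁻¹) := by
          simp only [mul_assoc, inv_mul_cancel_left]
      _ = _ := by rw [this]
  by_cases hn : Commute a r
  · obtain ⟨hh, -, -⟩ := kl_move F ha.1 hg hr.1
    have hca : Commute a c := (commute_all hG F.thick F.hx hr.1 (self_mem_ln F.hx)
      (right_mem_ln hr.1) hr.1.2.1.symm ha.1.1 ha.1.2.2 hn.symm hc).symm
    rcases hg with rfl | ⟨b, hb, hbx, -, rfl⟩
    · exact absurd rfl hg1
    refine Or.inl ?_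
    have k1 : ∀ u ∈ Nb D x, Commute a u → Commute (x * a * b) u := fun u hu h' =>
      (hu.2.2.mul_left h').mul_left (commute_all hG F.thick F.hx ha.1 (self_mem_ln F.hx)
        (right_mem_ln ha.1) ha.1.2.1.symm hu.1 hu.2.2 h' hb)
    have : Commute (x * a * b) (x * r * c) :=
      ((hgx.symm).mul_right (k1 r hr.1 hn)).mul_right (k1 c hcN hca)
    rw [this.eq, mul_assoc, mul_inv_cancel, mul_one]
  have hac : ¬ Commute a c := fun h' => not_commute_of_ln hG F.thick F.hx hr.1 ha.1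
    (fun e' => hn e'.symm) hc hcx h'.symm
  obtain ⟨r1, r2, r3⟩ := kl_move F ha.1 hg hr.1
  obtain ⟨c1, c2, c3⟩ := kl_move F ha.1 hg hcN
  rw [ln_eq hG F.thick F.hx hr.1 (self_mem_ln F.hx) hc hcx.symm] at c1
  have hgi : g⁻¹ = g := inv_eq_of_mul_eq_one_right (kl_sq F ha.1 hg)
  have back : ∀ u, g * (g * u * g⁻¹) * g⁻¹ = u := fun u => by
    rw [hgi]
    simp only [← mul_assoc, kl_sq F ha.1 hg, one_mul]
    rw [mul_assoc, kl_sq F ha.1 hg, mul_one]
  rw [e]
  set r' := g * r * g⁻¹ with hr'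
  set c' := g * c * g⁻¹ with hc'
  by_cases h1 : r' = c
  · refine Or.inl ?_
    have h2 : c' = r := by rw [hc', ← h1, hr', back]
    rw [h1, h2, mul_assoc, mul_assoc, (line_commute F hr.1 hc (right_mem_ln hr.1)).eq]
  by_cases h2 : c' = r
  · exact absurd (by rw [hr', ← h2, hc', back]) h1
  have hne : r' ≠ c' := fun e' => hcr.symm (conj_inj g e')
  refine Or.inr ?_
  obtain ⟨-, f2, f3, f4, f5⟩ := fifth F hr.1 hc r1 hcx r2 hcr (r3 hg1 hn) (Ne.symm h1)
  have hmem := c1
  rw [line_list F hr.1 hc r1 hcx r2 hcr (r3 hg1 hn) (Ne.symm h1)] at hmem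
  rcases hmem with e' | e' | e' | e' | e'
  · exact absurd e' c2
  · exact absurd e' h2
  · exact absurd e' (c3 hg1 hac)
  · exact absurd e'.symm hne
  have hxr : Commute x (x * r * c * r') :=
    ((((Commute.refl x).mul_right hr.1.2.2)).mul_right hcN.2.2).mul_right
      (nb_of_ln hG r1 r2).2.2
  rw [e']
  have hcr' : Commute r' (x * r * c) :=
    (((nb_of_ln hG r1 r2).2.2.symm).mul_right (line_commute F hr.1 r1 (right_mem_ln hr.1))).mul_right
      (line_commute F hr.1 r1 hc)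
  calc x * r' * (x * r * c * r') = x * (r' * (x * r * c)) * r' := by simp only [mul_assoc]
    _ = x * (x * r * c) * (r' * r') := by rw [hcr'.eq]; simp only [mul_assoc]
    _ = x * (x * r * c) := by rw [sq hG (hG.2.1 g r hr.1.1), mul_one]
    _ = x * r * c * x := ((Commute.refl x).mul_right hr.1.2.2 |>.mul_right hcN.2.2).eq

theorem kl_comm_Q {r k g : G} (hr : r ∈ Cm D x z) (hk : k ∈ Kl D x r) (hg : g ∈ Qg D x z) :
    g * k * g⁻¹ = k ∨ g * k * g⁻¹ = k * x := by
  have hxx : x * x = 1 := sq F.thick.grp F.hx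
  rw [Qg, ← Subgroup.mem_toSubmonoid, Subgroup.closure_toSubmonoid_of_finite] at hg
  induction hg using Submonoid.closure_induction_left with
  | one => simp
  | mul_left l hl g _ ih =>
    obtain ⟨a, ha, hl⟩ := Set.mem_iUnion₂.1 hl
    have hlx : l * x * l⁻¹ = x := by
      rw [← (kl_commute F ha.1 (self_mem_ln F.hx) hl).eq, mul_assoc, mul_inv_cancel, mul_one]
    have e : l * g * k * (l * g)⁻¹ = l * (g * k * g⁻¹) * l⁻¹ := by
      simp only [mul_inv_rev, mul_assoc]
    rcases ih with h1 | h1 <;> rw [e, h1] <;> rcases kl_conj F ha hl hr hk with h2 | h2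
    · exact Or.inl h2
    · exact Or.inr h2
    all_goals rw [show l * (k * x) * l⁻¹ = l * k * l⁻¹ * (l * x * l⁻¹) by group, h2, hlx]
    · exact Or.inr rfl
    · exact Or.inl (by rw [mul_assoc, hxx, mul_one])

/-- Commutators lie in `{1, x}`. -/
theorem comm_cases {g k : G} (hg : g ∈ Qg D x z) (hk : k ∈ Qg D x z) :
    g * k * g⁻¹ = k ∨ g * k * g⁻¹ = k * x := by
  have hxx : x * x = 1 := sq F.thick.grp F.hx
  have hk' : k ∈ Qg D x z := hk
  rw [Qg, ← Subgroup.mem_toSubmonoid, Subgroup.closure_toSubmonoid_of_finite] at hk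
  induction hk using Submonoid.closure_induction_right with
  | one => simp
  | mul_right k hkc l hl ih =>
    obtain ⟨r, hr, hl⟩ := Set.mem_iUnion₂.1 hl
    have hkQ : k ∈ Qg D x z := by
      rw [Qg, ← Subgroup.mem_toSubmonoid, Subgroup.closure_toSubmonoid_of_finite]; exact hkc
    have hxl := kl_commute F hr.1 (self_mem_ln F.hx) hl
    have e : g * (k * l) * g⁻¹ = (g * k * g⁻¹) * (g * l * g⁻¹) := by group
    rcases ih hkQ with h1 | h1 <;> rw [e, h1] <;> rcases kl_comm_Q F hr hl hg with h2 | h2 <;>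
      rw [h2]
    · exact Or.inl rfl
    · exact Or.inr (mul_assoc _ _ _).symm
    · refine Or.inr ?_
      simp only [mul_assoc, hxl.eq]
    · refine Or.inl ?_
      simp only [mul_assoc, hxl.left_comm, hxx, mul_one]

/-- An element fixing a common neighbour centralizes its line. -/
theorem fix_line {a g b : G} (ha : a ∈ Cm D x z) (hg : g ∈ Qg D x z) (hga : g * a * g⁻¹ = a)
    (hb : b ∈ Ln D x a) : g * b * g⁻¹ = b := by
  have hxg : g * x * g⁻¹ = x := by
    rw [← (commute_x F hg).eq, mul_assoc, mul_inv_cancel, mul_one]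
  by_cases hbx : b = x
  · rwa [hbx]
  obtain ⟨r, hr, har⟩ := exists_adj_cm F ha
  obtain ⟨k, hk, rfl⟩ := exists_kl F ha hr (fun e => har e.symm) hb hbx
  have hxa : Commute x a := ha.1.2.2
  have e : g * (k * a * k⁻¹) * g⁻¹ = (g * k * g⁻¹) * (g * a * g⁻¹) * (g * k * g⁻¹)⁻¹ := by group
  rcases kl_comm_Q F hr hk hg with h1 | h1 <;> rw [e, h1, hga]
  rw [mul_inv_rev, mul_assoc k x a, hxa.eq]
  group

/-- The line through a common neighbour and `z` is a translate of `z`. -/
theorem exists_kl_z {a w : G} (ha : a ∈ Cm D x z) (hw : w ∈ Ln D a z) (hwa : w ≠ a) :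
    ∃ g ∈ Kl D x a, g * z * g⁻¹ = w := by
  have hG := F.thick.grp
  have haz : z ∈ Nb D a := FischerLines.nb_symm F.hz ha.2
  have hax : x ∈ Nb D a := FischerLines.nb_symm F.hx ha.1
  have hLa : Ln D a x = Ln D x a :=
    ln_eq hG F.thick F.hx ha.1 (right_mem_ln ha.1) (self_mem_ln F.hx) ha.1.2.1
  have hval : ∀ b ∈ Ln D x a, b ≠ x →
      (x * a * b) * z * (x * a * b)⁻¹ = cj x (cj b z) := by
    intro b hb hbx
    have hab : Commute a b := line_commute F ha.1 (right_mem_ln ha.1) hb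
    have : x * a * b * z * (x * a * b)⁻¹ = cj x (cj b (cj a z)) := by
      have h' : x * a * b = x * (b * a) := by rw [mul_assoc, hab.eq]
      simp only [h', cj_conj hG F.hx, cj_conj hG ha.1.1, cj_conj hG hb.1, mul_inv_rev, mul_assoc]
    rw [this, cj_fix hG ha.1.1 haz.2.2]
  let f : G → G := fun g => g * z * g⁻¹
  have hcard : (Kl D x a).ncard = (Ln D a z \ {a}).ncard := by
    rw [Set.ncard_sdiff_singleton_of_mem (self_mem_ln ha.1.1), F.five a ha.1.1 z haz]
    have : Kl D x a = insert 1 ((fun b => x * a * b) '' (Ln D x a \ {x, a})) := by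
      ext g
      constructor
      · rintro (rfl | ⟨b, hb, hbx, hba, rfl⟩)
        · exact Or.inl rfl
        · exact Or.inr ⟨b, ⟨hb, by simp [hbx, hba]⟩, rfl⟩
      · rintro (rfl | ⟨b, ⟨hb, hn⟩, rfl⟩)
        · exact Or.inl rfl
        · simp only [Set.mem_insert_iff, Set.mem_singleton_iff, not_or] at hn
          exact Or.inr ⟨b, hb, hn.1, hn.2, rfl⟩
    rw [this, Set.ncard_insert_of_notMem, Set.ncard_image_of_injective _ (mul_right_injective _),
      Set.ncard_sdiff (by rintro p (rfl | rfl); exacts [self_mem_ln F.hx, right_mem_ln ha.1]),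
      F.five x F.hx a ha.1, Set.ncard_pair ha.1.2.1.symm]
    rintro ⟨b, ⟨hb, hn⟩, e⟩
    simp only [Set.mem_insert_iff, Set.mem_singleton_iff, not_or] at hn
    refine mul_ne F.thick F.hx ha.1 (self_mem_ln F.hx) (right_mem_ln ha.1) hb ha.1.2.1.symm
      (Ne.symm hn.1) ?_
    rw [eq_inv_of_mul_eq_one_left e, inv_eq hG hb.1]
  have hmaps : ∀ g ∈ Kl D x a, f g ∈ Ln D a z \ {a} := by
    rintro g (rfl | ⟨b, hb, hbx, hba, rfl⟩)
    · simpa [f] using ⟨right_mem_ln haz, haz.2.1⟩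
    · simp only [f, hval b hb hbx]
      exact ln_third hG F.thick ha.1.1 hax haz F.hn (hLa.symm ▸ hb) hba
  have hinj : Set.InjOn f (Kl D x a) := by
    intro g hg k hk e
    have e' : (k⁻¹ * g) * z * (k⁻¹ * g)⁻¹ = z := by
      simp only [f] at e
      calc (k⁻¹ * g) * z * (k⁻¹ * g)⁻¹ = k⁻¹ * (g * z * g⁻¹) * k := by group
        _ = z := by rw [e]; group
    have hm : k⁻¹ * g ∈ Kl D x a := by
      rw [inv_eq_of_mul_eq_one_right (kl_sq F ha.1 hk)]; exact kl_mul F ha.1 hk hg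
    rcases hm with h1 | ⟨b, hb, hbx, hba, h1⟩
    · exact (inv_mul_eq_one.1 h1).symm
    · rw [h1, hval b hb hbx] at e'
      have e2 : cj b z = cj x z := by conv_rhs => rw [← e', cj_cj hG F.hx]
      have hbz : ¬ Commute b z := fun hc => F.hn (commute_all hG F.thick F.hx ha.1
        (right_mem_ln ha.1) hb hba.symm F.hz haz.2.2 hc (self_mem_ln F.hx))
      rw [cj_comm hG hb.1 F.hz hbz, cj_comm hG F.hx F.hz F.hn] at e2
      exact absurd (cj_inj hG F.hz e2) hbx
  have himg : f '' Kl D x a = Ln D a z \ {a} := by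
    refine Set.eq_of_subset_of_ncard_le (fun _ ⟨g, hg, e⟩ => e ▸ hmaps g hg) ?_ (Set.toFinite _)
    rw [Set.InjOn.ncard_image hinj, hcard]
  obtain ⟨g, hg, e⟩ := himg.ge (show w ∈ Ln D a z \ {a} from ⟨hw, hwa⟩)
  exact ⟨g, hg, e⟩

theorem conj_not_commute {g : G} (hg : g ∈ Qg D x z) : ¬ Commute x (g * z * g⁻¹) := by
  have e : g * x * g⁻¹ = x := by rw [← (commute_x F hg).eq, mul_assoc, mul_inv_cancel, mul_one]
  rw [← e]
  exact fun hc => F.hn ((Commute.conj_iff g).1 hc)

/-- A member outside the neighbourhood commuting with a translate of `z` is one. -/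
theorem exists_conj_of_commute {g w : G} (hg : g ∈ Qg D x z) (hw : w ∈ D) (hxw : ¬ Commute x w)
    (hc : Commute (g * z * g⁻¹) w) :
    ∃ a ∈ Cm D x z, ∃ k ∈ Kl D x a, w = (g * k) * z * (g * k)⁻¹ := by
  have hG := F.thick.grp
  by_cases hne : w = g * z * g⁻¹
  · obtain ⟨a, ha⟩ := cm_nonempty F
    exact ⟨a, ha, 1, Or.inl rfl, by simp [hne]⟩
  have hoD := hG.2.1 g z F.hz
  have hwN : w ∈ Nb D (g * z * g⁻¹) := ⟨hw, hne, hc⟩
  obtain ⟨c, hcL, hcx⟩ := exists_hit hG F.thick hoD hwN F.hx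
  have hco : c ≠ g * z * g⁻¹ := fun e => conj_not_commute F hg (e ▸ hcx).symm
  have hcw : c ≠ w := fun e => hxw (e ▸ hcx).symm
  obtain ⟨hcoN, -⟩ := ln_pair hG F.thick hoD hwN hcL (self_mem_ln hoD) hco
  have hL : Ln D c (g * z * g⁻¹) = Ln D (g * z * g⁻¹) w :=
    ln_eq hG F.thick hoD hwN hcL (self_mem_ln hoD) hco
  have hcN : c ∈ Nb D x := ⟨hcL.1, fun e => by
    subst e; exact conj_not_commute F hg hcoN.2.2, hcx.symm⟩
  have hgi : g⁻¹ ∈ Qg D x z := Subgroup.inv_mem _ hg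
  obtain ⟨h1, h2⟩ := conj_nb F hgi hcN
  rw [inv_inv] at h1 h2
  have hm := nb_of_ln hG h1 h2
  have haz : Commute (g⁻¹ * c * g) z := by
    have := (Commute.conj_iff g⁻¹).2 hcoN.2.2
    simpa [mul_assoc] using this
  have ha : g⁻¹ * c * g ∈ Cm D x z := ⟨hm, hm.1, fun e => F.hn (e ▸ hm.2.2), haz.symm⟩
  have hw' : g⁻¹ * w * g ∈ Ln D (g⁻¹ * c * g) z := by
    have := ln_conj_mem hG g⁻¹ (hL.symm ▸ right_mem_ln hwN : w ∈ Ln D c (g * z * g⁻¹))
    simpa [mul_assoc] using this
  have hne' : g⁻¹ * w * g ≠ g⁻¹ * c * g := fun e => hcw (by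
    have := congrArg (fun t => g * t * g⁻¹) e
    simpa [mul_assoc] using this.symm)
  obtain ⟨k, hk, hkw⟩ := exists_kl_z F ha hw' hne'
  refine ⟨_, ha, k, hk, ?_⟩
  calc w = g * (g⁻¹ * w * g) * g⁻¹ := by group
    _ = _ := by rw [← hkw]; group

/-- The translation group is transitive outside the neighbourhood. -/
theorem exists_conj_z {w : G} (hw : w ∈ D) (hxw : ¬ Commute x w) :
    ∃ g ∈ Qg D x z, g * z * g⁻¹ = w := by
  have hG := F.thick.grp
  by_contra hno
  push Not at hno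
  have key : ∀ g ∈ Qg D x z, Nb D x ∩ Nb D (g * z * g⁻¹) ⊆ Nb D x ∩ Nb D w := by
    intro g hg
    have hoD := hG.2.1 g z F.hz
    have hwo : ¬ Commute (g * z * g⁻¹) w := fun hc => by
      obtain ⟨a, ha, k, hk, e⟩ := exists_conj_of_commute F hg hw hxw hc
      exact hno _ (mul_mem hg (kl_le ha hk)) e.symm
    have hsub : Nb D (g * z * g⁻¹) ∩ Nb D w ⊆ Nb D (g * z * g⁻¹) ∩ Nb D x := by
      rintro y ⟨hyo, hyw⟩
      refine ⟨hyo, hyo.1, fun e => hxw (e ▸ hyw.2.2).symm, ?_⟩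
      by_contra hxy
      obtain ⟨a, ha, k, hk, e⟩ := exists_conj_of_commute F hg hyo.1 hxy hyo.2.2
      obtain ⟨a', ha', k', hk', e'⟩ := exists_conj_of_commute F (mul_mem hg (kl_le ha hk)) hw hxw
        (e ▸ hyw.2.2.symm)
      exact hno _ (mul_mem (mul_mem hg (kl_le ha hk)) (kl_le ha' hk')) e'.symm
    have hcard : (Nb D (g * z * g⁻¹) ∩ Nb D x).ncard = (Nb D (g * z * g⁻¹) ∩ Nb D w).ncard := by
      obtain ⟨l, hl1, hl2⟩ := FischerRankThree.adj_transitive hG F.thick.cls F.thick.perf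
        F.thick.central hoD F.hx hw (fun e => conj_not_commute F hg e.symm) hwo
      conv_rhs => rw [← hl1, ← hl2, ← FischerRankThree.nb_image hG l (g * z * g⁻¹),
        ← FischerRankThree.nb_image hG l x, ← Set.image_inter (conj_inj l)]
      rw [Set.ncard_image_of_injective _ (conj_inj l)]
    have he := Set.eq_of_subset_of_ncard_le hsub hcard.le (Set.toFinite _)
    rintro y ⟨hyx, hyo⟩
    exact ⟨hyx, (he.symm ▸ ⟨hyo, hyx⟩ : y ∈ Nb D (g * z * g⁻¹) ∩ Nb D w).2⟩
  obtain ⟨a, ha⟩ := cm_nonempty F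
  obtain ⟨r, hr, har⟩ := exists_adj_cm F ha
  obtain ⟨b, hb, hbx, hba⟩ := exists_third hG F.thick F.hx hr.1
  have hg : x * r * b ∈ Kl D x r := Or.inr ⟨b, hb, hbx, hba, rfl⟩
  have hg1 : x * r * b ≠ 1 := fun e => mul_ne F.thick F.hx hr.1 (self_mem_ln F.hx)
    (right_mem_ln hr.1) hb hr.1.2.1.symm hbx.symm
    (by rw [eq_inv_of_mul_eq_one_left e, inv_eq hG hb.1])
  obtain ⟨-, -, hmove⟩ := kl_move F hr.1 hg ha.1
  set g := x * r * b with hgdef
  have hgQ := kl_le hr hg
  have haw := key 1 (one_mem _) (by simpa [Cm] using ha)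
  have hgw := key g hgQ ⟨(nb_of_ln hG (conj_nb F hgQ ha.1).1 (conj_nb F hgQ ha.1).2),
    nb_conj hG g ha.2⟩
  refine hmove hg1 (fun e => har e.symm) ?_
  exact hit_unique hG F.thick F.hx ha.1 (conj_nb F hgQ ha.1).1 (right_mem_ln ha.1)
    (self_mem_ln F.hx) hw hgw.2.2.2.symm haw.2.2.2.symm hxw

theorem cases_mem {d : G} (hd : d ∈ D) :
    d = x ∨ d ∈ Nb D x ∨ ∃ g ∈ Qg D x z, g * z * g⁻¹ = d := by
  by_cases e : d = x
  · exact Or.inl e
  by_cases hc : Commute x d
  · exact Or.inr (Or.inl ⟨hd, e, hc⟩)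
  · exact Or.inr (Or.inr (exists_conj_z F hd hc))

/-- An element fixing all common neighbours commutes with the neighbourhood and with the group. -/
theorem central_of_fix {g : G} (hg : g ∈ Qg D x z) (hfix : ∀ a ∈ Cm D x z, g * a * g⁻¹ = a) :
    (∀ u ∈ Nb D x, Commute g u) ∧ ∀ k ∈ Qg D x z, Commute g k := by
  have key : ∀ u ∈ Nb D x, Commute g u := by
    intro u hu
    obtain ⟨a, ha, -, hL⟩ := exists_base F hu
    exact mul_inv_eq_iff_eq_mul.1 (fix_line F ha hg (hfix a ha) (hL.symm ▸ right_mem_ln hu))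
  refine ⟨key, fun k hk => ?_⟩
  induction hk using Subgroup.closure_induction with
  | mem k hk =>
    obtain ⟨a, ha, hk⟩ := Set.mem_iUnion₂.1 hk
    rcases hk with rfl | ⟨b, hb, hbx, -, rfl⟩
    · exact Commute.one_right g
    · exact (((commute_x F hg).symm).mul_right (key a ha.1)).mul_right
        (key b (nb_of_ln F.thick.grp hb hbx))
  | one => exact Commute.one_right g
  | mul _ _ _ _ h1 h2 => exact h1.mul_right h2
  | inv _ _ h => exact h.inv_right

/-- The action outside the neighbourhood is regular. -/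
theorem eq_one_of_fix {g : G} (hg : g ∈ Qg D x z) (hgz : g * z * g⁻¹ = z) : g = 1 := by
  have hG := F.thick.grp
  have hfix : ∀ a ∈ Cm D x z, g * a * g⁻¹ = a := by
    intro a ha
    obtain ⟨h1, -⟩ := conj_nb F hg ha.1
    refine base_unique F ha.1 h1 (right_mem_ln ha.1) ?_ ha.2.2.2.symm
    have := (Commute.conj_iff g).2 ha.2.2.2.symm
    rwa [hgz] at this
  obtain ⟨k1, k2⟩ := central_of_fix F hg hfix
  refine eq_one_of_commute F.thick fun d hd => ?_
  rcases cases_mem F hd with rfl | hd' | ⟨k, hk, rfl⟩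
  · exact commute_x F hg
  · exact (k1 d hd').symm
  · have hz' : Commute g z := mul_inv_eq_iff_eq_mul.1 hgz
    exact (((k2 k hk).mul_right hz').mul_right (k2 k hk).inv_right).symm

theorem conj_inj_z {k l : G} (hk : k ∈ Qg D x z) (hl : l ∈ Qg D x z)
    (e : k * z * k⁻¹ = l * z * l⁻¹) : k = l := by
  refine (inv_mul_eq_one.1 (eq_one_of_fix F (mul_mem (Subgroup.inv_mem _ hl) hk) ?_)).symm
  calc (l⁻¹ * k) * z * (l⁻¹ * k)⁻¹ = l⁻¹ * (k * z * k⁻¹) * l := by group
    _ = z := by rw [e]; group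

theorem fix_of_commute {k y : G} (hk : k ∈ Qg D x z) (hky : k * z * k⁻¹ = y)
    (hy : ∀ a ∈ Cm D x z, Commute a y) : ∀ a ∈ Cm D x z, k * a * k⁻¹ = a := by
  intro a ha
  obtain ⟨h1, -⟩ := conj_nb F hk ha.1
  have h3 : Commute (k * a * k⁻¹) y := hky ▸ (Commute.conj_iff k).2 ha.2.2.2.symm
  exact hit_unique F.thick.grp F.thick F.hx ha.1 h1 (right_mem_ln ha.1) (self_mem_ln F.hx)
    (hky ▸ F.thick.grp.2.1 k z F.hz) h3 (hy a ha) (hky ▸ conj_not_commute F hk)

/-- The centre of the transpositions at `x` is a translation. -/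
theorem x_mem : x ∈ Qg D x z := by
  have hG := F.thick.grp
  have hnx : ¬ Commute x (x * z * x⁻¹) := fun e => F.hn ((Commute.conj_iff x).1 (by simpa using e))
  obtain ⟨k, hk, hkz⟩ := exists_conj_z F (hG.2.1 x z F.hz) hnx
  have hkfix := fix_of_commute F hk hkz fun a ha => by
    have := (Commute.conj_iff x).2 ha.2.2.2.symm
    rwa [ha.1.2.2.eq, mul_inv_cancel_right] at this
  obtain ⟨k1, k2⟩ := central_of_fix F hk hkfix
  have kx : Commute k x := (commute_x F hk).symm
  suffices h2 : k⁻¹ * x = 1 from (inv_mul_eq_one.1 h2) ▸ hk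
  refine eq_one_of_commute F.thick fun d hd => ?_
  have hz' : Commute (k⁻¹ * x) z := by
    refine mul_inv_eq_iff_eq_mul.1 ?_
    calc k⁻¹ * x * z * (k⁻¹ * x)⁻¹ = k⁻¹ * (x * z * x⁻¹) * k := by group
      _ = z := by rw [← hkz]; group
  rcases cases_mem F hd with rfl | hd' | ⟨l, hl, rfl⟩
  · exact (kx.inv_left.mul_left (Commute.refl _)).symm
  · exact ((k1 d hd').inv_left.mul_left hd'.2.2).symm
  · have hlc : Commute (k⁻¹ * x) l := (k2 l hl).inv_left.mul_left (commute_x F hl)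
    exact ((hlc.mul_right hz').mul_right hlc.inv_right).symm

theorem sq_cases {l : G} (hl : l ∈ Qg D x z) : l * l = 1 ∨ l * l = x := by
  have hxx : x * x = 1 := sq F.thick.grp F.hx
  rw [Qg, ← Subgroup.mem_toSubmonoid, Subgroup.closure_toSubmonoid_of_finite] at hl
  induction hl using Submonoid.closure_induction_right with
  | one => simp
  | mul_right g' hg' t ht ih =>
    obtain ⟨r, hr, ht⟩ := Set.mem_iUnion₂.1 ht
    have hgQ' : g' ∈ Qg D x z := by
      rw [Qg, ← Subgroup.mem_toSubmonoid, Subgroup.closure_toSubmonoid_of_finite]; exact hg'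
    have htt := kl_sq F hr.1 ht
    have hxt := kl_commute F hr.1 (self_mem_ln F.hx) ht
    rcases comm_cases F hgQ' (kl_le hr ht) with e | e
    · have e' : g' * t = t * g' := mul_inv_eq_iff_eq_mul.1 e
      rw [show g' * t * (g' * t) = g' * (t * g') * t by simp only [mul_assoc], ← e']
      rw [show g' * (g' * t) * t = g' * g' * (t * t) by simp only [mul_assoc], htt, mul_one]
      exact ih
    · have e' : g' * t = t * x * g' := mul_inv_eq_iff_eq_mul.1 e
      have e2 : g' * t * (g' * t) = x * (g' * g') := by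
        nth_rewrite 1 [e']
        rw [show t * x * g' * (g' * t) = t * x * (g' * g') * t by simp only [mul_assoc]]
        have hgt : Commute (g' * g') t := by
          rcases ih with e3 | e3 <;> rw [e3]
          · exact Commute.one_left t
          · exact hxt
        rw [mul_assoc (t * x), hgt.eq, ← mul_assoc, ← hxt.eq, mul_assoc x t t, htt, mul_one]
      rw [e2]
      rcases ih with e3 | e3 <;> rw [e3]
      · exact Or.inr (mul_one x)
      · exact Or.inl hxx

/-- A translate fixing all common neighbours does not commute with `z`. -/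
theorem fix_not_commute {k : G} (hk : k ∈ Qg D x z)
    (hkfix : ∀ a ∈ Cm D x z, k * a * k⁻¹ = a) (hk1 : k ≠ 1) : ¬ Commute z (k * z * k⁻¹) := by
  intro hc
  obtain ⟨a, ha, l, hl, e⟩ := exists_conj_of_commute F (one_mem _) (F.thick.grp.2.1 k z F.hz)
    (conj_not_commute F hk) (by simpa using hc)
  rw [one_mul] at e
  obtain rfl := conj_inj_z F hk (kl_le ha hl) e
  obtain ⟨r, hr, har⟩ := exists_adj_cm F ha
  exact (kl_move F ha.1 hl hr.1).2.2 hk1 har (hkfix r hr)

/-- The third point of `z` and a translate fixing all common neighbours. -/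
theorem fix_third {k : G} (hk : k ∈ Qg D x z) (hkfix : ∀ a ∈ Cm D x z, k * a * k⁻¹ = a)
    (hk1 : k ≠ 1) (hkx : k ≠ x) :
    ∃ h ∈ Qg D x z, h * z * h⁻¹ = cj z (k * z * k⁻¹) ∧ (∀ a ∈ Cm D x z, h * a * h⁻¹ = a) ∧
      h ≠ 1 ∧ h ≠ x := by
  have hG := F.thick.grp
  set w := k * z * k⁻¹ with hwdef
  have hw : w ∈ D := hG.2.1 k z F.hz
  have hzw : ¬ Commute z w := fix_not_commute F hk hkfix hk1
  have huD : cj z w ∈ D := cj_mem hG F.hz hw
  have hPu : ∀ a ∈ Cm D x z, Commute a (cj z w) := by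
    intro a ha
    have h1 : Commute a w := by
      have := (Commute.conj_iff k).2 ha.2.2.2.symm
      rwa [hkfix a ha] at this
    exact ((commute_cj' hG F.hz ha.2.2.2 w).2 h1.symm).symm
  have huz : ¬ Commute (cj z w) z := by
    intro hc
    rw [← cj_self hG F.hz, cj_self hG F.hz] at hc
    exact hzw ((commute_cj' hG F.hz (Commute.refl z) w).1 hc).symm
  have hxQ : cj x z = x * z * x⁻¹ := cj_conj hG F.hx z
  rcases cases_mem F huD with hux | hux | ⟨h, hh, hhu⟩
  · refine absurd (conj_inj_z F hk (x_mem F) ?_) hkx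
    rw [← hxQ, ← cj_comm hG F.hz F.hx (fun e => F.hn e.symm)]
    conv_rhs => rw [← hux, cj_cj hG F.hz]
  · obtain ⟨a, ha, hau, hL⟩ := exists_base F hux
    obtain ⟨r, hr, har⟩ := exists_adj_cm F ha
    exact absurd (hPu r hr).symm (not_commute_of_ln hG F.thick F.hx ha.1 hr.1 har
      (hL.symm ▸ right_mem_ln hux) hux.2.1)
  · refine ⟨h, hh, hhu, fix_of_commute F hh hhu hPu, ?_, ?_⟩
    · rintro rfl
      rw [one_mul, inv_one, mul_one] at hhu
      exact huz (hhu ▸ Commute.refl z)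
    · rintro rfl
      have h1 : w = cj z (cj h z) := by rw [hxQ, hhu, cj_cj hG F.hz]
      rw [cj_comm hG F.hx F.hz F.hn, cj_cj hG F.hz] at h1
      exact conj_not_commute F hk (by rw [← hwdef, h1])

theorem fix_sq {k : G} (hk : k ∈ Qg D x z) (hkfix : ∀ a ∈ Cm D x z, k * a * k⁻¹ = a)
    (hk1 : k ≠ 1) (hkx : k ≠ x) : k * k = x := by
  have hG := F.thick.grp
  refine (sq_cases F hk).resolve_left fun e => hk1 ?_
  obtain ⟨h, hh, hhu, -, -, -⟩ := fix_third F hk hkfix hk1 hkx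
  obtain ⟨-, hkQ⟩ := central_of_fix F hk hkfix
  have hzw := fix_not_commute F hk hkfix hk1
  set w := k * z * k⁻¹ with hwdef
  have hw : w ∈ D := hG.2.1 k z F.hz
  have e1 : k * cj z w * k⁻¹ = cj z w := by
    rw [cj_conj hG F.hz]
    calc k * (z * w * z⁻¹) * k⁻¹ = (k * z * k⁻¹) * ((k * k) * z * (k * k)⁻¹) * (k * z * k⁻¹)⁻¹ := by
          rw [hwdef]; group
      _ = w * z * w⁻¹ := by rw [e, ← hwdef]; simp
      _ = z * w * z⁻¹ := by
          rw [← cj_conj hG hw, ← cj_conj hG F.hz, cj_comm hG hw F.hz fun e' => hzw e'.symm]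
  have e2 : (h⁻¹ * k * h) * z * (h⁻¹ * k * h)⁻¹ = z := by
    rw [← hhu] at e1
    calc (h⁻¹ * k * h) * z * (h⁻¹ * k * h)⁻¹ = h⁻¹ * (k * (h * z * h⁻¹) * k⁻¹) * h := by group
      _ = z := by rw [e1]; group
  have := eq_one_of_fix F (mul_mem (mul_mem (Subgroup.inv_mem _ hh) hk) hh) e2
  rwa [mul_assoc, (hkQ h hh).eq, inv_mul_cancel_left] at this

/-- Only `1` and `x` fix all common neighbours. -/
theorem eq_one_or_x {g : G} (hg : g ∈ Qg D x z) (hfix : ∀ a ∈ Cm D x z, g * a * g⁻¹ = a) :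
    g = 1 ∨ g = x := by
  have hG := F.thick.grp
  by_contra hne
  push Not at hne
  obtain ⟨h, hh, hhu, hhfix, hh1, hhx⟩ := fix_third F hg hfix hne.1 hne.2
  obtain ⟨-, hgQ⟩ := central_of_fix F hg hfix
  have hzw := fix_not_commute F hg hfix hne.1
  have hxx : x * x = 1 := sq hG F.hx
  have hg2 := fix_sq F hg hfix hne.1 hne.2
  have hh2 := fix_sq F hh hhfix hh1 hhx
  set w := g * z * g⁻¹ with hwdef
  have hw : w ∈ D := hG.2.1 g z F.hz
  have hgh1 : g * h * (g * h) = 1 := by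
    rw [show g * h * (g * h) = g * (h * g) * h by group, ← (hgQ h hh).eq,
      show g * (g * h) * h = g * g * (h * h) by group, hg2, hh2, hxx]
  have hfix' : ∀ a ∈ Cm D x z, g * h * a * (g * h)⁻¹ = a := fun a ha => by
    rw [show g * h * a * (g * h)⁻¹ = g * (h * a * h⁻¹) * g⁻¹ by group, hhfix a ha, hfix a ha]
  by_cases hgh : g * h = 1
  · have hh' : h = g⁻¹ := eq_inv_of_mul_eq_one_right hgh
    rw [hh'] at hhu
    rw [inv_inv] at hhu
    have hxQ : cj x z = x * z * x⁻¹ := cj_conj hG F.hx z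
    have e1 : cj w (cj x z) = z := by
      have : g * cj z w * g⁻¹ = z := by rw [← hhu]; group
      rw [cj_conj hG F.hz] at this
      calc cj w (cj x z) = w * (x * z * x⁻¹) * w⁻¹ := by rw [cj_conj hG hw, hxQ]
        _ = (g * z * g⁻¹) * ((g * g) * z * (g * g)⁻¹) * (g * z * g⁻¹)⁻¹ := by rw [hg2]
        _ = g * (z * (g * z * g⁻¹) * z⁻¹) * g⁻¹ := by group
        _ = z := this
    have e2 : cj x z = cj w z := by conv_rhs => rw [← e1, cj_cj hG hw]
    rw [cj_comm hG hw F.hz (fun e' => hzw e'.symm), ← hhu, hxQ] at e2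
    refine hhx ?_
    rw [hh']
    exact (conj_inj_z F (x_mem F) (Subgroup.inv_mem _ hg) (by rw [inv_inv]; exact e2)).symm
  · have hghx : g * h = x := by
      by_contra hne'
      have := fix_sq F (mul_mem hg hh) hfix' hgh hne'
      rw [hgh1] at this
      exact absurd (hG.1.1 x F.hx) (by rw [← this, orderOf_one]; omega)
    have hhg : h = g := by rw [eq_inv_mul_of_mul_eq hghx, ← hg2]; group
    rw [hhg, ← hwdef, cj_conj hG F.hz] at hhu
    exact hzw (mul_inv_eq_iff_eq_mul.1 hhu.symm)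

end Facts

end CfsgLib.Sporadic.FischerTrans
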