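import Cfsg.Agent.Lib.Sporadic.FischerPrimitive

/-!
# Every permutation of pairwise commuting 3-transpositions of length three is induced
-/

set_option autoImplicit false

namespace CfsgLib.Sporadic.FischerTripleSwap

open Relation
open CfsgLib.Sporadic.FischerTransitivity

variable {G : Type*} [Group G] {D : Set G}

/-- Some element fixes `z` and exchanges `x` and `y`, and in fact lies in the group of the neighbours of `z`. -/
theorem exists_swap [Finite G] (hG : Cfsg.IsThreeTranspositionGroup D) (hprim : Cfsg.IsPrimitiveUnderConj D)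
    {x y z : G} (hx : x ∈ D) (hy : y ∈ D) (hz : z ∈ D) (hxy : x ≠ y) (hxz : x ≠ z) (hyz : y ≠ z)
    (cxy : Commute x y) (cxz : Commute x z) (cyz : Commute y z) :
    ∃ g : G, g * x * g⁻¹ = y ∧ g * y * g⁻¹ = x ∧ g * z * g⁻¹ = z := by
  obtain ⟨hclass, hD2, -⟩ := id hprim
  obtain ⟨h2, h3, hconn⟩ := FischerPrimitive.of_primitive hG hprim ⟨x, hx, y, hy, hxy, cxy⟩
  obtain ⟨L, hL⟩ := FischerLayer.exists_component hG hclass hD2 h2 h3
  have hperf := FischerPrimitive.derived_perfect hG hclass hD2 hL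
    (FischerLayer.index_le_two hG hclass hD2 hL hconn)
  have hsol : ∀ N : Subgroup G, N.Normal → Group.IsSolvable ↥N → N ≤ commutator G → N ≤ Subgroup.center G :=
    fun N hN hs _ => FischerCores.solvable_normal_le_center hG h2 h3 N hN hs
  -- a common noncommuting partner centralizing `z`
  obtain ⟨c, hcD, hcz, hxc, hyc⟩ : ∃ c, c ∈ D ∧ Commute z c ∧ ¬ Commute x c ∧ ¬ Commute y c := by
    by_contra hno
    push Not at hno
    let P : G → Prop := fun v => v ∈ Nb D z ∧ v ≠ y ∧ Commute v y ∧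
      ∀ c, c ∈ D → Commute z c → ¬ Commute v c → Commute y c
    have hP : ∀ v, ReflTransGen (Rel (Nb D z)) x v → P v := by
      intro v hv
      induction hv with
      | refl => exact ⟨⟨hx, hxz, cxz.symm⟩, hxy, cxy, hno⟩
      | @tail v a _ hva ih =>
        obtain ⟨hv, hvy, cvy, hdis⟩ := ih
        obtain ⟨-, ha, hna⟩ := hva
        have cay : Commute a y := (hdis a ha.1 ha.2.2 hna).symm
        refine ⟨ha, fun e => hna (e ▸ cvy), cay, fun c hc hzc hac => ?_⟩
        -- transport by the third point of the line through `v` and `a`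
        have he : cj v a ∈ D := cj_mem hG hv.1 ha.1
        have hey : Commute (cj v a) y := (cvy.mul_left cay).mul_left cvy
        have hez : Commute (cj v a) z := ((hv.2.2.mul_right ha.2.2).mul_right hv.2.2).symm
        have hva' : cj (cj v a) a = v := by
          rw [cj_comm hG hv.1 ha.1 hna, cj_cj_eq, cj_self hG ha.1, cj_comm hG hv.1 ha.1 hna,
            cj_cj hG ha.1]
        have key := hdis (cj (cj v a) c) (cj_mem hG he hc) (by
            simpa [cj] using (hez.symm.mul_right hzc).mul_right hez.symm) (fun h => hac (by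
              have := (commute_cj hG he a c).1 (by rwa [hva'])
              exact this))
        exact (commute_cj hG he y c).1 (by rwa [cj_fix hG he hey])
    exact (hP y (connected hG hclass hperf hsol hz ⟨hx, hxz, cxz.symm⟩ ⟨hy, hyz, cyz.symm⟩)).2.1 rfl
  have e := cxy.eq
  refine ⟨c * (x * y) * c, move hG hx hy hcD cxy hxc hyc, ?_, ?_⟩
  · rw [e]
    exact move hG hy hx hcD cxy.symm hyc hxc
  · have : Commute (c * (x * y) * c) z :=
      (hcz.symm.mul_left (cxz.mul_left cyz)).mul_left hcz.symm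
    rw [this.eq, mul_assoc, mul_inv_cancel, mul_one]

/-- If a triple is determined by its product, the centralizer of the product induces the symmetric group on it. -/
theorem centralizer_quotient [Finite G] (hG : Cfsg.IsThreeTranspositionGroup D)
    (hprim : Cfsg.IsPrimitiveUnderConj D) (d : Fin 3 → G) (hd : ∀ i, d i ∈ D) (hinj : Function.Injective d)
    (hc : ∀ i j, Commute (d i) (d j))
    (huniq : ∀ l : List G, l.Nodup → l.length = 3 → (∀ a ∈ l, a ∈ D) → (∀ a ∈ l, ∀ b ∈ l, Commute a b) →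
      l.prod = d 0 * d 1 * d 2 → ∀ a ∈ l, ∃ i, a = d i)
    (K C : Subgroup G) (hK : K = Subgroup.centralizer ({d 0, d 1, d 2} : Set G))
    (hC : C = Subgroup.centralizer ({d 0 * d 1 * d 2} : Set G)) :
    K ≤ C ∧ ∃ _ : (K.subgroupOf C).Normal, Nonempty (↥C ⧸ K.subgroupOf C ≃* Equiv.Perm (Fin 3)) := by
  classical
  have hKmem : ∀ g, g ∈ K ↔ ∀ i, g * d i * g⁻¹ = d i := by
    intro g
    simp only [hK, Subgroup.mem_centralizer_iff, Set.mem_insert_iff, Set.mem_singleton_iff, forall_eq_or_imp,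
      forall_eq, mul_inv_eq_iff_eq_mul, Fin.forall_fin_succ, Fin.succ_zero_eq_one, IsEmpty.forall_iff, and_true]
    exact ⟨fun ⟨a, b, c⟩ => ⟨a.symm, b.symm, c.symm⟩, fun ⟨a, b, c⟩ => ⟨a.symm, b.symm, c.symm⟩⟩
  have hCmem : ∀ g, g ∈ C ↔ g * (d 0 * d 1 * d 2) * g⁻¹ = d 0 * d 1 * d 2 := by
    intro g
    rw [hC, Subgroup.mem_centralizer_singleton_iff, mul_inv_eq_iff_eq_mul]
  have hprod : ∀ g : G, g * (d 0 * d 1 * d 2) * g⁻¹ =
      (g * d 0 * g⁻¹) * (g * d 1 * g⁻¹) * (g * d 2 * g⁻¹) := fun g => by group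
  have hperm : ∀ g ∈ C, ∀ i, ∃ j, g * d i * g⁻¹ = d j := by
    intro g hg i
    refine huniq [g * d 0 * g⁻¹, g * d 1 * g⁻¹, g * d 2 * g⁻¹] ?_ rfl ?_ ?_ ?_ _ ?_
    · simp [hinj.eq_iff]
    · simp [hG.2.1 g _ (hd _)]
    · have hh : ∀ i j, Commute (g * d i * g⁻¹) (g * d j * g⁻¹) := fun i j => (Commute.conj_iff g).2 (hc i j)
      simp [hh]
    · rw [List.prod_cons, List.prod_cons, List.prod_cons, List.prod_nil, mul_one, ← mul_assoc, ← hprod]
      exact (hCmem g).1 hg
    · fin_cases i <;> simp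
  choose f hf using fun (g : ↥C) (i : Fin 3) => hperm g.1 g.2 i
  have fmul : ∀ (g h : ↥C) i, f (g * h) i = f g (f h i) := fun g h i => hinj (by
    rw [← hf, ← hf, ← hf, Subgroup.coe_mul]; group)
  have fone : ∀ i, f 1 i = i := fun i => hinj (by rw [← hf, Subgroup.coe_one]; group)
  let φ : ↥C →* Equiv.Perm (Fin 3) := MonoidHom.mk' (fun g =>
      ⟨f g, f g⁻¹, fun i => by rw [← fmul, inv_mul_cancel, fone], fun i => by rw [← fmul, mul_inv_cancel, fone]⟩)
    (fun g h => Equiv.ext (fmul g h))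
  have hker : φ.ker = K.subgroupOf C := by
    ext g
    rw [MonoidHom.mem_ker, Subgroup.mem_subgroupOf, hKmem]
    constructor
    · intro h i
      rw [hf, show f g i = i from Equiv.congr_fun h i]
    · exact fun h => Equiv.ext fun i => hinj ((hf g i).symm.trans (h i))
  have hmemC : ∀ g : G, (∀ i, g * d i * g⁻¹ = d i) → g ∈ C := fun g h => by
    rw [hCmem, hprod, h, h, h]
  refine ⟨fun g hg => hmemC g ((hKmem g).1 hg), ?_⟩
  haveI hn : (K.subgroupOf C).Normal := hker ▸ inferInstance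
  refine ⟨hn, ⟨(QuotientGroup.quotientMulEquivOfEq hker.symm).trans
    (QuotientGroup.quotientKerEquivOfSurjective φ ?_)⟩⟩
  rw [← MonoidHom.range_eq_top, eq_top_iff, ← Equiv.Perm.closure_isSwap, Subgroup.closure_le]
  rintro σ ⟨i, j, hij, rfl⟩
  obtain ⟨k, hki, hkj⟩ : ∃ k, k ≠ i ∧ k ≠ j := by
    exact (by decide : ∀ a b : Fin 3, ∃ k, k ≠ a ∧ k ≠ b) i j
  obtain ⟨g, hgi, hgj, hgk⟩ := exists_swap hG hprim (hd i) (hd j) (hd k) (hinj.ne hij) (hinj.ne hki.symm)
    (hinj.ne hkj.symm) (hc i j) (hc i k) (hc j k)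
  have hact : ∀ l, g * d l * g⁻¹ = d (Equiv.swap i j l) := by
    intro l
    have : l = i ∨ l = j ∨ l = k := by
      exact (by decide : ∀ a b c l : Fin 3, a ≠ b → c ≠ a → c ≠ b → l = a ∨ l = b ∨ l = c) i j k l hij hki hkj
    rcases this with rfl | rfl | rfl
    · rw [Equiv.swap_apply_left, hgi]
    · rw [Equiv.swap_apply_right, hgj]
    · rw [Equiv.swap_apply_of_ne_of_ne hki hkj, hgk]
  have hgC : g ∈ C := by
    rw [hCmem, hprod, hact, hact, hact]
    have h := (Equiv.Perm.ofFn_comp_perm (Equiv.swap i j) d).prod_eq'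
      (List.pairwise_ofFn.2 fun a b _ => hc _ _)
    simpa [List.ofFn_succ, mul_assoc] using h
  exact ⟨⟨g, hgC⟩, Equiv.ext fun l => hinj ((hf _ l).symm.trans (hact l))⟩

end CfsgLib.Sporadic.FischerTripleSwap
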