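import Cfsg.Agent.Lib.Sporadic.SuzPresented
import Cfsg.Agent.Lib.Sporadic.CosetCertBelow
import Cfsg.Agent.Lib.Sporadic.G2FourData.G2FourTable
import Cfsg.Agent.Lib.Sporadic.G2FourVec

/-!
# The hexagon of G2(4) in the Suzuki group: checks
-/

set_option maxRecDepth 100000

open CfsgLib.Sporadic.G2Four

namespace CfsgLib.Sporadic.CosetCert.SuzG

open G2FourData (tableH tableM pointTab cosetTab codeTab moveTab entryList targets letterList)

/-- The code of a point. -/
noncomputable def codeAt (i : ℕ) : ℕ := codeTab.get 28 i

/-- The image of a point under the root element number `n`. -/
noncomputable def moveAt (n i : ℕ) : ℕ := moveTab.get 11 (Nat.add (Nat.mul n 1366) i)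

/-- The entries of the root element number `n`. -/
def entsAt (n : ℕ) : List (ℕ × ℕ × ℕ) := entryList.getD n []

/-- The entries give the matrix of the root element. -/
def matCheck (n : ℕ) : Prop :=
  entsOK (entsAt n) = true ∧
    Cfsg.Lie.chevG2.xMat FieldFour ⟨n / 4 % 12, Nat.mod_lt _ (by decide)⟩ (ofN (n % 4)) =
      entMat (entsAt n)

instance (n : ℕ) : Decidable (matCheck n) := by unfold matCheck; infer_instance

/-- The root element moves the points as listed. -/
noncomputable def moveCheck (n : ℕ) : Bool :=
  allBelow (fun i => Nat.blt (moveAt n i) 1366 &&
    (Nat.beq (opN (entsAt n) (codeAt i) (codeAt i)) (scalN 1 (codeAt (moveAt n i))) ||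
    Nat.beq (opN (entsAt n) (codeAt i) (codeAt i)) (scalN 2 (codeAt (moveAt n i))) ||
    Nat.beq (opN (entsAt n) (codeAt i) (codeAt i)) (scalN 3 (codeAt (moveAt n i))))) 1366

/-- The codes are canonical and listed in increasing order. -/
noncomputable def codeCheck (i : ℕ) : Bool :=
  (Nat.beq (ofVecG (toVecG (codeAt i))) (codeAt i)) &&
  (Nat.blt 1365 (i + 1) || Nat.blt (codeAt i) (codeAt (i + 1))) &&
  (Nat.beq i 0 ||
    (Nat.blt (codeAt i) (scalN 2 (codeAt i)) && Nat.blt (codeAt i) (scalN 3 (codeAt i)) &&
      Nat.beq (ofVecG (toVecG (scalN 2 (codeAt i)))) (scalN 2 (codeAt i)) &&
      Nat.beq (ofVecG (toVecG (scalN 3 (codeAt i)))) (scalN 3 (codeAt i))))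

theorem codes_ok : allBelow codeCheck 1366 = true := by decide +kernel

theorem code_zero : codeAt 0 = 0 := by decide +kernel

theorem root_mat0 : matCheck 0 := by decide +kernel

theorem root_move0 : moveCheck 0 = true := by decide +kernel

theorem root_mat1 : matCheck 1 := by decide +kernel

theorem root_move1 : moveCheck 1 = true := by decide +kernel

theorem root_mat2 : matCheck 2 := by decide +kernel

theorem root_move2 : moveCheck 2 = true := by decide +kernel

theorem root_mat3 : matCheck 3 := by decide +kernel

theorem root_move3 : moveCheck 3 = true := by decide +kernel

theorem root_mat4 : matCheck 4 := by decide +kernel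

theorem root_move4 : moveCheck 4 = true := by decide +kernel

theorem root_mat5 : matCheck 5 := by decide +kernel

theorem root_move5 : moveCheck 5 = true := by decide +kernel

theorem root_mat6 : matCheck 6 := by decide +kernel

theorem root_move6 : moveCheck 6 = true := by decide +kernel

theorem root_mat7 : matCheck 7 := by decide +kernel

theorem root_move7 : moveCheck 7 = true := by decide +kernel

theorem root_mat8 : matCheck 8 := by decide +kernel

theorem root_move8 : moveCheck 8 = true := by decide +kernel

theorem root_mat9 : matCheck 9 := by decide +kernel

theorem root_move9 : moveCheck 9 = true := by decide +kernel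

theorem root_mat10 : matCheck 10 := by decide +kernel

theorem root_move10 : moveCheck 10 = true := by decide +kernel

theorem root_mat11 : matCheck 11 := by decide +kernel

theorem root_move11 : moveCheck 11 = true := by decide +kernel

theorem root_mat12 : matCheck 12 := by decide +kernel

theorem root_move12 : moveCheck 12 = true := by decide +kernel

theorem root_mat13 : matCheck 13 := by decide +kernel

theorem root_move13 : moveCheck 13 = true := by decide +kernel

theorem root_mat14 : matCheck 14 := by decide +kernel

theorem root_move14 : moveCheck 14 = true := by decide +kernel

theorem root_mat15 : matCheck 15 := by decide +kernel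

theorem root_move15 : moveCheck 15 = true := by decide +kernel

theorem root_mat16 : matCheck 16 := by decide +kernel

theorem root_move16 : moveCheck 16 = true := by decide +kernel

theorem root_mat17 : matCheck 17 := by decide +kernel

theorem root_move17 : moveCheck 17 = true := by decide +kernel

theorem root_mat18 : matCheck 18 := by decide +kernel

theorem root_move18 : moveCheck 18 = true := by decide +kernel

theorem root_mat19 : matCheck 19 := by decide +kernel

theorem root_move19 : moveCheck 19 = true := by decide +kernel

theorem root_mat20 : matCheck 20 := by decide +kernel

theorem root_move20 : moveCheck 20 = true := by decide +kernel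

theorem root_mat21 : matCheck 21 := by decide +kernel

theorem root_move21 : moveCheck 21 = true := by decide +kernel

theorem root_mat22 : matCheck 22 := by decide +kernel

theorem root_move22 : moveCheck 22 = true := by decide +kernel

theorem root_mat23 : matCheck 23 := by decide +kernel

theorem root_move23 : moveCheck 23 = true := by decide +kernel

theorem root_mat24 : matCheck 24 := by decide +kernel

theorem root_move24 : moveCheck 24 = true := by decide +kernel

theorem root_mat25 : matCheck 25 := by decide +kernel

theorem root_move25 : moveCheck 25 = true := by decide +kernel

theorem root_mat26 : matCheck 26 := by decide +kernel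

theorem root_move26 : moveCheck 26 = true := by decide +kernel

theorem root_mat27 : matCheck 27 := by decide +kernel

theorem root_move27 : moveCheck 27 = true := by decide +kernel

theorem root_mat28 : matCheck 28 := by decide +kernel

theorem root_move28 : moveCheck 28 = true := by decide +kernel

theorem root_mat29 : matCheck 29 := by decide +kernel

theorem root_move29 : moveCheck 29 = true := by decide +kernel

theorem root_mat30 : matCheck 30 := by decide +kernel

theorem root_move30 : moveCheck 30 = true := by decide +kernel

theorem root_mat31 : matCheck 31 := by decide +kernel

theorem root_move31 : moveCheck 31 = true := by decide +kernel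

theorem root_mat32 : matCheck 32 := by decide +kernel

theorem root_move32 : moveCheck 32 = true := by decide +kernel

theorem root_mat33 : matCheck 33 := by decide +kernel

theorem root_move33 : moveCheck 33 = true := by decide +kernel

theorem root_mat34 : matCheck 34 := by decide +kernel

theorem root_move34 : moveCheck 34 = true := by decide +kernel

theorem root_mat35 : matCheck 35 := by decide +kernel

theorem root_move35 : moveCheck 35 = true := by decide +kernel

theorem root_mat36 : matCheck 36 := by decide +kernel

theorem root_move36 : moveCheck 36 = true := by decide +kernel

theorem root_mat37 : matCheck 37 := by decide +kernel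

theorem root_move37 : moveCheck 37 = true := by decide +kernel

theorem root_mat38 : matCheck 38 := by decide +kernel

theorem root_move38 : moveCheck 38 = true := by decide +kernel

theorem root_mat39 : matCheck 39 := by decide +kernel

theorem root_move39 : moveCheck 39 = true := by decide +kernel

theorem root_mat40 : matCheck 40 := by decide +kernel

theorem root_move40 : moveCheck 40 = true := by decide +kernel

theorem root_mat41 : matCheck 41 := by decide +kernel

theorem root_move41 : moveCheck 41 = true := by decide +kernel

theorem root_mat42 : matCheck 42 := by decide +kernel

theorem root_move42 : moveCheck 42 = true := by decide +kernel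

theorem root_mat43 : matCheck 43 := by decide +kernel

theorem root_move43 : moveCheck 43 = true := by decide +kernel

theorem root_mat44 : matCheck 44 := by decide +kernel

theorem root_move44 : moveCheck 44 = true := by decide +kernel

theorem root_mat45 : matCheck 45 := by decide +kernel

theorem root_move45 : moveCheck 45 = true := by decide +kernel

theorem root_mat46 : matCheck 46 := by decide +kernel

theorem root_move46 : moveCheck 46 = true := by decide +kernel

theorem root_mat47 : matCheck 47 := by decide +kernel

theorem root_move47 : moveCheck 47 = true := by decide +kernel

/-- The point of a coset. -/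
noncomputable def pointAt (u : ℕ) : ℕ := pointTab.get 11 u

theorem pointAt_bound : allBelow (fun u => Nat.blt (pointAt u) 1366) 1782 = true := by decide +kernel

theorem cosetTab_ok : allBelow (fun p => Nat.blt (cosetTab.get 11 p) 1782 &&
    Nat.beq (pointAt (cosetTab.get 11 p)) p) 1366 = true := by decide +kernel

/-- A generator agrees with its row on the points. -/
noncomputable def genCheck (i : ℕ) : Bool :=
  allBelow (fun u => Nat.beq (pointAt (SuzData.table.img i u)) (tableH.img i (pointAt u))) 1782

theorem genCheck_ok : ∀ i < 6, genCheck i = true := by decide +kernel

theorem targets_ok : ∀ i < 6, targets.getD i 0 < tableM.nl + tableM.slp.length ∧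
    allBelow (fun u => Nat.beq (tableH.img i u) (tableM.img (targets.getD i 0) u)) 1366 = true := by
  decide +kernel

/-- The number of the root element of a letter. -/
def numLetter (j : ℕ) : ℕ := 4 * (letterList.getD j (0, 0)).1 + (letterList.getD j (0, 0)).2

theorem letters_ok : ∀ j < 8, numLetter j < 48 ∧
    allBelow (fun u => Nat.beq (moveAt (numLetter j) u) (tableM.img j u)) 1366 = true := by
  decide +kernel

theorem matCheck_all : ∀ n < 48, matCheck n := by
  intro n hn
  interval_cases n
  · exact root_mat0
  · exact root_mat1
  · exact root_mat2
  · exact root_mat3
  · exact root_mat4
  · exact root_mat5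
  · exact root_mat6
  · exact root_mat7
  · exact root_mat8
  · exact root_mat9
  · exact root_mat10
  · exact root_mat11
  · exact root_mat12
  · exact root_mat13
  · exact root_mat14
  · exact root_mat15
  · exact root_mat16
  · exact root_mat17
  · exact root_mat18
  · exact root_mat19
  · exact root_mat20
  · exact root_mat21
  · exact root_mat22
  · exact root_mat23
  · exact root_mat24
  · exact root_mat25
  · exact root_mat26
  · exact root_mat27
  · exact root_mat28
  · exact root_mat29
  · exact root_mat30
  · exact root_mat31
  · exact root_mat32
  · exact root_mat33
  · exact root_mat34
  · exact root_mat35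
  · exact root_mat36
  · exact root_mat37
  · exact root_mat38
  · exact root_mat39
  · exact root_mat40
  · exact root_mat41
  · exact root_mat42
  · exact root_mat43
  · exact root_mat44
  · exact root_mat45
  · exact root_mat46
  · exact root_mat47

theorem moveCheck_all : ∀ n < 48, moveCheck n = true := by
  intro n hn
  interval_cases n
  · exact root_move0
  · exact root_move1
  · exact root_move2
  · exact root_move3
  · exact root_move4
  · exact root_move5
  · exact root_move6
  · exact root_move7
  · exact root_move8
  · exact root_move9
  · exact root_move10
  · exact root_move11
  · exact root_move12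
  · exact root_move13
  · exact root_move14
  · exact root_move15
  · exact root_move16
  · exact root_move17
  · exact root_move18
  · exact root_move19
  · exact root_move20
  · exact root_move21
  · exact root_move22
  · exact root_move23
  · exact root_move24
  · exact root_move25
  · exact root_move26
  · exact root_move27
  · exact root_move28
  · exact root_move29
  · exact root_move30
  · exact root_move31
  · exact root_move32
  · exact root_move33
  · exact root_move34
  · exact root_move35
  · exact root_move36
  · exact root_move37
  · exact root_move38
  · exact root_move39
  · exact root_move40
  · exact root_move41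
  · exact root_move42
  · exact root_move43
  · exact root_move44
  · exact root_move45
  · exact root_move46
  · exact root_move47

theorem letters_sq : ∀ j < 8,
    entMat (entsAt (numLetter j)) * entMat (entsAt (numLetter j)) = 1 := by
  decide +kernel

end CfsgLib.Sporadic.CosetCert.SuzG
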