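import Cfsg.Agent.Lib.Sporadic.G2FourModel
import Cfsg.Agent.Lib.Sporadic.G2FourData.JTwoTable
import Cfsg.Agent.Lib.Sporadic.Icosian.Group
import Cfsg.Agent.Lib.Sporadic.SuborbitMaximal
import Cfsg.Agent.Lib.Chevalley.G2Two.Transfer

/-!
# The Hall-Janko subgroup of G2(4) and its action on 416 points
-/

set_option autoImplicit false
set_option maxRecDepth 100000

namespace CfsgLib.Sporadic.CosetCert.JTwoG

open CfsgLib.Sporadic.CosetCert.SuzG (grpA genA mem_lA card_grpA lA)
open CfsgLib.SmallGroups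
open JTwoData (tableQ)

/-- The Hall-Janko subgroup of the Suzuki group. -/
noncomputable abbrev grpJ : Subgroup Cfsg.Spor.Suz := SuzP.sub [0, 1, 2, 3, 4]

theorem exists_restrict {B : Type*} (pts : B → Fin SuzData.table.N) (l : List ℕ)
    (hgen : ∀ x ∈ l, ∃ π : Equiv.Perm B, ∀ i, SuzP.hom (SuzP.coding.gen x) (pts i) = pts (π i)) :
    ∀ g ∈ SuzP.sub l, ∃ π : Equiv.Perm B, ∀ i, SuzP.hom g (pts i) = pts (π i) := by
  intro g hg
  induction hg using Subgroup.closure_induction with
  | mem g hg => obtain ⟨x, hx, rfl⟩ := hg; exact hgen x hx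
  | one => exact ⟨1, by simp⟩
  | mul a b _ _ ha hb =>
    obtain ⟨π, hπ⟩ := ha
    obtain ⟨ρ, hρ⟩ := hb
    exact ⟨π * ρ, fun u => by rw [map_mul, Equiv.Perm.mul_apply, hρ, hπ, Equiv.Perm.mul_apply]⟩
  | inv a _ ha =>
    obtain ⟨π, hπ⟩ := ha
    refine ⟨π⁻¹, fun u => ?_⟩
    rw [map_inv, Equiv.Perm.inv_eq_iff_eq, hπ]
    simp

/-- The restriction of the action to a block of points. -/
noncomputable def restrictHom {B : Type*} {pts : B → Fin SuzData.table.N} (hinj : Function.Injective pts)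
    {K : Subgroup Cfsg.Spor.Suz}
    (h : ∀ g ∈ K, ∃ π : Equiv.Perm B, ∀ i, SuzP.hom g (pts i) = pts (π i)) : K →* Equiv.Perm B where
  toFun g := (h g g.2).choose
  map_one' := Equiv.ext fun i => hinj (((h _ (1 : K).2).choose_spec i).symm.trans (by simp))
  map_mul' a b := Equiv.ext fun i => hinj (((h _ (a * b).2).choose_spec i).symm.trans (by
    rw [Subgroup.coe_mul, map_mul, Equiv.Perm.mul_apply, (h _ b.2).choose_spec i, (h _ a.2).choose_spec,
      Equiv.Perm.mul_apply]))

theorem restrictHom_spec {B : Type*} {pts : B → Fin SuzData.table.N} (hinj : Function.Injective pts)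
    {K : Subgroup Cfsg.Spor.Suz}
    (h : ∀ g ∈ K, ∃ π : Equiv.Perm B, ∀ i, SuzP.hom g (pts i) = pts (π i)) (g : K) (i : B) :
    SuzP.hom (g : Cfsg.Spor.Suz) (pts i) = pts (restrictHom hinj h g i) :=
  (h g g.2).choose_spec i

theorem nums : tableQ.N = 416 ∧ SuzData.table.N = 1782 ∧ tableQ.nl = 6 ∧ SuzData.table.nl = 7 :=
  ⟨rfl, rfl, rfl, rfl⟩

theorem ptsQ_ok : JTwoData.ptsQ.length = 416 ∧ (JTwoData.ptsQ.all fun p => decide (p < 1782)) = true ∧
    JTwoData.ptsQ.Nodup ∧ JTwoData.ptsJ.length = 100 ∧ (JTwoData.ptsJ.all fun p => decide (p < 416)) = true ∧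
    JTwoData.ptsJ.Nodup := by decide +kernel

/-- The 416 points. -/
def pQ (u : Fin tableQ.N) : Fin SuzData.table.N :=
  ⟨JTwoData.ptsQ[(u : ℕ)]'(ptsQ_ok.1.symm ▸ u.2), of_decide_eq_true
    (List.all_eq_true.mp ptsQ_ok.2.1 _ (List.getElem_mem _))⟩

theorem pQ_injective : Function.Injective pQ := fun _ _ e =>
  Fin.ext ((List.Nodup.getElem_inj_iff ptsQ_ok.2.2.1).mp (congrArg Fin.val e))

/-- The hundred points inside the 416. -/
def pJ' (i : Fin 100) : Fin tableQ.N :=
  ⟨JTwoData.ptsJ[(i : ℕ)]'(ptsQ_ok.2.2.2.1.symm ▸ i.2), of_decide_eq_true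
    (List.all_eq_true.mp ptsQ_ok.2.2.2.2.1 _ (List.getElem_mem _))⟩

/-- The hundred points. -/
def pJ (i : Fin 100) : Fin SuzData.table.N := pQ (pJ' i)

theorem pJ_injective : Function.Injective pJ := fun _ _ e =>
  Fin.ext ((List.Nodup.getElem_inj_iff ptsQ_ok.2.2.2.2.2).mp (congrArg Fin.val (pQ_injective e)))

/-- The check of the letters on 416 points. -/
noncomputable def rowsQ : Bool :=
  (List.range 6).all fun x => (List.range 416).all fun u =>
    Nat.beq (SuzData.table.img x (JTwoData.ptsQ.getD u 0)) (JTwoData.ptsQ.getD (tableQ.img x u) 0)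

theorem rowsQ_ok : rowsQ = true := by decide +kernel

theorem genQ_ok : tableQ.genOK 0 416 = true := by decide +kernel

theorem slpQ_ok : tableQ.slpOK = true := by decide +kernel

theorem permsQ : ∀ u < tableQ.N, ∀ x < tableQ.nl,
    tableQ.inv x < tableQ.nl ∧ tableQ.img x u < tableQ.N ∧ tableQ.img (tableQ.inv x) (tableQ.img x u) = u :=
  fun u hu x hx => genOK_spec genQ_ok u (Nat.zero_le _) (Nat.lt_of_lt_of_eq hu rfl) x hx

theorem letterQ (x : ℕ) (hx : x < 6) (u : Fin tableQ.N) :
    SuzP.hom (SuzP.coding.gen x) (pQ u) = pQ (letterPerm tableQ permsQ x u) := by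
  have hv : (letterPerm tableQ permsQ x u : ℕ) = tableQ.img x u := by
    rw [letterPerm, dif_pos (show x < tableQ.nl from hx)]; rfl
  apply Fin.ext
  rw [SuzP.hom_acts.img_eq x (by rw [nums.2.2.2]; omega) (pQ u)]
  have h := List.all_eq_true.mp (List.all_eq_true.mp rowsQ_ok x (List.mem_range.mpr hx)) u
    (List.mem_range.mpr u.2)
  have h' := Nat.eq_of_beq_eq_true h
  have hu : JTwoData.ptsQ.getD u 0 = (pQ u : ℕ) := List.getD_eq_getElem _ _ _
  have hw : JTwoData.ptsQ.getD (tableQ.img x u) 0 = (pQ (letterPerm tableQ permsQ x u) : ℕ) := by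
    rw [← hv]; exact List.getD_eq_getElem _ _ _
  rw [hu, hw] at h'
  exact h'

theorem existsQ : ∀ g ∈ grpA, ∃ π : Equiv.Perm (Fin tableQ.N), ∀ u, SuzP.hom g (pQ u) = pQ (π u) :=
  exists_restrict pQ lA fun x hx => ⟨_, letterQ x (SuzG.lA_lt x hx).2⟩

/-- The action on 416 points. -/
noncomputable def psi : grpA →* Equiv.Perm (Fin tableQ.N) := restrictHom pQ_injective existsQ

theorem psi_spec (g : grpA) (u : Fin tableQ.N) : SuzP.hom (g : Cfsg.Spor.Suz) (pQ u) = pQ (psi g u) :=
  restrictHom_spec pQ_injective existsQ g u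

theorem psi_acts : tableQ.Acts psi genA := ⟨fun x hx u => by
  have hx6 : x < 6 := hx
  have e : psi (genA x) u = letterPerm tableQ permsQ x u := pQ_injective (by
    rw [← psi_spec, ← letterQ x hx6]
    rw [genA, dif_pos (mem_lA x hx6)])
  rw [e, letterPerm, dif_pos hx]
  rfl⟩

theorem wordsJ_lt : (JTwoData.wordsJ.all fun w => w.all fun x => decide (x < 5)) = true ∧
    JTwoData.wordsJ.length = 6 ∧ JTwoData.permJ.length = 5 := by decide +kernel

/-- The check of the letters on a hundred points. -/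
noncomputable def rowsJ : Bool :=
  (List.range 5).all fun x =>
    PermChain.ok 100 (JTwoData.permJ.getD x (0, 0)) &&
    PermChain.sift 100 (HallJankoData.level1 :: HallJanko.chain₁) (JTwoData.permJ.getD x (0, 0)).1 &&
    (List.range 100).all fun i => Nat.beq (tableQ.img x (JTwoData.ptsJ.getD i 0))
      (JTwoData.ptsJ.getD (PermChain.get (JTwoData.permJ.getD x (0, 0)).1 i) 0)

theorem rowsJ_ok : rowsJ = true := by decide +kernel

theorem letterJ (x : ℕ) (hx : x < 5) :
    PermChain.ok 100 (JTwoData.permJ.getD x (0, 0)) = true ∧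
    PermChain.toPerm 100 (JTwoData.permJ.getD x (0, 0)) ∈ Icosian.J ∧
    ∀ i, SuzP.hom (SuzP.coding.gen x) (pJ i) = pJ (PermChain.toPerm 100 (JTwoData.permJ.getD x (0, 0)) i) := by
  have h := List.all_eq_true.mp rowsJ_ok x (List.mem_range.mpr hx)
  simp only [Bool.and_eq_true] at h
  obtain ⟨⟨hok, hs⟩, hi⟩ := h
  refine ⟨hok, PermChain.mem_grp_of_sift _ _ _ HallJanko.check_chain (PermChain.rep_fst hok) hs, fun i => ?_⟩
  rw [pJ, letterQ x (by omega)]
  refine congrArg pQ (Fin.ext ?_)
  have h' := Nat.eq_of_beq_eq_true (List.all_eq_true.mp hi i (List.mem_range.mpr i.2))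
  rw [PermChain.rep_fst hok i] at h'
  have hu : ∀ i : Fin 100, JTwoData.ptsJ.getD i 0 = (pJ' i : ℕ) := fun _ => List.getD_eq_getElem _ _ _
  rw [hu, hu] at h'
  rw [letterPerm, dif_pos (show x < tableQ.nl by rw [nums.2.2.1]; omega)]
  exact h'

theorem existsJ : ∀ g ∈ grpJ, ∃ π : Equiv.Perm (Fin 100), ∀ i, SuzP.hom g (pJ i) = pJ (π i) :=
  exists_restrict pJ _ fun x hx => ⟨_, (letterJ x (by simp at hx; omega)).2.2⟩

/-- The action on a hundred points. -/
noncomputable def rho : grpJ →* Equiv.Perm (Fin 100) := restrictHom pJ_injective existsJ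

/-- A letter of the subgroup. -/
noncomputable def genJ (x : ℕ) : grpJ :=
  if h : x ∈ [0, 1, 2, 3, 4] then ⟨SuzP.coding.gen x, Subgroup.subset_closure ⟨x, h, rfl⟩⟩ else 1

theorem rho_gen (x : ℕ) (hx : x < 5) :
    rho (genJ x) = PermChain.toPerm 100 (JTwoData.permJ.getD x (0, 0)) := by
  refine Equiv.ext fun i => pJ_injective ?_
  have hm : x ∈ [0, 1, 2, 3, 4] := by simp; omega
  refine (restrictHom_spec pJ_injective existsJ (genJ x) i).symm.trans ?_
  rw [genJ, dif_pos hm]
  exact (letterJ x hx).2.2 i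

theorem range_rho_le : rho.range ≤ Icosian.J := by
  rintro _ ⟨⟨g, hg⟩, rfl⟩
  induction hg using Subgroup.closure_induction with
  | mem g hg =>
    obtain ⟨x, hx, rfl⟩ := hg
    have hx5 : x < 5 := by simp at hx; omega
    have := rho_gen x hx5
    rw [genJ, dif_pos (show x ∈ [0, 1, 2, 3, 4] from hx)] at this
    rw [this]
    exact (letterJ x hx5).2.1
  | one => exact (map_one rho).symm ▸ one_mem _
  | mul a b ha hb ia ib =>
    exact (show rho ⟨a * b, mul_mem ha hb⟩ = rho ⟨a, ha⟩ * rho ⟨b, hb⟩ from map_mul rho ⟨a, ha⟩ ⟨b, hb⟩).symm ▸ mul_mem ia ib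
  | inv a ha ia =>
    exact (show rho ⟨a⁻¹, inv_mem ha⟩ = (rho ⟨a, ha⟩)⁻¹ from map_inv rho ⟨a, ha⟩).symm ▸ inv_mem ia

/-- A word in the letters on a hundred points. -/
def wordN : List ℕ → ℕ
  | [] => PermChain.pack (List.range 100)
  | x :: w => PermChain.comp 100 (JTwoData.permJ.getD x (0, 0)).1 (wordN w)

theorem wordsJ_ok : ((List.range 6).all fun k =>
    PermChain.same 100 (Icosian.involN k).1 (wordN (JTwoData.wordsJ.getD k []))) = true := by decide +kernel

theorem idJ_ok : ((List.range 100).all fun i => PermChain.get (PermChain.pack (List.range 100)) i == i) = true := by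
  decide +kernel

theorem wordN_mem : ∀ w : List ℕ, (∀ x ∈ w, x < 5) → ∃ g : grpJ, PermChain.Rep (wordN w) (rho g)
  | [], _ => ⟨1, fun i => by
      rw [map_one]
      simpa [wordN] using List.all_eq_true.mp idJ_ok i (List.mem_range.mpr i.2)⟩
  | x :: w, h => by
      obtain ⟨g, hg⟩ := wordN_mem w fun y hy => h y (List.mem_cons_of_mem _ hy)
      have hx := h x List.mem_cons_self
      refine ⟨genJ x * g, ?_⟩
      rw [map_mul, rho_gen x hx]
      exact PermChain.rep_comp (PermChain.rep_fst (letterJ x hx).1) hg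

theorem J_le_range : Icosian.J ≤ rho.range := by
  rw [Icosian.J_eq, Subgroup.closure_le]
  rintro _ ⟨j, rfl⟩
  have hw : ∀ x ∈ JTwoData.wordsJ.getD (j : ℕ) [], x < 5 := by
    rw [List.getD_eq_getElem _ _ (by rw [wordsJ_lt.2.1]; exact j.2)]
    intro x hx
    exact of_decide_eq_true (List.all_eq_true.mp (List.all_eq_true.mp wordsJ_lt.1 _ (List.getElem_mem _)) x hx)
  obtain ⟨g, hg⟩ := wordN_mem _ hw
  exact ⟨g, (PermChain.perm_eq (List.all_eq_true.mp wordsJ_ok j (List.mem_range.mpr j.2))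
    (PermChain.rep_fst (Icosian.invol_okAt (Icosian.root j))) hg).symm⟩

theorem card_grpJ_le : Nat.card grpJ ≤ 604800 ∧ Nat.card grpJ ≠ 0 := by
  have h := card_le_of_relIndex (SuzP.coding.sub_mono (by decide)) SuzP.relIndex_A SuzP.card_A
  exact ⟨h.1.trans (by norm_num), h.2⟩

theorem card_range : Nat.card rho.range = 604800 := by
  rw [le_antisymm range_rho_le J_le_range]; exact Icosian.card_J

theorem rho_injective : Function.Injective rho := by
  haveI : Finite grpJ := Nat.finite_of_card_ne_zero card_grpJ_le.2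
  have hb : Function.Bijective rho.rangeRestrict :=
    (Nat.bijective_iff_surjective_and_card _).2 ⟨rho.rangeRestrict_surjective, by
      have := Nat.card_le_card_of_surjective _ rho.rangeRestrict_surjective
      rw [card_range] at this ⊢
      exact le_antisymm card_grpJ_le.1 this⟩
  exact fun a b e => hb.1 (Subtype.ext e)

/-- The subgroup is the Hall-Janko group. -/
noncomputable def equivJTwo : grpJ ≃* Cfsg.Spor.J2 :=
  ((MonoidHom.ofInjective rho_injective).trans
    (MulEquiv.subgroupCongr (le_antisymm range_rho_le J_le_range))).trans Icosian.equivJ.symm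

theorem card_grpJ : Nat.card grpJ = 604800 := by
  rw [Nat.card_congr (MonoidHom.ofInjective rho_injective).toEquiv, card_range]

theorem grpJ_le : grpJ ≤ grpA := SuzP.coding.sub_mono (by decide)

noncomputable local instance actQ : MulAction grpA (Fin tableQ.N) := MulAction.compHom _ psi

/-- The origin. -/
def orig : Fin tableQ.N := ⟨0, Nat.succ_pos 415⟩

/-- The point stabiliser. -/
noncomputable abbrev stabQ : Subgroup grpA := MulAction.stabilizer grpA orig

theorem fix_ok : ((List.range 5).all fun x => Nat.beq (tableQ.img x 0) 0) = true := by decide +kernel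

theorem searchQ_ok : tableQ.orbitOK [0, 1, 2, 3, 4, 5] 0 JTwoData.searchQ = true ∧
    JTwoData.searchQ.length = 415 := by decide +kernel

theorem transitive (u : Fin tableQ.N) : ∃ g : grpA, psi g orig = u := by
  obtain ⟨h1, h2⟩ := PTab.orbit_eq psi_acts slpQ_ok (S := [0, 1, 2, 3, 4, 5]) (fun r hr => by
    have : r < 6 := by simp at hr; omega
    rw [nums.2.2.1]; omega) orig _ searchQ_ok.1
  have hu : u ∈ MulAction.orbit (Subgroup.closure (tableQ.rowSet psi genA [0, 1, 2, 3, 4, 5])) orig := by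
    rw [h1, show tableQ.maskSet (tableQ.orbitMask [0, 1, 2, 3, 4, 5] orig JTwoData.searchQ) = Finset.univ from
      Finset.eq_univ_of_card _ (by rw [h2, searchQ_ok.2, Fintype.card_fin]; rfl)]
    simp
  obtain ⟨⟨π, hπ⟩, rfl⟩ := hu
  have : Subgroup.closure (tableQ.rowSet psi genA [0, 1, 2, 3, 4, 5]) ≤ psi.range :=
    (Subgroup.closure_le _).mpr (by rintro _ ⟨r, -, rfl⟩; exact ⟨_, rfl⟩)
  obtain ⟨g, rfl⟩ := this hπ
  exact ⟨g, rfl⟩

theorem card_stabQ : Nat.card stabQ = 604800 := by
  have horb : MulAction.orbit grpA orig = Set.univ := Set.eq_univ_of_forall transitive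
  have hi : stabQ.index = 416 := by
    rw [MulAction.index_stabilizer, horb, Set.ncard_univ, Nat.card_eq_fintype_card, Fintype.card_fin]
    rfl
  have h := stabQ.card_mul_index
  rw [hi, card_grpA] at h
  omega

theorem grpJ_fix : grpJ.subgroupOf grpA ≤ stabQ := by
  have key : ∀ g ∈ grpJ, SuzP.hom g (pQ orig) = pQ orig := by
    intro g hg
    induction hg using Subgroup.closure_induction with
    | mem g hg =>
      obtain ⟨x, hx, rfl⟩ := hg
      have hx5 : x < 5 := by simp at hx; omega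
      rw [letterQ x (by omega)]
      refine congrArg pQ (Fin.ext ?_)
      rw [letterPerm, dif_pos (show x < tableQ.nl by rw [nums.2.2.1]; omega)]
      exact Nat.eq_of_beq_eq_true (List.all_eq_true.mp fix_ok x (List.mem_range.mpr hx5))
    | one => simp
    | mul a b _ _ ha hb => rw [map_mul, Equiv.Perm.mul_apply, hb, ha]
    | inv a _ ha => rw [map_inv, Equiv.Perm.inv_eq_iff_eq, ha]
  intro g hg
  exact pQ_injective ((psi_spec g orig).symm.trans (key g hg))

theorem stabQ_eq : stabQ = grpJ.subgroupOf grpA := by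
  haveI : Finite grpA := Nat.finite_of_card_ne_zero (by rw [card_grpA]; norm_num)
  refine (Subgroup.eq_of_le_of_card_ge grpJ_fix ?_).symm
  rw [card_stabQ, Nat.card_congr (Subgroup.subgroupOfEquivOfLe grpJ_le).toEquiv, card_grpJ]

/-- The point stabiliser is the Hall-Janko group. -/
noncomputable def stabEquiv : stabQ ≃* Cfsg.Spor.J2 :=
  ((MulEquiv.subgroupCongr stabQ_eq).trans (Subgroup.subgroupOfEquivOfLe grpJ_le)).trans equivJTwo

theorem el_stab_zero : ∀ r ∈ [0, 1, 2, 3, 4], tableQ.img r 0 = 0 := by decide +kernel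

theorem el_mem_stab {r : ℕ} (hr : r < tableQ.nl + tableQ.slp.length) (b : Fin tableQ.N)
    (h : tableQ.img r b = b) : tableQ.el genA r ∈ MulAction.stabilizer grpA b := by
  refine Fin.ext ?_
  show ((psi (tableQ.el genA r) b : Fin tableQ.N) : ℕ) = b
  rw [psi_acts.el_img slpQ_ok r hr b, h]

theorem stabQ_map_le : stabQ.map psi ≤ Subgroup.closure (tableQ.rowSet psi genA [0, 1, 2, 3, 4]) := by
  rw [stabQ_eq]
  rintro _ ⟨⟨g, hgA⟩, hg, rfl⟩
  change g ∈ grpJ at hg
  induction hg using Subgroup.closure_induction with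
  | mem g hg =>
    obtain ⟨x, hx, rfl⟩ := hg
    have hx5 : x < 5 := by simp at hx; omega
    refine Subgroup.subset_closure ⟨x, hx, ?_⟩
    show psi (tableQ.el genA x) = _
    rw [PTab.el, if_pos (show x < tableQ.nl by rw [nums.2.2.1]; omega), genA, dif_pos (mem_lA x (by omega))]
  | one => exact (map_one psi).symm ▸ one_mem _
  | mul a b ha hb ia ib =>
    exact (show psi ⟨a * b, hgA⟩ = psi ⟨a, grpJ_le ha⟩ * psi ⟨b, grpJ_le hb⟩ from map_mul psi ⟨a, grpJ_le ha⟩ ⟨b, grpJ_le hb⟩).symm ▸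
      mul_mem (ia _) (ib _)
  | inv a ha ia =>
    exact (show psi ⟨a⁻¹, hgA⟩ = (psi ⟨a, grpJ_le ha⟩)⁻¹ from map_inv psi ⟨a, grpJ_le ha⟩).symm ▸ inv_mem (ia _)

/-- Row checks: the rows fix a point and every row is present. -/
noncomputable def rowsFix (S : List ℕ) (b : ℕ) : Bool :=
  S.all fun r => Nat.blt r (tableQ.nl + tableQ.slp.length) && Nat.beq (tableQ.img r b) b

/-- The masks of a list of orbits. -/
noncomputable def masks (S : List ℕ) (subs : List (ℕ × List (ℕ × ℕ × ℕ))) : List ℕ :=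
  subs.map fun e => tableQ.orbitMask S e.1 e.2

/-- The masks partition the given set, and the first one is the point. -/
noncomputable def partOK (S : List ℕ) (b om : ℕ) (subs : List (ℕ × List (ℕ × ℕ × ℕ))) : Bool :=
  (subs.all fun e => Nat.blt e.1 416 && tableQ.orbitOK S e.1 e.2) &&
  (List.range 416).all fun u =>
    Nat.beq ((List.range subs.length).countP fun i => Nat.testBit ((masks S subs).getD i 0) u)
      (bif Nat.testBit om u then 1 else 0) &&
      (Nat.testBit ((masks S subs).getD 0 0) u == Nat.beq u b)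

/-- A point stabiliser inside `K` is maximal in `K`. -/
theorem coatom (K : Subgroup grpA) (b : Fin tableQ.N) (om : ℕ)
    (hinv : ∀ k ∈ K, ∀ u : Fin tableQ.N, Nat.testBit om u = true → Nat.testBit om (psi k u : Fin tableQ.N) = true)
    (htr : ∀ u : Fin tableQ.N, Nat.testBit om u = true → ∃ k ∈ K, psi k b = u)
    (hb : Nat.testBit om b = true)
    (S : List ℕ) (hS : rowsFix S b = true) (hSK : ∀ r ∈ S, tableQ.el genA r ∈ K)
    (subs : List (ℕ × List (ℕ × ℕ × ℕ))) (hpart : partOK S b om subs = true)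
    (sz : List ℕ) (hsz : (subs.map fun e => e.2.length + 1) = sz)
    (hlen : 2 ≤ sz.length)
    (hdvd : ∀ T : Finset (Fin sz.length), (⟨0, by omega⟩ : Fin sz.length) ∈ T →
      T ≠ {(⟨0, by omega⟩ : Fin sz.length)} → T ≠ Finset.univ →
      ¬ (∑ i ∈ T, sz[i]) ∣ ∑ i : Fin sz.length, sz[i]) :
    IsCoatom ((MulAction.stabilizer grpA b).subgroupOf K) := by
  haveI : NeZero sz.length := ⟨by omega⟩
  have hl : subs.length = sz.length := by rw [← hsz, List.length_map]
  simp only [partOK, Bool.and_eq_true, List.all_eq_true, Nat.blt_eq, List.mem_range, Nat.beq_eq,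
    beq_iff_eq] at hpart
  obtain ⟨hsub, hu⟩ := hpart
  have hSr : ∀ r ∈ S, r < tableQ.nl + tableQ.slp.length ∧ tableQ.img r b = b := fun r hr => by
    have := List.all_eq_true.mp hS r hr
    simp only [Bool.and_eq_true, Nat.blt_eq, Nat.beq_eq] at this
    exact this
  set m : ℕ → ℕ := fun i => (masks S subs).getD i 0 with hm
  have huniq : ∀ u : Fin tableQ.N, ((Finset.range subs.length).filter fun i => Nat.testBit (m i) u = true).card =
      bif Nat.testBit om u then 1 else 0 := fun u => by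
    rw [← (hu u u.2).1, List.countP_eq_length_filter,
      ← List.toFinset_card_of_nodup (List.nodup_range.filter _), List.toFinset_filter, List.toFinset_range]
  have hcl : ∀ u : Fin tableQ.N, ∃ c : Fin sz.length,
      Nat.testBit om u = true → Nat.testBit (m c) u = true := fun u => by
    by_cases h : Nat.testBit om u = true
    · have h1 := huniq u
      rw [h] at h1
      obtain ⟨c, hc⟩ := Finset.card_eq_one.mp h1
      have hc' := hc.ge (Finset.mem_singleton_self c)
      rw [Finset.mem_filter, Finset.mem_range] at hc'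
      exact ⟨⟨c, hl ▸ hc'.1⟩, fun _ => hc'.2⟩
    · exact ⟨0, fun h' => absurd h' h⟩
  choose cls hcls using hcl
  have hback : ∀ (u : Fin tableQ.N) (i : Fin sz.length), Nat.testBit (m i) u = true →
      Nat.testBit om u = true ∧ cls u = i := fun u i hi => by
    have h1 := huniq u
    have himem : (i : ℕ) ∈ (Finset.range subs.length).filter fun i => Nat.testBit (m i) u = true :=
      Finset.mem_filter.mpr ⟨Finset.mem_range.mpr (hl.symm ▸ i.2), hi⟩
    cases hom : Nat.testBit om u with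
    | false =>
      rw [hom] at h1
      exact absurd h1 (Finset.card_pos.mpr ⟨_, himem⟩).ne'
    | true =>
      refine ⟨rfl, ?_⟩
      rw [hom] at h1
      obtain ⟨c, hc⟩ := Finset.card_eq_one.mp h1
      have h2 : (cls u : ℕ) ∈ (Finset.range subs.length).filter fun i => Nat.testBit (m i) u = true :=
        Finset.mem_filter.mpr ⟨Finset.mem_range.mpr (hl.symm ▸ (cls u).2), hcls u hom⟩
      rw [hc, Finset.mem_singleton] at himem h2
      exact Fin.ext (h2.trans himem.symm)
  have horb : ∀ i : Fin sz.length, ∃ v : Fin tableQ.N, ∃ L : List (ℕ × ℕ × ℕ),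
      m i = tableQ.orbitMask S v L ∧ tableQ.orbitOK S v L = true ∧ sz[i] = L.length + 1 := fun i => by
    have hi : (i : ℕ) < subs.length := hl.symm ▸ i.2
    obtain ⟨h1, h2⟩ := hsub _ (List.getElem_mem hi)
    refine ⟨⟨subs[(i : ℕ)].1, h1⟩, subs[(i : ℕ)].2, ?_, h2, ?_⟩
    · rw [hm]
      show (masks S subs).getD i 0 = _
      rw [List.getD_eq_getElem _ _ (by simpa [masks] using hi)]
      simp [masks]
    · show sz[(i : ℕ)] = _
      simp only [← hsz, List.getElem_map]
  have hP : Subgroup.closure (tableQ.rowSet psi genA S) ≤ (K ⊓ MulAction.stabilizer grpA b).map psi :=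
    (Subgroup.closure_le _).mpr (by
      rintro _ ⟨r, hr, rfl⟩
      exact ⟨_, ⟨hSK r hr, el_mem_stab (hSr r hr).1 b (hSr r hr).2⟩, rfl⟩)
  have hsum : ∀ T : Finset (Fin sz.length), ∑ i ∈ T, sz[i] = ∑ i ∈ T, (fun i : Fin sz.length => sz[i]) i :=
    fun _ => rfl
  have key := SuborbitMaximal.isCoatom_stabilizer (G := K) (X := Fin tableQ.N) (a := b)
    (Ω := {u | Nat.testBit om u = true}) (Set.toFinite _) (fun k u hu => hinv k k.2 u hu) hb
    (fun u hu => by obtain ⟨k, hk, e⟩ := htr u hu; exact ⟨⟨k, hk⟩, e⟩) cls (fun i => sz[i])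
    (fun u hu' => ⟨fun h => by
      have := hcls u hu'
      rw [h] at this
      have h2 := (hu u u.2).2
      simp only [hm, Fin.val_zero] at this
      rw [this] at h2
      exact Fin.ext (Nat.eq_of_beq_eq_true h2.symm),
      fun h => (hback u 0 (by
        subst h
        show ((masks S subs).getD 0 0).testBit _ = true
        rw [(hu _ u.2).2]
        exact Nat.beq_refl _)).2⟩)
    (fun x hx y hy e => by
      obtain ⟨v, L, hmv, hok, -⟩ := horb (cls x)
      obtain ⟨h1, -⟩ := PTab.orbit_eq psi_acts slpQ_ok (fun r hr => (hSr r hr).1) v L hok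
      have mem : ∀ w : Fin tableQ.N, Nat.testBit (m (cls x)) w = true →
          w ∈ MulAction.orbit (Subgroup.closure (tableQ.rowSet psi genA S)) v := fun w hw => by
        rw [h1, Finset.mem_coe, PTab.mem_maskSet, ← hmv]
        exact hw
      obtain ⟨⟨p, hp⟩, hpx⟩ := mem x (hcls x hx)
      obtain ⟨⟨q, hq⟩, hqy⟩ := mem y (e ▸ hcls y hy)
      obtain ⟨k, ⟨hkK, hkb⟩, hk⟩ := hP (mul_mem hq (inv_mem hp))
      refine ⟨⟨k, hkK⟩, hkb, ?_⟩
      show psi k x = y
      rw [hk, Equiv.Perm.mul_apply]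
      have : p v = x := hpx
      rw [← this, Equiv.Perm.inv_def, Equiv.symm_apply_apply]
      exact hqy)
    (fun i => by
      obtain ⟨v, L, hmv, hok, hszi⟩ := horb i
      obtain ⟨-, h2⟩ := PTab.orbit_eq psi_acts slpQ_ok (fun r hr => (hSr r hr).1) v L hok
      rw [hszi, ← h2, ← hmv, ← Set.ncard_coe_finset]
      congr 1
      ext u
      simp only [Set.mem_setOf_eq, Finset.mem_coe, PTab.mem_maskSet]
      exact ⟨fun h => h.2 ▸ hcls u h.1, fun h => hback u i h⟩)
    (by omega) (fun i => by obtain ⟨v, L, -, -, hszi⟩ := horb i; rw [hszi]; omega) hdvd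
  exact key

theorem partTop : partOK [0, 1, 2, 3, 4] 0 (2 ^ 416 - 1)
    ((0, []) :: [(JTwoData.baseA, JTwoData.orbitA), (JTwoData.baseB, JTwoData.orbitB)]) = true ∧
    rowsFix [0, 1, 2, 3, 4] 0 = true ∧
    (((0, []) :: [(JTwoData.baseA, JTwoData.orbitA), (JTwoData.baseB, JTwoData.orbitB)]).map
      fun e : ℕ × List (ℕ × ℕ × ℕ) => e.2.length + 1) = [1, 100, 315] := by decide +kernel

theorem partA : partOK JTwoData.stabA JTwoData.baseA
    (tableQ.orbitMask [0, 1, 2, 3, 4] JTwoData.baseA JTwoData.orbitA) JTwoData.subA = true ∧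
    rowsFix JTwoData.stabA JTwoData.baseA = true ∧ rowsFix JTwoData.stabA 0 = true ∧
    (JTwoData.subA.map fun e => e.2.length + 1) = [1, 36, 63] ∧
    tableQ.orbitOK [0, 1, 2, 3, 4] JTwoData.baseA JTwoData.orbitA = true ∧
    Nat.testBit (tableQ.orbitMask [0, 1, 2, 3, 4] JTwoData.baseA JTwoData.orbitA) JTwoData.baseA = true ∧
    JTwoData.baseA < 416 := by decide +kernel

theorem partB : partOK JTwoData.stabB JTwoData.baseB
    (tableQ.orbitMask [0, 1, 2, 3, 4] JTwoData.baseB JTwoData.orbitB) JTwoData.subB = true ∧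
    rowsFix JTwoData.stabB JTwoData.baseB = true ∧ rowsFix JTwoData.stabB 0 = true ∧
    (JTwoData.subB.map fun e => e.2.length + 1) = [1, 10, 32, 32, 80, 160] ∧
    tableQ.orbitOK [0, 1, 2, 3, 4] JTwoData.baseB JTwoData.orbitB = true ∧
    Nat.testBit (tableQ.orbitMask [0, 1, 2, 3, 4] JTwoData.baseB JTwoData.orbitB) JTwoData.baseB = true ∧
    JTwoData.baseB < 416 := by decide +kernel

theorem stabQ_maximal : IsCoatom stabQ := by
  have h := coatom ⊤ orig (2 ^ 416 - 1) (fun k _ u _ => Nat.testBit_two_pow_sub_one 416 _ ▸ decide_eq_true (psi k u).2)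
    (fun u _ => by obtain ⟨k, hk⟩ := transitive u; exact ⟨k, Subgroup.mem_top k, hk⟩)
    (by rw [Nat.testBit_two_pow_sub_one]; rfl) _ partTop.2.1 (fun r _ => Subgroup.mem_top _) _ partTop.1 _ partTop.2.2
    (by decide) (by decide +kernel)
  have := (OrderIso.isCoatom_iff (MulEquiv.mapSubgroup Subgroup.topEquiv) _).mpr h
  convert this using 1
  ext g
  simp [MulEquiv.mapSubgroup, Subgroup.mem_subgroupOf]

/-- The stabiliser in `stabQ` of a point in the orbit of a base point is maximal in `stabQ`. -/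
theorem orbit_coatom (base : ℕ) (L : List (ℕ × ℕ × ℕ)) (S : List ℕ) (subs : List (ℕ × List (ℕ × ℕ × ℕ)))
    (sz : List ℕ)
    (h : partOK S base (tableQ.orbitMask [0, 1, 2, 3, 4] base L) subs = true ∧
      rowsFix S base = true ∧ rowsFix S 0 = true ∧
      (subs.map fun e => e.2.length + 1) = sz ∧
      tableQ.orbitOK [0, 1, 2, 3, 4] base L = true ∧
      Nat.testBit (tableQ.orbitMask [0, 1, 2, 3, 4] base L) base = true ∧ base < 416)
    (hlen : 2 ≤ sz.length)
    (hdvd : ∀ T : Finset (Fin sz.length), (⟨0, by omega⟩ : Fin sz.length) ∈ T →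
      T ≠ {(⟨0, by omega⟩ : Fin sz.length)} → T ≠ Finset.univ →
      ¬ (∑ i ∈ T, sz[i]) ∣ ∑ i : Fin sz.length, sz[i])
    (u : Fin tableQ.N) (hu : Nat.testBit (tableQ.orbitMask [0, 1, 2, 3, 4] base L) u = true) :
    IsCoatom ((MulAction.stabilizer grpA u).subgroupOf stabQ) := by
  obtain ⟨hp, hfb, hf0, hs, hok, hbb, hlt⟩ := h
  set b : Fin tableQ.N := ⟨base, hlt⟩
  have hr5 : ∀ r ∈ [0, 1, 2, 3, 4], r < tableQ.nl + tableQ.slp.length := fun r hr => by
    have : r < 5 := by simp at hr; omega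
    rw [nums.2.2.1]; omega
  obtain ⟨h1, -⟩ := PTab.orbit_eq psi_acts slpQ_ok hr5 b L hok
  have horb : ∀ w : Fin tableQ.N, Nat.testBit (tableQ.orbitMask [0, 1, 2, 3, 4] base L) w = true ↔
      ∃ k ∈ stabQ, psi k b = w := fun w => by
    rw [← PTab.mem_maskSet, ← Finset.mem_coe, ← h1]
    constructor
    · rintro ⟨⟨π, hπ⟩, rfl⟩
      have hle : Subgroup.closure (tableQ.rowSet psi genA [0, 1, 2, 3, 4]) ≤ stabQ.map psi :=
        (Subgroup.closure_le _).mpr (by
          rintro _ ⟨r, hr, rfl⟩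
          exact ⟨_, el_mem_stab (hr5 r hr) orig (el_stab_zero r hr), rfl⟩)
      obtain ⟨k, hk, rfl⟩ := hle hπ
      exact ⟨k, hk, rfl⟩
    · rintro ⟨k, hk, rfl⟩
      exact ⟨⟨psi k, stabQ_map_le ⟨k, hk, rfl⟩⟩, rfl⟩
  have hmain := coatom stabQ b _ (fun k hk w hw => by
      obtain ⟨k', hk', e⟩ := (horb w).mp hw
      exact (horb _).mpr ⟨k * k', mul_mem hk hk', by rw [map_mul, Equiv.Perm.mul_apply, e]⟩)
    (fun w hw => (horb w).mp hw) hbb S hfb (fun r hr => by
      have := List.all_eq_true.mp hf0 r hr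
      simp only [Bool.and_eq_true, Nat.blt_eq, Nat.beq_eq] at this
      exact el_mem_stab this.1 orig this.2) subs hp sz hs hlen hdvd
  obtain ⟨k, hk, rfl⟩ := (horb u).mp hu
  have := (OrderIso.isCoatom_iff (MulEquiv.mapSubgroup (MulAut.conj (⟨k, hk⟩ : stabQ))) _).mpr hmain
  convert this using 1
  ext g
  constructor
  · intro hg
    refine ⟨(⟨k, hk⟩ : stabQ)⁻¹ * g * ⟨k, hk⟩, ?_, by simp [mul_assoc]⟩
    show psi (k⁻¹ * g * k) b = b
    have hg' : psi g (psi k b) = psi k b := hg
    rw [map_mul, map_mul, Equiv.Perm.mul_apply, Equiv.Perm.mul_apply, hg', map_inv, Equiv.Perm.inv_def, Equiv.symm_apply_apply]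
  · rintro ⟨y, hy, rfl⟩
    have hy' : psi y b = b := hy
    show psi (k * y * k⁻¹) (psi k b) = psi k b
    rw [map_mul, map_mul, map_inv, Equiv.Perm.mul_apply, Equiv.Perm.mul_apply, Equiv.Perm.inv_def, Equiv.symm_apply_apply, hy']

theorem cover_ok : ((List.range 416).all fun u => Nat.beq u 0 ||
    Nat.testBit (tableQ.orbitMask [0, 1, 2, 3, 4] JTwoData.baseA JTwoData.orbitA) u ||
    Nat.testBit (tableQ.orbitMask [0, 1, 2, 3, 4] JTwoData.baseB JTwoData.orbitB) u) = true := by decide +kernel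

theorem stabQ_inter (x : grpA) (hx : x ∉ stabQ) :
    IsCoatom ((stabQ ⊓ stabQ.map (MulAut.conj x).toMonoidHom).subgroupOf stabQ) := by
  have e : stabQ.map (MulAut.conj x).toMonoidHom = MulAction.stabilizer grpA (x • orig) :=
    (MulAction.stabilizer_smul_eq_stabilizer_map_conj x orig).symm
  rw [Subgroup.inf_subgroupOf_left, e]
  have h := List.all_eq_true.mp cover_ok (x • orig : Fin tableQ.N) (List.mem_range.mpr (x • orig).2)
  simp only [Bool.or_eq_true, Nat.beq_eq] at h
  rcases h with (h | h) | h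
  · exact absurd (MulAction.mem_stabilizer_iff.mpr (Fin.ext h : x • orig = orig)) hx
  · exact orbit_coatom _ _ _ _ _ partA (by decide) (by decide +kernel) _ h
  · exact orbit_coatom _ _ _ _ _ partB (by decide) (by decide +kernel) _ h

/-- The Chevalley group G2(4) is extremely primitive on the cosets of a Hall-Janko subgroup. -/
theorem exists_extreme {F : Type*} [Field F] [Fintype F] (hF : Fintype.card F = 4) :
    ∃ H : Subgroup (Cfsg.Lie.chevG2.group F), IsCoatom H ∧ Cfsg.Spor.IsoJ2 H ∧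
      ∀ x : Cfsg.Lie.chevG2.group F, x ∉ H →
        IsCoatom ((H ⊓ H.map (MulAut.conj x).toMonoidHom).subgroupOf H) := by
  let e₀ : FieldFour ≃+* F := FiniteField.ringEquivOfCardEq (FieldFour.card_eq.trans hF.symm)
  let E : grpA ≃* Cfsg.Lie.chevG2.group F :=
    SuzG.equivG2.trans (Chevalley.G2Two.groupEquiv e₀ Cfsg.Lie.chevG2)
  refine ⟨stabQ.map E.toMonoidHom, ?_, ⟨(stabQ.equivMapOfInjective _ E.injective).symm.trans stabEquiv⟩, fun x hx => ?_⟩
  · exact (OrderIso.isCoatom_iff (MulEquiv.mapSubgroup E) _).mpr stabQ_maximal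
  · obtain ⟨y, rfl⟩ := E.surjective x
    have hy : y ∉ stabQ := fun h => hx ⟨y, h, rfl⟩
    have := (OrderIso.isCoatom_iff (MulEquiv.mapSubgroup (stabQ.equivMapOfInjective E.toMonoidHom E.injective)) _).mpr
      (stabQ_inter y hy)
    convert this using 1
    ext g
    obtain ⟨g, rfl⟩ := (stabQ.equivMapOfInjective E.toMonoidHom E.injective).surjective g
    refine Iff.trans ?_ (Subgroup.mem_map_equiv.symm)
    have hv : ((stabQ.equivMapOfInjective E.toMonoidHom E.injective g : stabQ.map E.toMonoidHom) :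
        Cfsg.Lie.chevG2.group F) = E (g : grpA) := rfl
    simp only [MulEquiv.symm_apply_apply, Subgroup.mem_subgroupOf, Subgroup.mem_inf,
      Subgroup.mem_map, MulEquiv.coe_toMonoidHom, MulAut.conj_apply,
      exists_exists_and_eq_and, ← map_inv, ← map_mul, hv, E.injective.eq_iff, exists_eq_right]

end CfsgLib.Sporadic.CosetCert.JTwoG
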