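import Cfsg.Agent.Lib.Sporadic.G2FourChecks
import Cfsg.Agent.S1059

/-!
# The subgroup of index 1782 of the Suzuki group is G2(4)
-/

set_option maxRecDepth 100000

open Cfsg.Spor Cfsg.Lie CfsgLib.Sporadic.G2Four Matrix

namespace CfsgLib.Sporadic.CosetCert.SuzG

open G2FourData (tableH tableM)

attribute [local irreducible] codeAt moveAt scalN opN ofVecG entsAt pointAt

/-- The letters of the subgroup. -/
abbrev lA : List ℕ := [0, 1, 2, 3, 4, 5]

/-- The subgroup. -/
noncomputable abbrev grpA : Subgroup Suz := SuzP.sub lA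

/-- The number of points. -/
noncomputable abbrev NG : ℕ := tableM.N

/-- The vector of a point. -/
noncomputable def pointVecG (i : Fin NG) : VecG := toVecG (codeAt i)

theorem ofN_ne : ∀ k < 4, k ≠ 0 → ofN k ≠ 0 := by decide

theorem exists_code : ∀ a : FieldFour, ∃ k < 4, ofN k = a := by
  intro a
  refine ⟨a.code, ?_⟩
  revert a
  decide

theorem pointVecG_eq {i j : Fin NG} {a : FieldFour} (ha : a ≠ 0)
    (h : pointVecG i = a • pointVecG j) : i = j := by
  have hc : ∀ i : Fin NG, codeCheck i = true := fun i => of_allBelow codes_ok i i.2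
  obtain ⟨k, hk, rfl⟩ := exists_code a
  have hcode : ∀ i : Fin NG, ofVecG (pointVecG i) = codeAt i := fun i => by
    have := hc i
    simp only [codeCheck, Bool.and_eq_true] at this
    exact Nat.eq_of_beq_eq_true this.1.1
  have hsc : ∀ i : Fin NG, (i : ℕ) ≠ 0 → ∀ k : ℕ, k = 2 ∨ k = 3 →
      codeAt i < scalN k (codeAt i) ∧ ofVecG (toVecG (scalN k (codeAt i))) = scalN k (codeAt i) := by
    intro i hi k hk
    have := hc i
    simp only [codeCheck, Bool.and_eq_true, Bool.or_eq_true, Nat.blt_eq, Nat.beq_eq] at this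
    rcases this.2 with h0 | ⟨⟨⟨h1, h2⟩, h3⟩, h4⟩
    · exact absurd h0 hi
    · rcases hk with rfl | rfl
      exacts [⟨h1, h3⟩, ⟨h2, h4⟩]
  have hmono : ∀ b, b < NG → ∀ a, a < b → codeAt a < codeAt b := by
    intro b
    induction b with
    | zero => intro _ a ha; omega
    | succ b ih =>
      intro hb a ha'
      have := hc ⟨b, by omega⟩
      simp only [codeCheck, Bool.and_eq_true, Bool.or_eq_true, Nat.blt_eq, Nat.beq_eq] at this
      have hN : NG = 1366 := rfl
      have hstep : codeAt b < codeAt (b + 1) := this.1.2.resolve_left (by omega)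
      rcases Nat.lt_or_eq_of_le (Nat.le_of_lt_succ ha') with h' | rfl
      · exact (ih (by omega) a h').trans hstep
      · exact hstep
  have hinj : ∀ i j : Fin NG, codeAt i = codeAt j → i = j := by
    intro i j e
    apply Fin.ext
    rcases Nat.lt_trichotomy (i : ℕ) j with h | h | h
    · have := hmono j j.2 i h; omega
    · exact h
    · have := hmono i i.2 j h; omega
  have hzero : ∀ i : Fin NG, (i : ℕ) = 0 → pointVecG i = 0 := by
    intro i hi
    funext x
    rw [pointVecG, hi, code_zero, toVecG]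
    show ofN (coordN 0 _) = 0
    rw [show coordN 0 (posI x) = 0 by simp [coordN, Nat.shiftRight_eq_div_pow], ofN_zero]
  by_cases hj : (j : ℕ) = 0
  · rw [hzero j hj, smul_zero] at h
    apply hinj
    rw [← hcode i, ← hcode j, h, hzero j hj]
  by_cases hi : (i : ℕ) = 0
  · rw [hzero i hi] at h
    have h0 : pointVecG j = 0 := (smul_eq_zero.1 h.symm).resolve_left ha
    apply hinj
    rw [← hcode i, ← hcode j, hzero i hi, h0]
  rcases (show k = 1 ∨ k = 2 ∨ k = 3 by
      rcases Nat.eq_zero_or_pos k with rfl | hp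
      · exact absurd ofN_zero ha
      · omega) with rfl | hk'
  · rw [show ofN 1 = 1 by decide, one_smul] at h
    apply hinj
    rw [← hcode i, ← hcode j, h]
  · exfalso
    have h1 := hsc j hj k hk'
    have e1 : codeAt i = scalN k (codeAt j) := by
      rw [← hcode i, h, ← h1.2, toVecG_scalN hk]
      rfl
    have hinv : ∀ k, k = 2 ∨ k = 3 → ∃ l, (l = 2 ∨ l = 3) ∧ ofN l * ofN k = 1 := by
      rintro k (rfl | rfl)
      · exact ⟨3, Or.inr rfl, by decide⟩
      · exact ⟨2, Or.inl rfl, by decide⟩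
    obtain ⟨l, hl, hlk⟩ := hinv k hk'
    have h2 := hsc i hi l hl
    have e2 : codeAt j = scalN l (codeAt i) := by
      rw [← hcode j, ← h2.2, toVecG_scalN (by omega)]
      show ofVecG (pointVecG j) = ofVecG (ofN l • pointVecG i)
      rw [h, smul_smul, hlk, one_smul]
    omega

/-- The elements permuting the points up to scalars. -/
noncomputable def keepG : Subgroup (GL Idx FieldFour) where
  carrier := {g | ∃ p : Equiv.Perm (Fin NG), ∀ i, ∃ a : FieldFour, a ≠ 0 ∧
    (g : MatG) *ᵥ pointVecG i = a • pointVecG (p i)}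
  one_mem' := ⟨1, fun i => ⟨1, one_ne_zero, by simp⟩⟩
  mul_mem' := by
    rintro g h ⟨p, hp⟩ ⟨q, hq⟩
    refine ⟨p * q, fun i => ?_⟩
    obtain ⟨b, hb, e1⟩ := hq i
    obtain ⟨a, ha, e2⟩ := hp (q i)
    refine ⟨b * a, mul_ne_zero hb ha, ?_⟩
    rw [Units.val_mul, ← Matrix.mulVec_mulVec, e1, Matrix.mulVec_smul, e2, smul_smul]
    rfl
  inv_mem' := by
    rintro g ⟨p, hp⟩
    refine ⟨p⁻¹, fun i => ?_⟩
    obtain ⟨a, ha, e⟩ := hp (p⁻¹ i)
    refine ⟨a⁻¹, inv_ne_zero ha, ?_⟩
    rw [show p (p⁻¹ i) = i from p.apply_symm_apply i] at e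
    have e2 : pointVecG i = a⁻¹ • ((g : MatG) *ᵥ pointVecG (p⁻¹ i)) := by
      rw [e, smul_smul, inv_mul_cancel₀ ha, one_smul]
    conv_lhs => rw [e2]
    rw [Matrix.mulVec_smul, Matrix.mulVec_mulVec, ← Units.val_mul, inv_mul_cancel, Units.val_one,
      Matrix.one_mulVec]

/-- The root element number `n`, as a matrix. -/
noncomputable def rootMat (n : ℕ) : MatG :=
  chevG2.xMat FieldFour ⟨n / 4 % 12, Nat.mod_lt _ (by decide)⟩ (ofN (n % 4))

theorem moveAt_lt {n : ℕ} (hn : n < 48) (i : Fin NG) : moveAt n i < NG := by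
  have h := of_allBelow (moveCheck_all n hn) i i.2
  simp only [Bool.and_eq_true, Nat.blt_eq] at h
  exact h.1

theorem rootMat_point {n : ℕ} (hn : n < 48) (i : Fin NG) :
    ∃ a : FieldFour, a ≠ 0 ∧ rootMat n *ᵥ pointVecG i = a • pointVecG ⟨_, moveAt_lt hn i⟩ := by
  have h := of_allBelow (moveCheck_all n hn) i i.2
  simp only [Bool.and_eq_true, Bool.or_eq_true, Nat.beq_eq] at h
  obtain ⟨hok, hmat⟩ := matCheck_all n hn
  have key : ∀ k : ℕ, k < 4 → k ≠ 0 →
      opN (entsAt n) (codeAt i) (codeAt i) = scalN k (codeAt (moveAt n i)) →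
      ∃ a : FieldFour, a ≠ 0 ∧ rootMat n *ᵥ pointVecG i = a • pointVecG ⟨_, moveAt_lt hn i⟩ := by
    intro k hk hk0 e
    refine ⟨ofN k, ofN_ne k hk hk0, ?_⟩
    have e2 := congrArg toVecG e
    rw [toVecG_opN_self _ hok, toVecG_scalN hk] at e2
    rw [rootMat, hmat]
    exact e2
  rcases h.2 with (h1 | h1) | h1
  · exact key 1 (by norm_num) (by norm_num) h1
  · exact key 2 (by norm_num) (by norm_num) h1
  · exact key 3 (by norm_num) (by norm_num) h1

theorem root_mem_keep {n : ℕ} (hn : n < 48) (g : GL Idx FieldFour) (hg : (g : MatG) = rootMat n) :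
    ∃ p : Equiv.Perm (Fin NG), (∀ i, ∃ a : FieldFour, a ≠ 0 ∧
      (g : MatG) *ᵥ pointVecG i = a • pointVecG (p i)) ∧ ∀ i, (p i : ℕ) = moveAt n i := by
  let f : Fin NG → Fin NG := fun i => ⟨_, moveAt_lt hn i⟩
  have hinj : Function.Injective f := by
    intro i j e
    obtain ⟨a, ha, ea⟩ := rootMat_point hn i
    obtain ⟨b, hb, eb⟩ := rootMat_point hn j
    change rootMat n *ᵥ pointVecG i = a • pointVecG (f i) at ea
    change rootMat n *ᵥ pointVecG j = b • pointVecG (f j) at eb
    rw [← hg] at ea eb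
    rw [← e] at eb
    refine pointVecG_eq (a := a * b⁻¹) (mul_ne_zero ha (inv_ne_zero hb)) ?_
    refine Matrix.mulVec_injective_iff_isUnit.mpr g.isUnit ?_
    show (g : MatG) *ᵥ pointVecG i = (g : MatG) *ᵥ ((a * b⁻¹) • pointVecG j)
    rw [Matrix.mulVec_smul, eb, ea, smul_smul, mul_assoc, inv_mul_cancel₀ hb, mul_one]
  refine ⟨Equiv.ofBijective f (Finite.injective_iff_bijective.mp hinj), fun i => ?_, fun i => rfl⟩
  rw [hg]
  exact rootMat_point hn i

theorem group_le_keepG : chevG2.group FieldFour ≤ keepG := by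
  refine (Subgroup.closure_le _).mpr ?_
  rintro g ⟨r, t, e⟩
  obtain ⟨k, hk, rfl⟩ := exists_code t
  have hr : r.val < 12 := r.2
  have hg : (g : MatG) = rootMat (4 * r.val + k) := by
    rw [e, rootMat]
    congr 1
    · exact Fin.ext (by show r.val = (4 * r.val + k) / 4 % 12; omega)
    · congr 1; omega
  obtain ⟨p, hp, -⟩ := root_mem_keep (by omega) g hg
  exact ⟨p, hp⟩

/-- The group G2(4). -/
abbrev G2F4 : Type := ↥(chevG2.group FieldFour)

theorem exists_permG (g : G2F4) : ∃ p : Equiv.Perm (Fin NG), ∀ i, ∃ a : FieldFour, a ≠ 0 ∧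
    ((g : GL Idx FieldFour) : MatG) *ᵥ pointVecG i = a • pointVecG (p i) :=
  group_le_keepG g.2

theorem permG_unique {g : MatG} {p q : Equiv.Perm (Fin NG)}
    (hp : ∀ i, ∃ a : FieldFour, a ≠ 0 ∧ g *ᵥ pointVecG i = a • pointVecG (p i))
    (hq : ∀ i, ∃ a : FieldFour, a ≠ 0 ∧ g *ᵥ pointVecG i = a • pointVecG (q i)) : p = q := by
  ext i
  obtain ⟨a, ha, ea⟩ := hp i
  obtain ⟨b, hb, eb⟩ := hq i
  rw [eb] at ea
  refine congrArg Fin.val (pointVecG_eq (a := a⁻¹ * b) (mul_ne_zero (inv_ne_zero ha) hb) ?_)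
  rw [← smul_smul, ea, smul_smul, inv_mul_cancel₀ ha, one_smul]

/-- The action on the points. -/
noncomputable def actM : G2F4 →* Equiv.Perm (Fin NG) :=
  MonoidHom.mk' (fun g => (exists_permG g).choose) fun a b =>
    permG_unique (exists_permG (a * b)).choose_spec (fun i => by
      obtain ⟨c, hc, e1⟩ := (exists_permG b).choose_spec i
      obtain ⟨d, hd, e2⟩ := (exists_permG a).choose_spec ((exists_permG b).choose i)
      refine ⟨c * d, mul_ne_zero hc hd, ?_⟩
      rw [Subgroup.coe_mul, Units.val_mul, ← Matrix.mulVec_mulVec, e1, Matrix.mulVec_smul, e2,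
        smul_smul, Equiv.Perm.mul_apply])

theorem exists_genG (j : ℕ) (hj : j < 8) :
    ∃ g : G2F4, ((g : GL Idx FieldFour) : MatG) = rootMat (numLetter j) := by
  have h2 : rootMat (numLetter j) * rootMat (numLetter j) = 1 := by
    rw [rootMat, (matCheck_all _ (letters_ok j hj).1).2]
    exact letters_sq j hj
  let u : GL Idx FieldFour :=
    { val := rootMat (numLetter j), inv := rootMat (numLetter j), val_inv := h2, inv_val := h2 }
  exact ⟨⟨u, Subgroup.subset_closure ⟨_, _, rfl⟩⟩, rfl⟩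

/-- The letters of the model. -/
noncomputable def genG (j : ℕ) : G2F4 := if h : j < 8 then (exists_genG j h).choose else 1

theorem actM_acts : tableM.Acts actM genG := by
  refine ⟨fun j hj u => ?_⟩
  have hj' : j < 8 := hj
  have hg : ((genG j : GL Idx FieldFour) : MatG) = rootMat (numLetter j) := by
    rw [genG, dif_pos hj']
    exact (exists_genG j hj').choose_spec
  obtain ⟨p, hp, hv⟩ := root_mem_keep (letters_ok j hj').1 _ hg
  have e : actM (genG j) = p := permG_unique (exists_permG (genG j)).choose_spec hp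
  rw [e, hv]
  exact Nat.eq_of_beq_eq_true (of_allBelow (letters_ok j hj').2 u u.2)

/-- The point of a coset. -/
noncomputable def pntG (u : Fin SuzData.table.N) : Fin tableH.N :=
  ⟨pointAt u, by
    have h := of_allBelow pointAt_bound u u.2
    simp only [Nat.blt_eq] at h
    exact h⟩

theorem pntG_surjective : Function.Surjective pntG := by
  intro p
  have h := of_allBelow cosetTab_ok p p.2
  simp only [Bool.and_eq_true, Nat.blt_eq] at h
  exact ⟨⟨_, h.1⟩, Fin.ext (Nat.eq_of_beq_eq_true h.2)⟩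

theorem lA_lt : ∀ x ∈ lA, x < SuzData.table.nl ∧ x < 6 := by decide +kernel

theorem equivA (i : ℕ) (hi : i < 6) :
    ∃ π : Equiv.Perm (Fin tableH.N),
      (∀ u, pntG (SuzP.hom (SuzP.coding.gen i) u) = π (pntG u)) ∧
      ∀ p : Fin tableH.N, (π p : ℕ) = tableH.img i p := by
  have hT : ∀ u < tableH.N, ∀ x < tableH.nl,
      tableH.inv x < tableH.nl ∧ tableH.img x u < tableH.N ∧
        tableH.img (tableH.inv x) (tableH.img x u) = u :=
    fun u hu x hx => genOK_spec G2FourData.tableH_gen u (Nat.zero_le _) (Nat.lt_of_lt_of_eq hu rfl) x hx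
  have hi' : i < tableH.nl := hi
  refine ⟨letterPerm tableH hT i, fun u => ?_, fun p => ?_⟩
  · apply Fin.ext
    show pointAt ((SuzP.hom (SuzP.coding.gen i) u : Fin SuzData.table.N) : ℕ) = _
    rw [SuzP.hom_acts.img_eq i (lA_lt i (by interval_cases i <;> decide)).1 u, letterPerm,
      dif_pos hi']
    exact Nat.eq_of_beq_eq_true (of_allBelow (genCheck_ok i hi) u u.2)
  · rw [letterPerm, dif_pos hi']
    rfl

theorem equivA_all : ∀ h ∈ grpA,
    ∃ π : Equiv.Perm (Fin tableH.N), ∀ u, pntG (SuzP.hom h u) = π (pntG u) := by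
  intro h hh
  induction hh using Subgroup.closure_induction with
  | mem h hh =>
    obtain ⟨i, hi, rfl⟩ := hh
    obtain ⟨π, hπ, -⟩ := equivA i (lA_lt i hi).2
    exact ⟨π, hπ⟩
  | one => exact ⟨1, by simp⟩
  | mul a b _ _ ha hb =>
    obtain ⟨π, hπ⟩ := ha
    obtain ⟨ρ, hρ⟩ := hb
    exact ⟨π * ρ, fun u => by rw [map_mul, Equiv.Perm.mul_apply, hπ, hρ, Equiv.Perm.mul_apply]⟩
  | inv a _ ha =>
    obtain ⟨π, hπ⟩ := ha
    refine ⟨π⁻¹, fun u => ?_⟩
    have := hπ ((SuzP.hom a)⁻¹ u)
    rw [Equiv.Perm.inv_def, Equiv.apply_symm_apply] at this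
    rw [map_inv, this, Equiv.Perm.inv_def, Equiv.Perm.inv_def, Equiv.symm_apply_apply]

theorem equivA_unique {π ρ : Equiv.Perm (Fin tableH.N)} {f : Fin SuzData.table.N → Fin tableH.N}
    (h₁ : ∀ u, f u = π (pntG u)) (h₂ : ∀ u, f u = ρ (pntG u)) : π = ρ := by
  ext p
  obtain ⟨u, rfl⟩ := pntG_surjective p
  rw [← h₁, ← h₂]

/-- The action of the subgroup on the points. -/
noncomputable def actA : grpA →* Equiv.Perm (Fin tableH.N) :=
  MonoidHom.mk' (fun h => (equivA_all h h.2).choose) fun a b =>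
    equivA_unique (equivA_all _ (a * b).2).choose_spec (fun u => by
      rw [Subgroup.coe_mul, map_mul, Equiv.Perm.mul_apply, (equivA_all a a.2).choose_spec,
        (equivA_all b b.2).choose_spec, Equiv.Perm.mul_apply])

/-- The generators. -/
noncomputable def genA (i : ℕ) : grpA :=
  if h : i ∈ lA then ⟨SuzP.coding.gen i, Subgroup.subset_closure ⟨i, h, rfl⟩⟩ else 1

theorem mem_lA : ∀ i < 6, i ∈ lA := by decide

theorem actA_acts : tableH.Acts actA genA := by
  refine ⟨fun i hi p => ?_⟩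
  obtain ⟨π, h₁, h₂⟩ := equivA i hi
  have e : actA (genA i) = π := by
    refine equivA_unique (equivA_all _ (genA i).2).choose_spec ?_
    intro u
    rw [genA, dif_pos (mem_lA i hi)]
    exact h₁ u
  rw [e, h₂]

/-- The same action, on the points of the model. -/
noncomputable def actA' : grpA →* Equiv.Perm (Fin NG) := actA

theorem range_le : actA'.range ≤ actM.range := by
  have htop : Subgroup.closure (genA '' {i | i ∈ lA}) = ⊤ := by
    rw [eq_top_iff]
    rintro ⟨h, hh⟩ -
    have : h ∈ (Subgroup.closure (genA '' {i | i ∈ lA})).map grpA.subtype := by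
      refine (Subgroup.closure_le _).2 ?_ hh
      rintro _ ⟨i, hi, rfl⟩
      exact ⟨genA i, Subgroup.subset_closure ⟨i, hi, rfl⟩, by
        rw [genA, dif_pos (show i ∈ lA from hi)]; rfl⟩
    obtain ⟨⟨h', hh'⟩, hm, e⟩ := this
    simp only [Subgroup.coe_subtype] at e
    subst e
    exact hm
  rw [MonoidHom.range_eq_map, ← htop, MonoidHom.map_closure, Subgroup.closure_le]
  rintro _ ⟨_, ⟨i, hi, rfl⟩, rfl⟩
  have hi6 := (lA_lt i hi).2
  obtain ⟨ht, hrow⟩ := targets_ok i hi6
  refine ⟨tableM.el genG (G2FourData.targets.getD i 0), ?_⟩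
  apply Equiv.ext
  intro u
  apply Fin.ext
  rw [actM_acts.el_img G2FourData.tableM_slp _ ht u]
  show _ = ((actA (genA i) u : Fin tableH.N) : ℕ)
  refine Eq.trans ?_ (actA_acts.img_eq i hi6 u).symm
  exact (Nat.eq_of_beq_eq_true (of_allBelow hrow u u.2)).symm

theorem card_grpA : Nat.card grpA = 251596800 := by
  have h := grpA.card_mul_index
  rw [SuzP.index_H_eq, SuzP.card_eq.1] at h
  omega

theorem card_G2F4 : Nat.card G2F4 = 251596800 := by
  rw [Cfsg.Agent.S1059.result (F := FieldFour) (q := 4) FieldFour.card_eq]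
  norm_num

theorem card_range_ge : 251596800 ≤ Nat.card actA'.range := by
  rw [← G2FourData.chainH_prod]
  exact PTab.chainProd_le_card (T := tableH) actA_acts G2FourData.tableH_slp _ [] _ G2FourData.chainH_ok
    fun e _ r _ _ => ⟨_, rfl⟩

theorem both : Function.Injective actA' ∧ Function.Injective actM ∧ actA'.range = actM.range := by
  have : Finite grpA := Nat.finite_of_card_ne_zero (by rw [card_grpA]; norm_num)
  have h1 := card_range_ge
  have h2 : Nat.card actA'.range ≤ 251596800 :=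
    card_grpA ▸ Nat.card_le_card_of_surjective _ actA'.rangeRestrict_surjective
  have h3 : Nat.card actM.range ≤ 251596800 :=
    card_G2F4 ▸ Nat.card_le_card_of_surjective _ actM.rangeRestrict_surjective
  have h4 : Nat.card actA'.range ≤ Nat.card actM.range := Subgroup.card_le_of_le range_le
  refine ⟨?_, ?_, Subgroup.eq_of_le_of_card_ge range_le (by omega)⟩
  · have hb : Function.Bijective actA'.rangeRestrict :=
      (Nat.bijective_iff_surjective_and_card _).2 ⟨actA'.rangeRestrict_surjective, by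
        rw [card_grpA]; omega⟩
    exact fun a b e => hb.1 (Subtype.ext e)
  · have hb : Function.Bijective actM.rangeRestrict :=
      (Nat.bijective_iff_surjective_and_card _).2 ⟨actM.rangeRestrict_surjective, by
        rw [card_G2F4]; omega⟩
    exact fun a b e => hb.1 (Subtype.ext e)

/-- The subgroup is G2(4). -/
noncomputable def equivG2 : grpA ≃* G2F4 :=
  ((MonoidHom.ofInjective both.1).trans (MulEquiv.subgroupCongr both.2.2)).trans
    (MonoidHom.ofInjective both.2.1).symm

theorem map_closure_A :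
    (Subgroup.closure ({Suz.a, Suz.b, Suz.c, Suz.d, Suz.e, Suz.f} : Set (FreeGroup Suz.Gen))).map
      (PresentedGroup.mk (coxRelators Suz.edges ∪ {r | r ∈ Suz.extra})) = grpA := by
  rw [MonoidHom.map_closure]
  show _ = Subgroup.closure _
  congr 1
  simp only [lA, List.mem_cons, List.not_mem_nil, or_false, Set.setOf_or, Set.image_union,
    Set.setOf_eq_eq_singleton, Set.image_singleton, Set.image_insert_eq, Set.insert_eq]
  rfl

end CfsgLib.Sporadic.CosetCert.SuzG
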