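import Mathlib.LinearAlgebra.Matrix.Notation
import Mathlib.Data.Matrix.Mul
import Mathlib.Data.ZMod.Basic
import Mathlib.Algebra.BigOperators.Ring.Finset
import Mathlib.Data.List.GetD

/-!
# Square matrices over a small prime field with packed rows, for kernel evaluation

A row is a natural number with 16 bits for each entry; the intermediate products are brought to
numerals before they are used again.
-/

set_option autoImplicit false

namespace CfsgLib.Sporadic.PackedMatrix

/-- An entry of a row. -/
def dig (v j : ℕ) : ℕ := Nat.mod (Nat.shiftRight v (Nat.mul 16 j)) 65536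

theorem dig_eq (v j : ℕ) : dig v j = v / 65536 ^ j % 65536 := by
  show (v >>> (16 * j)) % 65536 = _
  rw [Nat.shiftRight_eq_div_pow, pow_mul]
  norm_num

theorem dig_succ (v j : ℕ) : dig v (j + 1) = dig (v / 65536) j := by
  rw [dig_eq, dig_eq, pow_succ', Nat.div_div_eq_div_mul]

theorem dig_sum : ∀ (n : ℕ) (f : ℕ → ℕ), (∀ k < n, f k < 65536) → ∀ j < n,
    dig (∑ k ∈ Finset.range n, f k * 65536 ^ k) j = f j := by
  intro n
  induction n with
  | zero => intro f _ j hj; omega
  | succ n ih =>
    intro f hf j hj
    have e : ∑ k ∈ Finset.range (n + 1), f k * 65536 ^ k =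
        f 0 + 65536 * ∑ k ∈ Finset.range n, f (k + 1) * 65536 ^ k := by
      rw [Finset.sum_range_succ', Finset.mul_sum, add_comm]
      simp only [pow_zero, mul_one]
      congr 1
      exact Finset.sum_congr rfl fun k _ => by ring
    have h0 := hf 0 (by omega)
    rw [e]
    cases j with
    | zero => rw [dig_eq, pow_zero, Nat.div_one]; omega
    | succ j =>
      rw [dig_succ, Nat.add_mul_div_left _ _ (by norm_num), Nat.div_eq_of_lt h0, Nat.zero_add]
      exact ih (fun k => f (k + 1)) (fun k hk => hf (k + 1) (by omega)) j (by omega)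

/-- Feed a numeral to a function. -/
noncomputable def forced {α : Type} (g : ℕ → α) (n : ℕ) : α :=
  Nat.rec (motive := fun _ => α) (g 0) (fun k _ => g (k + 1)) n

theorem forced_eq {α : Type} (g : ℕ → α) (n : ℕ) : forced g n = g n := by
  cases n <;> rfl

/-- Feed a list of numerals to a test. -/
noncomputable def forceList (l : List ℕ) : (List ℕ → Bool) → Bool :=
  List.rec (motive := fun _ => (List ℕ → Bool) → Bool) (fun g => g [])
    (fun a _ ih g => forced (fun x => ih fun r => g (x :: r)) a) l

theorem forceList_eq : ∀ (l : List ℕ) (g : List ℕ → Bool), forceList l g = g l := by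
  intro l
  induction l with
  | nil => intro g; rfl
  | cons a t ih =>
    intro g
    show forced (fun x => forceList t fun r => g (x :: r)) a = g (a :: t)
    rw [forced_eq, ih]

/-- A combination of rows. -/
noncomputable def rowMul (B : List ℕ) : ℕ → ℕ → ℕ :=
  List.rec (motive := fun _ => ℕ → ℕ → ℕ) (fun _ _ => 0)
    (fun b _ ih v i => Nat.add (Nat.mul (dig v i) b) (ih v (Nat.succ i))) B

theorem rowMul_eq : ∀ (B : List ℕ) (v i : ℕ),
    rowMul B v i = ∑ k ∈ Finset.range B.length, dig v (i + k) * B.getD k 0 := by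
  intro B
  induction B with
  | nil => intro v i; rfl
  | cons b t ih =>
    intro v i
    show dig v i * b + rowMul t v (Nat.succ i) = _
    rw [ih, List.length_cons, Finset.sum_range_succ', add_comm]
    congr 1
    exact Finset.sum_congr rfl fun k _ => by
      rw [List.getD_cons_succ, show i + (k + 1) = Nat.succ i + k by omega]

/-- The entries of a row reduced modulo the prime. -/
noncomputable def red (p n v : ℕ) : ℕ :=
  Nat.rec (motive := fun _ => ℕ) 0
    (fun k ih => Nat.add ih (Nat.shiftLeft (Nat.mod (dig v k) p) (Nat.mul 16 k))) n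

theorem red_eq (p v : ℕ) : ∀ n, red p n v = ∑ k ∈ Finset.range n, dig v k % p * 65536 ^ k := by
  intro n
  induction n with
  | zero => rfl
  | succ n ih =>
    show red p n v + (dig v n % p) <<< (16 * n) = _
    rw [ih, Finset.sum_range_succ, Nat.shiftLeft_eq, pow_mul]
    norm_num

theorem dig_red {p n : ℕ} (hp : 0 < p) (hp' : p ≤ 65536) (v : ℕ) {j : ℕ} (hj : j < n) :
    dig (red p n v) j = dig v j % p := by
  rw [red_eq, dig_sum n _ (fun k _ => (Nat.mod_lt _ hp).trans_le hp') j hj]

/-- The product of packed matrices. -/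
noncomputable def mul (p n : ℕ) (A B : List ℕ) : List ℕ :=
  A.map fun a => forced (red p n) (rowMul B a 0)

/-- A packed matrix with reduced entries. -/
noncomputable def ok (p n : ℕ) (A : List ℕ) : Bool :=
  Nat.beq A.length n && A.all fun a => Nat.beq (red p n a) a

/-- The matrix of packed rows. -/
def dec (p n : ℕ) (A : List ℕ) : Matrix (Fin n) (Fin n) (ZMod p) :=
  fun i j => ((dig (A.getD i 0) j : ℕ) : ZMod p)

/-- The packed identity. -/
def one (n : ℕ) : List ℕ := (List.range n).map fun i => Nat.shiftLeft 1 (Nat.mul 16 i)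

variable {p n : ℕ}

theorem dec_one : dec p n (one n) = 1 := by
  ext i j
  rw [dec, one, List.getD_eq_getElem _ _ (by simp), Matrix.one_apply]
  simp only [List.getElem_map, List.getElem_range]
  have e : Nat.shiftLeft 1 (Nat.mul 16 i) =
      ∑ k ∈ Finset.range n, (if k = (i : ℕ) then 1 else 0) * 65536 ^ k := by
    show 1 <<< (16 * (i : ℕ)) = _
    rw [Nat.shiftLeft_eq, pow_mul]
    simp [Finset.sum_ite_eq', i.2]
  rw [e, dig_sum n _ (fun k _ => by split <;> norm_num) j j.2]
  by_cases h : i = j
  · subst h; simp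
  · rw [if_neg h, if_neg (fun e => h (Fin.ext e.symm)), Nat.cast_zero]

theorem length_mul (A B : List ℕ) : (mul p n A B).length = A.length := List.length_map _

theorem mul_getD (A B : List ℕ) {i : ℕ} (hi : i < A.length) :
    (mul p n A B).getD i 0 = red p n (rowMul B (A.getD i 0) 0) := by
  rw [List.getD_eq_getElem _ _ (by rw [length_mul]; exact hi), List.getD_eq_getElem _ _ hi]
  simp only [mul, List.getElem_map, forced_eq]

theorem length_of_ok {A : List ℕ} (h : ok p n A = true) : A.length = n := by
  rw [ok, Bool.and_eq_true, Nat.beq_eq] at h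
  exact h.1

theorem row_of_ok {A : List ℕ} (h : ok p n A = true) {i : ℕ} (hi : i < n) :
    red p n (A.getD i 0) = A.getD i 0 := by
  have hl : i < A.length := by rw [length_of_ok h]; exact hi
  rw [ok, Bool.and_eq_true] at h
  rw [List.getD_eq_getElem _ _ hl]
  exact Nat.eq_of_beq_eq_true (List.all_eq_true.1 h.2 _ (List.getElem_mem hl))

theorem dig_lt_of_ok (hp : 0 < p) (hp' : p ≤ 65536) {A : List ℕ} (h : ok p n A = true) {i j : ℕ}
    (hi : i < n) (hj : j < n) : dig (A.getD i 0) j < p := by
  rw [← row_of_ok h hi, dig_red hp hp' _ hj]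
  exact Nat.mod_lt _ hp

theorem ok_mul (hp : 0 < p) (hp' : p ≤ 65536) {A : List ℕ} (hA : ok p n A = true) (B : List ℕ) :
    ok p n (mul p n A B) = true := by
  rw [ok, Bool.and_eq_true, Nat.beq_eq, List.all_eq_true]
  refine ⟨by rw [length_mul, length_of_ok hA], fun a ha => ?_⟩
  rw [Nat.beq_eq]
  obtain ⟨b, -, rfl⟩ := List.mem_map.1 ha
  rw [forced_eq, red_eq, red_eq]
  refine Finset.sum_congr rfl fun k hk => ?_
  rw [dig_sum n _ (fun j _ => (Nat.mod_lt _ hp).trans_le hp') k (Finset.mem_range.1 hk), Nat.mod_mod]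

theorem dec_mul (hp : 0 < p) (hb : n * (p * p) ≤ 65536) {A B : List ℕ} (hA : ok p n A = true)
    (hB : ok p n B = true) : dec p n (mul p n A B) = dec p n A * dec p n B := by
  ext i j
  have hn : 0 < n := Nat.lt_of_le_of_lt (Nat.zero_le _) i.2
  have hp' : p ≤ 65536 := le_trans (le_trans (Nat.le_mul_self p) (Nat.le_mul_of_pos_left _ hn)) hb
  have hiA : (i : ℕ) < A.length := by rw [length_of_ok hA]; exact i.2
  set a := A.getD i 0 with ha
  let S : ℕ → ℕ := fun l => ∑ k ∈ Finset.range n, dig a k * dig (B.getD k 0) l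
  have hS : ∀ l < n, S l < 65536 := fun l hl => by
    refine lt_of_lt_of_le (Finset.sum_lt_sum_of_nonempty (Finset.nonempty_range_iff.2 hn.ne')
      (g := fun _ => p * p) fun k hk => ?_) (by simpa using hb)
    exact Nat.mul_lt_mul'' (dig_lt_of_ok hp hp' hA i.2 (Finset.mem_range.1 hk))
      (dig_lt_of_ok hp hp' hB (Finset.mem_range.1 hk) hl)
  have e : rowMul B a 0 = ∑ l ∈ Finset.range n, S l * 65536 ^ l := by
    rw [rowMul_eq, length_of_ok hB]
    simp only [Nat.zero_add, S, Finset.sum_mul]
    rw [Finset.sum_comm]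
    refine Finset.sum_congr rfl fun k hk => ?_
    conv_lhs => rw [← row_of_ok hB (Finset.mem_range.1 hk), red_eq, Finset.mul_sum]
    refine Finset.sum_congr rfl fun l hl => ?_
    rw [Nat.mod_eq_of_lt (dig_lt_of_ok hp hp' hB (Finset.mem_range.1 hk) (Finset.mem_range.1 hl))]
    ring
  rw [Matrix.mul_apply, dec, mul_getD _ _ hiA, dig_red hp hp' _ j.2, ZMod.natCast_mod, e,
    dig_sum n _ hS j j.2]
  simp only [S, Nat.cast_sum, Nat.cast_mul, dec, ← ha]
  rw [Finset.sum_range]

/-- The test on the product of a list of packed matrices. -/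
noncomputable def chain (p n : ℕ) (L : List (List ℕ)) (k : List ℕ → Bool) : List ℕ → Bool :=
  List.rec (motive := fun _ => List ℕ → Bool) k
    (fun B _ ih acc => forceList (mul p n acc B) ih) L

theorem chain_spec (hp : 0 < p) (hp' : p ≤ 65536) (hb : n * (p * p) ≤ 65536) :
    ∀ (L : List (List ℕ)), (∀ B ∈ L, ok p n B = true) → ∀ (k : List ℕ → Bool) (acc : List ℕ),
      ok p n acc = true → chain p n L k acc = true →
      ∃ R, k R = true ∧ ok p n R = true ∧ dec p n R = dec p n acc * (L.map (dec p n)).prod := by
  intro L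
  induction L with
  | nil => intro _ k acc ha h; exact ⟨acc, h, ha, by simp⟩
  | cons B t ih =>
    intro hL k acc ha h
    change forceList (mul p n acc B) (chain p n t k) = true at h
    rw [forceList_eq] at h
    obtain ⟨R, h1, h2, h3⟩ := ih (fun C hC => hL C (List.mem_cons_of_mem _ hC)) k _
      (ok_mul hp hp' ha B) h
    refine ⟨R, h1, h2, ?_⟩
    rw [h3, dec_mul hp hb ha (hL B List.mem_cons_self), List.map_cons, List.prod_cons, mul_assoc]

/-- Equality of lists of numerals. -/
noncomputable def eqList (l : List ℕ) : List ℕ → Bool :=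
  List.rec (motive := fun _ => List ℕ → Bool) (fun m => m.isEmpty)
    (fun a _ ih m => match m with
      | [] => false
      | b :: u => Nat.beq a b && ih u) l

theorem eqList_spec : ∀ l m : List ℕ, eqList l m = true → l = m := by
  intro l
  induction l with
  | nil => intro m h; exact (List.isEmpty_iff.1 h).symm
  | cons a t ih =>
    intro m h
    cases m with
    | nil => exact absurd h Bool.false_ne_true
    | cons b u =>
      change (Nat.beq a b && eqList t u) = true at h
      rw [Bool.and_eq_true, Nat.beq_eq] at h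
      rw [h.1, ih u h.2]

/-- The check that a power of a product is one. -/
noncomputable def powOne (p n : ℕ) (L : List (List ℕ)) (e : ℕ) : Bool :=
  chain p n L (fun W => chain p n (List.replicate e W) (eqList (one n)) (one n)) (one n)

theorem powOne_spec (hp : 0 < p) (hp' : p ≤ 65536) (hb : n * (p * p) ≤ 65536)
    (h1 : ok p n (one n) = true) {L : List (List ℕ)} (hL : ∀ B ∈ L, ok p n B = true) {e : ℕ}
    (h : powOne p n L e = true) : (L.map (dec p n)).prod ^ e = 1 := by
  obtain ⟨W, hW, okW, dW⟩ := chain_spec hp hp' hb L hL _ _ h1 h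
  obtain ⟨R, hR, -, dR⟩ := chain_spec hp hp' hb (List.replicate e W)
    (fun B hB => (List.eq_of_mem_replicate hB) ▸ okW) _ _ h1 hW
  rw [dec_one, one_mul] at dW
  rw [dec_one, one_mul, List.map_replicate, List.prod_replicate, dW,
    ← eqList_spec _ _ hR, dec_one] at dR
  exact dR.symm

end CfsgLib.Sporadic.PackedMatrix
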