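import Cfsg.Agent.Lib.SmallGroups.HSGraphAut
import Cfsg.Agent.Lib.SmallGroups.SteinerCode22

/-!
The point-block graph of an S(3, 6, 22) has exactly 88704000 automorphisms: it is vertex transitive, and the
stabiliser of the extra vertex is the automorphism group of the system.
-/

set_option autoImplicit false
set_option maxRecDepth 10000

namespace CfsgLib.Sporadic.HSGraphCard

open Cfsg CfsgLib.SmallGroups
open scoped Pointwise

variable {α : Type*} [Fintype α] [DecidableEq α] {B : Set (Finset α)}

theorem adj_none (v : Option (α ⊕ B)) :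
    (pointBlockGraph B).Adj none v ↔ ∃ a, v = some (Sum.inl a) := by
  rcases v with _ | a | b <;> simp [pointBlockGraph, pointBlockRel, SimpleGraph.fromRel_adj]

theorem adj_point_block (a : α) (b : B) :
    (pointBlockGraph B).Adj (some (Sum.inl a)) (some (Sum.inr b)) ↔ a ∈ (b : Finset α) := by
  simp [pointBlockGraph, pointBlockRel, SimpleGraph.fromRel_adj]

theorem image_mem {σ : Equiv.Perm α} (hσ : σ ∈ setSystemAut B) (b : Finset α) :
    b.image σ ∈ B ↔ b ∈ B :=
  MulAction.mem_stabilizer_set.1 hσ b

/-- The action on the blocks. -/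
def blockPerm (σ : setSystemAut B) : B ≃ B where
  toFun b := ⟨(b : Finset α).image (σ : Equiv.Perm α), (image_mem σ.2 _).2 b.2⟩
  invFun b := ⟨(b : Finset α).image (σ : Equiv.Perm α).symm, by
    rw [← image_mem σ.2, Finset.image_image]
    simp [b.2]⟩
  left_inv b := Subtype.ext (by simp [Finset.image_image])
  right_inv b := Subtype.ext (by simp [Finset.image_image])

/-- An automorphism of the system acts on the graph. -/
def autOf (σ : setSystemAut B) : pointBlockGraph B ≃g pointBlockGraph B where
  toEquiv := Equiv.optionCongr (Equiv.sumCongr (σ : Equiv.Perm α) (blockPerm σ))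
  map_rel_iff' {u v} := by
    rcases u with _ | a | b <;> rcases v with _ | a' | b' <;>
      simp [pointBlockGraph, pointBlockRel, SimpleGraph.fromRel_adj, blockPerm, Subtype.ext_iff,
        (Finset.image_injective (σ : Equiv.Perm α).injective).eq_iff,
        Finset.disjoint_image (σ : Equiv.Perm α).injective]

theorem fix_bijective :
    Function.Bijective (fun σ : setSystemAut B =>
      (⟨autOf σ, rfl⟩ : {g : pointBlockGraph B ≃g pointBlockGraph B // g none = none})) := by
  constructor
  · intro σ τ h
    refine Subtype.ext (Equiv.ext fun a => ?_)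
    have h' := congrArg (fun g : {g : pointBlockGraph B ≃g pointBlockGraph B // g none = none} =>
      g.1 (some (Sum.inl a))) h
    simpa [autOf] using h'
  · rintro ⟨g, hg⟩
    have hg' : g.symm none = none := by rw [RelIso.symm_apply_eq, hg]
    have hpt : ∀ (h : pointBlockGraph B ≃g pointBlockGraph B), h none = none →
        ∀ a, ∃ a', h (some (Sum.inl a)) = some (Sum.inl a') := fun h hh a => by
      rw [← adj_none (B := B), ← hh]
      exact h.map_adj_iff.2 ((adj_none _).2 ⟨a, rfl⟩)
    choose s hs using hpt g hg
    choose s' hs' using hpt g.symm hg'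
    let σ : Equiv.Perm α := ⟨s, s', fun a => by
      have := hs' (s a)
      rw [← hs, RelIso.symm_apply_apply] at this
      simpa using this.symm, fun a => by
      have := hs (s' a)
      rw [← hs', RelIso.apply_symm_apply] at this
      simpa using this.symm⟩
    have hblk : ∀ b : B, ∃ b' : B, g (some (Sum.inr b)) = some (Sum.inr b') ∧
        (b' : Finset α) = (b : Finset α).image σ := by
      intro b
      rcases e : g (some (Sum.inr b)) with _ | a | b'
      · exact absurd (g.injective (e.trans hg.symm)) (by simp)
      · have h2 := e.trans (show some (Sum.inl a) = g (some (Sum.inl (σ.symm a))) by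
          rw [hs]; exact congrArg (fun x => some (Sum.inl x)) (σ.apply_symm_apply a).symm)
        exact absurd (g.injective h2) (by simp)
      · refine ⟨b', rfl, ?_⟩
        ext a
        have h2 := g.map_adj_iff (v := some (Sum.inl (σ.symm a))) (w := some (Sum.inr b))
        rw [hs, e, adj_point_block, adj_point_block, show s (σ.symm a) = a from σ.apply_symm_apply a] at h2
        rw [h2, Finset.mem_image]
        exact ⟨fun h => ⟨_, h, σ.apply_symm_apply a⟩, fun ⟨c, hc, e'⟩ => by
          rwa [← e', σ.symm_apply_apply]⟩
    have hσ : σ ∈ setSystemAut B := by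
      rw [MulAction.mem_stabilizer_set' (Set.toFinite B)]
      intro b hb
      obtain ⟨b', -, e⟩ := hblk ⟨b, hb⟩
      show b.image σ ∈ B
      rw [← e]
      exact b'.2
    refine ⟨⟨σ, hσ⟩, Subtype.ext (RelIso.ext fun v => ?_)⟩
    rcases v with _ | a | b
    · exact hg.symm
    · exact (hs a).symm
    · obtain ⟨b', e, e'⟩ := hblk b
      rw [e]
      exact congrArg (fun x => some (Sum.inr x)) (Subtype.ext e'.symm)

theorem card_aut (hα : Fintype.card α = 22) (hB : IsSteinerSystem 3 6 B) :
    Nat.card (pointBlockGraph B ≃g pointBlockGraph B) = 88704000 := by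
  classical
  have : Fintype B := Fintype.ofFinite B
  obtain ⟨f⟩ := HSGraph.unique HSGraphAut.isSRG (Cfsg.Agent.S0428.result hα hB)
  have hfib : ∀ u : Option (α ⊕ B), ∃ h : pointBlockGraph B ≃g pointBlockGraph B, h none = u := by
    intro u
    obtain ⟨g, g1, g2, g3⟩ := LeechHS.transitive_pts LeechVectorStab.v48 LeechHS.vZ LeechVectorStab.norm_v48
      LeechHS.norm_vZ HSGraphAut.dot_v48_vZ (f.symm none) (f.symm u) (f.symm none).2 (f.symm u).2
    refine ⟨f.symm.trans ((HSGraphAut.autOf ⟨g, g1, g2⟩).trans f), ?_⟩
    simp only [RelIso.trans_apply]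
    rw [show HSGraphAut.autOf ⟨g, g1, g2⟩ (f.symm none) = f.symm u from Subtype.ext g3,
      RelIso.apply_symm_apply]
  choose h hh using hfib
  let e : (pointBlockGraph B ≃g pointBlockGraph B) ≃
      Option (α ⊕ B) × {g : pointBlockGraph B ≃g pointBlockGraph B // g none = none} :=
    { toFun := fun g => (g none, ⟨g.trans (h (g none)).symm, by
        rw [RelIso.trans_apply, RelIso.symm_apply_eq, hh]⟩)
      invFun := fun p => p.2.1.trans (h p.1)
      left_inv := fun g => RelIso.ext fun v => by simp
      right_inv := fun p => by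
        obtain ⟨u, g, hg⟩ := p
        have e1 : (g.trans (h u)) none = u := by rw [RelIso.trans_apply, hg, hh]
        refine Prod.ext e1 (Subtype.ext (RelIso.ext fun v => ?_))
        simp only [e1]
        simp }
  rw [Nat.card_congr e, Nat.card_prod, ← Nat.card_congr (Equiv.ofBijective _ (fix_bijective (B := B))),
    (SteinerCode.aut22 hα hB).1, Nat.card_eq_fintype_card, (Cfsg.Agent.S0428.result hα hB).card]

end CfsgLib.Sporadic.HSGraphCard
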