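import Cfsg.Agent.Lib.Sporadic.HePresented
import Cfsg.Prelude.Def_Sporadic

/-!
# The Held group on 2058 points, given the structure of the point stabiliser
-/

open Cfsg.Spor

namespace CfsgLib.Sporadic.CosetCert.HeP

theorem isHe : Cfsg.IsHe He := ⟨isSimple, card_eq.1⟩

theorem mem_grpH_of_fix {h : He} (hh : hom h pt = pt) : h ∈ grpH := by
  obtain ⟨-, e, he, -⟩ := exists_quotient_equiv hom pt _ hom_fix transitive
    ⟨le_trans index_H.1 (by decide +kernel), index_H.2⟩
  have h1 : e (h : He ⧸ grpH) = e ((1 : He) : He ⧸ grpH) := by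
    rw [he, he, hh, map_one, Equiv.Perm.one_apply]
  have h2 := QuotientGroup.eq.1 (e.injective h1)
  rw [mul_one] at h2
  exact inv_mem_iff.1 h2

/-- The permutation group of degree 2058 and the restriction of `hom` to the point stabiliser. -/
theorem exists_perm (hN : ∃ (N : Subgroup grpH) (K : Type) (_ : Field K) (_ : Fintype K),
    N.Normal ∧ N.index = 2 ∧ Fintype.card K = 4 ∧
      Nonempty (N ≃* Matrix.symplecticGroup (Fin 2) K)) :
    ∃ H : Subgroup (Equiv.Perm (Fin 2058)), Cfsg.IsHe H ∧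
      MulAction.IsPretransitive H (Fin 2058) ∧
      ∃ (F : Type) (_ : Field F) (_ : Fintype F), Fintype.card F = 4 ∧
        ∃ N : Subgroup (MulAction.stabilizer H (0 : Fin 2058)), N.index = 2 ∧
          Nonempty (N ≃* Matrix.symplecticGroup (Fin 2) F) := by
  obtain ⟨N, K, hK, hKf, -, hi, hc, ⟨eN⟩⟩ := hN
  let φ : He →* Equiv.Perm (Fin 2058) := hom
  have hinj : Function.Injective φ := card_eq.2
  let H := φ.range
  let e : He ≃* H := MonoidHom.ofInjective hinj
  have hp : (pt : Fin 2058) = (0 : Fin 2058) := rfl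
  refine ⟨H, ⟨?_, ?_⟩, ?_, K, hK, hKf, hc, ?_⟩
  · haveI := isSimple
    exact e.symm.isSimpleGroup
  · rw [← Nat.card_congr e.toEquiv]; exact card_eq.1
  · refine ⟨fun x y => ?_⟩
    obtain ⟨a, ha⟩ := transitive x
    obtain ⟨b, hb⟩ := transitive y
    refine ⟨e (b * a⁻¹), ?_⟩
    show φ (b * a⁻¹) x = y
    rw [map_mul, map_inv, Equiv.Perm.mul_apply, ← ha, ← hb]
    show (hom b) ((hom a).symm ((hom a) pt)) = (hom b) pt
    exact congrArg _ ((hom a).symm_apply_apply pt)
  · have hmap : grpH.map e.toMonoidHom = MulAction.stabilizer H (0 : Fin 2058) := by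
      ext ⟨z, hz⟩
      constructor
      · rintro ⟨h, hh, he⟩
        rw [← he]
        show φ h 0 = 0
        rw [← hp]; exact hom_fix h hh
      · intro hfix
        obtain ⟨h, rfl⟩ := hz
        refine ⟨h, mem_grpH_of_fix ?_, rfl⟩
        have h2 : φ h (0 : Fin 2058) = 0 := hfix
        rw [← hp] at h2
        exact h2
    let g : grpH ≃* MulAction.stabilizer H (0 : Fin 2058) :=
      (grpH.equivMapOfInjective e.toMonoidHom e.injective).trans (MulEquiv.subgroupCongr hmap)
    refine ⟨N.map g.toMonoidHom, ?_, ⟨((N.equivMapOfInjective g.toMonoidHom g.injective).symm.trans eN)⟩⟩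
    rw [← hi]
    exact Subgroup.index_map_equiv N g

end CfsgLib.Sporadic.CosetCert.HeP
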