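import Cfsg.Agent.Lib.Sporadic.HePresented
import Cfsg.Agent.Lib.Sporadic.HeSympData.HeSympTable
import Cfsg.Agent.Lib.Sporadic.FieldFour
import Cfsg.Agent.Lib.Sporadic.CosetCertBelow
import Cfsg.Agent.Lib.Classical.SympMatrix

/-!
# The subgroup of index 2058 of the Held group contains Sp(4,4)

The subgroup acts on 85 blocks in its orbit of length 425; the symplectic group acts on the 85
points of the projective space. The two permutation groups have a common subgroup of order 979200.
-/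

set_option maxRecDepth 100000

open Cfsg.Spor Matrix

namespace CfsgLib.Sporadic.CosetCert.HeP

open HeSympData (blockTab reps)


/-- The block of a point. -/
noncomputable def blockOf (u : ℕ) : ℕ := blockTab.get 8 u

theorem blockOf_lt (u : Fin HeData.table.N) : blockOf u < HeSympData.table.N := by
  have h : allBelow (fun u => Nat.blt (blockOf u) 86) 2058 = true := by decide +kernel
  have h2 := of_allBelow h u u.2
  simp only [Nat.blt_eq] at h2
  exact h2

/-- The block of a point, in range. -/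
noncomputable def blk (u : Fin HeData.table.N) : Fin HeSympData.table.N := ⟨blockOf u, blockOf_lt u⟩

theorem blk_surjective : Function.Surjective blk := by
  intro p
  have h : ∀ p < HeSympData.table.N, reps.getD p 0 < HeData.table.N ∧ blockOf (reps.getD p 0) = p := by
    decide +kernel
  exact ⟨⟨_, (h p p.2).1⟩, Fin.ext (h p p.2).2⟩

/-- The letters of the table: the seven generators and the inverse of the last. -/
noncomputable def gen85 (i : ℕ) : grpH :=
  if h : i < 7 then
    ⟨PresentedGroup.mk _ (wordsH[i]'(by simpa [wordsH] using h)),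
      Subgroup.subset_closure ⟨_, List.getElem_mem _, rfl⟩⟩
  else
    ⟨(PresentedGroup.mk _ (wordsH[6]'(by simp [wordsH])))⁻¹,
      inv_mem (Subgroup.subset_closure ⟨_, List.getElem_mem _, rfl⟩)⟩

/-- The letters of a generator word. -/
def lettersH (i : ℕ) : List ℕ :=
  appWord code code (if i < 7 then wordsH.getD i 1 else (wordsH.getD 6 1)⁻¹)

theorem hom_gen85 {i : ℕ} (hi : i < 8) (v : Fin HeData.table.N) :
    ((hom (gen85 i : He) v : Fin HeData.table.N) : ℕ) =
      (lettersH i).foldl (fun w x => HeData.table.img x w) v := by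
  have e : (gen85 i : He) = PresentedGroup.mk (coxRelators He.edges ∪ {r | r ∈ He.extra})
      (if i < 7 then wordsH.getD i 1 else (wordsH.getD 6 1)⁻¹) := by
    unfold gen85
    split_ifs with h
    · rw [List.getD_eq_getElem _ _ (by simpa [wordsH] using h)]
    · rw [map_inv, List.getD_eq_getElem _ _ (by simp [wordsH])]
  rw [e, coding.mk_eq, hom_word _ ?_ v]
  · rfl
  · have h : ∀ i < 8, ∀ x ∈ lettersH i, x < HeData.table.nl := by decide +kernel
    exact h i hi

theorem equiv_gen (i : ℕ) (hi : i < 8) :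
    ∃ π : Equiv.Perm (Fin HeSympData.table.N), (∀ u, blk (hom (gen85 i : He) u) = π (blk u)) ∧
      ∀ p : Fin HeSympData.table.N, (π p : ℕ) = HeSympData.table.img i p := by
  have hT : ∀ u < HeSympData.table.N, ∀ x < HeSympData.table.nl,
      HeSympData.table.inv x < HeSympData.table.nl ∧ HeSympData.table.img x u < HeSympData.table.N ∧
        HeSympData.table.img (HeSympData.table.inv x) (HeSympData.table.img x u) = u :=
    fun u hu x hx => genOK_spec HeSympData.table_gen u (Nat.zero_le _) (Nat.lt_of_lt_of_eq hu rfl) x hx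
  have hi' : i < HeSympData.table.nl := hi
  refine ⟨letterPerm HeSympData.table hT i, fun u => ?_, fun p => ?_⟩
  · have hb : ∀ i < 8, allBelow (fun u => Nat.beq
        (blockOf ((lettersH i).foldl (fun w x => HeData.table.img x w) u))
        (HeSympData.table.img i (blockOf u))) 2058 = true := by
      decide +kernel
    apply Fin.ext
    show blockOf ((hom (gen85 i : He) u : Fin HeData.table.N) : ℕ) = _
    rw [hom_gen85 hi, letterPerm, dif_pos hi']
    exact Nat.eq_of_beq_eq_true (of_allBelow (hb i hi) u u.2)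
  · rw [letterPerm, dif_pos hi']
    rfl

theorem equiv_all : ∀ h ∈ grpH,
    ∃ π : Equiv.Perm (Fin HeSympData.table.N), ∀ u, blk (hom h u) = π (blk u) := by
  intro h hh
  induction hh using Subgroup.closure_induction with
  | mem h hh =>
    obtain ⟨r, hr, rfl⟩ := hh
    obtain ⟨i, hi, rfl⟩ := List.mem_iff_getElem.1 hr
    have hi7 : i < 7 := by simpa [wordsH] using hi
    obtain ⟨π, hπ, -⟩ := equiv_gen i (by omega)
    refine ⟨π, fun u => ?_⟩
    rw [← hπ u]
    simp only [gen85, dif_pos hi7]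
  | one => exact ⟨1, by simp⟩
  | mul a b _ _ ha hb =>
    obtain ⟨π, hπ⟩ := ha
    obtain ⟨ρ, hρ⟩ := hb
    exact ⟨π * ρ, fun u => by rw [map_mul, Equiv.Perm.mul_apply, hπ, hρ, Equiv.Perm.mul_apply]⟩
  | inv a _ ha =>
    obtain ⟨π, hπ⟩ := ha
    refine ⟨π⁻¹, fun u => ?_⟩
    have := hπ ((hom a)⁻¹ u)
    rw [Equiv.Perm.inv_def, Equiv.apply_symm_apply] at this
    rw [map_inv, this, Equiv.Perm.inv_def, Equiv.Perm.inv_def, Equiv.symm_apply_apply]

theorem equiv_unique {π ρ : Equiv.Perm (Fin HeSympData.table.N)}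
    {f : Fin HeData.table.N → Fin HeSympData.table.N} (h₁ : ∀ u, f u = π (blk u))
    (h₂ : ∀ u, f u = ρ (blk u)) : π = ρ := by
  ext p
  obtain ⟨u, rfl⟩ := blk_surjective p
  rw [← h₁, ← h₂]

/-- The action on the blocks. -/
noncomputable def act85 : grpH →* Equiv.Perm (Fin HeSympData.table.N) :=
  MonoidHom.mk' (fun h => (equiv_all h h.2).choose) fun a b =>
    equiv_unique (equiv_all _ (a * b).2).choose_spec (fun u => by
      rw [Subgroup.coe_mul, map_mul, Equiv.Perm.mul_apply, (equiv_all a a.2).choose_spec,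
        (equiv_all b b.2).choose_spec, Equiv.Perm.mul_apply])

theorem act85_acts : HeSympData.table.Acts act85 gen85 := by
  refine ⟨fun i hi p => ?_⟩
  obtain ⟨π, h₁, h₂⟩ := equiv_gen i hi
  have e : act85 (gen85 i) = π := equiv_unique (equiv_all _ (gen85 i).2).choose_spec h₁
  rw [e, h₂]

theorem card_grpH : Nat.card grpH = 1958400 := by
  have h := grpH.card_mul_index
  rw [index_H_eq, card_eq.1] at h
  omega

theorem act85_injective : Function.Injective act85 := by
  have : Finite grpH := Nat.finite_of_card_ne_zero (by rw [card_grpH]; norm_num)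
  have h1 : 1958400 ≤ Nat.card act85.range := by
    rw [← HeSympData.chainH_prod]
    exact PTab.chainProd_le_card act85_acts HeSympData.table_slp _ [] _ HeSympData.chainH_ok
      fun e _ r _ _ => ⟨_, rfl⟩
  have h2 : Nat.card act85.range ≤ Nat.card grpH :=
    Nat.card_le_card_of_surjective _ act85.rangeRestrict_surjective
  rw [card_grpH] at h2
  have hb : Function.Bijective act85.rangeRestrict :=
    (Nat.bijective_iff_surjective_and_card _).2 ⟨act85.rangeRestrict_surjective, by
      rw [card_grpH]; omega⟩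
  intro a b e
  exact hb.1 (Subtype.ext e)

/-- The letters of the common subgroup. -/
def lettersN : List ℕ := [0, 1, 2, 3, 4, 6, 7]

/-- The subgroup of index two. -/
noncomputable def grpN : Subgroup grpH := Subgroup.closure (gen85 '' {i | i ∈ lettersN})

theorem card_grpN_le : 979200 ≤ Nat.card (grpN.map act85) := by
  rw [← HeSympData.chainN_prod]
  refine PTab.chainProd_le_card act85_acts HeSympData.table_slp _ [] _ HeSympData.chainN_ok
    fun e he r hr _ => Subgroup.mem_map_of_mem act85 ?_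
  have hm : ∀ e ∈ HeSympData.chainN, ∀ r ∈ e.2.1,
      r < HeSympData.table.nl + HeSympData.table.slp.length ∧
      Nat.testBit (rowMask HeSympData.table.nl HeSympData.table.slp lettersN) r = true := by
    decide +kernel
  exact el_mem_of_rowMask gen85 (l := lettersN)
    (m := rowMask HeSympData.table.nl HeSympData.table.slp lettersN) (by decide +kernel) r
    (hm e he r hr).1 (hm e he r hr).2

/-- Vectors of the symplectic space. -/
abbrev Vec : Type := Fin 2 ⊕ Fin 2 → FieldFour

/-- A vector from four coordinates. -/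
def mkVec (a b c d : FieldFour) : Vec := Sum.elim ![a, b] ![c, d]

theorem mkVec_eta (v : Vec) : mkVec (v (.inl 0)) (v (.inl 1)) (v (.inr 0)) (v (.inr 1)) = v := by
  funext x
  rcases x with x | x <;> fin_cases x <;> rfl

/-- The point of a vector. -/
def idxList : List ℕ := [85, 0, 0, 0, 1, 2, 3, 4, 1, 4, 2, 3, 1, 3, 4, 2, 5, 6, 7, 8, 9, 10, 11, 12, 13, 14, 15, 16, 17, 18, 19, 20, 5, 8, 6, 7, 17, 20, 18, 19, 9, 12, 10, 11, 13, 16, 14, 15, 5, 7, 8, 6, 13, 15, 16, 14, 17, 19, 20, 18, 9, 11, 12, 10, 21, 22, 23, 24, 25, 26, 27, 28, 29, 30, 31, 32, 33, 34, 35, 36, 37, 38, 39, 40, 41, 42, 43, 44, 45, 46, 47, 48, 49, 50, 51, 52, 53, 54, 55, 56, 57, 58, 59, 60, 61, 62, 63, 64, 65, 66, 67, 68, 69, 70, 71, 72, 73, 74, 75, 76, 77, 78, 79, 80, 81, 82, 83, 84, 21, 24, 22, 23, 33, 36, 34, 35, 25, 28, 26, 27, 29, 32, 30, 31, 69, 72, 70, 71, 81, 84, 82, 83, 73, 76, 74, 75, 77, 80, 78, 79, 37, 40, 38, 39, 49, 52, 50, 51, 41, 44, 42, 43, 45, 48, 46, 47, 53, 56, 54, 55, 65, 68, 66, 67,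 57, 60, 58, 59, 61, 64, 62, 63, 21, 23, 24, 22, 29, 31, 32, 30, 33, 35, 36, 34, 25, 27, 28, 26, 53, 55, 56, 54, 61, 63, 64, 62, 65, 67, 68, 66, 57, 59, 60, 58, 69, 71, 72, 70, 77, 79, 80, 78, 81, 83, 84, 82, 73, 75, 76, 74, 37, 39, 40, 38, 45, 47, 48, 46, 49, 51, 52, 50, 41, 43, 44, 42]

/-- A vector of each point, as a code. -/
def repList : List ℕ := [1, 4, 5, 6, 7, 16, 17, 18, 19, 20, 21, 22, 23, 24, 25, 26, 27, 28, 29, 30, 31, 64, 65, 66, 67, 68, 69, 70, 71, 72, 73, 74, 75, 76, 77, 78, 79, 80, 81, 82, 83, 84, 85, 86, 87, 88, 89, 90, 91, 92, 93, 94, 95, 96, 97, 98, 99, 100, 101, 102, 103, 104, 105, 106, 107, 108, 109, 110, 111, 112, 113, 114, 115, 116, 117, 118, 119, 120, 121, 122, 123, 124, 125, 126, 127, 0]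

/-- The point of a vector. -/
def ptOf (v : Vec) : ℕ :=
  idxList.getD (64 * (v (.inl 0)).code + 16 * (v (.inl 1)).code + 4 * (v (.inr 0)).code +
    (v (.inr 1)).code) 85

/-- A vector of a point. -/
def repOf (p : ℕ) : Vec :=
  mkVec (FieldFour.ofCode (Fin.ofNat 4 (repList.getD p 0 / 64)))
    (FieldFour.ofCode (Fin.ofNat 4 (repList.getD p 0 / 16)))
    (FieldFour.ofCode (Fin.ofNat 4 (repList.getD p 0 / 4)))
    (FieldFour.ofCode (Fin.ofNat 4 (repList.getD p 0)))

theorem ptOf_table : ∀ a b c d : FieldFour,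
    ptOf (mkVec a b c d) < 86 ∧ (∀ k : FieldFour, k ≠ 0 → ptOf (k • mkVec a b c d) = ptOf (mkVec a b c d)) ∧
      ∃ k : FieldFour, k ≠ 0 ∧ k • mkVec a b c d = repOf (ptOf (mkVec a b c d)) := by
  decide +kernel

theorem ptOf_spec (v : Vec) :
    ptOf v < 86 ∧ (∀ k : FieldFour, k ≠ 0 → ptOf (k • v) = ptOf v) ∧
      ∃ k : FieldFour, k ≠ 0 ∧ k • v = repOf (ptOf v) := by
  rw [← mkVec_eta v]
  exact ptOf_table _ _ _ _

theorem ptOf_repOf : ∀ p < 86, ptOf (repOf p) = p := by decide +kernel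

/-- The symplectic group. -/
abbrev Symp : Type := ↥(Matrix.symplecticGroup (Fin 2) FieldFour)

/-- The point of the image of a representative. -/
def sympMap (g : Symp) (p : Fin HeSympData.table.N) : Fin HeSympData.table.N :=
  ⟨ptOf (g.1 *ᵥ repOf p), (ptOf_spec _).1⟩

theorem sympMap_one (p : Fin HeSympData.table.N) : sympMap 1 p = p := by
  apply Fin.ext
  show ptOf ((1 : Matrix _ _ FieldFour) *ᵥ repOf p) = p
  rw [Matrix.one_mulVec, ptOf_repOf _ p.2]

theorem sympMap_mul (g h : Symp) (p : Fin HeSympData.table.N) :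
    sympMap (g * h) p = sympMap g (sympMap h p) := by
  apply Fin.ext
  show ptOf ((g.1 * h.1) *ᵥ repOf p) = ptOf (g.1 *ᵥ repOf (ptOf (h.1 *ᵥ repOf p)))
  obtain ⟨-, -, k, hk, e⟩ := ptOf_spec (h.1 *ᵥ repOf p)
  rw [← e, Matrix.mulVec_smul, (ptOf_spec _).2.1 k hk, Matrix.mulVec_mulVec]

/-- The action on the points. -/
def sympAct : Symp →* Equiv.Perm (Fin HeSympData.table.N) where
  toFun g :=
    { toFun := sympMap g
      invFun := sympMap g⁻¹
      left_inv := fun p => by rw [← sympMap_mul, inv_mul_cancel, sympMap_one]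
      right_inv := fun p => by rw [← sympMap_mul, mul_inv_cancel, sympMap_one] }
  map_one' := Equiv.ext sympMap_one
  map_mul' g h := Equiv.ext (sympMap_mul g h)

/-- The coordinate of an index. -/
def coord : Fin 2 ⊕ Fin 2 → Fin 4 := Sum.elim ![0, 1] ![2, 3]

/-- The matrices, by codes of entries. -/
def matCodes : List (Matrix (Fin 4) (Fin 4) (Fin 4)) :=
  [(!![1, 0, 0, 0; 0, 1, 0, 0; 0, 1, 1, 0; 1, 0, 0, 1] : Matrix (Fin 4) (Fin 4) (Fin 4)),
    (!![1, 1, 0, 0; 0, 1, 0, 0; 0, 0, 1, 0; 0, 0, 1, 1] : Matrix (Fin 4) (Fin 4) (Fin 4)),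
    (!![0, 2, 0, 0; 3, 0, 0, 0; 3, 0, 0, 3; 0, 2, 2, 0] : Matrix (Fin 4) (Fin 4) (Fin 4)),
    (!![1, 2, 0, 0; 0, 1, 0, 0; 0, 1, 1, 0; 1, 2, 2, 1] : Matrix (Fin 4) (Fin 4) (Fin 4)),
    (!![1, 2, 0, 0; 0, 1, 0, 0; 0, 0, 1, 0; 0, 2, 2, 1] : Matrix (Fin 4) (Fin 4) (Fin 4)),
    (!![1, 0, 0, 1; 0, 1, 1, 0; 0, 1, 0, 0; 1, 0, 0, 0] : Matrix (Fin 4) (Fin 4) (Fin 4))]

/-- The matrix of a letter. -/
def matOfLetter (i : ℕ) : Matrix (Fin 2 ⊕ Fin 2) (Fin 2 ⊕ Fin 2) FieldFour :=
  fun x y => FieldFour.ofCode (matCodes.getD (if i < 6 then i else 5) 0 (coord x) (coord y))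

theorem matOfLetter_mem : ∀ i ∈ [0, 1, 2, 3, 4, 6],
    matOfLetter i ∈ Matrix.symplecticGroup (Fin 2) FieldFour := by
  intro i hi
  rw [SymplecticGroup.mem_iff]
  revert i
  decide +kernel

/-- The symplectic matrices of the letters. -/
def sympGen (i : ℕ) : Symp :=
  if h : i ∈ [0, 1, 2, 3, 4, 6] then ⟨matOfLetter i, matOfLetter_mem i h⟩ else 1

theorem sympAct_gen (i : ℕ) (hi : i ∈ [0, 1, 2, 3, 4, 6]) :
    sympAct (sympGen i) = act85 (gen85 i) := by
  ext p
  have h : ∀ i ∈ [0, 1, 2, 3, 4, 6], ∀ p < 86,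
      ptOf (matOfLetter i *ᵥ repOf p) = HeSympData.table.img i p := by
    decide +kernel
  have hlt : ∀ i ∈ [0, 1, 2, 3, 4, 6], i < 8 := by decide
  rw [act85_acts.img_eq i (hlt i hi) p, ← h i hi p p.2]
  simp only [sympGen, dif_pos hi]
  rfl

theorem map_grpN_le : grpN.map act85 ≤ sympAct.range := by
  rw [grpN, MonoidHom.map_closure, Subgroup.closure_le]
  rintro _ ⟨_, ⟨i, hi, rfl⟩, rfl⟩
  by_cases h6 : i ∈ [0, 1, 2, 3, 4, 6]
  · exact ⟨sympGen i, sympAct_gen i h6⟩
  · have h7 : ∀ i ∈ lettersN, i ∉ [0, 1, 2, 3, 4, 6] → i = 7 := by decide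
    obtain rfl := h7 i hi h6
    have e : gen85 7 = (gen85 6)⁻¹ := by
      apply Subtype.ext
      simp [gen85]
    exact ⟨(sympGen 6)⁻¹, by rw [e, map_inv, map_inv, sympAct_gen 6 (by decide)]⟩

theorem card_symp : Nat.card Symp = 979200 := by
  rw [CfsgLib.Classical.card_symplecticGroup, FieldFour.card_eq]
  norm_num [Finset.prod_range_succ]

theorem sympAct_bij : Function.Injective sympAct ∧ sympAct.range = grpN.map act85 ∧
    Nat.card grpN = 979200 := by
  have h1 : Nat.card sympAct.range ≤ 979200 :=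
    card_symp ▸ Nat.card_le_card_of_surjective _ sympAct.rangeRestrict_surjective
  have h2 := Subgroup.card_le_of_le map_grpN_le
  have h3 := card_grpN_le
  refine ⟨?_, (Subgroup.eq_of_le_of_card_ge map_grpN_le (by omega)).symm, ?_⟩
  · have hb : Function.Bijective sympAct.rangeRestrict :=
      (Nat.bijective_iff_surjective_and_card _).2 ⟨sympAct.rangeRestrict_surjective, by
        rw [card_symp]; omega⟩
    exact fun a b e => hb.1 (Subtype.ext e)
  · rw [← Subgroup.card_map_of_injective act85_injective]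
    omega

theorem grpN_index : grpN.index = 2 := by
  have h := grpN.card_mul_index
  rw [sympAct_bij.2.2, card_grpH] at h
  omega

/-- The subgroup of index two is the symplectic group. -/
noncomputable def grpNEquiv : grpN ≃* Symp :=
  ((grpN.equivMapOfInjective act85 act85_injective).trans
    (MulEquiv.subgroupCongr sympAct_bij.2.1.symm)).trans
    (MonoidHom.ofInjective sympAct_bij.1).symm

end CfsgLib.Sporadic.CosetCert.HeP
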