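import Cfsg.Prelude.Def_SporadicCombinatorics

/-!
The hexacode: systematic form and kernel-checked tables over an encoded field of four elements.
-/

set_option autoImplicit false

namespace CfsgLib.Sporadic.Hexacode

open Cfsg

/-- Addition of the four-element field, encoded as 0, 1, ω = 2, ω² = 3. -/
def add4 : Fin 4 → Fin 4 → Fin 4 :=
  ![![0, 1, 2, 3], ![1, 0, 3, 2], ![2, 3, 0, 1], ![3, 2, 1, 0]]

/-- Multiplication of the four-element field in that encoding. -/
def mul4 : Fin 4 → Fin 4 → Fin 4 :=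
  ![![0, 0, 0, 0], ![0, 1, 2, 3], ![0, 2, 3, 1], ![0, 3, 1, 2]]

/-- The hexacode word with given first three coordinates. -/
def word (a b c : Fin 4) : Fin 6 → Fin 4 :=
  ![a, b, c, add4 (add4 a b) c, add4 (add4 (mul4 3 a) (mul4 2 b)) c,
    add4 (add4 (mul4 2 a) (mul4 3 b)) c]

/-- Membership test. -/
def InHex (x : Fin 6 → Fin 4) : Prop := ∀ i, word (x 0) (x 1) (x 2) i = x i

instance decInHex (x : Fin 6 → Fin 4) : Decidable (InHex x) := by unfold InHex; infer_instance

/-- The image of the basis word `k` under a monomial map of the encoded code. -/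
def monoImage (σ : Equiv.Perm (Fin 6)) (c : Fin 6 → Fin 4) (a b e : Fin 4) : Fin 6 → Fin 4 :=
  fun i => mul4 (c i) (word a b e (σ.symm i))

section Field

variable {F : Type*} [Field F] [Fintype F]

/-- The decoding map. -/
def phi (ω : F) : Fin 4 → F := ![0, 1, ω, ω ^ 2]

variable {ω : F}

theorem two_eq_zero (hF : Fintype.card F = 4) : (2 : F) = 0 := by
  have h : ((4 : ℕ) : F) = 0 := hF ▸ Nat.cast_card_eq_zero F
  have h2 : (2 : F) * 2 = 0 := by rw [← h]; norm_num
  simpa using h2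

theorem phi_add (hF : Fintype.card F = 4) (hω : ω ^ 2 + ω + 1 = 0) (a b : Fin 4) :
    phi ω (add4 a b) = phi ω a + phi ω b := by
  have h2 := two_eq_zero hF
  fin_cases a <;> fin_cases b <;> simp [phi, add4] <;> grind

theorem phi_mul (hF : Fintype.card F = 4) (hω : ω ^ 2 + ω + 1 = 0) (a b : Fin 4) :
    phi ω (mul4 a b) = phi ω a * phi ω b := by
  have h2 := two_eq_zero hF
  fin_cases a <;> fin_cases b <;> simp [phi, mul4] <;> grind

theorem phi_injective (hF : Fintype.card F = 4) (hω : ω ^ 2 + ω + 1 = 0) :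
    Function.Injective (phi ω) := by
  have h2 := two_eq_zero hF
  have h0 : ω ≠ 0 := fun h => by simp [h] at hω
  have h1 : ω ≠ 1 := fun h => one_ne_zero (α := F) (by rw [h] at hω; linear_combination hω - h2)
  have h3 : ω ^ 2 ≠ 0 := pow_ne_zero 2 h0
  have h4 : ω ^ 2 ≠ 1 := fun h => h0 (by grind)
  have h5 : ω ^ 2 ≠ ω := fun h => one_ne_zero (α := F) (by grind)
  intro a b h
  fin_cases a <;> fin_cases b <;> simp [phi] at h ⊢ <;> grind

/-- The decoding as an equivalence. -/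
noncomputable def phiEquiv (hF : Fintype.card F = 4) (hω : ω ^ 2 + ω + 1 = 0) : Fin 4 ≃ F :=
  Equiv.ofBijective (phi ω)
    ((Fintype.bijective_iff_injective_and_card _).2 ⟨phi_injective hF hω, by simp [hF]⟩)

theorem phiEquiv_apply (hF : Fintype.card F = 4) (hω : ω ^ 2 + ω + 1 = 0) (a : Fin 4) :
    phiEquiv hF hω a = phi ω a := rfl

theorem phi_word (hF : Fintype.card F = 4) (hω : ω ^ 2 + ω + 1 = 0) (a b c : Fin 4) :
    phi ω ∘ word a b c = ![phi ω a, phi ω b, phi ω c, phi ω a + phi ω b + phi ω c,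
      ω ^ 2 * phi ω a + ω * phi ω b + phi ω c, ω * phi ω a + ω ^ 2 * phi ω b + phi ω c] := by
  funext i
  fin_cases i <;> simp [word, phi_add hF hω, phi_mul hF hω] <;> simp [phi]

/-- The systematic equations. -/
def IsWord (ω : F) (x : Fin 6 → F) : Prop :=
  x 3 = x 0 + x 1 + x 2 ∧ x 4 = ω ^ 2 * x 0 + ω * x 1 + x 2 ∧ x 5 = ω * x 0 + ω ^ 2 * x 1 + x 2

theorem mem_iff_isWord (hF : Fintype.card F = 4) (hω : ω ^ 2 + ω + 1 = 0) {x : Fin 6 → F} :
    x ∈ hexacode F ω ↔ IsWord ω x := by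
  have h2 := two_eq_zero hF
  constructor
  · intro hx
    induction hx using Submodule.span_induction with
    | mem y hy =>
      simp only [Set.mem_insert_iff, Set.mem_singleton_iff] at hy
      rcases hy with rfl | rfl | rfl <;> simp [IsWord] <;> grind
    | zero => simp [IsWord]
    | add y z _ _ ihy ihz =>
      obtain ⟨a1, a2, a3⟩ := ihy
      obtain ⟨b1, b2, b3⟩ := ihz
      refine ⟨?_, ?_, ?_⟩ <;> simp only [Pi.add_apply, a1, a2, a3, b1, b2, b3] <;> ring
    | smul r y _ ihy =>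
      obtain ⟨a1, a2, a3⟩ := ihy
      refine ⟨?_, ?_, ?_⟩ <;> simp only [Pi.smul_apply, smul_eq_mul, a1, a2, a3] <;> ring
  · rintro ⟨h3, h4, h5⟩
    rw [hexacode, Submodule.mem_span_triple]
    refine ⟨ω * x 0 + ω ^ 2 * x 1, ω ^ 2 * x 0 + ω ^ 2 * x 1 + x 2, x 1 + x 2, ?_⟩
    funext i
    fin_cases i <;> simp [h3, h4, h5] <;> grind

theorem mem_iff (hF : Fintype.card F = 4) (hω : ω ^ 2 + ω + 1 = 0) {x : Fin 6 → F} :
    x ∈ hexacode F ω ↔ ∃ a b c, phi ω ∘ word a b c = x := by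
  rw [mem_iff_isWord hF hω]
  constructor
  · rintro ⟨h3, h4, h5⟩
    refine ⟨(phiEquiv hF hω).symm (x 0), (phiEquiv hF hω).symm (x 1), (phiEquiv hF hω).symm (x 2), ?_⟩
    simp only [phi_word hF hω, ← phiEquiv_apply hF hω, Equiv.apply_symm_apply]
    funext i
    fin_cases i <;> simp [h3, h4, h5]
  · rintro ⟨a, b, c, rfl⟩
    rw [phi_word hF hω]
    exact ⟨rfl, rfl, rfl⟩

theorem mem_encode_iff (hF : Fintype.card F = 4) (hω : ω ^ 2 + ω + 1 = 0) {y : Fin 6 → Fin 4} :
    phi ω ∘ y ∈ hexacode F ω ↔ InHex y := by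
  rw [mem_iff hF hω]
  constructor
  · rintro ⟨a, b, c, h⟩
    have hy : word a b c = y := (phi_injective hF hω).comp_left h
    subst hy
    exact fun i => rfl
  · intro h
    exact ⟨y 0, y 1, y 2, by rw [show word (y 0) (y 1) (y 2) = y from funext h]⟩

end Field

end CfsgLib.Sporadic.Hexacode
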