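import Cfsg.Agent.Lib.Sporadic.OctadStabilizer
import Cfsg.Prelude.Def_KGroupFacts

/-!
Every automorphism of a pointwise stabiliser in `M24` of at most one point is inner, as soon as every subgroup of the
index of a point stabiliser fixes a point.
-/

set_option autoImplicit false

namespace CfsgLib.Sporadic.MathieuAut

open Cfsg CfsgLib.SmallGroups.Golay CfsgLib.SmallGroups.GolayOctads CfsgLib.SmallGroups.M24Group
  CfsgLib.SmallGroups.Mathieu CfsgLib.SmallGroups.MathieuSets CfsgLib.Sporadic.OctadStabilizer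
open scoped Pointwise

theorem symmDiff_octad {a b : Finset GolayPt} (ha : a ∈ octads) (hb : b ∈ octads)
    (h : (symmDiff a b).card = 8) : symmDiff a b ∈ octads := by
  obtain ⟨m, hm, rfl⟩ := mem_octads.mp ha
  obtain ⟨n, hn, rfl⟩ := mem_octads.mp hb
  rw [mem_cwOfWeight] at hm hn
  rw [← toSet_xor] at h ⊢
  rw [card_toSet] at h
  exact mem_octads.mpr ⟨m ^^^ n, mem_cwOfWeight.mpr ⟨cw_xor hm.1 hn.1, h⟩, rfl⟩

theorem exists_octad_through {s : Finset GolayPt} (hs : s.card ≤ 5) : ∃ o ∈ octads, s ⊆ o := by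
  obtain ⟨t, hst, -, ht⟩ := Finset.exists_subsuperset_card_eq (Finset.subset_univ s) hs
    (by rw [Finset.card_univ, card_golayPt]; norm_num)
  obtain ⟨o, ⟨ho, hto⟩, -⟩ := octads_steiner.2 t ht
  exact ⟨o, ho, hst.trans hto⟩

theorem octad_fixed_of_five {g : Equiv.Perm GolayPt} (hg : g ∈ M24) {o s : Finset GolayPt} (ho : o ∈ octads)
    (hso : s ⊆ o) (hs : 5 ≤ s.card) (hfix : ∀ p ∈ s, g p = p) : g • o = o := by
  refine octad_eq_of_inter (smul_mem_weight hg ho) ho (hs.trans (Finset.card_le_card fun p hp => ?_))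
  refine Finset.mem_inter.2 ⟨?_, hso hp⟩
  rw [← hfix p hp, ← Equiv.Perm.smul_def]
  exact Finset.smul_mem_smul_finset (hso hp)

variable {F : Finset GolayPt} {σ : Equiv.Perm GolayPt}

/-- A permutation fixing `F` and normalising its pointwise stabiliser maps octads through `F` to octads. -/
theorem octad_image (hσF : ∀ p ∈ F, σ p = p)
    (hσ : ∀ g ∈ M24, (∀ p ∈ F, g p = p) → σ⁻¹ * g * σ ∈ M24) (hF : F.card ≤ 5) {o : Finset GolayPt}
    (ho : o ∈ octads) (hFo : F ⊆ o) : σ • o ∈ octads := by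
  classical
  set T := σ • o
  have hT : T.card = 8 := (Finset.card_smul_finset σ o).trans ho.2
  have hFT : F ⊆ T := fun p hp => by
    rw [← hσF p hp, ← Equiv.Perm.smul_def]
    exact Finset.smul_mem_smul_finset (hFo hp)
  obtain ⟨s, hFs, hsT, hs⟩ := Finset.exists_subsuperset_card_eq hFT (show F.card ≤ 5 by omega) (by omega)
  obtain ⟨U, hU, hsU⟩ := exists_octad_through hs.le
  have key : ∀ v ∈ ptStab U, v • T = T := by
    intro v hv
    obtain ⟨hvM, hvfix⟩ := mem_ptStab.1 hv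
    have hfix : ∀ p ∈ σ⁻¹ • s, (σ⁻¹ * v * σ) p = p := by
      intro p hp
      obtain ⟨r, hr, rfl⟩ := Finset.mem_smul_finset.1 hp
      simp [hvfix r (hsU hr)]
    have h1 := octad_fixed_of_five (hσ v hvM fun p hp => hvfix p (hsU (hFs hp))) ho
      (s := σ⁻¹ • s) (fun p hp => ?_) (by rw [Finset.card_smul_finset, hs]) hfix
    · rwa [mul_smul, mul_smul, inv_smul_eq_iff] at h1
    · obtain ⟨r, hr, rfl⟩ := Finset.mem_smul_finset.1 hp
      exact Finset.inv_smul_mem_iff.2 (hsT hr)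
  suffices hTU : T ⊆ U by
    rw [Finset.eq_of_subset_of_card_le hTU (by rw [hT, hU.2])]
    exact hU
  intro p hp
  by_contra hpU
  have hinj : Function.Injective fun v : ptStab U => (⟨(v : Equiv.Perm GolayPt) p, by
      have := Finset.smul_mem_smul_finset (a := (v : Equiv.Perm GolayPt)) hp
      rw [key v v.2, Equiv.Perm.smul_def] at this
      exact this⟩ : ↥T) := by
    intro a b hab
    have hab' : (a : Equiv.Perm GolayPt) p = (b : Equiv.Perm GolayPt) p := congrArg Subtype.val hab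
    have hm : (a : Equiv.Perm GolayPt)⁻¹ * b ∈ ptStab U ⊓ comp U p := by
      have h1 : (a : Equiv.Perm GolayPt)⁻¹ * b ∈ ptStab U := mul_mem (inv_mem a.2) b.2
      refine ⟨h1, ptStab_le U h1, ?_⟩
      show ((a : Equiv.Perm GolayPt)⁻¹ * b) p = p
      rw [Equiv.Perm.mul_apply, ← hab']
      exact (a : Equiv.Perm GolayPt).symm_apply_apply p
    rw [inf_bot hU hpU, Subgroup.mem_bot, inv_mul_eq_one] at hm
    exact Subtype.ext hm
  have := Nat.card_le_card_of_injective _ hinj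
  rw [(ptStab_octad hU).1, Nat.card_eq_finsetCard, hT] at this
  omega

/-- Such a permutation lies in `M24`. -/
theorem mem_M24_of_normalizes (hσF : ∀ p ∈ F, σ p = p)
    (hσ : ∀ g ∈ M24, (∀ p ∈ F, g p = p) → σ⁻¹ * g * σ ∈ M24) (hF : F.card ≤ 1) : σ ∈ M24 := by
  classical
  rw [M24_eq_aut_octads]
  have hmem : ∀ o ∈ octads, σ • o ∈ octads := by
    intro o ho
    by_cases hFo : F ⊆ o
    · exact octad_image hσF hσ (hF.trans (by norm_num)) ho hFo
    obtain ⟨q, hqF, hqo⟩ := Finset.not_subset.1 hFo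
    obtain ⟨A, hA, hA4⟩ := Finset.exists_subset_card_eq (show 4 ≤ o.card by rw [ho.2]; norm_num)
    obtain ⟨a, ha, hsa⟩ := exists_octad_through (s := insert q A) (Finset.card_insert_le _ _ |>.trans (by omega))
    have hqa : q ∈ a := hsa (Finset.mem_insert_self _ _)
    have h4 : (a ∩ o).card = 4 := by
      refine le_antisymm ?_ (hA4 ▸ Finset.card_le_card fun p hp =>
        Finset.mem_inter.2 ⟨hsa (Finset.mem_insert_of_mem hp), hA hp⟩)
      by_contra h
      exact hqo (octad_eq_of_inter ha ho (by omega) ▸ hqa)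
    have hb8 : (symmDiff a o).card = 8 := by
      have := card_symmDiff_add a o
      rw [ha.2, ho.2, h4] at this
      omega
    have hb := symmDiff_octad ha ho hb8
    have hFsub : ∀ t : Finset GolayPt, q ∈ t → F ⊆ t := fun t ht p hp => by
      rw [Finset.card_le_one.1 hF p hp q hqF]; exact ht
    have hbq : q ∈ symmDiff a o := Finset.mem_symmDiff.2 (Or.inl ⟨hqa, hqo⟩)
    have e : σ • o = symmDiff (σ • a) (σ • symmDiff a o) := by
      rw [← Finset.smul_finset_symmDiff, ← symmDiff_assoc, symmDiff_self, bot_symmDiff]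
    rw [e]
    refine symmDiff_octad (octad_image hσF hσ (hF.trans (by norm_num)) ha (hFsub a hqa))
      (octad_image hσF hσ (hF.trans (by norm_num)) hb (hFsub _ hbq)) ?_
    rw [← e, Finset.card_smul_finset, ho.2]
  refine Set.eq_of_subset_of_ncard_le ?_ (le_of_eq ?_) (Set.toFinite _)
  · rintro _ ⟨o, ho, rfl⟩
    exact hmem o ho
  · exact (Set.ncard_image_of_injective _ (MulAction.injective σ)).symm

/-- The stabiliser of a point. -/
def stabPt (G : Subgroup (Equiv.Perm GolayPt)) (p : GolayPt) : Subgroup G :=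
  (MulAction.stabilizer (Equiv.Perm GolayPt) p).subgroupOf G

theorem mem_stabPt {G : Subgroup (Equiv.Perm GolayPt)} {p : GolayPt} {g : G} :
    g ∈ stabPt G p ↔ (g : Equiv.Perm GolayPt) p = p := Iff.rfl

theorem exists_perm_of_stabPt {G : Subgroup (Equiv.Perm GolayPt)} (hmem : ∀ g, g ∈ G ↔ g ∈ M24 ∧ ∀ p ∈ F, g p = p)
    (n : ℕ) (hidx : ∀ p ∉ F, (stabPt G p).index = n)
    (hsub : ∀ H : Subgroup G, H.index = n → ∃ p ∉ F, H ≤ stabPt G p)
    (hsep : ∀ p ∉ F, ∀ q ∉ F, p ≠ q → ∃ g : G, (g : Equiv.Perm GolayPt) p = p ∧ (g : Equiv.Perm GolayPt) q ≠ q)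
    (α : MulAut G) : ∃ σ : Equiv.Perm GolayPt, (∀ p ∈ F, σ p = p) ∧ ∀ g : G, (α g : Equiv.Perm GolayPt) = σ * g * σ⁻¹ := by
  classical
  have hmap : ∀ p, ∃ r, (p ∈ F → r = p) ∧ (p ∉ F → r ∉ F ∧ (stabPt G p).map α.toMonoidHom = stabPt G r) := by
    intro p
    by_cases hp : p ∈ F
    · exact ⟨p, fun _ => rfl, fun h => absurd hp h⟩
    have hi : ((stabPt G p).map α.toMonoidHom).index = n := by
      rw [Subgroup.index_map_of_bijective α.bijective, hidx p hp]
    obtain ⟨r, hr, hle⟩ := hsub _ hi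
    refine ⟨r, fun h => absurd h hp, fun _ => ⟨hr, Subgroup.eq_of_le_of_card_ge hle (le_of_eq ?_)⟩⟩
    have h1 := ((stabPt G p).map α.toMonoidHom).card_mul_index
    have h2 := (stabPt G r).card_mul_index
    rw [hi] at h1
    rw [hidx r hr, ← h1] at h2
    have hpos : 0 < n := by
      rw [← hi]; exact Nat.pos_of_ne_zero Subgroup.index_ne_zero_of_finite
    exact Nat.eq_of_mul_eq_mul_right hpos h2
  choose f hfF hfst using hmap
  have huniq : ∀ r ∉ F, ∀ s ∉ F, stabPt G r ≤ stabPt G s → r = s := by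
    intro r hr s hs hle
    by_contra hne
    obtain ⟨g, h1, h2⟩ := hsep r hr s hs hne
    exact h2 (hle h1)
  have hinj : Function.Injective f := by
    intro p q e
    by_cases hp : p ∈ F <;> by_cases hq : q ∈ F
    · rwa [hfF p hp, hfF q hq] at e
    · rw [hfF p hp] at e; exact absurd (e ▸ hp) (hfst q hq).1
    · rw [hfF q hq] at e; exact absurd (e.symm ▸ hq) (hfst p hp).1
    · refine huniq p hp q hq fun g hg => ?_
      have h1 : α g ∈ (stabPt G p).map α.toMonoidHom := ⟨g, hg, rfl⟩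
      rw [(hfst p hp).2, e, ← (hfst q hq).2] at h1
      exact (Subgroup.mem_map_iff_mem α.injective).1 h1
  set σ : Equiv.Perm GolayPt := Equiv.ofBijective f (Finite.injective_iff_bijective.1 hinj)
  have hσ : ∀ p, σ p = f p := fun p => rfl
  have hG : ∀ g : G, ∀ p ∈ F, (g : Equiv.Perm GolayPt) p = p := fun g => ((hmem _).1 g.2).2
  have hout : ∀ g : G, ∀ p ∉ F, (g : Equiv.Perm GolayPt) p ∉ F := fun g p hp h => hp <| by
    rwa [(g : Equiv.Perm GolayPt).injective (hG g _ h)] at h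
  have hcomm : ∀ g : G, ∀ p, σ ((g : Equiv.Perm GolayPt) p) = (α g : Equiv.Perm GolayPt) (σ p) := by
    intro g p
    rw [hσ, hσ]
    by_cases hp : p ∈ F
    · rw [hG g p hp, hfF p hp, hG (α g) p hp]
    · have hgp := hout g p hp
      refine huniq _ (hfst _ hgp).1 _ (hout (α g) _ (hfst p hp).1) fun h hh => ?_
      rw [← (hfst _ hgp).2] at hh
      obtain ⟨k, hk, rfl⟩ := hh
      have hk' : g⁻¹ * k * g ∈ stabPt G p := by
        rw [mem_stabPt, Subgroup.coe_mul, Subgroup.coe_mul, Equiv.Perm.mul_apply, Equiv.Perm.mul_apply,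
          (mem_stabPt.1 hk), Subgroup.coe_inv, Equiv.Perm.inv_def, Equiv.symm_apply_apply]
      have h1 : α (g⁻¹ * k * g) ∈ stabPt G (f p) := (hfst p hp).2 ▸ ⟨_, hk', rfl⟩
      rw [mem_stabPt, map_mul, map_mul, map_inv, Subgroup.coe_mul, Subgroup.coe_mul, Equiv.Perm.mul_apply,
        Equiv.Perm.mul_apply, Subgroup.coe_inv, Equiv.Perm.inv_def, Equiv.symm_apply_eq] at h1
      exact h1
  have hconj : ∀ g : G, (α g : Equiv.Perm GolayPt) = σ * g * σ⁻¹ := fun g => Equiv.ext fun p => by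
    rw [Equiv.Perm.mul_apply, Equiv.Perm.mul_apply, hcomm]
    simp
  exact ⟨σ, fun p hp => (hσ p).trans (hfF p hp), hconj⟩

theorem inner_of_stabPt {G : Subgroup (Equiv.Perm GolayPt)} (hmem : ∀ g, g ∈ G ↔ g ∈ M24 ∧ ∀ p ∈ F, g p = p)
    (hF : F.card ≤ 1) (n : ℕ) (hidx : ∀ p ∉ F, (stabPt G p).index = n)
    (hsub : ∀ H : Subgroup G, H.index = n → ∃ p ∉ F, H ≤ stabPt G p)
    (hsep : ∀ p ∉ F, ∀ q ∉ F, p ≠ q → ∃ g : G, (g : Equiv.Perm GolayPt) p = p ∧ (g : Equiv.Perm GolayPt) q ≠ q)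
    (α : MulAut G) : α ∈ Inn G := by
  obtain ⟨σ, hσF, hconj⟩ := exists_perm_of_stabPt hmem n hidx hsub hsep α
  have hσM : σ ∈ M24 := by
    refine mem_M24_of_normalizes (F := F) hσF (fun g hg hgF => ?_) hF
    obtain ⟨g', hg'⟩ := α.surjective ⟨g, (hmem g).2 ⟨hg, hgF⟩⟩
    have e := hconj g'
    rw [hg'] at e
    have e' : σ⁻¹ * g * σ = (g' : Equiv.Perm GolayPt) := by
      rw [show g = σ * (g' : Equiv.Perm GolayPt) * σ⁻¹ from e]; group
    rw [e']
    exact ((hmem _).1 g'.2).1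
  exact ⟨⟨σ, (hmem σ).2 ⟨hσM, hσF⟩⟩, MulEquiv.ext fun g => Subtype.ext (hconj g).symm⟩

theorem card_out_one {G : Type*} [Group G] (h : ∀ α : MulAut G, α ∈ Inn G) : Nat.card (Out G) = 1 := by
  have : Subsingleton (Out G) := QuotientGroup.subsingleton_iff.2 ((Subgroup.eq_top_iff' _).2 h)
  exact Nat.card_eq_one_iff_unique.2 ⟨this, ⟨1⟩⟩

end CfsgLib.Sporadic.MathieuAut
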