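import Cfsg.Prelude.Def_Spor_Mathieu
import Cfsg.Agent.Lib.Sporadic.MathieuAut
import Cfsg.Agent.Lib.Sporadic.M24Maximal

/-!
Subgroups of index 23 in the Mathieu group of degree 23 and of index 24 in the one of degree 24 fix a point.
-/

set_option autoImplicit false

namespace CfsgLib.Sporadic.IndexPoints

open Cfsg CfsgLib.SmallGroups.Golay CfsgLib.SmallGroups.GolayOctads CfsgLib.SmallGroups.M24Group
  CfsgLib.SmallGroups.Mathieu CfsgLib.SmallGroups.MathieuSets CfsgLib.Sporadic.OctadStabilizer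
  CfsgLib.SmallGroups.MathieuSimple CfsgLib.Sporadic.MathieuAut
open scoped Pointwise

/-- Fixed points. -/
def fixedPts (g : Equiv.Perm GolayPt) : Finset GolayPt := Finset.univ.filter fun p => g p = p

theorem mem_fixedPts {g : Equiv.Perm GolayPt} {p : GolayPt} : p ∈ fixedPts g ↔ g p = p := by simp [fixedPts]

/-- A permutation of prime order moves an orbit of that size. -/
theorem card_orbit_of_moved {g : Equiv.Perm GolayPt} {ℓ : ℕ} [hℓ : Fact ℓ.Prime] (hord : orderOf g = ℓ)
    {a : GolayPt} (ha : g a ≠ a) : (MulAction.orbit (Subgroup.zpowers g) a).ncard = ℓ := by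
  have h := (MulAction.stabilizer (Subgroup.zpowers g) a).index_dvd_card
  rw [MulAction.index_stabilizer, Nat.card_zpowers, hord] at h
  refine ((Nat.dvd_prime hℓ.out).1 h).resolve_left fun h1 => ha ?_
  obtain ⟨b, hb⟩ := Set.ncard_eq_one.1 h1
  have e1 : a ∈ ({b} : Set GolayPt) := hb ▸ MulAction.mem_orbit_self a
  have e2 : g a ∈ ({b} : Set GolayPt) := hb ▸ ⟨⟨g, Subgroup.mem_zpowers g⟩, rfl⟩
  exact (Set.mem_singleton_iff.1 e2).trans (Set.mem_singleton_iff.1 e1).symm

/-- An element of prime order at least five fixes at most four points. -/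
theorem card_fixedPts_le {g : Equiv.Perm GolayPt} (hg : g ∈ M24) {ℓ : ℕ} [hℓ : Fact ℓ.Prime]
    (hord : orderOf g = ℓ) (h11 : 5 ≤ ℓ) : (fixedPts g).card ≤ 4 := by
  by_contra hlt
  obtain ⟨s, hs, hs5⟩ := Finset.exists_subset_card_eq (show 5 ≤ (fixedPts g).card by omega)
  obtain ⟨U, hU, hsU⟩ := exists_octad_through hs5.le
  have hgU : g • U = U := octad_fixed_of_five hg hU hsU hs5.ge fun p hp => mem_fixedPts.1 (hs hp)
  have hall : ∀ a ∈ U, g a = a := by
    intro a ha
    by_contra hne
    have h := card_orbit_of_moved hord hne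
    have hsub : MulAction.orbit (Subgroup.zpowers g) a ⊆ ((U \ s : Finset GolayPt) : Set GolayPt) := by
      rintro z hz
      refine Finset.mem_sdiff.2 ⟨?_, fun hzs => hne ?_⟩
      swap
      · obtain ⟨⟨k, n, rfl⟩, rfl⟩ := hz
        have hzf : g ((g ^ n) a) = (g ^ n) a := mem_fixedPts.1 (hs hzs)
        rw [← Equiv.Perm.mul_apply, ← (Commute.refl g).zpow_left n, Equiv.Perm.mul_apply] at hzf
        exact (g ^ n).injective hzf
      obtain ⟨⟨k, hk⟩, rfl⟩ := hz
      have h1 : k ∈ MulAction.stabilizer (Equiv.Perm GolayPt) U := (Subgroup.zpowers_le.2 (show g ∈ _ from hgU)) hk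
      exact (apply_mem_iff h1 a).2 ha
    have := Set.ncard_le_ncard hsub (Finset.finite_toSet _)
    rw [h, Set.ncard_coe_finset, Finset.card_sdiff_of_subset hsU, hU.2, hs5] at this
    omega
  have hsq := (ptStab_octad hU).2 g (mem_ptStab.2 ⟨hg, hall⟩)
  have : ℓ ∣ 2 := hord ▸ orderOf_dvd_of_pow_eq_one (by rw [pow_two, hsq])
  have := Nat.le_of_dvd (by norm_num) this
  omega

theorem card_fixedPts_mod {g : Equiv.Perm GolayPt} {ℓ : ℕ} [hℓ : Fact ℓ.Prime] (hord : orderOf g = ℓ)
    (S : Set GolayPt) (hS : ∀ p ∈ S, g p ∈ S) : S.ncard % ℓ = {p | p ∈ S ∧ g p = p}.ncard % ℓ := by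
  classical
  let σ : Equiv.Perm {p // p ∈ S} := g.subtypePerm fun p => ⟨fun h => by
    obtain ⟨q, hq⟩ := (Finite.injective_iff_bijective.1
      (show Function.Injective fun r : {p // p ∈ S} => (⟨g r, hS r r.2⟩ : {p // p ∈ S}) from
        fun r t e => Subtype.ext (g.injective (congrArg Subtype.val e)))).2 ⟨g p, h⟩
    exact g.injective (congrArg Subtype.val hq) ▸ q.2, hS p⟩
  have hσ : ∀ m : ℕ, ∀ r : {p // p ∈ S}, ((σ ^ m) r : GolayPt) = (g ^ m) r := fun m => by
    induction m with
    | zero => intro r; rfl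
    | succ m ih => intro r; rw [pow_succ', Equiv.Perm.mul_apply, pow_succ', Equiv.Perm.mul_apply, ← ih]; rfl
  have hσℓ : σ ^ ℓ ^ 1 = 1 := Equiv.ext fun r => Subtype.ext (by
    rw [hσ, pow_one, ← hord, pow_orderOf_eq_one]; rfl)
  have h := Equiv.Perm.card_compl_support_modEq (p := ℓ) (σ := σ) hσℓ
  rw [← Nat.card_coe_set_eq S, Nat.card_eq_fintype_card, show Fintype.card ↥S = Fintype.card {p // p ∈ S} from rfl,
    ← h]
  congr 1
  rw [← Nat.card_coe_set_eq, ← Nat.card_eq_finsetCard]
  refine Nat.card_congr ⟨fun r => ⟨r.1.1, r.1.2, ?_⟩, fun r => ⟨⟨r.1, r.2.1⟩, ?_⟩, fun _ => rfl, fun _ => rfl⟩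
  · exact congrArg Subtype.val (Equiv.Perm.notMem_support.1 (Finset.mem_compl.1 r.2))
  · exact Finset.mem_compl.2 (Equiv.Perm.notMem_support.2 (Subtype.ext r.2.2))

theorem card_fixedPts_eq {g : Equiv.Perm GolayPt} (hg : g ∈ M24) {ℓ : ℕ} [hℓ : Fact ℓ.Prime]
    (hord : orderOf g = ℓ) (h11 : 5 ≤ ℓ) : (fixedPts g).card ≤ 4 ∧ (fixedPts g).card % ℓ = 24 % ℓ := by
  refine ⟨card_fixedPts_le hg hord h11, ?_⟩
  have h := card_fixedPts_mod hord Set.univ fun _ _ => Set.mem_univ _
  rw [Set.ncard_univ, Nat.card_eq_fintype_card, card_golayPt] at h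
  rw [h]
  congr 1
  rw [← Set.ncard_coe_finset]
  congr 1
  ext p; simp [mem_fixedPts]

theorem exists_fixing {l : List GolayPt} (hl : l.length ≤ 2) {q : GolayPt} (hq : q ∉ l) (hnd : l.Nodup) :
    ∃ g ∈ M24, (∀ p ∈ l, g p = p) ∧ g q ≠ q := by
  classical
  obtain ⟨r, -, hr⟩ := Finset.exists_mem_notMem_of_card_lt_card (t := Finset.univ) (s := insert q l.toFinset)
    (by rw [Finset.card_univ, card_golayPt]
        exact lt_of_le_of_lt (Finset.card_insert_le _ _) (by have := l.toFinset_card_le; omega))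
  simp only [Finset.mem_insert, List.mem_toFinset, not_or] at hr
  obtain ⟨g, hg, he⟩ := M24Maximal.exists_of_card_le_five (x := q :: l) (y := r :: l)
    (List.nodup_cons.2 ⟨hq, hnd⟩) (List.nodup_cons.2 ⟨hr.2, hnd⟩) rfl (by simp; omega)
  rw [List.map_cons, List.cons.injEq] at he
  exact ⟨g, hg, fun p hp => List.map_inj_left.1 (he.2.trans l.map_id.symm) p hp, fun e => hr.1 (he.1.symm.trans e)⟩

theorem mem_M23 (g : Equiv.Perm GolayPt) :
    g ∈ Cfsg.Spor.M23 ↔ g ∈ Cfsg.M24 ∧ ∀ p ∈ ({none} : Finset GolayPt), g p = p := by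
  simp only [Finset.mem_singleton, forall_eq]
  rfl

theorem card_M23 : Nat.card Cfsg.Spor.M23 = 10200960 := by
  rw [← card_stab_point (none : GolayPt)]
  exact Nat.card_congr ⟨fun g => ⟨⟨g.1, g.2.1⟩, g.2.2⟩, fun g => ⟨g.1.1, g.1.2, g.2⟩, fun _ => rfl, fun _ => rfl⟩

theorem index_stabPt_M23 {p : GolayPt} (hp : p ≠ none) : (stabPt Cfsg.Spor.M23 p).index = 23 := by
  have h := (stabPt Cfsg.Spor.M23 p).card_mul_index
  have hc : Nat.card (stabPt Cfsg.Spor.M23 p) = 443520 := by
    rw [← card_stab_two hp]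
    exact Nat.card_congr ⟨fun g => ⟨⟨g.1.1, g.1.2.1⟩, g.2, g.1.2.2⟩, fun g => ⟨⟨g.1.1, g.1.2, g.2.2⟩, g.2.1⟩,
      fun _ => rfl, fun _ => rfl⟩
  rw [hc, card_M23] at h
  omega

theorem index_M23 (H : Subgroup Cfsg.Spor.M23) (hH : H.index = 23) :
    ∃ p ∉ ({none} : Finset GolayPt), H ≤ stabPt Cfsg.Spor.M23 p := by
  classical
  have h11 : Fact (Nat.Prime 11) := ⟨by norm_num⟩
  have hcard : Nat.card H = 443520 := by
    have h := H.card_mul_index
    rw [hH, card_M23] at h
    omega
  obtain ⟨x, hx⟩ := exists_prime_orderOf_dvd_card' (G := H) 11 (by rw [hcard]; norm_num)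
  set g : Equiv.Perm GolayPt := ((x : Cfsg.Spor.M23) : Equiv.Perm GolayPt)
  have hord : orderOf g = 11 := by rw [Subgroup.orderOf_coe, Subgroup.orderOf_coe, hx]
  have hnone : ∀ k : Cfsg.Spor.M23, (k : Equiv.Perm GolayPt) none = none := fun k => k.2.2
  obtain ⟨hle, hmod⟩ : (fixedPts g).card ≤ 4 ∧ (fixedPts g).card % 11 = 24 % 11 :=
    card_fixedPts_eq (x : Cfsg.Spor.M23).2.1 hord (by norm_num)
  have hn : none ∈ fixedPts g := mem_fixedPts.2 (hnone _)
  obtain ⟨p, hp, hpn⟩ := Finset.exists_mem_ne (s := fixedPts g) (by omega) none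
  have hfix : fixedPts g = {none, p} := by
    symm
    refine Finset.eq_of_subset_of_card_le ?_ (by rw [Finset.card_pair hpn.symm]; omega)
    intro z hz
    simp only [Finset.mem_insert, Finset.mem_singleton] at hz
    rcases hz with rfl | rfl
    exacts [hn, hp]
  refine ⟨p, by simpa using hpn, fun h hh => ?_⟩
  set O := MulAction.orbit H p
  have hnO : none ∉ O := fun ⟨k, hk⟩ => hpn <|
    ((k : Cfsg.Spor.M23) : Equiv.Perm GolayPt).injective (hk.trans (hnone k).symm)
  have hstep : ∀ z ∈ O, g z ∈ O := fun z hz => MulAction.mem_orbit_of_mem_orbit x hz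
  have hO1 : O.ncard % 11 = 1 := by
    rw [card_fixedPts_mod hord O hstep, show {z | z ∈ O ∧ g z = z} = {p} from ?_, Set.ncard_singleton]
    ext z
    simp only [Set.mem_ofPred_eq, Set.mem_singleton_iff]
    refine ⟨fun ⟨h1, h2⟩ => ?_, fun e => e ▸ ⟨MulAction.mem_orbit_self p, mem_fixedPts.1 hp⟩⟩
    have := hfix ▸ mem_fixedPts.2 h2
    simp only [Finset.mem_insert, Finset.mem_singleton] at this
    exact this.resolve_left fun e => hnO (e ▸ h1)
  have hO23 : O.ncard ≤ 23 := by
    have h := Set.ncard_le_ncard (show O ⊆ ({none} : Set GolayPt)ᶜ from fun z hz e => hnO (e ▸ hz))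
    rwa [Set.ncard_compl, Set.ncard_singleton, Nat.card_eq_fintype_card, card_golayPt] at h
  have hdvd : O.ncard ∣ 443520 := by
    rw [← hcard, ← MulAction.index_stabilizer]
    exact Subgroup.index_dvd_card _
  by_contra hne
  have hO12 : O.ncard = 12 := by
    rcases (show O.ncard = 1 ∨ O.ncard = 12 ∨ O.ncard = 23 by omega) with e | e | e
    · obtain ⟨b, hb⟩ := Set.ncard_eq_one.1 e
      have e1 : p ∈ ({b} : Set GolayPt) := hb ▸ MulAction.mem_orbit_self p
      have e2 : (h : Equiv.Perm GolayPt) p ∈ ({b} : Set GolayPt) := hb ▸ ⟨⟨h, hh⟩, rfl⟩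
      exact absurd ((Set.mem_singleton_iff.1 e2).trans (Set.mem_singleton_iff.1 e1).symm) hne
    · exact e
    · rw [e] at hdvd; norm_num at hdvd
  -- the eleven remaining points form a set with at most 23 images
  set B : Finset GolayPt := (insert none O.toFinset)ᶜ
  have hB : B.card = 11 := by
    rw [Finset.card_compl, card_golayPt, Finset.card_insert_of_notMem (by simpa using hnO),
      ← Set.ncard_eq_toFinset_card', hO12]
  have hBH : ∀ k ∈ H, (k : Cfsg.Spor.M23) • B = B := fun k hk => by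
    refine Finset.eq_of_subset_of_card_le ?_ (le_of_eq (Finset.card_smul_finset k B).symm)
    intro z hz
    obtain ⟨w, hw, rfl⟩ := Finset.mem_smul_finset.1 hz
    simp only [B, Finset.mem_compl, Finset.mem_insert, Set.mem_toFinset, not_or] at hw ⊢
    refine ⟨fun e => hw.1 ((k : Equiv.Perm GolayPt).injective (e.trans (hnone k).symm)), fun e => hw.2 ?_⟩
    have := MulAction.mem_orbit_of_mem_orbit (⟨k⁻¹, H.inv_mem hk⟩ : H) e
    change (k⁻¹ : Cfsg.Spor.M23) • k • w ∈ O at this
    rwa [inv_smul_smul] at this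
  have horb : (MulAction.orbit Cfsg.Spor.M23 B).ncard ≤ 23 := by
    rw [← MulAction.index_stabilizer]
    exact le_of_le_of_eq
      (Nat.le_of_dvd (Nat.pos_of_ne_zero Subgroup.index_ne_zero_of_finite) (Subgroup.index_dvd_of_le hBH)) hH
  set 𝓑 := (MulAction.orbit Cfsg.Spor.M23 B).toFinset
  have h𝓑 : 𝓑.card ≤ 23 := by rw [← Set.ncard_eq_toFinset_card']; exact horb
  obtain ⟨A₀, hA₀B, hA₀⟩ := Finset.exists_subset_card_eq (show 4 ≤ B.card by omega)
  have hcover : ((Finset.univ : Finset GolayPt).erase none).powersetCard 4 ⊆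
      𝓑.biUnion fun C => C.powersetCard 4 := by
    intro A hA
    rw [Finset.mem_powersetCard] at hA
    have hnA : none ∉ A := fun h => absurd (hA.1 h) (by simp)
    have hnA₀ : none ∉ A₀ := fun h => by have := hA₀B h; simp [B] at this
    obtain ⟨k, hk, hke⟩ := M24Maximal.exists_of_card_le_five (x := none :: A₀.toList) (y := none :: A.toList)
      (List.nodup_cons.2 ⟨by simpa using hnA₀, A₀.nodup_toList⟩)
      (List.nodup_cons.2 ⟨by simpa using hnA, A.nodup_toList⟩) (by simp [hA.2, hA₀]) (by simp [hA₀])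
    rw [List.map_cons, List.cons.injEq] at hke
    refine Finset.mem_biUnion.2 ⟨(⟨k, hk, hke.1⟩ : Cfsg.Spor.M23) • B, ?_, ?_⟩
    · exact Set.mem_toFinset.2 ⟨⟨k, hk, hke.1⟩, rfl⟩
    · rw [Finset.mem_powersetCard]
      refine ⟨fun a ha => ?_, hA.2⟩
      rw [← Finset.mem_toList, ← hke.2, List.mem_map] at ha
      obtain ⟨w, hw, rfl⟩ := ha
      exact Finset.smul_mem_smul_finset (hA₀B (Finset.mem_toList.1 hw))
  have hcount := (Finset.card_le_card hcover).trans
    (Finset.card_biUnion_le_card_mul 𝓑 _ 330 fun C hC => ?_)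
  · rw [Finset.card_powersetCard, Finset.card_erase_of_mem (Finset.mem_univ _), Finset.card_univ, card_golayPt,
      show Nat.choose (24 - 1) 4 = 8855 from rfl] at hcount
    omega
  · obtain ⟨k, rfl⟩ := Set.mem_toFinset.1 hC
    rw [Finset.card_powersetCard, Finset.card_smul_finset, hB]
    rfl

theorem index_stabPt_M24 (p : GolayPt) : (stabPt M24 p).index = 24 := by
  have h := (stabPt M24 p).card_mul_index
  have hc : Nat.card (stabPt M24 p) = 10200960 := by
    rw [← card_stab_point p]
    exact Nat.card_congr (Equiv.refl _)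
  rw [hc, card_M24] at h
  omega

/-- No subgroup of order `18480` fixes two points. -/
theorem no_two_point (L : Subgroup M24) {p q : GolayPt} (hpq : p ≠ q)
    (hL : ∀ g ∈ L, (g : Equiv.Perm GolayPt) p = p ∧ (g : Equiv.Perm GolayPt) q = q) : Nat.card L ≠ 18480 := by
  classical
  intro hcard
  have h11 : Fact (Nat.Prime 11) := ⟨by norm_num⟩
  obtain ⟨y, hy⟩ := exists_prime_orderOf_dvd_card' (G := L) 11 (by rw [hcard]; norm_num)
  set g : Equiv.Perm GolayPt := ((y : M24) : Equiv.Perm GolayPt)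
  have hord : orderOf g = 11 := by rw [Subgroup.orderOf_coe, Subgroup.orderOf_coe, hy]
  obtain ⟨hle, hmod⟩ : (fixedPts g).card ≤ 4 ∧ (fixedPts g).card % 11 = 24 % 11 :=
    card_fixedPts_eq (y : M24).2 hord (by norm_num)
  have hfix : fixedPts g = {p, q} := by
    have hsub : ({p, q} : Finset GolayPt) ⊆ fixedPts g := by
      intro z hz
      simp only [Finset.mem_insert, Finset.mem_singleton] at hz
      rcases hz with rfl | rfl
      exacts [mem_fixedPts.2 (hL _ y.2).1, mem_fixedPts.2 (hL _ y.2).2]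
    refine (Finset.eq_of_subset_of_card_le hsub ?_).symm
    have := Finset.card_le_card hsub
    rw [Finset.card_pair hpq] at this ⊢
    omega
  set P := Subgroup.zpowers y
  have hP : Nat.card P = 11 := by rw [Nat.card_zpowers, hy]
  obtain ⟨a, -, ha⟩ := Finset.exists_mem_notMem_of_card_lt_card (t := Finset.univ) (s := ({p, q} : Finset GolayPt))
    (by rw [Finset.card_univ, card_golayPt, Finset.card_pair hpq]; norm_num)
  have hga : g a ≠ a := fun e => ha (hfix ▸ mem_fixedPts.2 e)
  set C := Subgroup.centralizer (P : Set L)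
  have hC : Nat.card (MulAction.stabilizer C a) = 1 := by
    rw [Subgroup.card_eq_one, Subgroup.eq_bot_iff_forall]
    rintro ⟨⟨⟨k, hkM⟩, hkL⟩, hkC⟩ hka
    set f : Equiv.Perm GolayPt := k
    have hfa : f a = a := hka
    have hc : ∀ n : ℤ, ∀ z, f ((g ^ n) z) = (g ^ n) (f z) := by
      intro n z
      have h := Subgroup.mem_centralizer_iff.1 hkC (y ^ n) (Subgroup.zpow_mem_zpowers y n)
      have h' := congrArg (fun w : L => ((w : M24) : Equiv.Perm GolayPt) z) h
      simp only [Subgroup.coe_mul, Subgroup.coe_zpow, Equiv.Perm.mul_apply] at h'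
      exact h'.symm
    set A := MulAction.orbit (Subgroup.zpowers g) a
    have hA : ∀ z ∈ A, f z = z := by
      rintro _ ⟨⟨_, n, rfl⟩, rfl⟩
      show f ((g ^ n) a) = (g ^ n) a
      rw [hc, hfa]
    have hAc : A.ncard = 11 := card_orbit_of_moved hord hga
    have hApq : ∀ z ∈ A, z ∉ ({p, q} : Finset GolayPt) := by
      rintro _ ⟨⟨_, n, rfl⟩, rfl⟩ hz
      have hz' : g ((g ^ n) a) = (g ^ n) a := mem_fixedPts.1 (hfix ▸ hz)
      rw [← Equiv.Perm.mul_apply, ← (Commute.refl g).zpow_left n, Equiv.Perm.mul_apply] at hz'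
      exact hga ((g ^ n).injective hz')
    set Big : Finset GolayPt := A.toFinset ∪ {p, q}
    have hBig : Big.card = 13 := by
      rw [Finset.card_union_of_disjoint, ← Set.ncard_eq_toFinset_card', hAc, Finset.card_pair hpq]
      exact Finset.disjoint_left.2 fun z hz => hApq z (Set.mem_toFinset.1 hz)
    have hBigfix : ∀ z ∈ Big, f z = z := by
      intro z hz
      rcases Finset.mem_union.1 hz with hz | hz
      · exact hA z (Set.mem_toFinset.1 hz)
      · simp only [Finset.mem_insert, Finset.mem_singleton] at hz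
        rcases hz with rfl | rfl
        exacts [(hL _ hkL).1, (hL _ hkL).2]
    have hf11 : f ^ 11 = 1 := by
      refine Equiv.ext fun b => ?_
      by_cases hb : b ∈ Big
      · exact Equiv.Perm.pow_apply_eq_self_of_apply_eq_self (hBigfix b hb) 11
      · have hgb : g b ≠ b := fun e => hb (Finset.mem_union_right _ (hfix ▸ mem_fixedPts.2 e))
        have hBo : (MulAction.orbit (Subgroup.zpowers g) b).toFinset = Bigᶜ := by
          refine Finset.eq_of_subset_of_card_le ?_ ?_
          · intro z hz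
            rw [Set.mem_toFinset] at hz
            rw [Finset.mem_compl]
            intro hzB
            refine hb (Finset.mem_union.2 ?_)
            rcases Finset.mem_union.1 hzB with h | h
            · refine Or.inl (Set.mem_toFinset.2 ?_)
              have e1 := MulAction.orbit_eq_iff.2 (Set.mem_toFinset.1 h)
              have e2 := MulAction.orbit_eq_iff.2 hz
              exact MulAction.orbit_eq_iff.1 (e2.symm.trans e1)
            · obtain ⟨⟨w, n, rfl⟩, e⟩ := hz
              have hzf : g z = z := mem_fixedPts.1 (hfix ▸ h)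
              have e' : (g ^ n) b = z := e
              rw [← e', ← Equiv.Perm.mul_apply, ← (Commute.refl g).zpow_left n, Equiv.Perm.mul_apply] at hzf
              exact absurd ((g ^ n).injective hzf) hgb
          · rw [Finset.card_compl, card_golayPt, hBig, ← Set.ncard_eq_toFinset_card', card_orbit_of_moved hord hgb]
        have hfb : f b ∈ MulAction.orbit (Subgroup.zpowers g) b := by
          rw [← Set.mem_toFinset, hBo, Finset.mem_compl]
          exact fun h => hb (f.injective (hBigfix _ h) ▸ h)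
        obtain ⟨⟨w, n, rfl⟩, e⟩ := hfb
        have e' : (g ^ n) b = f b := e
        have hpow : ∀ m : ℕ, (f ^ m) b = ((g ^ n) ^ m) b := by
          intro m
          induction m with
          | zero => rfl
          | succ m ih =>
            rw [pow_succ', Equiv.Perm.mul_apply, ih, ← zpow_natCast, ← zpow_mul, hc, ← e', ← zpow_natCast,
              ← zpow_mul, ← Equiv.Perm.mul_apply, ← zpow_add]
            congr 2
            push_cast; ring
        rw [hpow, ← zpow_natCast (g ^ n) 11, ← zpow_mul, mul_comm, zpow_mul, zpow_natCast, ← hord,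
          pow_orderOf_eq_one, one_zpow]
    have hf1 : f = 1 := by
      by_contra hf1
      have h1 : (fixedPts f).card ≤ 4 := card_fixedPts_le hkM (orderOf_eq_prime hf11 hf1) (by norm_num)
      have h2 : Big.card ≤ (fixedPts f).card := Finset.card_le_card fun z hz => mem_fixedPts.2 (hBigfix z hz)
      omega
    exact Subtype.ext (Subtype.ext (Subtype.ext hf1))
  have hCle : Nat.card C ≤ 22 := by
    rw [← (MulAction.stabilizer C a).card_mul_index, hC, one_mul, MulAction.index_stabilizer]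
    have hsub : MulAction.orbit C a ⊆ ((({p, q} : Finset GolayPt)ᶜ : Finset GolayPt) : Set GolayPt) := by
      rintro _ ⟨k, rfl⟩
      rw [Finset.coe_compl, Set.mem_compl_iff, Finset.mem_coe, Finset.mem_insert, Finset.mem_singleton]
      rintro (e | e)
      · exact ha (Finset.mem_insert.2 (Or.inl (((k : L) : M24).1.injective (e.trans (hL _ (k : L).2).1.symm))))
      · exact ha (Finset.mem_insert.2 (Or.inr (Finset.mem_singleton.2
          (((k : L) : M24).1.injective (e.trans (hL _ (k : L).2).2.symm)))))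
    have := Set.ncard_le_ncard hsub (Finset.finite_toSet _)
    rwa [Set.ncard_coe_finset, Finset.card_compl, card_golayPt, Finset.card_pair hpq] at this
  have hPC : P ≤ C := by
    intro z hz
    rw [Subgroup.mem_centralizer_iff]
    intro w hw
    obtain ⟨i, rfl⟩ := hz
    obtain ⟨j, rfl⟩ := hw
    exact ((Commute.refl y).zpow_zpow j i).eq
  have hC11 : 11 ∣ Nat.card C := hP ▸ Subgroup.card_dvd_of_le hPC
  set N := Subgroup.normalizer (P : Set L)
  have hN : ∃ d, d ∣ 10 ∧ Nat.card N = Nat.card C * d := by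
    set ψ := P.normalizerMonoidHom
    refine ⟨ψ.ker.index, ?_, ?_⟩
    · rw [Subgroup.index_ker]
      have h := Subgroup.card_subgroup_dvd_card ψ.range
      rwa [IsCyclic.card_mulAut, hP, Nat.totient_prime h11.out] at h
    · rw [← ψ.ker.card_mul_index]
      congr 1
      rw [Subgroup.normalizerMonoidHom_ker]
      exact Nat.card_congr (Subgroup.subgroupOfEquivOfLe (Subgroup.centralizer_le_normalizer _)).toEquiv
  let R : Sylow 11 L := (IsPGroup.of_card (n := 1) (by rw [hP, pow_one]) : IsPGroup 11 P).toSylow (by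
    have h := P.card_mul_index
    rw [hP, hcard] at h
    omega)
  have hmod11 := card_sylow_modEq_one 11 L
  rw [Sylow.card_eq_index_normalizer R] at hmod11
  have hidx : Nat.card N * N.index = 18480 := by rw [N.card_mul_index, hcard]
  change N.index % 11 = 1 % 11 at hmod11
  obtain ⟨d, hd, hNd⟩ := hN
  have hd10 := Nat.le_of_dvd (by norm_num) hd
  rcases (show Nat.card C = 11 ∨ Nat.card C = 22 by
    have : 0 < Nat.card C := Nat.card_pos
    omega) with e | e <;> rw [hNd, e] at hidx <;> interval_cases d <;> omega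

theorem index_M24 (H : Subgroup M24) (hH : H.index = 24) :
    ∃ p ∉ (∅ : Finset GolayPt), H ≤ stabPt M24 p := by
  classical
  have h23 : Fact (Nat.Prime 23) := ⟨by norm_num⟩
  have hcard : Nat.card H = 10200960 := by
    have h := H.card_mul_index
    rw [hH, card_M24] at h
    omega
  obtain ⟨x, hx⟩ := exists_prime_orderOf_dvd_card' (G := H) 23 (by rw [hcard]; norm_num)
  set g : Equiv.Perm GolayPt := ((x : M24) : Equiv.Perm GolayPt)
  have hord : orderOf g = 23 := by rw [Subgroup.orderOf_coe, Subgroup.orderOf_coe, hx]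
  obtain ⟨hle, hmod⟩ : (fixedPts g).card ≤ 4 ∧ (fixedPts g).card % 23 = 24 % 23 :=
    card_fixedPts_eq (x : M24).2 hord (by norm_num)
  obtain ⟨p, hp⟩ := Finset.card_eq_one.1 (show (fixedPts g).card = 1 by omega)
  refine ⟨p, Finset.notMem_empty p, fun h hh => ?_⟩
  set O := MulAction.orbit H p
  have hO1 : O.ncard % 23 = 1 := by
    rw [card_fixedPts_mod hord O fun z hz => MulAction.mem_orbit_of_mem_orbit x hz,
      show {z | z ∈ O ∧ g z = z} = {p} from ?_, Set.ncard_singleton]
    ext z
    simp only [Set.mem_ofPred_eq, Set.mem_singleton_iff]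
    refine ⟨fun ⟨_, h2⟩ => Finset.mem_singleton.1 (hp ▸ mem_fixedPts.2 h2), fun e => e ▸ ⟨MulAction.mem_orbit_self p,
      mem_fixedPts.1 (hp ▸ Finset.mem_singleton_self p)⟩⟩
  have hO24 : O.ncard ≤ 24 := by
    have := Set.ncard_le_ncard (Set.subset_univ O)
    rwa [Set.ncard_univ, Nat.card_eq_fintype_card, card_golayPt] at this
  by_contra hne
  have hO : O.ncard = 24 := by
    rcases (show O.ncard = 1 ∨ O.ncard = 24 by omega) with e | e
    · obtain ⟨b, hb⟩ := Set.ncard_eq_one.1 e
      have e1 : p ∈ ({b} : Set GolayPt) := hb ▸ MulAction.mem_orbit_self p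
      have e2 : (h : Equiv.Perm GolayPt) p ∈ ({b} : Set GolayPt) := hb ▸ ⟨⟨h, hh⟩, rfl⟩
      exact absurd ((Set.mem_singleton_iff.1 e2).trans (Set.mem_singleton_iff.1 e1).symm) hne
    · exact e
  set K := H ⊓ stabPt M24 p
  have hK : Nat.card K = 425040 := by
    have h1 := (MulAction.stabilizer H p).card_mul_index
    rw [MulAction.index_stabilizer, hO, hcard] at h1
    have h2 : Nat.card K = Nat.card (MulAction.stabilizer H p) :=
      Nat.card_congr ⟨fun k => ⟨⟨k.1, k.2.1⟩, k.2.2⟩, fun k => ⟨k.1.1, k.1.2, k.2⟩, fun _ => rfl, fun _ => rfl⟩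
    omega
  obtain ⟨q, -, hq⟩ := Finset.exists_mem_notMem_of_card_lt_card (t := Finset.univ) (s := ({p} : Finset GolayPt))
    (by rw [Finset.card_univ, card_golayPt]; norm_num)
  rw [Finset.mem_singleton] at hq
  have hgq : g q ≠ q := fun e => hq (Finset.mem_singleton.1 (hp ▸ mem_fixedPts.2 e))
  have hxK : (x : M24) ∈ K := ⟨x.2, mem_fixedPts.1 (hp ▸ Finset.mem_singleton_self p)⟩
  have hKq : (MulAction.orbit K q).ncard = 23 := by
    refine le_antisymm ?_ ?_
    · have hsub : MulAction.orbit K q ⊆ ({p} : Set GolayPt)ᶜ := by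
        rintro _ ⟨k, rfl⟩ e
        exact hq (((k : M24) : Equiv.Perm GolayPt).injective (e.trans k.2.2.symm))
      have := Set.ncard_le_ncard hsub
      rwa [Set.ncard_compl, Set.ncard_singleton, Nat.card_eq_fintype_card, card_golayPt] at this
    · rw [← card_orbit_of_moved hord hgq]
      refine Set.ncard_le_ncard ?_
      rintro _ ⟨⟨_, n, rfl⟩, rfl⟩
      exact ⟨⟨(x : M24) ^ n, zpow_mem hxK n⟩, rfl⟩
  set L := K ⊓ stabPt M24 q
  have hL : Nat.card L = 18480 := by
    have h1 := (MulAction.stabilizer K q).card_mul_index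
    rw [MulAction.index_stabilizer, hKq, hK] at h1
    have h2 : Nat.card L = Nat.card (MulAction.stabilizer K q) :=
      Nat.card_congr ⟨fun k => ⟨⟨k.1, k.2.1⟩, k.2.2⟩, fun k => ⟨k.1.1, k.1.2, k.2⟩, fun _ => rfl, fun _ => rfl⟩
    omega
  exact no_two_point L (Ne.symm hq) (fun k hk => ⟨hk.1.2, hk.2⟩) hL

end CfsgLib.Sporadic.IndexPoints
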