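import Cfsg.Agent.Lib.Sporadic.J3Presented

/-!
# Elements of the presented third Janko group through four base points
-/

set_option maxRecDepth 100000



namespace CfsgLib.Sporadic.CosetCert.J3P

open J3Data (table)

/-- The element of a word. -/
noncomputable def el (L : List ℕ) : PG := appProd coding.gen L

/-- A word uses the four letters only. -/
def okW (L : List ℕ) : Bool := L.all fun a => Nat.blt a 4

/-- A point moved by a word. -/
noncomputable def at_ (L : List ℕ) (u : ℕ) : ℕ := L.foldl (fun w x => table.img x w) u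

/-- The packed images of the base points under a word. -/
noncomputable def fpW (L : List ℕ) : ℕ :=
  Nat.add (at_ L 0) (Nat.mul 6156 (Nat.add (at_ L 2)
    (Nat.mul 6156 (Nat.add (at_ L 1) (Nat.mul 6156 (at_ L 3))))))

theorem table_nl : table.nl = 4 := rfl

theorem okW_lt {L : List ℕ} (h : okW L = true) : ∀ x ∈ L, x < table.nl := fun x hx => by
  rw [table_nl]
  simpa [Nat.blt_eq] using List.all_eq_true.1 h x hx

theorem hom_el {L : List ℕ} (h : okW L = true) (u : Fin table.N) :
    (hom (el L) u : ℕ) = at_ L u := hom_word L (okW_lt h) u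

theorem at_lt {L : List ℕ} (h : okW L = true) {u : ℕ} (hu : u < 6156) : at_ L u < 6156 := by
  have hu' : u < table.N := lt_of_lt_of_eq hu table_N.symm
  rw [← hom_el h ⟨u, hu'⟩]
  exact lt_of_lt_of_eq (hom (el L) ⟨u, hu'⟩).2 table_N

theorem el_eq {L M : List ℕ} (hL : okW L = true) (hM : okW M = true) (h : fpW L = fpW M) :
    el L = el M := by
  have a := at_lt hL (u := 0) (by norm_num)
  have b := at_lt hM (u := 0) (by norm_num)
  have c := at_lt hL (u := 2) (by norm_num)
  have d := at_lt hM (u := 2) (by norm_num)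
  have e := at_lt hL (u := 1) (by norm_num)
  have f := at_lt hM (u := 1) (by norm_num)
  have g := at_lt hL (u := 3) (by norm_num)
  have i := at_lt hM (u := 3) (by norm_num)
  simp only [fpW, Nat.add_eq, Nat.mul_eq] at h
  have h0 : at_ L 0 = at_ M 0 := by omega
  have h2 : at_ L 2 = at_ M 2 := by omega
  have h1 : at_ L 1 = at_ M 1 := by omega
  have h3 : at_ L 3 = at_ M 3 := by omega
  refine (inv_mul_eq_one.1 (eq_one_of_fix _ fun u hu => ?_)).symm
  rw [map_mul, map_inv, Equiv.Perm.mul_apply, Equiv.Perm.inv_def, Equiv.symm_apply_eq]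
  apply Fin.ext
  rw [hom_el hL u, hom_el hM u]
  rcases hu with e | e | e | e <;> rw [e] <;> assumption

theorem el_append (L M : List ℕ) : el (L ++ M) = el M * el L := appProd_append coding.gen L M

theorem el_nil : el [] = 1 := rfl

theorem gen_inv {i : ℕ} (hi : i < 4) : (coding.gen i)⁻¹ = coding.gen i := by
  have e : ∀ j < 4, j = code (gens.getD j Gen.a) := by decide
  have hx : coding.gen i = PresentedGroup.of (gens.getD i Gen.a) := by
    conv_lhs => rw [e i hi]
    exact coding.gen_code _
  rw [hx, node_inv (mem_nodes _)]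

theorem el_reverse : ∀ L : List ℕ, okW L = true → el L.reverse = (el L)⁻¹ := by
  intro L
  induction L with
  | nil => intro _; simp [el, appProd]
  | cons x t ih =>
    intro h
    simp only [okW, List.all_cons, Bool.and_eq_true, Nat.blt_eq] at h
    rw [List.reverse_cons, el_append, ih (by simpa [okW, Nat.blt_eq] using h.2)]
    show appProd coding.gen [x] * _ = (el t * coding.gen x)⁻¹
    rw [mul_inv_rev, gen_inv h.1]
    simp [appProd]

theorem okW_append {L M : List ℕ} (hL : okW L = true) (hM : okW M = true) :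
    okW (L ++ M) = true := by
  simp_all [okW, List.all_append]

theorem okW_reverse {L : List ℕ} (hL : okW L = true) : okW L.reverse = true := by
  simp_all [okW]

/-- The word of a product of listed words. -/
def prodW (G : List (List ℕ)) (D : List ℕ) : List ℕ := D.flatMap fun i => G.getD i []

theorem el_prodW_mem (G : List (List ℕ)) (D : List ℕ) (hD : ∀ i ∈ D, i < G.length) :
    el (prodW G D) ∈ Subgroup.closure (el '' {L | L ∈ G}) := by
  induction D with
  | nil => exact one_mem _
  | cons i t ih =>
    rw [prodW, List.flatMap_cons, el_append]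
    refine mul_mem (ih fun j hj => hD j (List.mem_cons_of_mem _ hj)) (Subgroup.subset_closure
      ⟨_, ?_, rfl⟩)
    have hi := hD i List.mem_cons_self
    rw [List.getD_eq_getElem?_getD, List.getElem?_eq_getElem hi]
    exact List.getElem_mem hi

/-- A list of elements closed under right multiplication by generators. -/
noncomputable def subOK (G : List (List ℕ)) (D : List (List ℕ)) (Fp : List ℕ) : Bool :=
  (G.all okW) && (D.all fun d => d.all fun i => Nat.blt i G.length) &&
    (D.all fun d => okW (prodW G d)) && (decide (D.map (fun d => fpW (prodW G d)) = Fp)) &&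
    decide Fp.Nodup && (Fp.contains (fpW [])) &&
    (D.all fun d => G.all fun g => Fp.contains (fpW (prodW G d ++ g)))

/-- The elements of a list. -/
noncomputable def subEls (G : List (List ℕ)) (D : List (List ℕ)) : Set PG :=
  (fun d => el (prodW G d)) '' {d | d ∈ D}

theorem subOK_spec {G D : List (List ℕ)} {Fp : List ℕ} (h : subOK G D Fp = true) :
    (Subgroup.closure (el '' {L | L ∈ G}) : Set PG) = subEls G D ∧
      Nat.card (Subgroup.closure (el '' {L | L ∈ G})) = D.length := by
  have := finite
  simp only [subOK, Bool.and_eq_true, List.all_eq_true, decide_eq_true_eq, Nat.blt_eq,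
    List.contains_iff_mem] at h
  obtain ⟨⟨⟨⟨⟨⟨hG, hD⟩, hok⟩, hfp⟩, hnd⟩, hone⟩, hcl⟩ := h
  have hfind : ∀ L, okW L = true → fpW L ∈ Fp → el L ∈ subEls G D := by
    intro L hL hmem
    rw [← hfp, List.mem_map] at hmem
    obtain ⟨d, hd, e⟩ := hmem
    exact ⟨d, hd, el_eq (hok d hd) hL e⟩
  have h1 : (1 : PG) ∈ subEls G D := el_nil ▸ hfind [] rfl hone
  have hmul : ∀ x ∈ subEls G D, ∀ g ∈ el '' {L | L ∈ G}, g * x ∈ subEls G D := by
    rintro _ ⟨d, hd, rfl⟩ _ ⟨g, hg, rfl⟩
    rw [← el_append]
    exact hfind _ (okW_append (hok d hd) (hG g hg)) (hcl d hd g hg)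
  have hinv : ∀ x ∈ subEls G D, ∀ g ∈ el '' {L | L ∈ G}, g⁻¹ * x ∈ subEls G D := by
    intro x hx g hg
    have key : ∀ n : ℕ, g ^ n * x ∈ subEls G D := by
      intro n
      induction n with
      | zero => simpa using hx
      | succ n ih => rw [pow_succ', mul_assoc]; exact hmul _ ih g hg
    have hfin : IsOfFinOrder g := isOfFinOrder_of_finite g
    obtain ⟨n, hn⟩ := (mem_powers_iff_mem_zpowers (x := g) (y := g⁻¹)).2
      (inv_mem (Subgroup.mem_zpowers g))
    simp only at hn
    rw [← hn]
    exact key n
  have heq : (Subgroup.closure (el '' {L | L ∈ G}) : Set PG) = subEls G D := by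
    refine Set.Subset.antisymm (fun x hx => ?_) ?_
    · induction hx using Subgroup.closure_induction_left with
      | one => exact h1
      | mul_left g hg y _ hy => exact hmul y hy g hg
      | inv_mul_cancel g hg y _ hy => exact hinv y hy g hg
    · rintro _ ⟨d, hd, rfl⟩
      exact el_prodW_mem G d (hD d hd)
  refine ⟨heq, ?_⟩
  rw [← SetLike.coe_sort_coe, heq, Nat.card_coe_set_eq, subEls]
  have hdn : D.Nodup := by
    rw [← hfp] at hnd
    exact List.Nodup.of_map _ hnd
  rw [Set.InjOn.ncard_image ?_]
  · rw [show {d | d ∈ D} = (D.toFinset : Set (List ℕ)) by ext; simp, Set.ncard_coe_finset,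
      List.toFinset_card_of_nodup hdn]
  · intro a ha b hb e
    rw [← hfp] at hnd
    refine List.inj_on_of_nodup_map hnd ha hb ?_
    have hval : ∀ L, okW L = true → fpW L =
        Nat.add (hom (el L) ⟨0, by rw [table_N]; norm_num⟩ : ℕ) (Nat.mul 6156 (Nat.add
          (hom (el L) ⟨2, by rw [table_N]; norm_num⟩ : ℕ) (Nat.mul 6156 (Nat.add
          (hom (el L) ⟨1, by rw [table_N]; norm_num⟩ : ℕ) (Nat.mul 6156
          (hom (el L) ⟨3, by rw [table_N]; norm_num⟩ : ℕ)))))) := by
      intro L hL
      simp only [hom_el hL]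
      rfl
    show fpW (prodW G a) = fpW (prodW G b)
    rw [hval _ (hok a ha), hval _ (hok b hb)]
    simp only at e
    rw [e]

end CfsgLib.Sporadic.CosetCert.J3P
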