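import Cfsg.Agent.Lib.Sporadic.J3CentChecks
import Cfsg.Agent.Lib.Sporadic.ExtraspecialCrit
import Cfsg.Agent.Lib.Characterizations.HallJankoCount

/-!
# Involutions of the third Janko group
-/

set_option maxRecDepth 100000

open CfsgLib.Sporadic.CosetCert.J3P CfsgLib.Sporadic.CosetCert
open scoped Pointwise

namespace CfsgLib.Sporadic.J3Cent

attribute [local irreducible] J3Data.table

variable {G : Type*} [Group G] (e : PG ≃* G)

/-- The element of a word. -/
noncomputable def ev (L : List ℕ) : G := e (el L)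

theorem ev_append (L M : List ℕ) : ev e (L ++ M) = ev e M * ev e L := by
  rw [ev, el_append, map_mul]; rfl

theorem ev_reverse {L : List ℕ} (h : okW L = true) : ev e L.reverse = (ev e L)⁻¹ := by
  rw [ev, el_reverse L h, map_inv]; rfl

theorem ev_nil : ev e [] = 1 := by rw [ev, el_nil, map_one]

theorem ev_eq {L M : List ℕ} (hL : okW L = true) (hM : okW M = true) (h : fpW L = fpW M) :
    ev e L = ev e M := congrArg e (el_eq hL hM h)

theorem fp_eq {L M : List ℕ} (hL : okW L = true) (hM : okW M = true) (h : ev e L = ev e M) :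
    fpW L = fpW M := by
  have h' : el L = el M := e.injective h
  have hv : ∀ u : Fin J3Data.table.N, at_ L u = at_ M u := fun u => by
    rw [← hom_el hL u, ← hom_el hM u, h']
  have hk : ∀ k < 6156, at_ L k = at_ M k := fun k hk =>
    hv ⟨k, lt_of_lt_of_eq hk table_N.symm⟩
  unfold fpW
  rw [hk 0 (by norm_num), hk 1 (by norm_num), hk 2 (by norm_num), hk 3 (by norm_num)]

/-- The chosen involution. -/
noncomputable def invT : G := ev e [2]

theorem okW_two : okW [2] = true := by decide

theorem invT_sq : invT e * invT e = 1 := by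
  have h := ev_reverse e okW_two
  exact mul_eq_one_iff_eq_inv.2 h

/-- The subgroup of some words. -/
noncomputable def grpOf (W : List (List ℕ)) : Subgroup G := Subgroup.closure (ev e '' {L | L ∈ W})

theorem grpOf_spec {W D : List (List ℕ)} {Fp : List ℕ} (h : subOK W D Fp = true) :
    (∀ x, x ∈ grpOf e W ↔ ∃ d ∈ D, ev e (prodW W d) = x) ∧ Nat.card (grpOf e W) = D.length := by
  obtain ⟨h1, h2⟩ := subOK_spec h
  have hmap : grpOf e W = (Subgroup.closure (el '' {L | L ∈ W})).map e.toMonoidHom := by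
    rw [grpOf, MonoidHom.map_closure, Set.image_image]; rfl
  constructor
  · intro x
    rw [hmap, Subgroup.mem_map]
    constructor
    · rintro ⟨y, hy, rfl⟩
      rw [← SetLike.mem_coe, h1] at hy
      obtain ⟨d, hd, rfl⟩ := hy
      exact ⟨d, hd, rfl⟩
    · rintro ⟨d, hd, rfl⟩
      refine ⟨el (prodW W d), ?_, rfl⟩
      rw [← SetLike.mem_coe, h1]
      exact ⟨d, hd, rfl⟩
  · rw [hmap, Subgroup.card_map_of_injective (f := e.toMonoidHom) e.injective, h2]

theorem subOK_facts {W D : List (List ℕ)} {Fp : List ℕ} (h : subOK W D Fp = true) :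
    (∀ g ∈ W, okW g = true) ∧ (∀ d ∈ D, okW (prodW W d) = true) ∧
      D.map (fun d => fpW (prodW W d)) = Fp ∧ Fp.Nodup := by
  simp only [subOK, Bool.and_eq_true, List.all_eq_true, decide_eq_true_eq] at h
  exact ⟨h.1.1.1.1.1.1, h.1.1.1.1.2, h.1.1.1.2, h.1.1.2⟩

theorem mem_grpOf {W D : List (List ℕ)} {Fp : List ℕ} (h : subOK W D Fp = true) {L : List ℕ}
    (hL : okW L = true) : fpW L ∈ Fp ↔ ev e L ∈ grpOf e W := by
  obtain ⟨-, hok, hfp, -⟩ := subOK_facts h
  rw [(grpOf_spec e h).1, ← hfp, List.mem_map]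
  constructor
  · rintro ⟨d, hd, he⟩
    exact ⟨d, hd, ev_eq e (hok d hd) hL he⟩
  · rintro ⟨d, hd, he⟩
    exact ⟨d, hd, fp_eq e (hok d hd) hL he⟩

/-- The centraliser. -/
noncomputable abbrev centT : Subgroup G := Subgroup.centralizer {invT e}

theorem gens_cent {g : List ℕ} (hg : g ∈ qGens ++ kGens) : ev e g ∈ centT e := by
  have h := centOK_true
  simp only [centOK, List.all_eq_true] at h
  have h' := Nat.eq_of_beq_eq_true (h g hg)
  have hok : okW g = true := by
    rcases List.mem_append.1 hg with hm | hm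
    · exact (subOK_facts qOK).1 g hm
    · exact (subOK_facts kOK).1 g hm
  have e1 := ev_eq e (okW_append hok okW_two) (okW_append okW_two hok) h'
  rw [ev_append, ev_append] at e1
  exact Subgroup.mem_centralizer_singleton_iff.2 e1.symm

/-- The extraspecial subgroup. -/
noncomputable abbrev grpQ : Subgroup G := grpOf e qGens

/-- The complement. -/
noncomputable abbrev grpK : Subgroup G := grpOf e kGens

theorem le_cent : grpQ e ≤ centT e ∧ grpK e ≤ centT e := by
  constructor <;>
  · refine (Subgroup.closure_le _).2 ?_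
    rintro _ ⟨g, hg, rfl⟩
    first
      | exact gens_cent e (List.mem_append_left _ hg)
      | exact gens_cent e (List.mem_append_right _ hg)

theorem meet_eq_bot {x : G} (hx : x ∈ grpQ e) (hx' : x ∈ grpK e) : x = 1 := by
  obtain ⟨d, hd, rfl⟩ := ((grpOf_spec e kOK).1 x).1 hx'
  obtain ⟨-, hok, hfp, -⟩ := subOK_facts kOK
  have h := meet_trivial
  simp only [List.all_eq_true, Bool.or_eq_true, Bool.not_eq_true', Nat.beq_eq] at h
  have hmem : fpW (prodW kGens d) ∈ kFp := by rw [← hfp]; exact List.mem_map.2 ⟨d, hd, rfl⟩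
  rcases h _ hmem with h' | h'
  · have := (mem_grpOf e qOK (hok d hd)).2 hx
    rw [List.contains_iff_mem.2 this] at h'
    exact absurd h' (by simp)
  · rw [ev_eq e (hok d hd) (M := []) rfl h', ev_nil]

theorem conj_mem {k : G} (hk : k ∈ grpK e) : ∀ q ∈ grpQ e, k * q * k⁻¹ ∈ grpQ e := by
  suffices h : grpK e ≤ Subgroup.normalizer (grpQ e : Set G) by
    exact fun q hq => (Subgroup.mem_normalizer_iff.1 (h hk) q).1 hq
  refine (Subgroup.closure_le _).2 ?_
  rintro _ ⟨g, hg, rfl⟩
  have h := normOK_true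
  simp only [normOK, List.all_eq_true, Bool.and_eq_true, List.contains_iff_mem] at h
  have hok := (subOK_facts kOK).1 g hg
  have hokq := (subOK_facts qOK).1
  have h1 : ∀ x ∈ grpQ e, ev e g * x * (ev e g)⁻¹ ∈ grpQ e := by
    intro x hx
    induction hx using Subgroup.closure_induction with
    | mem x hx =>
      obtain ⟨q, hq, rfl⟩ := hx
      have hw := (mem_grpOf e qOK (okW_append (okW_append (okW_reverse hok) (hokq q hq)) hok)).1
        (h g hg q hq).1
      rw [ev_append, ev_append, ev_reverse e hok, ← mul_assoc] at hw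
      exact hw
    | one => simp
    | mul a b _ _ ha hb =>
      rw [show ev e g * (a * b) * (ev e g)⁻¹ =
        (ev e g * a * (ev e g)⁻¹) * (ev e g * b * (ev e g)⁻¹) by group]
      exact mul_mem ha hb
    | inv a _ ha =>
      rw [show ev e g * a⁻¹ * (ev e g)⁻¹ = (ev e g * a * (ev e g)⁻¹)⁻¹ by group]
      exact inv_mem ha
  have h2 : ∀ x ∈ grpQ e, (ev e g)⁻¹ * x * ev e g ∈ grpQ e := by
    intro x hx
    induction hx using Subgroup.closure_induction with
    | mem x hx =>
      obtain ⟨q, hq, rfl⟩ := hx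
      have hw := (mem_grpOf e qOK (okW_append (okW_append hok (hokq q hq)) (okW_reverse hok))).1
        (h g hg q hq).2
      rw [ev_append, ev_append, ev_reverse e hok, ← mul_assoc] at hw
      exact hw
    | one => simp
    | mul a b _ _ ha hb =>
      rw [show (ev e g)⁻¹ * (a * b) * ev e g =
        ((ev e g)⁻¹ * a * ev e g) * ((ev e g)⁻¹ * b * ev e g) by group]
      exact mul_mem ha hb
    | inv a _ ha =>
      rw [show (ev e g)⁻¹ * a⁻¹ * ev e g = ((ev e g)⁻¹ * a * ev e g)⁻¹ by group]
      exact inv_mem ha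
  refine Subgroup.mem_normalizer_iff.2 fun x => ⟨h1 x, fun hx => ?_⟩
  have := h2 _ hx
  simpa [mul_assoc] using this

theorem card_cent_ge [Finite G] : 1920 ≤ Nat.card (centT e) := by
  obtain ⟨hqC, hkC⟩ := le_cent e
  let f : grpQ e × grpK e → centT e := fun p => ⟨p.1.1 * p.2.1, mul_mem (hqC p.1.2) (hkC p.2.2)⟩
  have hf : Function.Injective f := by
    rintro ⟨a, b⟩ ⟨c, d⟩ h
    have h' : a.1 * b.1 = c.1 * d.1 := congrArg Subtype.val h
    have h2 : c.1⁻¹ * a.1 = d.1 * b.1⁻¹ := by
      rw [inv_mul_eq_iff_eq_mul, ← mul_assoc, ← h', mul_inv_cancel_right]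
    have h3 := meet_eq_bot e (mul_mem (inv_mem c.2) a.2) (h2 ▸ mul_mem d.2 (inv_mem b.2))
    have ha : a = c := Subtype.ext (inv_mul_eq_one.1 h3).symm
    rw [h3] at h2
    exact Prod.ext ha (Subtype.ext (mul_inv_eq_one.1 h2.symm).symm)
  have := Nat.card_le_card_of_injective f hf
  rw [Nat.card_prod, (grpOf_spec e qOK).2, (grpOf_spec e kOK).2, list_lengths.1, list_lengths.2.1]
    at this
  exact this

/-- The point stabiliser. -/
noncomputable abbrev stabPt : Subgroup PG := grpH

theorem mem_grpH {g : PG} (h : hom g pt = pt) : g ∈ grpH := by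
  obtain ⟨-, f, hf, -⟩ := exists_quotient_equiv hom pt _ hom_fix transitive
    ⟨index_H.1.trans table_N.ge, index_H.2⟩
  have h2 : f (g : PG ⧸ grpH) = f ((1 : PG) : PG ⧸ grpH) := by
    rw [hf, hf, h, map_one]; rfl
  have h3 := QuotientGroup.eq.1 (f.injective h2)
  rw [mul_one] at h3
  simpa using inv_mem h3

theorem class_facts : (∀ u ∈ classConj, okW u = true ∧ okW (classWord u) = true ∧
      el u ∈ grpH) ∧ classConj.map (fun u => fpW (classWord u)) = classFp ∧ classFp.Nodup ∧
    fpW [2] ∈ classFp ∧ ∀ u ∈ classConj, ∀ a < 3, fpW ([a] ++ classWord u ++ [a]) ∈ classFp := by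
  have h := classOK_true
  simp only [classOK, Bool.and_eq_true, List.all_eq_true, decide_eq_true_eq, Nat.blt_eq,
    List.contains_iff_mem] at h
  obtain ⟨⟨⟨⟨h1, h2⟩, h3⟩, h4⟩, h5⟩ := h
  have hok : ∀ u ∈ classConj, okW u = true := fun u hu => by
    simp only [okW, List.all_eq_true, Nat.blt_eq]
    exact fun a ha => lt_trans (h1 u hu a ha) (by norm_num)
  refine ⟨fun u hu => ⟨hok u hu, okW_append (okW_append (okW_reverse (hok u hu)) okW_two) (hok u hu),
    coding.appProd_mem_sub fun a ha => ?_⟩, h2, h3, h4, fun u hu a ha => h5 u hu a ?_⟩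
  · have := h1 u hu a ha
    simp only [List.mem_cons, List.not_mem_nil, or_false]
    omega
  · simp only [List.mem_cons, List.not_mem_nil, or_false]
    omega

theorem el_classWord {u : List ℕ} (hu : okW u = true) :
    el (classWord u) = el u * el [2] * (el u)⁻¹ := by
  rw [classWord, el_append, el_append, el_reverse u hu, mul_assoc]

theorem conj_class {h : PG} (hh : h ∈ grpH) :
    ∃ u ∈ classConj, el (classWord u) = h * el [2] * h⁻¹ := by
  obtain ⟨hok, hfp, -, hone, hcl⟩ := class_facts
  have := finite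
  have hfind : ∀ L, okW L = true → fpW L ∈ classFp → ∃ u ∈ classConj, el (classWord u) = el L := by
    intro L hL hm
    rw [← hfp, List.mem_map] at hm
    obtain ⟨u, hu, he⟩ := hm
    exact ⟨u, hu, el_eq (hok u hu).2.1 hL he⟩
  have key : ∀ x ∈ grpH, ∀ y, (∃ u ∈ classConj, el (classWord u) = y) →
      ∃ u ∈ classConj, el (classWord u) = x * y * x⁻¹ := by
    intro x hx
    induction hx using Subgroup.closure_induction'' with
    | mem x hx =>
      obtain ⟨a, ha, rfl⟩ := hx
      have ha3 : a < 3 := by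
        simp only [List.mem_cons, List.not_mem_nil, or_false, Set.mem_ofPred_eq] at ha; omega
      rintro _ ⟨u, hu, rfl⟩
      have hoka : okW [a] = true := by simp [okW, Nat.blt_eq]; omega
      obtain ⟨v, hv, he⟩ := hfind _ (okW_append (okW_append hoka (hok u hu).2.1) hoka)
        (hcl u hu a ha3)
      refine ⟨v, hv, he.trans ?_⟩
      rw [el_append, el_append, gen_inv (by omega : a < 4)]
      simp [el, appProd, mul_assoc]
    | inv_mem x hx =>
      obtain ⟨a, ha, rfl⟩ := hx
      have ha3 : a < 3 := by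
        simp only [List.mem_cons, List.not_mem_nil, or_false, Set.mem_ofPred_eq] at ha; omega
      rintro _ ⟨u, hu, rfl⟩
      have hoka : okW [a] = true := by simp [okW, Nat.blt_eq]; omega
      obtain ⟨v, hv, he⟩ := hfind _ (okW_append (okW_append hoka (hok u hu).2.1) hoka)
        (hcl u hu a ha3)
      refine ⟨v, hv, he.trans ?_⟩
      rw [el_append, el_append, inv_inv, gen_inv (by omega : a < 4)]
      simp [el, appProd, mul_assoc]
    | one => intro y hy; simpa using hy
    | mul a b _ _ ha hb =>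
      intro y hy
      obtain ⟨v, hv, hve⟩ := ha _ (hb y hy)
      exact ⟨v, hv, hve.trans (by group)⟩
  exact key h hh _ (hfind _ okW_two hone)

theorem good_of_cent {g : PG} (hg : g * el [2] = el [2] * g) : (hom g pt : ℕ) ∈ goodPts := by
  have hfix : hom (el [2]) (hom g pt) = hom g pt := by
    have h0 : hom (el [2]) pt = pt :=
      hom_fix _ (coding.appProd_mem_sub fun a ha => by simp_all)
    have := congrArg (fun x => hom x pt) hg
    simpa [h0] using this.symm
  have h := fixOK_true
  have h' := of_allBelow h (hom g pt : ℕ) (lt_of_lt_of_eq (hom g pt).2 table_N)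
  have himg : J3Data.table.img 2 (hom g pt : ℕ) = (hom g pt : ℕ) := by
    have h2 := hom_el okW_two (hom g pt)
    rw [hfix] at h2
    exact h2.symm
  rw [himg] at h'
  simp only [Bool.or_eq_true, Bool.not_eq_true', List.contains_iff_mem, List.any_eq_true,
    Nat.beq_eq] at h'
  rcases h' with (h1 | h1) | ⟨⟨q, w⟩, hmem, hq⟩
  · exact absurd h1 (by simp)
  · exact h1
  exfalso
  have hb := badOK_true
  simp only [badOK, List.all_eq_true, Bool.and_eq_true, Bool.not_eq_true', Nat.beq_eq] at hb
  obtain ⟨⟨hw, hat⟩, hnc⟩ := hb _ hmem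
  have hh : (el w)⁻¹ * g ∈ grpH := by
    apply mem_grpH
    rw [map_mul, map_inv, Equiv.Perm.mul_apply, Equiv.Perm.inv_def, Equiv.symm_apply_eq]
    apply Fin.ext
    rw [hom_el hw]
    exact (hq.symm.trans hat.symm)
  obtain ⟨u, hu, he⟩ := conj_class hh
  have hoku := (class_facts.1 u hu).2.1
  have e2 : el (w ++ [2] ++ w.reverse) = el (classWord u) := by
    rw [he, el_append, el_append, el_reverse w hw, mul_inv_rev, inv_inv]
    have hg' : g * el [2] * g⁻¹ = el [2] := by rw [hg, mul_inv_cancel_right]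
    calc (el w)⁻¹ * (el [2] * el w) = (el w)⁻¹ * (g * el [2] * g⁻¹) * el w := by
          rw [hg', mul_assoc]
      _ = _ := by group
  have hf := fp_eq (MulEquiv.refl PG) (okW_append (okW_append hw okW_two) (okW_reverse hw)) hoku
    (congrArg (MulEquiv.refl PG) e2)
  have hin : fpW (w ++ [2] ++ w.reverse) ∈ classFp := by
    rw [hf, ← class_facts.2.1]
    exact List.mem_map.2 ⟨u, hu, rfl⟩
  rw [List.contains_iff_mem.2 hin] at hnc
  exact absurd hnc (by simp)

theorem card_cent_le_PG : Nat.card (Subgroup.centralizer ({el [2]} : Set PG)) ≤ 1920 := by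
  have := finite
  set C := Subgroup.centralizer ({el [2]} : Set PG) with hC
  set D := C ⊓ grpH with hD
  have h1 : D.relIndex C ≤ 16 := by
    let f : C ⧸ D.subgroupOf C → {n : ℕ // n ∈ goodPts} := Quotient.lift
      (fun g => ⟨(hom g.1 pt : ℕ), good_of_cent
        (Subgroup.mem_centralizer_singleton_iff.1 g.2)⟩)
      (fun a b h => by
        have h0 : a⁻¹ * b ∈ D.subgroupOf C := QuotientGroup.leftRel_apply.1 h
        have h' : a.1⁻¹ * b.1 ∈ D := Subgroup.mem_subgroupOf.1 h0
        have := hom_fix _ h'.2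
        apply Subtype.ext
        rw [map_mul, map_inv, Equiv.Perm.mul_apply, Equiv.Perm.inv_def, Equiv.symm_apply_eq] at this
        exact congrArg Fin.val this.symm)
    have hf : Function.Injective f := by
      intro x y
      induction x using QuotientGroup.induction_on with
      | _ a =>
        induction y using QuotientGroup.induction_on with
        | _ b =>
          intro h
          have h' : hom a.1 pt = hom b.1 pt := Fin.ext (congrArg Subtype.val h)
          refine QuotientGroup.eq.2 (?_ : a.1⁻¹ * b.1 ∈ D)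
          refine ⟨C.mul_mem (C.inv_mem a.2) b.2, mem_grpH ?_⟩
          rw [map_mul, map_inv, Equiv.Perm.mul_apply, ← h', Equiv.Perm.inv_def,
            Equiv.symm_apply_apply]
    have hfin : Finite {n : ℕ // n ∈ goodPts} :=
      Finite.of_equiv _ (Equiv.subtypeEquivRight fun n => List.mem_toFinset (l := goodPts))
    have hle := Nat.card_le_card_of_injective f hf
    refine hle.trans ?_
    rw [Nat.card_congr (Equiv.subtypeEquivRight fun n => (List.mem_toFinset (l := goodPts)).symm),
      Nat.card_eq_fintype_card, Fintype.card_coe]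
    exact (List.toFinset_card_le _).trans classConj_length.2.le
  have h2 : Nat.card D ≤ 120 := by
    obtain ⟨hok, hfp, hnd, -, -⟩ := class_facts
    have hidx : classConj.length ≤ (D.subgroupOf grpH).index := by
      let f : Fin classConj.length → grpH ⧸ D.subgroupOf grpH := fun i =>
        QuotientGroup.mk (⟨el (classConj[i.1]), (hok _ (List.getElem_mem _)).2.2⟩ : grpH)
      have hf : Function.Injective f := by
        intro i j h
        have h' : (el classConj[i.1])⁻¹ * el classConj[j.1] ∈ D :=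
          Subgroup.mem_subgroupOf.1 (QuotientGroup.eq.1 h)
        have hc := Subgroup.mem_centralizer_singleton_iff.1 h'.1
        have hi := hok _ (List.getElem_mem i.2)
        have hj := hok _ (List.getElem_mem j.2)
        have e1 : el (classWord classConj[i.1]) = el (classWord classConj[j.1]) := by
          rw [el_classWord hi.1, el_classWord hj.1]
          calc el classConj[i.1] * el [2] * (el classConj[i.1])⁻¹
              = el classConj[i.1] * (el [2] * ((el classConj[i.1])⁻¹ * el classConj[j.1])) *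
                  (el classConj[j.1])⁻¹ := by group
            _ = _ := by rw [← hc]; group
        have hf2 := fp_eq (MulEquiv.refl PG) hi.2.1 hj.2.1 (congrArg (MulEquiv.refl PG) e1)
        rw [← hfp] at hnd
        apply Fin.ext
        refine (List.Nodup.getElem_inj_iff hnd (hi := by simp) (hj := by simp)).1 ?_
        simpa using hf2
      have := Nat.card_le_card_of_injective f hf
      simpa [Subgroup.index] using this
    have hm := (D.subgroupOf grpH).card_mul_index
    rw [Nat.card_congr (Subgroup.subgroupOfEquivOfLe (inf_le_right : D ≤ grpH)).toEquiv] at hm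
    have hH := card_H.1
    rw [classConj_length.1] at hidx
    have : Nat.card D * (D.subgroupOf grpH).index ≤ 8160 := hm.le.trans hH
    nlinarith
  have hm := (D.subgroupOf C).card_mul_index
  rw [Nat.card_congr (Subgroup.subgroupOfEquivOfLe (inf_le_left : D ≤ C)).toEquiv] at hm
  rw [← hm]
  exact Nat.mul_le_mul h2 h1

theorem card_cent [Finite G] : Nat.card (centT e) = 1920 := by
  refine le_antisymm ?_ (card_cent_ge e)
  have h : centT e = (Subgroup.centralizer ({el [2]} : Set PG)).map e.toMonoidHom := by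
    ext x
    rw [Subgroup.mem_map_equiv, Subgroup.mem_centralizer_singleton_iff,
      Subgroup.mem_centralizer_singleton_iff]
    constructor
    · intro hx
      apply e.injective
      simpa [invT, ev] using hx
    · intro hx
      have := congrArg e hx
      simpa [invT, ev] using this
  rw [h, Subgroup.card_map_of_injective (f := e.toMonoidHom) e.injective]
  exact card_cent_le_PG

theorem conj_all [Finite G] (hcard : Nat.card G = 50232960) (x : G) (hx : orderOf x = 2) :
    IsConj (invT e) x := by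
  classical
  have : Fact (Nat.Prime 2) := ⟨Nat.prime_two⟩
  obtain ⟨hspec, hc⟩ := grpOf_spec e sOK
  rw [list_lengths.2.2.1] at hc
  have hS : Nat.card (grpOf e sGens) = 2 ^ (Nat.card G).factorization 2 := by
    rw [hc, hcard]
    have : (50232960 : ℕ).factorization 2 = 7 := by
      rw [show (50232960 : ℕ) = 2 ^ 7 * 392445 by norm_num, Nat.factorization_mul (by norm_num)
        (by norm_num), Finsupp.add_apply, Nat.Prime.factorization_pow Nat.prime_two,
        Finsupp.single_eq_same, Nat.factorization_eq_zero_of_not_dvd (by norm_num)]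
    rw [this]; norm_num
  have hp : IsPGroup 2 (Subgroup.zpowers x) :=
    IsPGroup.of_card (n := 1) (by rw [Nat.card_zpowers, hx, pow_one])
  obtain ⟨P, hP⟩ := hp.exists_le_sylow
  obtain ⟨g, hg⟩ := MulAction.exists_smul_eq G P (Sylow.ofCard (grpOf e sGens) hS)
  have hmem : g * x * g⁻¹ ∈ grpOf e sGens := by
    have h := congrArg (fun R : Sylow 2 G => (R : Subgroup G)) hg
    simp only [Sylow.coe_subgroup_smul] at h
    rw [show (grpOf e sGens : Subgroup G) = MulAut.conj g • (P : Subgroup G) from h.symm]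
    exact ⟨x, hP (Subgroup.mem_zpowers x), rfl⟩
  obtain ⟨d, hd, he⟩ := (hspec _).1 hmem
  obtain ⟨-, hok, -, -⟩ := subOK_facts sOK
  obtain ⟨i, hi, rfl⟩ := List.mem_iff_getElem.1 hd
  have h := sInvOK_true
  simp only [sInvOK, List.all_eq_true, List.mem_range, Bool.or_eq_true, Bool.not_eq_true',
    List.any_eq_true, Bool.and_eq_true, Nat.beq_eq] at h
  have h' := h i (list_lengths.2.2.1 ▸ hi)
  rw [List.getD_eq_getElem?_getD, List.getElem?_eq_getElem hi, Option.getD_some] at h'
  have hokd := hok _ (List.getElem_mem hi)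
  have hxx : x * x = 1 := by rw [← pow_two, ← hx, pow_orderOf_eq_one]
  have hconj : IsConj x (g * x * g⁻¹) := isConj_iff.2 ⟨g, rfl⟩
  rcases h' with (h1 | h1) | ⟨c, -, ⟨-, hc1⟩, hc2⟩
  · have e1 : ev e (prodW sGens sProd[i] ++ prodW sGens sProd[i]) = ev e [] := by
      rw [ev_append, ev_nil, he,
        show g * x * g⁻¹ * (g * x * g⁻¹) = g * (x * x) * g⁻¹ by group, hxx]
      simp
    have hb := fp_eq e (okW_append hokd hokd) rfl e1
    rw [show Nat.beq _ _ = true from Nat.beq_eq ▸ hb] at h1
    exact absurd h1 (by simp)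
  · have e1 := ev_eq e hokd (M := []) rfl h1
    rw [ev_nil, he, conj_eq_one_iff] at e1
    rw [e1, orderOf_one] at hx
    exact absurd hx (by norm_num)
  · have e2 := ev_eq e (okW_append (okW_append (okW_reverse hc1) okW_two) hc1) hokd hc2
    rw [he, ev_append, ev_append, ev_reverse e hc1, ← mul_assoc] at e2
    exact (isConj_iff.2 ⟨ev e c.2, e2⟩).trans hconj.symm

theorem invT_ne_one : invT e ≠ 1 := by
  intro h
  have := fp_eq e okW_two (M := []) rfl (h.trans (ev_nil e).symm)
  revert this
  have key : fpW [2] ≠ fpW [] := by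
    have h1 := q_first
    have hnd := (subOK_facts qOK).2.2.2
    intro e'
    rw [← h1.1, ← h1.2.2.2] at e'
    simp only [List.getD_eq_getElem?_getD,
      List.getElem?_eq_getElem (show qZ < qFp.length from list_lengths.2.2.2 ▸ h1.2.1),
      List.getElem?_eq_getElem (show 0 < qFp.length from list_lengths.2.2.2 ▸ by norm_num),
      Option.getD_some] at e'
    exact h1.2.2.1 ((List.Nodup.getElem_inj_iff hnd).1 e')
  exact key

theorem orderOf_invT : orderOf (invT e) = 2 :=
  orderOf_eq_prime (by rw [pow_two, invT_sq]) (invT_ne_one e)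

/-- The elements of the extraspecial subgroup by index. -/
noncomputable def qEl (i : ℕ) : G := ev e (qWord i)

theorem qEl_facts : (∀ x ∈ grpQ e, ∃ i < 32, qEl e i = x) ∧
    (∀ i < 32, qEl e i ∈ grpQ e) ∧ (∀ i < 32, ∀ j < 32, qEl e i = qEl e j → i = j) ∧
    (∀ i < 32, ∀ j < 32, qEl e i * qEl e j = qEl e (qMul i j)) ∧
    qEl e 0 = 1 ∧ qEl e qZ = invT e := by
  obtain ⟨hspec, -⟩ := grpOf_spec e qOK
  obtain ⟨-, hok, hfp, hnd⟩ := subOK_facts qOK
  have hlen := list_lengths.1
  have hw : ∀ i < 32, okW (qWord i) = true ∧ qFp.getD i 0 = fpW (qWord i) ∧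
      qProd.getD i [] ∈ qProd := by
    intro i hi
    have hi' : i < qProd.length := hlen ▸ hi
    have hm : qProd.getD i [] = qProd[i] := by
      rw [List.getD_eq_getElem?_getD, List.getElem?_eq_getElem hi', Option.getD_some]
    refine ⟨?_, ?_, ?_⟩
    · rw [qWord, hm]; exact hok _ (List.getElem_mem _)
    · rw [← hfp, qWord, hm, List.getD_eq_getElem?_getD, List.getElem?_map,
        List.getElem?_eq_getElem hi']
      rfl
    · rw [hm]; exact List.getElem_mem _
  have hinj : ∀ i < 32, ∀ j < 32, fpW (qWord i) = fpW (qWord j) → i = j := by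
    intro i hi j hj h
    have hi' : i < qFp.length := list_lengths.2.2.2 ▸ hi
    have hj' : j < qFp.length := list_lengths.2.2.2 ▸ hj
    rw [← (hw i hi).2.1, ← (hw j hj).2.1] at h
    simp only [List.getD_eq_getElem?_getD, List.getElem?_eq_getElem hi',
      List.getElem?_eq_getElem hj', Option.getD_some] at h
    exact (List.Nodup.getElem_inj_iff hnd).1 h
  refine ⟨?_, fun i hi => (hspec _).2 ⟨_, (hw i hi).2.2, rfl⟩, ?_, ?_, ?_, ?_⟩
  · intro x hx
    obtain ⟨d, hd, rfl⟩ := (hspec x).1 hx
    obtain ⟨i, hi, rfl⟩ := List.mem_iff_getElem.1 hd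
    refine ⟨i, hlen ▸ hi, ?_⟩
    rw [qEl, qWord, List.getD_eq_getElem?_getD, List.getElem?_eq_getElem hi, Option.getD_some]
  · exact fun i hi j hj h => hinj i hi j hj (fp_eq e (hw i hi).1 (hw j hj).1 h)
  · intro i hi j hj
    have h := qMul_ok
    simp only [List.all_eq_true, List.mem_range, Nat.beq_eq] at h
    have hk : qMul i j < 32 := Nat.mod_lt _ (by norm_num)
    rw [qEl, qEl, ← ev_append]
    exact ev_eq e (okW_append (hw j hj).1 (hw i hi).1) (hw _ hk).1
      ((h i hi j hj).trans (hw _ hk).2.1)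
  · rw [qEl, ← ev_nil e]
    exact ev_eq e (hw 0 (by norm_num)).1 rfl ((hw 0 (by norm_num)).2.1.symm.trans q_first.1)
  · exact ev_eq e (hw qZ q_first.2.1).1 okW_two
      ((hw qZ q_first.2.1).2.1.symm.trans q_first.2.2.2)

theorem extraspecial [Finite G] : Cfsg.IsExtraspecial 2 (grpQ e) ∧
    ∀ E : Subgroup (grpQ e), Cfsg.IsElementaryAbelian 2 E → Nat.card E ≤ 2 ^ 2 := by
  classical
  obtain ⟨hall, hmem, hinj, hmul, hone, hz⟩ := qEl_facts e
  let q : Fin 32 → grpQ e := fun i => ⟨qEl e i, hmem i i.2⟩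
  have qsurj : ∀ x : grpQ e, ∃ i : Fin 32, q i = x := fun x => by
    obtain ⟨i, hi, h⟩ := hall x.1 x.2
    exact ⟨⟨i, hi⟩, Subtype.ext h⟩
  have qeq : ∀ i j : Fin 32, q i = q j ↔ (i : ℕ) = j := fun i j =>
    ⟨fun h => hinj i i.2 j j.2 (congrArg Subtype.val h), fun h => by rw [Fin.ext h]⟩
  have qmul : ∀ i j : Fin 32, q i * q j = q ⟨qMul i j, Nat.mod_lt _ (by norm_num)⟩ :=
    fun i j => Subtype.ext (hmul i i.2 j j.2)
  let q0 : Fin 32 := ⟨0, by norm_num⟩
  let qz : Fin 32 := ⟨qZ, q_first.2.1⟩
  have e0 : q q0 = 1 := Subtype.ext hone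
  have hcomm' : ∀ i j : Fin 32, Commute (q i) (q j) ↔ qMul i j = qMul j i := fun i j => by
    rw [commute_iff_eq, qmul, qmul, qeq]
  have hsqrd : ∀ i : Fin 32, q i * q i = 1 ↔ qMul i i = 0 := fun i => by
    rw [qmul, ← e0, qeq]
  have hcen : q qz ∈ Subgroup.center (grpQ e) := by
    refine Subgroup.mem_center_iff.2 fun x => Subtype.ext ?_
    show x.1 * qEl e qZ = qEl e qZ * x.1
    rw [hz]
    exact Subgroup.mem_centralizer_singleton_iff.1 ((le_cent e).1 x.2)
  have hP : IsPGroup 2 (grpQ e) :=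
    IsPGroup.of_card (n := 5) (by rw [(grpOf_spec e qOK).2, list_lengths.1]; norm_num)
  refine ⟨ExtraspecialCrit.isExtraspecial hP (q qz) ?_ hcen ?_ ?_ ?_ ?_, ?_⟩
  · rw [← e0, Ne, qeq]; exact q_first.2.2.1
  · intro a b
    obtain ⟨i, rfl⟩ := qsurj a
    obtain ⟨j, rfl⟩ := qsurj b
    rcases q_table i i.2 j j.2 with h | h
    · exact Or.inl (commutatorElement_eq_one_iff_commute.2 ((hcomm' i j).2 h))
    · have h' : q i * q j * q qz = q j * q i := by
        rw [qmul, qmul, qmul, qeq]; exact h
      have hzz : q qz * q qz = 1 := Subtype.ext (by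
        show qEl e qZ * qEl e qZ = 1
        rw [hz, invT_sq])
      have hc := Subgroup.mem_center_iff.1 hcen
      refine Or.inr ?_
      have h3 : q i * q j = q qz * (q j * q i) := by
        rw [← h', hc (q i * q j), ← mul_assoc, hzz, one_mul]
      rw [commutatorElement_def, h3]
      group
  · intro a
    obtain ⟨i, rfl⟩ := qsurj a
    rcases q_squares i i.2 with h | h
    · exact Or.inl ((hsqrd i).2 h)
    · exact Or.inr (by rw [qmul, qeq]; exact h)
  · intro a ha
    obtain ⟨i, rfl⟩ := qsurj a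
    have h := q_center
    simp only [List.all_eq_true, List.mem_range, Bool.or_eq_true, Bool.not_eq_true',
      Nat.beq_eq] at h
    rcases h i i.2 with (h1 | h1) | h1
    · exfalso
      have : ((List.range 32).all fun j => Nat.beq (qMul i j) (qMul j i)) = true := by
        simp only [List.all_eq_true, List.mem_range, Nat.beq_eq]
        exact fun j hj => (hcomm' i ⟨j, hj⟩).1 (Subgroup.mem_center_iff.1 ha (q ⟨j, hj⟩)).symm
      rw [this] at h1; exact absurd h1 (by simp)
    · exact Or.inl (e0 ▸ (qeq i q0).2 h1)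
    · exact Or.inr ((qeq i qz).2 h1)
  · have h := q_nonabelian
    simp only [List.any_eq_true, List.mem_range, Bool.not_eq_true'] at h
    obtain ⟨i, hi, j, hj, hne⟩ := h
    refine ⟨q ⟨i, hi⟩, q ⟨j, hj⟩, fun hc => ?_⟩
    rw [show Nat.beq (qMul i j) (qMul j i) = true from Nat.beq_eq ▸ (hcomm' _ _).1 hc] at hne
    exact absurd hne (by simp)
  · intro E hE
    by_contra hgt
    rw [not_le] at hgt
    have h := qRankOK_true
    simp only [qRankOK, List.all_eq_true, List.mem_range, Bool.or_eq_true, Bool.not_eq_true',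
      Nat.beq_eq] at h
    have hex : ∀ s : Finset (grpQ e), s.card ≤ 4 → ∃ a ∈ E, a ∉ s := by
      intro s hs
      by_contra hall'
      push Not at hall'
      have : (E : Set (grpQ e)).ncard ≤ s.card := by
        rw [← Set.ncard_coe_finset]
        exact Set.ncard_le_ncard (fun a ha => hall' a ha) (Set.toFinite _)
      rw [← Nat.card_coe_set_eq] at this
      have h4 : (2 : ℕ) ^ 2 = 4 := by norm_num
      have h5 : Nat.card E ≤ s.card := this
      omega
    obtain ⟨a, ha, ha'⟩ := hex {1} (by simp)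
    obtain ⟨b, hb, hb'⟩ := hex {1, a} (le_trans Finset.card_le_two (by norm_num))
    obtain ⟨c, hc, hc'⟩ := hex {1, a, b, a * b} (Finset.card_le_four)
    simp only [Finset.mem_insert, Finset.mem_singleton, not_or] at ha' hb' hc'
    obtain ⟨i, rfl⟩ := qsurj a
    obtain ⟨j, rfl⟩ := qsurj b
    obtain ⟨k, rfl⟩ := qsurj c
    have hsq : ∀ x : Fin 32, q x ∈ E → qMul x x = 0 := fun x hx => by
      have := hE.2 _ hx; rw [pow_two] at this; exact (hsqrd x).1 this
    have hco : ∀ x y : Fin 32, q x ∈ E → q y ∈ E → qMul x y = qMul y x := fun x y hx hy =>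
      (hcomm' x y).1 (congrArg Subtype.val
        (hE.1.is_comm.comm (⟨_, hx⟩ : E) ⟨_, hy⟩))
    have hnz : ∀ x : Fin 32, q x ≠ 1 → (x : ℕ) ≠ 0 := fun x hx e' => hx (e0 ▸ (qeq x q0).2 e')
    have hne : ∀ {a b : ℕ}, a ≠ b → ¬ Nat.beq a b = false → False := fun h1 h2 => by
      rcases hb2 : Nat.beq _ _
      · exact h2 hb2
      · exact h1 (Nat.eq_of_beq_eq_true hb2)
    have hb2 : ∀ {a b : ℕ}, a = b → Nat.beq a b = false → False := fun h1 h2 => by
      rw [show Nat.beq _ _ = true from Nat.beq_eq ▸ h1] at h2; exact absurd h2 (by simp)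
    rcases h i i.2 with h1 | h1
    · exact hb2 (hsq i ha) h1
    rcases h1 j j.2 with ((((h2 | h2) | h2) | h2) | h2) | h2
    · exact hb2 (hsq j hb) h2
    · exact hb2 (hco i j ha hb) h2
    · exact hnz i ha' h2
    · exact hnz j hb'.1 h2
    · exact hb'.2 ((qeq j i).2 h2.symm)
    rcases h2 k k.2 with (((((h3 | h3) | h3) | h3) | h3) | h3) | h3
    · exact hb2 (hsq k hc) h3
    · exact hb2 (hco i k ha hc) h3
    · exact hb2 (hco j k hb hc) h3
    · exact hnz k hc'.1 h3
    · exact hc'.2.1 ((qeq k i).2 h3)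
    · exact hc'.2.2.1 ((qeq k j).2 h3)
    · exact hc'.2.2.2 (by rw [qmul]; exact (qeq k _).2 h3)

theorem kImg_facts : ∀ i < 60, ∀ p < 5, kImg i p < 5 ∧ (kPermInv.getD i []).getD p 9 < 5 ∧
    (kPermInv.getD i []).getD (kImg i p) 9 = p ∧
    kImg i ((kPermInv.getD i []).getD p 9) = p := by
  intro i hi p hp
  have h := permOK_true
  simp only [permOK, List.all_eq_true, List.mem_range, Bool.and_eq_true, Nat.blt_eq,
    Nat.beq_eq] at h
  obtain ⟨⟨⟨a, b⟩, c⟩, d⟩ := (h i hi).1 p hp
  exact ⟨a, b, c, d⟩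

/-- The permutation of five points of a listed element. -/
noncomputable def kPermAt (i : Fin 60) : Equiv.Perm (Fin 5) where
  toFun p := ⟨kImg i p, (kImg_facts i i.2 p p.2).1⟩
  invFun p := ⟨(kPermInv.getD i []).getD p 9, (kImg_facts i i.2 p p.2).2.1⟩
  left_inv p := Fin.ext (kImg_facts i i.2 p p.2).2.2.1
  right_inv p := Fin.ext (kImg_facts i i.2 p p.2).2.2.2

theorem kPermAt_sign : ∀ i, Equiv.Perm.sign (kPermAt i) = 1 := by decide +kernel

theorem alt_five [Finite G] : Nonempty (grpK e ≃* alternatingGroup (Fin 5)) := by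
  classical
  obtain ⟨hspec, hcard⟩ := grpOf_spec e kOK
  obtain ⟨hokg, hok, hfp, hnd⟩ := subOK_facts kOK
  have hlen := list_lengths.2.1
  rw [hlen] at hcard
  let w : Fin 60 → List ℕ := fun i => prodW kGens (kProd.getD i [])
  have hget : ∀ i : Fin 60, kProd.getD i [] = kProd[(i : ℕ)]'(i.2.trans_eq hlen.symm) := fun i => by
    rw [List.getD_eq_getElem?_getD, List.getElem?_eq_getElem (i.2.trans_eq hlen.symm),
      Option.getD_some]
  have hwok : ∀ i, okW (w i) = true := fun i => by
    simp only [w, hget]; exact hok _ (List.getElem_mem _)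
  have hwmem : ∀ i, ev e (w i) ∈ grpK e := fun i => (hspec _).2 ⟨_, by
    rw [hget]; exact List.getElem_mem _, rfl⟩
  let k : Fin 60 → grpK e := fun i => ⟨ev e (w i), hwmem i⟩
  have ksurj : Function.Surjective k := fun x => by
    obtain ⟨d, hd, h⟩ := (hspec x.1).1 x.2
    obtain ⟨i, hi, rfl⟩ := List.mem_iff_getElem.1 hd
    refine ⟨⟨i, hlen ▸ hi⟩, Subtype.ext ?_⟩
    show ev e (prodW kGens (kProd.getD i [])) = x.1
    rw [List.getD_eq_getElem?_getD, List.getElem?_eq_getElem hi, Option.getD_some, h]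
  have kbij : Function.Bijective k :=
    (Nat.bijective_iff_surjective_and_card k).2 ⟨ksurj, by rw [hcard, Nat.card_fin]⟩
  let idx : grpK e ≃ Fin 60 := (Equiv.ofBijective k kbij).symm
  have idxk : ∀ i, idx (k i) = i := fun i => (Equiv.ofBijective k kbij).symm_apply_apply i
  have kidx : ∀ x, k (idx x) = x := fun x => (Equiv.ofBijective k kbij).apply_symm_apply x
  let ψ : grpK e → Equiv.Perm (Fin 5) := fun x => kPermAt (idx x)
  have hp := permOK_true
  simp only [permOK, List.all_eq_true, List.mem_range, Bool.and_eq_true, Nat.blt_eq,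
    Nat.beq_eq] at hp
  have hsucc : ∀ (i : Fin 60) (g : ℕ) (hg : g < 2) (hm : ev e (kGens.getD g []) ∈ grpK e),
      ∃ j : Fin 60, (j : ℕ) = (kSucc.getD i []).getD g 60 ∧
        k j = ⟨_, hm⟩ * k i := by
    intro i g hg hm
    obtain ⟨hj, he⟩ := (hp i i.2).2 g hg
    refine ⟨⟨_, hj⟩, rfl, Subtype.ext ?_⟩
    show ev e (w ⟨_, hj⟩) = ev e (kGens.getD g []) * ev e (w i)
    rw [← ev_append]
    have hgl : g < kGens.length := by
      have : kGens.length = 2 := by decide
      omega
    have hgok : okW (kGens.getD g []) = true := by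
      rw [List.getD_eq_getElem?_getD, List.getElem?_eq_getElem hgl, Option.getD_some]
      exact hokg _ (List.getElem_mem _)
    refine ev_eq e (hwok _) (okW_append (hwok i) hgok) (Eq.trans ?_ he.symm)
    have hl : ((kSucc.getD i []).getD g 60) < kProd.length := hlen.symm ▸ hj
    simp only [w]
    rw [← hfp, List.getD_eq_getElem?_getD (l := List.map _ _), List.getElem?_map,
      List.getElem?_eq_getElem hl, List.getD_eq_getElem?_getD (l := kProd),
      List.getElem?_eq_getElem hl]
    rfl
  obtain ⟨hk0, hk1, hk2⟩ := k_first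
  simp only [List.all_eq_true, List.mem_range, Bool.or_eq_true, List.any_eq_true, Nat.beq_eq,
    Bool.not_eq_true'] at hk1 hk2
  let z : Fin 60 := ⟨0, by norm_num⟩
  have kz : k z = 1 := Subtype.ext (by
    show ev e (prodW kGens (kProd.getD 0 [])) = 1
    rw [hk0]; exact ev_nil e)
  have ψone : ψ 1 = 1 := by
    simp only [ψ]
    rw [← kz, idxk]
    exact Equiv.ext fun p => Fin.ext (hk2 p p.2)
  have hgen : ∀ (g : ℕ) (hg : g < 2) (hm : ev e (kGens.getD g []) ∈ grpK e) (x : grpK e),
      ψ (⟨_, hm⟩ * x) = ψ ⟨_, hm⟩ * ψ x := by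
    intro g hg hm x
    obtain ⟨j, hj, hje⟩ := hsucc (idx x) g hg hm
    obtain ⟨j0, hj0, hje0⟩ := hsucc z g hg hm
    rw [kidx] at hje
    rw [kz, mul_one] at hje0
    have h := homOK_true
    simp only [homOK, List.all_eq_true, List.mem_range, Nat.beq_eq] at h
    simp only [ψ]
    rw [← hje, ← hje0, idxk, idxk]
    refine Equiv.ext fun p => Fin.ext ?_
    show kImg j p = kImg j0 (kImg (idx x) p)
    rw [hj, hj0]
    exact h _ (idx x).2 g hg p p.2
  have hgen' : ∀ L ∈ kGens, ∀ (hm : ev e L ∈ grpK e) (x : grpK e),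
      ψ (⟨_, hm⟩ * x) = ψ ⟨_, hm⟩ * ψ x := by
    intro L hL
    obtain ⟨n, hn, e1⟩ := List.mem_iff_getElem.1 hL
    have hn2 : n < 2 := by
      have : kGens.length = 2 := by decide
      omega
    have e2 : kGens.getD n [] = L := by
      rw [List.getD_eq_getElem?_getD, List.getElem?_eq_getElem hn, Option.getD_some, e1]
    subst e2
    exact hgen n hn2
  have hmul : ∀ x y, ψ (x * y) = ψ x * ψ y := by
    intro x
    obtain ⟨x, hx⟩ := x
    induction hx using Subgroup.closure_induction_left with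
    | one =>
      intro y
      show ψ (1 * y) = ψ 1 * ψ y
      rw [one_mul, ψone, one_mul]
    | mul_left a ha b hb ih =>
      intro y
      obtain ⟨L, hL, rfl⟩ := ha
      have hm : ev e L ∈ grpK e := Subgroup.subset_closure ⟨L, hL, rfl⟩
      show ψ (⟨ev e L, hm⟩ * ⟨b, hb⟩ * y) = ψ (⟨ev e L, hm⟩ * ⟨b, hb⟩) * ψ y
      rw [mul_assoc, hgen' L hL hm, hgen' L hL hm, ih, mul_assoc]
    | inv_mul_cancel a ha b hb ih =>
      intro y
      obtain ⟨L, hL, rfl⟩ := ha
      have hm : ev e L ∈ grpK e := Subgroup.subset_closure ⟨L, hL, rfl⟩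
      show ψ ((⟨ev e L, hm⟩ : grpK e)⁻¹ * ⟨b, hb⟩ * y) =
        ψ ((⟨ev e L, hm⟩ : grpK e)⁻¹ * ⟨b, hb⟩) * ψ y
      have key : ∀ u, ψ ((⟨ev e L, hm⟩ : grpK e)⁻¹ * u) = (ψ ⟨ev e L, hm⟩)⁻¹ * ψ u := fun u => by
        rw [eq_inv_mul_iff_mul_eq, ← hgen' L hL hm, mul_inv_cancel_left]
      rw [mul_assoc, key, key, ih, mul_assoc]
  have hsign : ∀ x, ψ x ∈ alternatingGroup (Fin 5) := fun x => kPermAt_sign _
  let φ : grpK e →* alternatingGroup (Fin 5) :=
    { toFun := fun x => ⟨ψ x, hsign x⟩
      map_one' := Subtype.ext ψone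
      map_mul' := fun x y => Subtype.ext (hmul x y) }
  have hinj : Function.Injective φ := by
    rw [injective_iff_map_eq_one]
    intro x hx
    have hx' : ψ x = 1 := congrArg Subtype.val hx
    rcases hk1 (idx x) (idx x).2 with h | ⟨p, hp', h⟩
    · rw [← kidx x, show idx x = z from Fin.ext h, kz]
    · exfalso
      have h2 : kImg (idx x) p = p :=
        congrArg Fin.val (DFunLike.congr_fun hx' (⟨p, hp'⟩ : Fin 5))
      rw [show Nat.beq _ _ = true from Nat.beq_eq ▸ h2] at h
      exact absurd h (by simp)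
  refine ⟨MulEquiv.ofBijective φ ((Nat.bijective_iff_injective_and_card φ).2 ⟨hinj, ?_⟩)⟩
  rw [hcard, nat_card_alternatingGroup, Nat.card_fin]
  rfl

/-- The conclusion about involutions. -/
theorem involution_structure (e : PG ≃* G) [Finite G] (hcard : Nat.card G = 50232960) :
    (∀ x y : G, orderOf x = 2 → orderOf y = 2 → IsConj x y) ∧ ∃ t : G, orderOf t = 2 ∧
      ∃ (Q : Subgroup ↥(Subgroup.centralizer ({t} : Set G))) (_ : Q.Normal),
        Cfsg.IsExtraspecial 2 Q ∧ Nat.card Q = 32 ∧
        (∀ E : Subgroup Q, Cfsg.IsElementaryAbelian 2 E → Nat.card E ≤ 2 ^ 2) ∧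
        (∃ H : Subgroup ↥(Subgroup.centralizer ({t} : Set G)), Q.IsComplement' H) ∧
        Nonempty (↥(Subgroup.centralizer ({t} : Set G)) ⧸ Q ≃* ↥(alternatingGroup (Fin 5))) := by
  refine ⟨fun x y hx hy => (conj_all e hcard x hx).symm.trans (conj_all e hcard y hy),
    invT e, orderOf_invT e, ?_⟩
  obtain ⟨hqC, hkC⟩ := le_cent e
  set C := Subgroup.centralizer ({invT e} : Set G)
  let Q : Subgroup C := (grpQ e).subgroupOf C
  let K : Subgroup C := (grpK e).subgroupOf C
  let iQ : Q ≃* grpQ e := Subgroup.subgroupOfEquivOfLe hqC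
  let iK : K ≃* grpK e := Subgroup.subgroupOfEquivOfLe hkC
  have hQc : Nat.card Q = 32 := by
    rw [Nat.card_congr iQ.toEquiv, (grpOf_spec e qOK).2, list_lengths.1]
  have hKc : Nat.card K = 60 := by
    rw [Nat.card_congr iK.toEquiv, (grpOf_spec e kOK).2, list_lengths.2.1]
  have hdisj : Disjoint Q K := by
    rw [disjoint_iff_inf_le]
    intro x hx
    exact Subtype.ext (meet_eq_bot e hx.1 hx.2)
  have hcompl : Q.IsComplement' K :=
    Subgroup.isComplement'_of_card_mul_and_disjoint
      (by rw [hQc, hKc]; exact (card_cent e).symm) hdisj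
  have hnorm : Q.Normal := by
    refine ⟨fun q hq g => ?_⟩
    obtain ⟨⟨a, b⟩, hab⟩ := hcompl.2 g
    simp only at hab
    rw [← hab]
    show ((a : C) : G) * (b : C) * (q : G) * (((a : C) : G) * (b : C))⁻¹ ∈ grpQ e
    rw [mul_inv_rev, show ((a : C) : G) * (b : C) * (q : G) * (((b : C) : G)⁻¹ * ((a : C) : G)⁻¹) =
      ((a : C) : G) * (((b : C) : G) * (q : G) * ((b : C) : G)⁻¹) * ((a : C) : G)⁻¹ by group]
    exact mul_mem (mul_mem a.2 (conj_mem e b.2 _ hq)) (inv_mem a.2)
  obtain ⟨hex, hrank⟩ := extraspecial e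
  have hP : IsPGroup 2 Q := IsPGroup.of_card (n := 5) (by rw [hQc]; norm_num)
  refine ⟨Q, hnorm, ?_, hQc, ?_, ⟨K, hcompl⟩, ?_⟩
  · obtain ⟨⟨h1, h2, h3⟩, h4⟩ := hex
    exact CfsgLib.Characterizations.HallJankoCount.isExtraspecial_congr iQ.symm ⟨⟨h1, h2, h3⟩, h4⟩
  · intro E hE
    have h := hrank (E.map iQ.toMonoidHom) ?_
    · rwa [Subgroup.card_map_of_injective (f := iQ.toMonoidHom) iQ.injective] at h
    · refine ⟨⟨⟨?_⟩⟩, ?_⟩
      · rintro ⟨_, x, hx, rfl⟩ ⟨_, y, hy, rfl⟩
        apply Subtype.ext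
        show iQ x * iQ y = iQ y * iQ x
        rw [← map_mul, ← map_mul]
        exact congrArg iQ (congrArg Subtype.val (hE.1.is_comm.comm (⟨x, hx⟩ : E) ⟨y, hy⟩))
      · rintro _ ⟨x, hx, rfl⟩
        show iQ x ^ 2 = 1
        rw [← map_pow, hE.2 x hx, map_one]
  · obtain ⟨f⟩ := alt_five e
    let h0 : K →* C ⧸ Q := (QuotientGroup.mk' Q).comp K.subtype
    have hb : Function.Bijective h0 := by
      refine ⟨(injective_iff_map_eq_one h0).2 fun x hx => ?_, fun y => ?_⟩
      · have hxQ : (x : C) ∈ Q := (QuotientGroup.eq_one_iff _).1 hx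
        exact Subtype.ext (Subtype.ext (meet_eq_bot e hxQ x.2))
      · obtain ⟨c, rfl⟩ := QuotientGroup.mk_surjective y
        obtain ⟨⟨a, b⟩, hab⟩ := hcompl.2 c
        simp only at hab
        refine ⟨b, ?_⟩
        rw [← hab]
        show QuotientGroup.mk' Q (b : C) = QuotientGroup.mk' Q ((a : C) * (b : C))
        rw [map_mul, show QuotientGroup.mk' Q (a : C) = 1 from (QuotientGroup.eq_one_iff _).2 a.2,
          one_mul]
    exact ⟨(MulEquiv.ofBijective h0 hb).symm.trans (iK.trans f)⟩

end CfsgLib.Sporadic.J3Cent
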