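import Cfsg.Agent.Lib.Sporadic.J3Base
import Cfsg.Agent.Lib.Sporadic.J3Data.J3CentData
import Cfsg.Agent.Lib.Sporadic.CosetCertBelow

/-!
# The centraliser of an involution of the third Janko group: checks
-/

set_option maxRecDepth 100000

open CfsgLib.Sporadic.CosetCert.J3P CfsgLib.Sporadic.CosetCert

namespace CfsgLib.Sporadic.J3Cent

/-- The class member of a conjugator. -/
def classWord (u : List ℕ) : List ℕ := u.reverse ++ [2] ++ u

/-- The class of the involution in the point stabiliser checks. -/
noncomputable def classOK : Bool :=
  classConj.all (fun u => u.all fun a => Nat.blt a 3) &&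
    decide (classConj.map (fun u => fpW (classWord u)) = classFp) && decide classFp.Nodup &&
    classFp.contains (fpW [2]) &&
    classConj.all fun u => ([0, 1, 2] : List ℕ).all fun a =>
      classFp.contains (fpW ([a] ++ classWord u ++ [a]))

theorem classOK_true : classOK = true := by decide +kernel

theorem classConj_length : classConj.length = 68 ∧ goodPts.length = 16 := by decide +kernel

/-- The fixed points of the involution are the listed ones. -/
noncomputable def fixOK : Bool :=
  allBelow (fun u => !Nat.beq (J3Data.table.img 2 u) u ||
    goodPts.contains u || badPts.any fun e => Nat.beq e.1 u) 6156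

theorem fixOK_true : fixOK = true := by decide +kernel

/-- The other fixed points are carried away from the class. -/
noncomputable def badOK : Bool :=
  badPts.all fun e => okW e.2 && Nat.beq (at_ e.2 0) e.1 &&
    !classFp.contains (fpW (e.2 ++ [2] ++ e.2.reverse))

theorem badOK_true : badOK = true := by decide +kernel

theorem qOK : subOK qGens qProd qFp = true := by decide +kernel

theorem kOK : subOK kGens kProd kFp = true := by decide +kernel

theorem sOK : subOK sGens sProd sFp = true := by decide +kernel

/-- The generators centralise the involution. -/
noncomputable def centOK : Bool :=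
  (qGens ++ kGens).all fun g => Nat.beq (fpW (g ++ [2])) (fpW ([2] ++ g))

theorem centOK_true : centOK = true := by decide +kernel

/-- The complement normalises the extraspecial subgroup. -/
noncomputable def normOK : Bool :=
  kGens.all fun k => qGens.all fun q =>
    qFp.contains (fpW (k.reverse ++ q ++ k)) && qFp.contains (fpW (k ++ q ++ k.reverse))

theorem normOK_true : normOK = true := by decide +kernel

theorem meet_trivial : kFp.all (fun x => !qFp.contains x || Nat.beq x (fpW [])) = true := by
  decide +kernel

/-- The elements of the extraspecial subgroup as words. -/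
def qWord (i : ℕ) : List ℕ := prodW qGens (qProd.getD i [])

/-- An index of a product. -/
def qMul (i j : ℕ) : ℕ := Nat.mod (Nat.shiftRight (qTab.getD i 0) (Nat.mul 5 j)) 32

/-- The index of the involution. -/
noncomputable def qZ : ℕ := qFp.idxOf (fpW [2])

theorem qMul_ok : (List.range 32).all (fun i => (List.range 32).all fun j =>
    Nat.beq (fpW (qWord j ++ qWord i)) (qFp.getD (qMul i j) 0)) = true := by decide +kernel

theorem q_first : qFp.getD 0 0 = fpW [] ∧ qZ < 32 ∧ qZ ≠ 0 ∧ qFp.getD qZ 0 = fpW [2] := by
  decide +kernel

theorem q_table : ∀ i < 32, ∀ j < 32, qMul i j = qMul j i ∨ qMul (qMul i j) qZ = qMul j i := by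
  decide +kernel

theorem q_center : (List.range 32).all (fun i => !((List.range 32).all fun j =>
    Nat.beq (qMul i j) (qMul j i)) || Nat.beq i 0 || Nat.beq i qZ) = true := by decide +kernel

theorem q_squares : ∀ i < 32, qMul i i = 0 ∨ qMul i i = qZ := by decide +kernel

theorem q_mem_t : qFp.contains (fpW [2]) = true := by decide +kernel

theorem q_nonabelian : ((List.range 32).any fun i => (List.range 32).any fun j =>
      !Nat.beq (qMul i j) (qMul j i)) = true := by decide +kernel

/-- No elementary abelian subgroup of order eight. -/
def qRankOK : Bool :=
  (List.range 32).all fun i => !Nat.beq (qMul i i) 0 || (List.range 32).all fun j =>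
    !Nat.beq (qMul j j) 0 || !Nat.beq (qMul i j) (qMul j i) ||
      Nat.beq i 0 || Nat.beq j 0 || Nat.beq i j || (List.range 32).all fun k =>
      !Nat.beq (qMul k k) 0 || !Nat.beq (qMul i k) (qMul k i) || !Nat.beq (qMul j k) (qMul k j) ||
        Nat.beq k 0 || Nat.beq k i || Nat.beq k j || Nat.beq k (qMul i j)

theorem qRankOK_true : qRankOK = true := by decide +kernel

/-- The involutions of the Sylow subgroup are conjugate to the chosen one. -/
noncomputable def sInvOK : Bool :=
  (List.range 128).all fun i =>
    !(Nat.beq (fpW (prodW sGens (sProd.getD i []) ++ prodW sGens (sProd.getD i []))) (fpW [])) ||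
    Nat.beq (fpW (prodW sGens (sProd.getD i []))) (fpW []) ||
    sConj.any fun e => Nat.beq e.1 i && okW e.2 &&
      Nat.beq (fpW (e.2.reverse ++ [2] ++ e.2)) (fpW (prodW sGens (sProd.getD i [])))

theorem sInvOK_true : sInvOK = true := by decide +kernel

theorem list_lengths : qProd.length = 32 ∧ kProd.length = 60 ∧ sProd.length = 128 ∧
    qFp.length = 32 := by decide +kernel

/-- The permutations of five points of the complement check. -/
noncomputable def permOK : Bool :=
  (List.range 60).all fun i =>
    (List.range 5).all (fun p =>
      Nat.blt ((kPerm.getD i []).getD p 9) 5 && Nat.blt ((kPermInv.getD i []).getD p 9) 5 &&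
      Nat.beq ((kPermInv.getD i []).getD ((kPerm.getD i []).getD p 9) 9) p &&
      Nat.beq ((kPerm.getD i []).getD ((kPermInv.getD i []).getD p 9) 9) p) &&
    (List.range 2).all fun g =>
      Nat.blt ((kSucc.getD i []).getD g 60) 60 &&
      Nat.beq (fpW (prodW kGens (kProd.getD i []) ++ kGens.getD g []))
        (kFp.getD ((kSucc.getD i []).getD g 60) 0)

theorem permOK_true : permOK = true := by decide +kernel

/-- The permutation of a listed element as a function. -/
def kImg (i p : ℕ) : ℕ := (kPerm.getD i []).getD p 9

/-- The map to permutations is multiplicative on the generators. -/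
def homOK : Bool :=
  (List.range 60).all fun i => (List.range 2).all fun g => (List.range 5).all fun p =>
    Nat.beq (kImg ((kSucc.getD i []).getD g 60) p)
      (kImg ((kSucc.getD 0 []).getD g 60) (kImg i p))

theorem homOK_true : homOK = true := by decide +kernel

theorem k_first : kProd.getD 0 [] = [] ∧
    (List.range 60).all (fun i => Nat.beq i 0 || (List.range 5).any fun p => !Nat.beq (kImg i p) p) = true ∧
    (List.range 5).all (fun p => Nat.beq (kImg 0 p) p) = true := by decide +kernel

end CfsgLib.Sporadic.J3Cent
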