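import Cfsg.Agent.Lib.Sporadic.CosetCertApply
import Cfsg.Agent.Lib.Sporadic.J3Data.J3CertD
import Cfsg.Agent.Lib.Sporadic.J3Data.J3CertH
import Cfsg.Agent.Lib.Sporadic.J3Data.J3CertG
import Cfsg.Agent.Lib.Sporadic.J3Data.J3CertT

/-!
# A presentation of the third Janko group on four involutions: upper bounds

The generators are `a, b, c, d`; the three commuting pairs and the orders 17, 4, 5 of `ab`, `bc`,
`bd` are the edges, the further relators are listed as words in order of application.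
-/

set_option maxRecDepth 100000

open Cfsg.Spor

namespace CfsgLib.Sporadic.CosetCert.J3P

/-- The generators. -/
inductive Gen
  | a | b | c | d
deriving DecidableEq, Repr

/-- The labelled pairs. -/
def edges : List (Gen × ℕ × Gen) := [(.a, 17, .b), (.b, 4, .c), (.b, 5, .d)]

/-- All generators as letters. -/
def gens : List Gen := [Gen.a, Gen.b, Gen.c, Gen.d]

/-- The position of a generator. -/
def code : Gen → ℕ
  | .a => 0 | .b => 1 | .c => 2 | .d => 3

/-- The element of a word in order of application. -/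
def wordOf (L : List ℕ) : FreeGroup Gen := FreeGroup.mk (L.reverse.map fun i => (gens.getD i Gen.a, true))

/-- The further relators. -/
def extraWords : List (List ℕ) :=
   [[0, 1, 0, 1, 0, 1, 2, 1, 0, 1, 2, 1, 0, 1, 2, 1, 0, 1, 0, 1, 2, 0, 1, 2, 0, 1, 2],
    [0, 1, 0, 1, 0, 1, 0, 2, 1, 0, 1, 0, 1, 0, 2, 1, 0, 1, 0, 1, 2, 0, 1, 0, 1, 0, 1, 2],
    [3, 1, 0, 2, 1, 0, 2, 1, 2, 0, 1, 2, 0, 1, 2, 0, 1, 3, 0, 2],
    [3, 1, 2, 1, 3, 1, 2, 1, 3, 1, 2, 1, 3, 1, 2, 1, 3, 1, 2, 1],
    [3, 1, 2, 1, 0, 3, 1, 2, 1, 3, 0, 1, 2, 1, 3, 0, 1, 2, 1, 0, 2],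
    [3, 1, 0, 3, 1, 2, 1, 0, 3, 1, 3, 0, 1, 2, 1, 3, 0, 1, 3, 0, 1, 2, 1, 0],
    [3, 1, 0, 2, 1, 0, 1, 0, 1, 2, 1, 0, 1, 3, 1, 0, 1, 2, 1, 0, 1, 0, 1, 0, 2, 1],
    [3, 1, 0, 1, 0, 2, 1, 0, 1, 3, 1, 0, 1, 2, 0, 1, 0, 1, 3, 1, 0, 1, 0, 2, 1, 0, 1],
    [3, 1, 0, 3, 1, 0, 3, 1, 0, 3, 1, 3, 0, 1, 3, 0, 1, 3, 0, 1, 3, 0, 1, 3, 0, 1, 0],
    [3, 1, 2, 3, 1, 2, 1, 0, 3, 1, 0, 1, 0, 1, 3, 2, 1, 3, 1, 2, 1, 3, 0, 2, 1, 0, 1, 0, 1, 2],
    [3, 1, 0, 1, 0, 2, 3, 1, 0, 1, 0, 2, 3, 1, 0, 1, 3, 2, 0, 1, 0, 1, 3, 0, 2, 1, 0, 1, 0, 2],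
    [3, 1, 0, 1, 3, 1, 2, 1, 0, 1, 0, 2, 1, 3, 1, 3, 1, 0, 1, 3, 1, 3, 2, 1, 3, 2, 1, 0, 1, 0, 2],
    [3, 1, 0, 2, 3, 1, 0, 1, 0, 1, 0, 1, 3, 1, 2, 3, 0, 1, 3, 2, 0, 1, 2, 0, 1, 3, 0, 1, 3, 0, 1],
    [3, 1, 0, 2, 1, 0, 3, 1, 0, 1, 2, 1, 0, 1, 3, 0, 1, 2, 0, 1, 3, 2, 1, 0, 2, 1, 0, 1, 0, 2, 1, 2]]

/-- The further relators as free group elements. -/
def extra : List (FreeGroup Gen) := extraWords.map wordOf

/-- The presented group. -/
abbrev PG : Type := CoxPresented Gen edges extra

theorem mem_nodes (x : Gen) : x ∈ coxNodes edges := by cases x <;> decide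

/-- The coding of letters. -/
def coding : Coding edges extra 4 0x43210 where
  lets := gens.map fun x => (x, true)
  code := code
  cinv := code
  pairs := (List.range 4).flatMap fun i =>
    ((List.range 4).filter fun j => decide (i ≤ j)).map fun j =>
      (gens.getD i Gen.a, gens.getD j Gen.a)
  len := rfl
  code_eq a := by cases a <;> rfl
  cinv_eq a := Or.inr ⟨rfl, mem_nodes a⟩
  inv_eq x hx := by
    refine ⟨gens.getD x Gen.a, Or.inl ?_⟩
    revert x
    decide
  pairs_mem p hp := ⟨mem_nodes _, mem_nodes _⟩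
  pairs_cover := by decide +kernel

/-- The subgroup generated by some letters. -/
noncomputable abbrev sub (l : List ℕ) : Subgroup PG := coding.sub l

/-- All relators. -/
def allRels : List (FreeGroup Gen) := relList edges extra coding.pairs

/-- The relators in some letters only. -/
def relsIn (l : List ℕ) : List (FreeGroup Gen) :=
  allRels.filter fun r => (appWord code code r).all fun x => decide (x ∈ l)

/-- The words of generators of a subgroup. -/
def subsOf (l : List ℕ) : List (FreeGroup Gen) :=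
  l.map fun i => FreeGroup.of (gens.getD i Gen.a)

theorem subsOf_mem {l : List ℕ} (hl : ∀ i ∈ l, i < 4) :
    ∀ r ∈ subsOf l, PresentedGroup.mk (coxRelators edges ∪ {r | r ∈ extra}) r ∈ sub l := by
  intro r hr
  obtain ⟨i, hi, rfl⟩ := List.mem_map.1 hr
  refine Subgroup.subset_closure ⟨i, hi, ?_⟩
  have e : i = code (gens.getD i Gen.a) := by
    have h : ∀ j < 4, j = code (gens.getD j Gen.a) := by decide
    exact h i (hl i hi)
  conv_lhs => rw [e]
  exact coding.gen_code _

theorem step {C : Cert} (hV : C.Valid) (hN : 0 < C.N) {n : ℕ} (hn : C.N = n) {σ l : List ℕ}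
    (hσ : ∀ x < C.nl, σ.getD x 4 < 4 ∧
      σ.getD (C.inv x) 4 = Nat.mod (Nat.shiftRight 0x43210 (Nat.mul 4 (σ.getD x 4))) 16)
    (hlen : σ.length = C.nl) (hl : ∀ i ∈ l, i < 4)
    (hrl : (relsIn σ).length = C.nr)
    (hW : (relsIn σ ++ subsOf l).map (appWord code code) =
      (List.range C.words.length).map fun i => (C.letters i).map (σ.getD · 4)) :
    (sub l).relIndex (sub σ) ≤ n ∧ (sub l).relIndex (sub σ) ≠ 0 := by
  subst hn
  exact coding.relIndex_sub_le C hV hN σ hσ hlen (relsIn σ) (subsOf l)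
    (fun _ hr => mk_relList coding.pairs_mem (List.mem_filter.1 hr).1)
    (coding.wordsOK_of_map_eq hrl hW) (sub l) (subsOf_mem hl)

theorem sub_all : sub [0, 1, 2, 3] = ⊤ := coding.sub_eq_top (by decide)

theorem card_single : Nat.card (sub [0]) ≤ 2 ∧ Nat.card (sub [0]) ≠ 0 := by
  have e : sub [0] = Subgroup.closure {coding.gen 0} := by
    show Subgroup.closure _ = _
    congr 1
    ext z
    simp [eq_comm]
  rw [e]
  refine card_closure_involution ?_
  have : coding.gen 0 = PresentedGroup.of Gen.a := coding.gen_code Gen.a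
  rw [this]
  exact inv_eq_iff_mul_eq_one.1 (node_inv (mem_nodes _))

theorem card_H : Nat.card (sub [0, 1, 2]) ≤ 8160 ∧ Nat.card (sub [0, 1, 2]) ≠ 0 := by
  have h1 : (sub [0]).relIndex (sub [0, 1]) ≤ 17 ∧ (sub [0]).relIndex (sub [0, 1]) ≠ 0 :=
    step J3Data.certD_valid (by decide +kernel) rfl (by decide +kernel) rfl (by decide)
      (by decide +kernel) (by decide +kernel)
  have h2 : (sub [0, 1]).relIndex (sub [0, 1, 2]) ≤ 240 ∧
      (sub [0, 1]).relIndex (sub [0, 1, 2]) ≠ 0 :=
    step J3Data.certH_valid (by decide +kernel) rfl (by decide +kernel) rfl (by decide)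
      (by decide +kernel) (by decide +kernel)
  exact card_le_of_relIndex (coding.sub_mono (by decide)) h2
    (card_le_of_relIndex (coding.sub_mono (by decide)) h1 card_single)

theorem index_H : (sub [0, 1, 2]).index ≤ 6156 ∧ (sub [0, 1, 2]).index ≠ 0 := by
  have := step (σ := [0, 1, 2, 3]) (l := [0, 1, 2]) J3Data.certG_valid
    (by decide +kernel) (n := 6156) rfl (by decide +kernel) rfl (by decide) (by decide +kernel)
    (by decide +kernel)
  rwa [sub_all, Subgroup.relIndex_top_right] at this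

theorem card_le : Nat.card PG ≤ 50232960 ∧ Nat.card PG ≠ 0 := by
  have h := (sub [0, 1, 2]).card_mul_index
  rw [← h]
  refine ⟨?_, mul_ne_zero card_H.2 index_H.2⟩
  exact (Nat.mul_le_mul card_H.1 index_H.1).trans (by norm_num)

/-- The letters of an element of order 19. -/
def lettersT : List ℕ := [0, 1, 2, 1, 2, 3, 1]

/-- That element and its conjugates by the generators. -/
def wordsT : List (FreeGroup Gen) :=
  wordOf lettersT :: (List.range 4).map fun i => wordOf (i :: lettersT ++ [i])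

theorem mk_wordOf (L : List ℕ) (h : appWord code code (wordOf L) = L) :
    PresentedGroup.mk (coxRelators edges ∪ {r | r ∈ extra}) (wordOf L) = appProd coding.gen L := by
  rw [coding.mk_eq]
  exact congrArg (appProd coding.gen) h

theorem eq_top_of_T_mem (M : Subgroup PG) (hM : M.Normal)
    (h : appProd coding.gen lettersT ∈ M) : M = ⊤ := by
  have hc : ∀ r ∈ wordsT, PresentedGroup.mk (coxRelators edges ∪ {r | r ∈ extra}) r ∈ M := by
    intro r hr
    rcases List.mem_cons.1 hr with rfl | hr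
    · rw [mk_wordOf _ (by decide +kernel)]; exact h
    · obtain ⟨i, hi, rfl⟩ := List.mem_map.1 hr
      rw [List.mem_range] at hi
      have e : ∀ j < 4, appWord code code (wordOf (j :: lettersT ++ [j])) = j :: lettersT ++ [j] := by
        decide +kernel
      have hg : ∀ j < 4, j = code (gens.getD j Gen.a) := by decide
      rw [mk_wordOf _ (e i hi), List.cons_append, appProd, appProd_append, appProd, appProd,
        one_mul]
      have hx : coding.gen i = PresentedGroup.of (gens.getD i Gen.a) := by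
        conv_lhs => rw [hg i hi]
        exact coding.gen_code _
      rw [hx]
      nth_rewrite 2 [← node_inv (mem_nodes _)]
      exact hM.conj_mem _ h _
  have := coding.relIndex_sub_le J3Data.certT J3Data.certT_valid (by decide +kernel)
    [0, 1, 2, 3] (by decide +kernel) rfl allRels wordsT
    (fun r hr => mk_relList coding.pairs_mem hr)
    (coding.wordsOK_of_map_eq (by decide +kernel) (by decide +kernel)) M hc
  rw [coding.sub_eq_top (by decide), Subgroup.relIndex_top_right] at this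
  have hN : J3Data.certT.N = 1 := rfl
  rw [hN] at this
  exact Subgroup.index_eq_one.1 (by omega)

end CfsgLib.Sporadic.CosetCert.J3P
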