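import Cfsg.Agent.Lib.Sporadic.J3Points
import Cfsg.Agent.Lib.Sporadic.J3Data.J3Table

/-!
# A regular orbit of pairs of points: the check
-/

set_option maxRecDepth 100000

open CfsgLib.Sporadic.CosetCert

namespace CfsgLib.Sporadic.J3Mat

/-- Members of the families fixing the base line. -/
def subNums : List ℕ := [3, 1, 30, 37, 9]

/-- A point moved by a word. -/
noncomputable def wordAt (g u : ℕ) : ℕ :=
  ((famWords.getD (subNums.getD g 43) ([], 0)).1).foldl (fun w x => J3Data.table.img x w) u

/-- A step between pairs. -/
noncomputable def pairStep (g _k a b : ℕ) : Bool :=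
  Nat.blt g 5 && Nat.blt a 37896336 &&
    Nat.beq (Nat.add (Nat.mul (wordAt g (Nat.div a 6156)) 6156) (wordAt g (Nat.mod a 6156))) b

theorem pair_edges : edgesFrom pairTab 26 2160 0 pairStep 0 2160 = true := by decide +kernel

theorem pair_incr : incrOK pairTab 26 0 2159 = true := by decide +kernel

theorem pair_root : keyP pairTab 26 0 = 7 := by decide +kernel

end CfsgLib.Sporadic.J3Mat
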