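import Cfsg.Agent.Lib.Sporadic.J3Group
import Cfsg.Agent.Lib.Sporadic.J3PairCert
import Cfsg.Agent.Lib.Sporadic.J3Data.J3LineEdges
import Cfsg.Agent.Lib.Sporadic.J3Data.J3LineKeys
import Cfsg.Agent.Lib.Sporadic.J3Data.J3IsoEdges

/-!
# The 23256 lines and the isotropic lines of the triple cover
-/

set_option maxRecDepth 100000

open Matrix Cfsg.Spor CfsgLib.Sporadic.G2Four CfsgLib.Sporadic.CosetCert

namespace CfsgLib.Sporadic.J3Mat

/-- The first basis vector. -/
def e0J : VecJ := Pi.single 0 1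

theorem toVecJ_one : toVecJ 1 = e0J := by decide +kernel

theorem step_sound {g k a b : ℕ} (h : lineStep g k a b = true) :
    selNums.getD g 43 < 43 ∧
      ∃ r : FieldFourˣ, famMat (selNums.getD g 43) *ᵥ toVecJ a = (r : FieldFour) • toVecJ b := by
  simp only [lineStep, Bool.and_eq_true, Nat.blt_eq, Nat.beq_eq] at h
  obtain ⟨⟨⟨hg, hk0⟩, hk⟩, he⟩ := h
  obtain ⟨h1, h2, h3⟩ := selEnts_ok g hg
  refine ⟨h2, kUnit k, ?_⟩
  rw [kUnit_val hk hk0, ← h3, ← toVecJ_appE _ h1, he, toVecJ_sclJ hk]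

/-- Codes of vectors reached from a vector up to scalars. -/
def Reach (v : VecJ) (c : ℕ) : Prop :=
  ∃ g : T3, ∃ r : FieldFourˣ, ((g.1 : GL F9 FieldFour) : MatJ) *ᵥ v = (r : FieldFour) • toVecJ c

theorem reach_step (v : VecJ) {g k a b : ℕ} (h : lineStep g k a b = true) (ha : Reach v a) :
    Reach v b := by
  obtain ⟨x, r, hx⟩ := ha
  obtain ⟨hn, r', hr⟩ := step_sound h
  refine ⟨⟨famUnit (selNums.getD g 43), famUnit_mem hn⟩ * x, r * r', ?_⟩
  rw [Subgroup.coe_mul, Units.val_mul, ← Matrix.mulVec_mulVec, hx, Matrix.mulVec_smul,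
    famUnit_val hn, hr, smul_smul, Units.val_mul]

theorem reach_root (c : ℕ) : Reach (toVecJ c) c := ⟨1, 1, by simp⟩

theorem line_reach : ∀ i < 23256, Reach e0J (keyP lineTab 18 i) :=
  forest_induction (Reach e0J) line_edges (by rw [line_root, ← toVecJ_one]; exact reach_root 1)
    fun _ _ _ _ => reach_step e0J

theorem ofN_inj : ∀ a < 4, ∀ b < 4, ofN a = ofN b → a = b := by decide

theorem coordN_sclJ {k : ℕ} (hk : k < 4) (c : ℕ) {j : ℕ} (hj : j < 9) :
    coordN (sclJ k c) j = mulN k (coordN c j) := by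
  have h := ofN_mulN _ hk _ (coordN_lt c j)
  exact ofN_inj _ (coordN_lt _ _) _ h.2 ((ofN_coord_sclJ hk c hj).trans h.1.symm)

theorem mulN_facts : ∀ k < 4, ∀ x < 4, (mulN k x = 0 ↔ k = 0 ∨ x = 0) ∧
    (x = 1 → mulN k x = k) := by decide +kernel

theorem leadTo_lt (c : ℕ) : ∀ n, leadTo c n < 4 := by
  intro n
  induction n with
  | zero => exact Nat.zero_lt_succ 3
  | succ n ih =>
    show (bif Nat.beq (coordN c (Nat.sub 8 n)) 0 then leadTo c n else coordN c (Nat.sub 8 n)) < 4
    rcases Nat.beq (coordN c (Nat.sub 8 n)) 0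
    · exact coordN_lt _ _
    · exact ih

theorem leadTo_sclJ {k : ℕ} (hk : k < 4) (h0 : 0 < k) (c : ℕ) :
    ∀ n, leadTo (sclJ k c) n = mulN k (leadTo c n) := by
  intro n
  induction n with
  | zero =>
    have h : ∀ k < 4, mulN k 0 = 0 := by decide +kernel
    exact (h k hk).symm
  | succ n ih =>
    show (bif Nat.beq (coordN (sclJ k c) (Nat.sub 8 n)) 0 then leadTo (sclJ k c) n
        else coordN (sclJ k c) (Nat.sub 8 n)) =
      mulN k (bif Nat.beq (coordN c (Nat.sub 8 n)) 0 then leadTo c n else coordN c (Nat.sub 8 n))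
    rw [ih, coordN_sclJ hk c (by simp only [Nat.sub_eq]; omega)]
    rcases hb : Nat.beq (coordN c (Nat.sub 8 n)) 0
    · have hne : mulN k (coordN c (Nat.sub 8 n)) ≠ 0 := by
        intro e
        rcases (mulN_facts k hk _ (coordN_lt _ _)).1.1 e with h | h
        · omega
        · rw [h] at hb; exact absurd hb (by decide)
      rcases hb' : Nat.beq (mulN k (coordN c (Nat.sub 8 n))) 0
      · rfl
      · exact absurd (Nat.eq_of_beq_eq_true hb') hne
    · rw [Nat.eq_of_beq_eq_true hb, (mulN_facts k hk 0 (by norm_num)).1.2 (Or.inr rfl)]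
      rfl

/-- Rebuild a code from its coordinates. -/
def repackJ (c : ℕ) : ℕ := xorBelow (fun i => coordN c i <<< (2 * i)) 9

theorem code_ext {a b : ℕ} (ha : a < 262144) (hb : b < 262144)
    (h : ∀ j < 9, coordN a j = coordN b j) : a = b := by
  have key : ∀ n ≤ 9, a % 4 ^ n = b % 4 ^ n := by
    intro n hn
    induction n with
    | zero => simp [Nat.mod_one]
    | succ n ih =>
      have e : ∀ c : ℕ, c % 4 ^ (n + 1) = c % 4 ^ n + 4 ^ n * coordN c n := by
        intro c
        rw [pow_succ, Nat.mod_mul]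
        show _ = _ + 4 ^ n * (c >>> (2 * n) % 4)
        rw [Nat.shiftRight_eq_div_pow, pow_mul]
        norm_num
      rw [e, e, ih (by omega), h n (by omega)]
  have h9 := key 9 le_rfl
  have e9 : (4 : ℕ) ^ 9 = 262144 := by norm_num
  rw [e9, Nat.mod_eq_of_lt ha, Nat.mod_eq_of_lt hb] at h9
  exact h9

theorem normJ_spec {c : ℕ} (h : normJ c = true) : leadJ c = 1 ∧ c < 262144 := by
  simp only [normJ, Bool.and_eq_true, Nat.beq_eq, Nat.blt_eq] at h
  exact h

theorem norm_unique {a b : ℕ} (ha : normJ a = true) (hb : normJ b = true) {r : FieldFour}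
    (hr : r ≠ 0) (h : toVecJ a = r • toVecJ b) : a = b := by
  obtain ⟨ha1, ha2⟩ := normJ_spec ha
  obtain ⟨hb1, hb2⟩ := normJ_spec hb
  obtain ⟨k, hk, h0, rfl⟩ : ∃ k, k < 4 ∧ 0 < k ∧ r = ofN k := by
    have key : ∀ x : FieldFour, x ≠ 0 → ∃ k : Fin 4, 0 < k.val ∧ x = ofN k.val := by decide +kernel
    obtain ⟨k, h1, h2⟩ := key r hr
    exact ⟨k, k.2, h1, h2⟩
  have hc : ∀ j < 9, coordN a j = coordN (sclJ k b) j := by
    intro j hj
    have := congrFun h (idxJ j)
    rw [← toVecJ_sclJ hk] at this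
    simp only [toVecJ, posJ_idxJ j hj] at this
    exact ofN_inj _ (coordN_lt _ _) _ (coordN_lt _ _) this
  have hlead : ∀ n, leadTo a n = leadTo (sclJ k b) n := by
    intro n
    induction n with
    | zero => rfl
    | succ n ih =>
      show (bif Nat.beq (coordN a (Nat.sub 8 n)) 0 then leadTo a n else coordN a (Nat.sub 8 n)) =
        bif Nat.beq (coordN (sclJ k b) (Nat.sub 8 n)) 0 then leadTo (sclJ k b) n
          else coordN (sclJ k b) (Nat.sub 8 n)
      rw [ih, hc _ (by simp only [Nat.sub_eq]; omega)]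
  have hk1 : k = 1 := by
    have := hlead 9
    rw [leadTo_sclJ hk h0, show leadTo a 9 = 1 from ha1, show leadTo b 9 = 1 from hb1,
      (mulN_facts k hk 1 (by norm_num)).2 rfl] at this
    exact this.symm
  refine code_ext ha2 hb2 fun j hj => ?_
  subst hk1
  rw [hc j hj, coordN_sclJ (by norm_num) _ hj]
  have : ∀ x < 4, mulN 1 x = x := by decide +kernel
  exact this _ (coordN_lt _ _)

theorem line_norm : ∀ i < 23256, normJ (keyP lineTab 18 i) = true := by
  intro i hi
  rcases Nat.lt_or_ge i 6000 with h | h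
  · simpa using of_allBelow line_norm0 i h
  rcases Nat.lt_or_ge i 12000 with h' | h'
  · have := of_allBelow line_norm1 (i - 6000) (by omega)
    rwa [Nat.add_eq, show 6000 + (i - 6000) = i by omega] at this
  rcases Nat.lt_or_ge i 18000 with h'' | h''
  · have := of_allBelow line_norm2 (i - 12000) (by omega)
    rwa [Nat.add_eq, show 12000 + (i - 12000) = i by omega] at this
  · have := of_allBelow line_norm3 (i - 18000) (by omega)
    rwa [Nat.add_eq, show 18000 + (i - 18000) = i by omega] at this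

/-- The images of the first basis vector. -/
def orbitE0 : Set VecJ := {u | ∃ g : T3, u = ((g.1 : GL F9 FieldFour) : MatJ) *ᵥ e0J}

/-- The lines of that orbit. -/
def lineSet : Set (Submodule FieldFour VecJ) :=
  (fun u => Submodule.span FieldFour {u}) '' orbitE0

theorem lineSet_ge : 23256 ≤ lineSet.ncard := by
  have hmem : ∀ i : Fin 23256,
      Submodule.span FieldFour {toVecJ (keyP lineTab 18 i)} ∈ lineSet := by
    intro i
    obtain ⟨g, r, hg⟩ := line_reach i i.2
    refine ⟨_, ⟨g, rfl⟩, ?_⟩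
    rw [hg]
    exact Submodule.span_singleton_smul_eq r.isUnit _
  let f : Fin 23256 → lineSet := fun i => ⟨_, hmem i⟩
  have hf : Function.Injective f := by
    intro i j e
    have h := congrArg Subtype.val e
    obtain ⟨r, hr⟩ := Submodule.span_singleton_eq_span_singleton.1 h
    have hk := norm_unique (line_norm j j.2) (line_norm i i.2) r.ne_zero hr.symm
    exact Fin.ext (incrOK_inj line_incr j (Nat.le_of_lt_succ j.2) i (Nat.le_of_lt_succ i.2) hk).symm
  have := Nat.card_le_card_of_injective f hf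
  rw [Nat.card_coe_set_eq] at this
  simpa using this

/-- The stabiliser of the base line. -/
def lineStab : Subgroup T3 where
  carrier := {g | ∃ r : FieldFourˣ, ((g.1 : GL F9 FieldFour) : MatJ) *ᵥ e0J = (r : FieldFour) • e0J}
  one_mem' := ⟨1, by simp⟩
  mul_mem' {a b} := by
    rintro ⟨r, hr⟩ ⟨r', hr'⟩
    refine ⟨r * r', ?_⟩
    rw [Subgroup.coe_mul, Units.val_mul, ← Matrix.mulVec_mulVec, hr', Matrix.mulVec_smul, hr,
      smul_smul, Units.val_mul, mul_comm]
  inv_mem' {a} := by
    rintro ⟨r, hr⟩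
    refine ⟨r⁻¹, ?_⟩
    have h := congrArg ((((a⁻¹ : T3).1 : GL F9 FieldFour) : MatJ) *ᵥ ·) hr
    simp only [Matrix.mulVec_mulVec, ← Units.val_mul, Matrix.mulVec_smul] at h
    rw [← Subgroup.coe_mul, inv_mul_cancel] at h
    simp only [Subgroup.coe_one, Units.val_one, Matrix.one_mulVec] at h
    nth_rewrite 2 [h]
    rw [smul_smul, ← Units.val_mul, inv_mul_cancel, Units.val_one, one_smul]

theorem center_le_lineStab : Subgroup.center T3 ≤ lineStab := by
  intro g hg
  obtain ⟨c, rfl⟩ := center_scalar g hg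
  refine ⟨c, ?_⟩
  show (scalU c : MatJ) *ᵥ e0J = _
  rw [scalU_val, Matrix.smul_mulVec, Matrix.one_mulVec]

theorem sub_fix : ∀ n ∈ subNums, n < 43 ∧ ∃ r : FieldFour, r ≠ 0 ∧ famMat n *ᵥ e0J = r • e0J := by
  decide +kernel

theorem fam_mem_stab {n : ℕ} (hn : n ∈ subNums) :
    (⟨famUnit n, famUnit_mem (sub_fix n hn).1⟩ : T3) ∈ lineStab := by
  obtain ⟨hlt, r, hr0, hr⟩ := sub_fix n hn
  exact ⟨Units.mk0 r hr0, by rw [famUnit_val hlt, hr, Units.val_mk0]⟩

theorem fam_image {n : ℕ} (hn : n < 43) :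
    equivPG (appProd J3P.coding.gen (famWords.getD n ([], 0)).1) =
      (QuotientGroup.mk (⟨famUnit n, famUnit_mem hn⟩ : T3) : Q3) := by
  obtain ⟨-, h2, h3, h4⟩ := famWords_ok n hn
  simp only [List.all_eq_true, decide_eq_true_eq] at h4
  have e1 : equivPG (appProd J3P.coding.gen (famWords.getD n ([], 0)).1) =
      appProd xBar (famWords.getD n ([], 0)).1 := by
    show ofPG _ = _
    rw [appProd_hom]
    have hmap : ∀ L : List ℕ, (∀ a ∈ L, a < 4) →
        appProd (fun x => ofPG (J3P.coding.gen x)) L = appProd xBar L := by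
      intro L
      induction L with
      | nil => intro _; rfl
      | cons x t ih =>
        intro h
        simp only [appProd]
        rw [ih (fun a ha => h a (List.mem_cons_of_mem _ ha)), ofPG_gen x (h x List.mem_cons_self)]
    exact hmap _ h4
  have e : (⟨famUnit n, famUnit_mem hn⟩ : T3) =
      scalEl (kUnit (famWords.getD n ([], 0)).2)⁻¹ * appProd xEl (famWords.getD n ([], 0)).1 := by
    apply Subtype.ext
    show famUnit n = scalU (kUnit (famWords.getD n ([], 0)).2)⁻¹ *
      T3.subtype (appProd xEl (famWords.getD n ([], 0)).1)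
    rw [appProd_hom]
    rfl
  have e2 : (QuotientGroup.mk (scalEl (kUnit (famWords.getD n ([], 0)).2)⁻¹) : Q3) = 1 :=
    (QuotientGroup.eq_one_iff _).2 (scalEl_central _)
  rw [e1, e, QuotientGroup.mk_mul, e2, one_mul]
  exact (appProd_hom (QuotientGroup.mk' (Subgroup.center T3)) xEl _).symm

theorem pair_bound : 2160 ≤ Nat.card (lineStab.map (QuotientGroup.mk' (Subgroup.center T3))) := by
  set S : Subgroup Q3 := lineStab.map (QuotientGroup.mk' (Subgroup.center T3))
  let P : ℕ → Prop := fun c => c < 37896336 ∧ ∃ x ∈ S.comap equivPG.toMonoidHom,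
    ∀ (h0 : 0 < J3Data.table.N) (h7 : 7 < J3Data.table.N),
      (J3P.hom x ⟨0, h0⟩ : ℕ) = c / 6156 ∧ (J3P.hom x ⟨7, h7⟩ : ℕ) = c % 6156
  have hroot : P (keyP pairTab 26 0) := by
    rw [pair_root]
    exact ⟨by norm_num, 1, one_mem _, fun _ _ => by simp⟩
  have hstep : ∀ g k a b, pairStep g k a b = true → P a → P b := by
    rintro g k a b h ⟨-, x, hx, hxp⟩
    simp only [pairStep, Bool.and_eq_true, Nat.blt_eq, Nat.beq_eq, Nat.add_eq, Nat.mul_eq] at h
    obtain ⟨⟨hg, ha⟩, hb⟩ := h
    have hn : subNums.getD g 43 ∈ subNums := by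
      have : ∀ g < 5, subNums.getD g 43 ∈ subNums := by decide
      exact this g hg
    obtain ⟨hlt, -⟩ := sub_fix _ hn
    obtain ⟨-, -, -, h4⟩ := famWords_ok _ hlt
    simp only [List.all_eq_true, decide_eq_true_eq] at h4
    set y := appProd J3P.coding.gen (famWords.getD (subNums.getD g 43) ([], 0)).1
    have hy : y ∈ S.comap equivPG.toMonoidHom := by
      show equivPG y ∈ S
      rw [fam_image hlt]
      exact Subgroup.mem_map_of_mem _ (fam_mem_stab hn)
    have hval : ∀ v : Fin J3Data.table.N, (J3P.hom y v : ℕ) = wordAt g v := fun v =>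
      J3P.hom_word _ (fun a ha' => h4 a ha') v
    have hlt2 : ∀ v : Fin J3Data.table.N, (v : ℕ) < 6156 :=
      fun v => lt_of_lt_of_eq v.2 J3P.table_N
    have hu : Nat.div a 6156 < J3Data.table.N := by
      rw [J3P.table_N]; exact Nat.div_lt_of_lt_mul (by omega)
    have hv : Nat.mod a 6156 < J3Data.table.N := by
      rw [J3P.table_N]; exact Nat.mod_lt _ (by norm_num)
    have w1 := hlt2 (J3P.hom y ⟨_, hu⟩)
    have w2 := hlt2 (J3P.hom y ⟨_, hv⟩)
    rw [hval] at w1 w2
    change wordAt g (Nat.div a 6156) < 6156 at w1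
    change wordAt g (Nat.mod a 6156) < 6156 at w2
    subst hb
    refine ⟨by omega, y * x, mul_mem hy hx, fun h0 h7 => ?_⟩
    obtain ⟨e1, e2⟩ := hxp h0 h7
    rw [map_mul, Equiv.Perm.mul_apply, Equiv.Perm.mul_apply, hval, hval, e1, e2]
    constructor
    · show wordAt g (Nat.div a 6156) = _
      omega
    · show wordAt g (Nat.mod a 6156) = _
      omega
  have hall := forest_induction P
    (fun i hi => edgesFrom_spec pair_edges i (Nat.zero_le _) (by omega)) hroot hstep
  choose hb x hx hxp using hall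
  let f : Fin 2160 → S := fun i => ⟨equivPG (x i i.2), hx i i.2⟩
  have hf : Function.Injective f := by
    intro i j e
    have h := equivPG.injective (congrArg Subtype.val e)
    have h0 : 0 < J3Data.table.N := by rw [J3P.table_N]; norm_num
    have h7 : 7 < J3Data.table.N := by rw [J3P.table_N]; norm_num
    obtain ⟨a1, a2⟩ := hxp i i.2 h0 h7
    obtain ⟨b1, b2⟩ := hxp j j.2 h0 h7
    rw [h, b1] at a1
    rw [h, b2] at a2
    exact Fin.ext (incrOK_inj pair_incr i (Nat.le_of_lt_succ i.2) j (Nat.le_of_lt_succ j.2)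
      (by omega))
  simpa using Nat.card_le_card_of_injective f hf

theorem lineSet_le : lineSet.ncard ≤ 23256 := by
  have hfin : Finite Q3 := Nat.finite_of_card_ne_zero (by rw [q3_card]; norm_num)
  have hi : lineStab.index = (lineStab.map (QuotientGroup.mk' (Subgroup.center T3))).index :=
    (Subgroup.index_map_eq _ (QuotientGroup.mk'_surjective _)
      (by rw [QuotientGroup.ker_mk']; exact center_le_lineStab)).symm
  have hm := (lineStab.map (QuotientGroup.mk' (Subgroup.center T3))).card_mul_index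
  rw [← hi, show Nat.card (T3 ⧸ Subgroup.center T3) = 50232960 from q3_card] at hm
  have hidx : lineStab.index ≤ 23256 := by nlinarith [pair_bound]
  let f : T3 ⧸ lineStab → Submodule FieldFour VecJ :=
    Quotient.lift (fun g => Submodule.span FieldFour {((g.1 : GL F9 FieldFour) : MatJ) *ᵥ e0J})
      (fun a b h => by
        obtain ⟨r, hr⟩ := (QuotientGroup.leftRel_apply.1 h : a⁻¹ * b ∈ lineStab)
        have e : ((b.1 : GL F9 FieldFour) : MatJ) *ᵥ e0J =
            (r : FieldFour) • (((a.1 : GL F9 FieldFour) : MatJ) *ᵥ e0J) := by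
          rw [← Matrix.mulVec_smul, ← hr, Matrix.mulVec_mulVec, ← Units.val_mul, ← Subgroup.coe_mul,
            mul_inv_cancel_left]
        rw [e]
        exact (Submodule.span_singleton_smul_eq r.isUnit _).symm)
  have hsub : lineSet ⊆ Set.range f := by
    rintro _ ⟨_, ⟨g, rfl⟩, rfl⟩
    exact ⟨(g : T3 ⧸ lineStab), rfl⟩
  have : Finite (T3 ⧸ lineStab) := Nat.finite_of_card_ne_zero (by
    show lineStab.index ≠ 0
    intro h0
    rw [h0] at hm
    omega)
  calc lineSet.ncard ≤ (Set.range f).ncard := Set.ncard_le_ncard hsub (Set.finite_range f)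
    _ ≤ Nat.card (T3 ⧸ lineStab) := by
      rw [← Nat.card_coe_set_eq]; exact Finite.card_range_le f
    _ ≤ 23256 := hidx

theorem lineSet_card : lineSet.ncard = 23256 := le_antisymm lineSet_le lineSet_ge

/-! ### Isotropic vectors -/

theorem iso_reach : ∀ i < 43605, Reach (toVecJ (keyP isoTab 18 42918)) (keyP isoTab 18 i) :=
  forest_induction _ iso_edges (reach_root _) fun _ _ _ _ => reach_step _

theorem cube_facts : ∀ x < 4, ofN x ^ 3 = ofN (bif Nat.beq x 0 then 0 else 1) ∧
    (bif Nat.beq x 0 then 0 else 1) < 2 := by decide +kernel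

theorem cube_sum (c : ℕ) : ∀ n, ∑ i ∈ Finset.range n, ofN (coordN c i) ^ 3 =
    ofN (xorBelow (fun i => bif Nat.beq (coordN c i) 0 then 0 else 1) n) ∧
      xorBelow (fun i => bif Nat.beq (coordN c i) 0 then 0 else 1) n < 2 := by
  intro n
  induction n with
  | zero => exact ⟨by rw [Finset.sum_range_zero]; exact ofN_zero.symm, Nat.zero_lt_two⟩
  | succ n ih =>
    obtain ⟨h1, h2⟩ := cube_facts _ (coordN_lt c n)
    have key : ∀ a < 2, ∀ b < 2, a ^^^ b < 2 ∧ ofN (a ^^^ b) = ofN a + ofN b := by decide +kernel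
    obtain ⟨k1, k2⟩ := key _ ih.2 _ h2
    refine ⟨?_, k1⟩
    rw [Finset.sum_range_succ, ih.1, h1]
    exact k2.symm

theorem iso_code {v : VecJ} (hv : v ≠ 0) (hiso : ∑ z, v z ^ 3 = 0) :
    ∃ i < 43605, ∃ r : FieldFourˣ, v = (r : FieldFour) • toVecJ (keyP isoTab 18 i) := by
  classical
  have hex : ∃ j, j < 9 ∧ v (idxJ j) ≠ 0 := by
    by_contra h
    push Not at h
    exact hv (funext fun z => by simpa [idxJ_posJ] using h (posJ z) (posJ_lt z))
  obtain ⟨hj, hjv⟩ := Nat.find_spec hex
  set j := Nat.find hex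
  have hmin : ∀ i < j, v (idxJ i) = 0 := fun i hi => by
    by_contra h
    exact Nat.find_min hex hi ⟨by omega, h⟩
  let r : FieldFour := v (idxJ j)
  have hcode : ∀ x : FieldFour, FieldFour.code x < 4 ∧ ofN (FieldFour.code x) = x := by
    decide +kernel
  let f : ℕ → ℕ := fun i => FieldFour.code (r⁻¹ * v (idxJ i))
  let c : ℕ := xorBelow (fun i => f i <<< (2 * i)) 9
  have hc : ∀ i < 9, coordN c i = f i := by
    intro i hi
    have key : ∀ n, coordN (xorBelow (fun i => f i <<< (2 * i)) n) i = if i < n then f i else 0 := by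
      intro n
      induction n with
      | zero => exact coordN_zero i
      | succ n ih =>
        show coordN (xorBelow (fun i => f i <<< (2 * i)) n ^^^ f n <<< (2 * n)) i = _
        rw [coordN_xor, ih, coordN_shift (hcode _).1]
        rcases Nat.lt_trichotomy i n with h | h | h
        · rw [if_pos h, if_neg h.ne, if_pos (by omega), Nat.xor_zero]
        · subst h
          rw [if_neg (lt_irrefl _), if_pos rfl, if_pos (by omega), Nat.zero_xor]
        · rw [if_neg (by omega), if_neg h.ne', if_neg (by omega)]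
          rfl
    rw [key 9, if_pos hi]
  have hvec : v = r • toVecJ c := by
    funext z
    show v z = r * ofN (coordN c (posJ z))
    rw [hc _ (posJ_lt z), (hcode _).2, idxJ_posJ, mul_inv_cancel_left₀ hjv]
  have hlt : c < 262144 := by
    have key : ∀ n ≤ 9, xorBelow (fun i => f i <<< (2 * i)) n < 2 ^ 18 := by
      intro n hn
      induction n with
      | zero => exact Nat.two_pow_pos 18
      | succ n ih =>
        refine Nat.xor_lt_two_pow (ih (by omega)) ?_
        show f n <<< (2 * n) < 2 ^ 18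
        rw [Nat.shiftLeft_eq]
        calc f n * 2 ^ (2 * n) < 4 * 2 ^ (2 * n) :=
              Nat.mul_lt_mul_of_pos_right (hcode _).1 (Nat.two_pow_pos _)
          _ = 2 ^ (2 * n + 2) := by rw [pow_add]; ring
          _ ≤ 2 ^ 18 := Nat.pow_le_pow_right (by norm_num) (by omega)
    exact key 9 le_rfl
  have hz : ∀ i < j, coordN c i = 0 := by
    intro i hi
    rw [hc i (by omega)]
    show FieldFour.code (r⁻¹ * v (idxJ i)) = 0
    rw [hmin i hi, mul_zero]
    rfl
  have hone : coordN c j = 1 := by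
    rw [hc j hj]
    show FieldFour.code (r⁻¹ * r) = 1
    rw [inv_mul_cancel₀ hjv]
    rfl
  have hmod : c % 4 ^ (j + 1) = 4 ^ j := by
    have e : ∀ n, c % 4 ^ (n + 1) = c % 4 ^ n + 4 ^ n * coordN c n := by
      intro n
      rw [pow_succ, Nat.mod_mul]
      show _ = _ + 4 ^ n * (c >>> (2 * n) % 4)
      rw [Nat.shiftRight_eq_div_pow, pow_mul]
      norm_num
    have key : ∀ n ≤ j, c % 4 ^ n = 0 := by
      intro n hn
      induction n with
      | zero => simp [Nat.mod_one]
      | succ n ih => rw [e, ih (by omega), hz n (by omega), mul_zero, add_zero]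
    rw [e, key j le_rfl, hone, mul_one, zero_add]
  have hu : c / 4 ^ (j + 1) < 4 ^ (8 - j) := by
    rw [Nat.div_lt_iff_lt_mul (by positivity), ← pow_add, show 8 - j + (j + 1) = 9 by omega]
    exact lt_of_lt_of_eq hlt (by norm_num)
  have hlc : leadCode j (c / 4 ^ (j + 1)) = c := by
    show 4 ^ j + c / 4 ^ (j + 1) * 4 ^ (j + 1) = c
    have := Nat.div_add_mod c (4 ^ (j + 1))
    rw [hmod] at this
    rw [mul_comm, add_comm]
    exact this
  have hodd : oddJ c = 0 := by
    have h3 : r ^ 3 = 1 := by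
      have : ∀ x : FieldFour, x ≠ 0 → x ^ 3 = 1 := by decide +kernel
      exact this r hjv
    have hs : ∑ i ∈ Finset.range 9, ofN (coordN c i) ^ 3 = 0 := by
      rw [← sum_posJ fun i => ofN (coordN c i) ^ 3, ← hiso]
      refine Finset.sum_congr rfl fun z _ => ?_
      conv_rhs => rw [hvec, Pi.smul_apply, smul_eq_mul, mul_pow, h3, one_mul]
      rfl
    obtain ⟨h1, h2⟩ := cube_sum c 9
    rw [h1] at hs
    exact ofN_inj _ (by unfold oddJ; omega) 0 (by norm_num) (hs.trans ofN_zero.symm)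
  obtain ⟨i, hi, hk⟩ := iso_cover j hj _ hu (by rw [hlc]; exact hodd)
  exact ⟨i, hi, Units.mk0 r hjv, by rw [hk, hlc]; exact hvec⟩

theorem iso_transitive {v w : VecJ} (hv : v ≠ 0) (hw : w ≠ 0) (hvi : ∑ z, v z ^ 3 = 0)
    (hwi : ∑ z, w z ^ 3 = 0) :
    ∃ g ∈ T3, ∃ r : FieldFour, r ≠ 0 ∧ ((g : GL F9 FieldFour) : MatJ) *ᵥ v = r • w := by
  obtain ⟨i, hi, r, rfl⟩ := iso_code hv hvi
  obtain ⟨j, hj, s, rfl⟩ := iso_code hw hwi
  obtain ⟨g, a, ha⟩ := iso_reach i hi
  obtain ⟨h, b, hb⟩ := iso_reach j hj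
  set v0 := toVecJ (keyP isoTab 18 42918)
  have hback : ((g⁻¹ : T3).1 : GL F9 FieldFour).val *ᵥ toVecJ (keyP isoTab 18 i) =
      (a⁻¹ : FieldFourˣ).val • v0 := by
    have h' := congrArg (((g⁻¹ : T3).1 : GL F9 FieldFour).val *ᵥ ·) ha
    simp only [Matrix.mulVec_mulVec, Matrix.mulVec_smul] at h'
    rw [← Units.val_mul, ← Subgroup.coe_mul, inv_mul_cancel, Subgroup.coe_one, Units.val_one,
      Matrix.one_mulVec] at h'
    rw [h']
    rw [smul_smul, ← Units.val_mul, inv_mul_cancel, Units.val_one, one_smul]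
  refine ⟨_, (h * g⁻¹).2, ((r * a⁻¹ * b * s⁻¹ : FieldFourˣ) : FieldFour), Units.ne_zero _, ?_⟩
  rw [Subgroup.coe_mul, Units.val_mul, ← Matrix.mulVec_mulVec, Matrix.mulVec_smul, hback,
    Matrix.mulVec_smul, Matrix.mulVec_smul, hb, smul_smul, smul_smul, smul_smul]
  congr 1
  rw [← Units.val_mul, ← Units.val_mul, ← Units.val_mul, inv_mul_cancel_right]

end CfsgLib.Sporadic.J3Mat
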