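import Cfsg.Agent.Lib.Sporadic.J3Field
import Cfsg.Agent.Lib.Sporadic.J3LineCount

/-!
# The lines over any field with four elements
-/

open Matrix Cfsg.Spor CfsgLib.Sporadic.G2Four

namespace CfsgLib.Sporadic.J3Mat

variable {F : Type*} [Field F] [Fintype F] (hF : Fintype.card F = 4) {ω : F}
  (hω : ω ^ 2 + ω + 1 = 0)

/-- Vectors over the given field. -/
noncomputable def vecF (u : VecJ) : F9 → F := fun z => fieldEquiv hF hω (u z)

theorem vecF_mulVec (g : GL F9 FieldFour) (u : VecJ) :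
    (glEquiv hF hω g : Matrix F9 F9 F) *ᵥ vecF hF hω u = vecF hF hω ((g : MatJ) *ᵥ u) := by
  funext z
  simp only [vecF, glEquiv_val, Matrix.mulVec, dotProduct, Matrix.map_apply, map_sum, map_mul]

theorem vecF_smul (r : FieldFour) (u : VecJ) :
    vecF hF hω (r • u) = fieldEquiv hF hω r • vecF hF hω u := by
  funext z
  simp [vecF]

theorem vecF_single : vecF hF hω e0J = Pi.single (0 : F9) (1 : F) := by
  funext z
  simp only [vecF, e0J, Pi.single_apply]
  split_ifs <;> simp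

theorem vecF_injective : Function.Injective (vecF hF hω) := fun a b h =>
  funext fun z => (fieldEquiv hF hω).injective (congrFun h z)

theorem vecF_span (a b : VecJ) :
    F ∙ vecF hF hω a = F ∙ vecF hF hω b ↔ FieldFour ∙ a = FieldFour ∙ b := by
  rw [Submodule.span_singleton_eq_span_singleton, Submodule.span_singleton_eq_span_singleton]
  constructor
  · rintro ⟨r, hr⟩
    refine ⟨Units.mapEquiv (fieldEquiv hF hω).toMulEquiv.symm r, vecF_injective hF hω ?_⟩
    rw [Units.smul_def, vecF_smul]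
    rw [Units.smul_def] at hr
    simpa using hr
  · rintro ⟨r, hr⟩
    refine ⟨Units.mapEquiv (fieldEquiv hF hω).toMulEquiv r, ?_⟩
    rw [Units.smul_def]
    rw [Units.smul_def] at hr
    rw [← hr, vecF_smul]
    rfl

theorem ncard_image_eq {α β γ : Type*} (f : α → β) (g : α → γ) (s : Set α)
    (h : ∀ a b, f a = f b ↔ g a = g b) : (f '' s).ncard = (g '' s).ncard := by
  classical
  refine Set.ncard_congr (fun x hx => g hx.choose) (fun x hx => ⟨_, hx.choose_spec.1, rfl⟩)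
    (fun x y hx hy e => ?_) ?_
  · rw [← hx.choose_spec.2, ← hy.choose_spec.2]; exact (h _ _).2 e
  · rintro _ ⟨a, ha, rfl⟩
    refine ⟨f a, ⟨a, ha, rfl⟩, ?_⟩
    have := (⟨a, ha, rfl⟩ : f a ∈ f '' s)
    exact (h _ _).1 this.choose_spec.2

include hF hω in
theorem lines_count :
    {L : Submodule F (F9 → F) | ∃ g ∈ threeJ3 F ω,
      L = F ∙ ((g : Matrix F9 F9 F) *ᵥ (Pi.single (0 : F9) (1 : F) : F9 → F))}.ncard = 23256 := by
  have e : {L : Submodule F (F9 → F) | ∃ g ∈ threeJ3 F ω,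
      L = F ∙ ((g : Matrix F9 F9 F) *ᵥ (Pi.single (0 : F9) (1 : F) : F9 → F))} =
      (fun u => F ∙ vecF hF hω u) '' orbitE0 := by
    ext L
    simp only [Set.mem_ofPred_eq, Set.mem_image, orbitE0]
    rw [← vecF_single hF hω, ← map_T3 hF hω]
    constructor
    · rintro ⟨_, ⟨g, hg, rfl⟩, rfl⟩
      refine ⟨_, ⟨⟨g, hg⟩, rfl⟩, ?_⟩
      rw [← vecF_mulVec]
      rfl
    · rintro ⟨_, ⟨g, rfl⟩, rfl⟩
      refine ⟨_, ⟨g.1, g.2, rfl⟩, ?_⟩
      rw [← vecF_mulVec]
      rfl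
  rw [e, ncard_image_eq (fun u => F ∙ vecF hF hω u) (fun u => FieldFour ∙ u) _
    (vecF_span hF hω)]
  exact lineSet_card

include hF hω in
theorem iso_transitive_F {v w : F9 → F} (hv : v ≠ 0) (hw : w ≠ 0) (hvi : ∑ z, v z ^ 3 = 0)
    (hwi : ∑ z, w z ^ 3 = 0) :
    ∃ g ∈ threeJ3 F ω, ∃ c : F, c ≠ 0 ∧ (g : Matrix F9 F9 F) *ᵥ v = c • w := by
  let σ := fieldEquiv hF hω
  have hsurj : ∀ v : F9 → F, v = vecF hF hω (fun z => σ.symm (v z)) :=
    fun v => funext fun z => (σ.apply_symm_apply _).symm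
  have hne : ∀ v : F9 → F, v ≠ 0 → (fun z => σ.symm (v z)) ≠ 0 := fun v hv h =>
    hv (by rw [hsurj v, h]; funext z; simp [vecF])
  have hiso : ∀ v : F9 → F, ∑ z, v z ^ 3 = 0 → ∑ z, (σ.symm (v z)) ^ 3 = 0 := fun v hv => by
    have := congrArg σ.symm hv
    simpa [map_sum] using this
  obtain ⟨g, hg, r, hr, h⟩ :=
    iso_transitive (hne v hv) (hne w hw) (hiso v hvi) (hiso w hwi)
  refine ⟨glEquiv hF hω g, ?_, σ r, by simpa using hr, ?_⟩
  · rw [← map_T3 hF hω]; exact ⟨g, hg, rfl⟩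
  · rw [hsurj v, hsurj w, vecF_mulVec, h, vecF_smul]

end CfsgLib.Sporadic.J3Mat
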