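import Cfsg.Agent.Lib.Sporadic.G2FourVec
import Cfsg.Agent.Lib.Sporadic.J3Data.J3MatData
import Cfsg.Prelude.Def_Spor_J3

/-!
# Packed nine by nine matrices over the field with four elements
-/

set_option maxRecDepth 100000

open Matrix Cfsg.Spor CfsgLib.Sporadic.G2Four

namespace CfsgLib.Sporadic.J3Mat

/-- Matrices. -/
abbrev MatJ : Type := Matrix F9 F9 FieldFour

/-- The primitive cube root of unity. -/
def w4 : FieldFour := ofN 2

theorem w4_root : w4 ^ 2 + w4 + 1 = 0 := by decide +kernel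

/-- The position of an index. -/
def posJ (z : F9) : ℕ := 3 * z.1.val + z.2.val

/-- The index at a position. -/
def idxJ (n : ℕ) : F9 := (((n / 3 : ℕ) : ZMod 3), ((n : ℕ) : ZMod 3))

theorem idxJ_posJ : ∀ z, idxJ (posJ z) = z := by decide

theorem posJ_idxJ : ∀ n < 9, posJ (idxJ n) = n := by decide

theorem posJ_lt : ∀ z, posJ z < 9 := by decide

/-- The xor of the values below `n`. -/
def xorBelow (f : ℕ → ℕ) (n : ℕ) : ℕ := Nat.rec (motive := fun _ => ℕ) 0 (fun i ih => ih ^^^ f i) n

theorem coordN_zero (j : ℕ) : coordN 0 j = 0 := by simp [coordN]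

theorem ofN_coord_xor (a b j : ℕ) :
    ofN (coordN (a ^^^ b) j) = ofN (coordN a j) + ofN (coordN b j) := by
  rw [coordN_xor, ofN_xor _ (coordN_lt a j) _ (coordN_lt b j)]

theorem ofN_coord_xorBelow (f : ℕ → ℕ) (j : ℕ) :
    ∀ n, ofN (coordN (xorBelow f n) j) = ∑ i ∈ Finset.range n, ofN (coordN (f i) j) := by
  intro n
  induction n with
  | zero =>
    show ofN (coordN 0 j) = _
    simp [coordN_zero, ofN_zero]
  | succ n ih =>
    show ofN (coordN (xorBelow f n ^^^ f n) j) = _
    rw [ofN_coord_xor, ih, Finset.sum_range_succ]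

/-- A multiple of a packed vector. -/
def sclJ (k v : ℕ) : ℕ := xorBelow (fun i => mulN k (coordN v i) <<< (2 * i)) 9

theorem ofN_coord_sclJ {k : ℕ} (hk : k < 4) (v : ℕ) {j : ℕ} (hj : j < 9) :
    ofN (coordN (sclJ k v) j) = ofN k * ofN (coordN v j) := by
  rw [sclJ, ofN_coord_xorBelow, Finset.sum_eq_single j]
  · rw [coordN_shift (ofN_mulN _ hk _ (coordN_lt v j)).2, if_pos rfl,
      (ofN_mulN _ hk _ (coordN_lt v j)).1]
  · intro i _ hi
    rw [coordN_shift (ofN_mulN _ hk _ (coordN_lt v i)).2, if_neg (Ne.symm hi), ofN_zero]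
  · intro h; exact absurd (Finset.mem_range.2 hj) h

/-- The matrix of a list of columns. -/
def toMatJ (M : List ℕ) : MatJ :=
  Matrix.of fun w z => ofN (coordN (M.getD (posJ z) 0) (posJ w))

/-- A matrix applied to a packed vector. -/
def appJ (M : List ℕ) (v : ℕ) : ℕ :=
  xorBelow (fun i => bif Nat.beq (coordN v i) 0 then 0 else sclJ (coordN v i) (M.getD i 0)) 9

theorem ofN_coord_appJ (M : List ℕ) (v : ℕ) {j : ℕ} (hj : j < 9) :
    ofN (coordN (appJ M v) j) =
      ∑ i ∈ Finset.range 9, ofN (coordN (M.getD i 0) j) * ofN (coordN v i) := by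
  rw [appJ, ofN_coord_xorBelow]
  refine Finset.sum_congr rfl fun i _ => ?_
  rcases h : Nat.beq (coordN v i) 0
  · simp only [cond_false]
    rw [ofN_coord_sclJ (coordN_lt v i) _ hj, mul_comm]
  · simp only [cond_true]
    rw [Nat.eq_of_beq_eq_true h, coordN_zero, ofN_zero, mul_zero]

theorem sum_posJ {β : Type*} [AddCommMonoid β] (g : ℕ → β) :
    ∑ z : F9, g (posJ z) = ∑ i ∈ Finset.range 9, g i :=
  Finset.sum_bij (fun z _ => posJ z) (fun z _ => Finset.mem_range.2 (posJ_lt z))
    (fun a _ b _ e => by rw [← idxJ_posJ a, e, idxJ_posJ])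
    (fun i hi => ⟨idxJ i, Finset.mem_univ _, posJ_idxJ i (Finset.mem_range.1 hi)⟩)
    (fun _ _ => rfl)

/-- The product of packed matrices. -/
def mulJ (M N : List ℕ) : List ℕ := (List.range 9).map fun z => appJ M (N.getD z 0)

theorem getD_range_map (f : ℕ → ℕ) {i : ℕ} (hi : i < 9) :
    ((List.range 9).map f).getD i 0 = f i := by
  simp [List.getD_eq_getElem?_getD, List.getElem?_range hi]

theorem toMatJ_mulJ (M N : List ℕ) : toMatJ (mulJ M N) = toMatJ M * toMatJ N := by
  refine Matrix.ext fun w z => ?_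
  rw [Matrix.mul_apply]
  show ofN (coordN ((mulJ M N).getD (posJ z) 0) (posJ w)) =
    ∑ u, ofN (coordN (M.getD (posJ u) 0) (posJ w)) * ofN (coordN (N.getD (posJ z) 0) (posJ u))
  rw [mulJ, getD_range_map _ (posJ_lt z), ofN_coord_appJ _ _ (posJ_lt w)]
  exact (sum_posJ fun i =>
    ofN (coordN (M.getD i 0) (posJ w)) * ofN (coordN (N.getD (posJ z) 0) i)).symm

/-- A multiple of a packed matrix. -/
def smulJ (k : ℕ) (M : List ℕ) : List ℕ := (List.range 9).map fun z => sclJ k (M.getD z 0)

theorem toMatJ_smulJ {k : ℕ} (hk : k < 4) (M : List ℕ) : toMatJ (smulJ k M) = ofN k • toMatJ M := by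
  refine Matrix.ext fun w z => ?_
  rw [Matrix.smul_apply]
  show ofN (coordN ((smulJ k M).getD (posJ z) 0) (posJ w)) = _
  rw [smulJ, getD_range_map _ (posJ_lt z), ofN_coord_sclJ hk _ (posJ_lt w)]
  rfl

/-- The identity columns. -/
def oneJ : List ℕ := (List.range 9).map fun z => 1 <<< (2 * z)

theorem toMatJ_oneJ : toMatJ oneJ = 1 := by decide +kernel

/-- The product of a word in a list of matrices, in order of application. -/
def evalJ (B : List (List ℕ)) (L : List ℕ) : List ℕ :=
  L.foldl (fun t a => mulJ (B.getD a []) t) oneJ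

/-- The members of the five families, numbered. -/
def famMat (n : ℕ) : MatJ :=
  if n < 9 then j3A FieldFour w4 (idxJ n)
  else if n < 18 then j3E FieldFour w4 (idxJ (n - 9))
  else if n < 27 then j3D FieldFour w4 (idxJ (n - 18))
  else if n < 35 then j3B FieldFour (idxJ (n - 26))
  else j3C FieldFour (idxJ (n - 34))

theorem famMat_eq : ∀ n < 43, famMat n = toMatJ (famCodes.getD n []) := by decide +kernel

theorem famWords_ok : ∀ n < 43,
    evalJ invCodes (famWords.getD n ([], 0)).1 =
      smulJ (famWords.getD n ([], 0)).2 (famCodes.getD n []) ∧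
    0 < (famWords.getD n ([], 0)).2 ∧ (famWords.getD n ([], 0)).2 < 4 ∧
    (famWords.getD n ([], 0)).1.all (fun a => decide (a < 4)) = true := by decide +kernel

theorem invWords_ok : ∀ n < 4,
    evalJ famCodes (invWords.getD n ([], 0)).1 =
      smulJ (invWords.getD n ([], 0)).2 (invCodes.getD n []) ∧
    0 < (invWords.getD n ([], 0)).2 ∧ (invWords.getD n ([], 0)).2 < 4 ∧
    (invWords.getD n ([], 0)).1.all (fun a => decide (a < 43)) = true := by decide +kernel

theorem invCodes_sq : ∀ n < 4, mulJ (invCodes.getD n []) (invCodes.getD n []) = oneJ := by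
  decide +kernel

end CfsgLib.Sporadic.J3Mat
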