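import Cfsg.Agent.Lib.Sporadic.J3OutChecks
import Cfsg.Agent.Lib.Sporadic.J3Cent
import Cfsg.Agent.Lib.Sporadic.OutCert.Out

/-!
# The outer automorphisms of the third Janko group

Up to inner automorphisms an automorphism maps the element `A` of order 17 to `A` or to `A ^ 3`
and fixes the first generator, which inverts `A`. The last two generators commute with the first
one, so their images are among the 1920 elements of its centraliser, and the relators leave two
possibilities.
-/

set_option maxRecDepth 100000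

open CfsgLib.Sporadic.CosetCert.J3P CfsgLib.Sporadic.CosetCert Cfsg

namespace CfsgLib.Sporadic.J3Out

attribute [local irreducible] J3Data.table

theorem okW_of_lt {L : List ℕ} (h : ∀ x ∈ L, x < 4) : okW L = true := by
  simp only [okW, List.all_eq_true, Nat.blt_eq]; exact h

theorem fpQ_eq {L : List ℕ} (h : ∀ x ∈ L, x < 4) : fpQ L = fpW L := by
  unfold fpQ fpW
  rw [ptW_eq L h 0 (by norm_num), ptW_eq L h 2 (by norm_num), ptW_eq L h 1 (by norm_num),
    ptW_eq L h 3 (by norm_num)]

theorem el_eqQ {L M : List ℕ} (hL : ∀ x ∈ L, x < 4) (hM : ∀ x ∈ M, x < 4) (h : fpQ L = fpQ M) :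
    el L = el M :=
  el_eq (okW_of_lt hL) (okW_of_lt hM) (by rw [← fpQ_eq hL, ← fpQ_eq hM, h])

theorem fpQ_of_el {L M : List ℕ} (hL : ∀ x ∈ L, x < 4) (hM : ∀ x ∈ M, x < 4) (h : el L = el M) :
    fpQ L = fpQ M := by
  rw [fpQ_eq hL, fpQ_eq hM]
  exact J3Cent.fp_eq (MulEquiv.refl PG) (okW_of_lt hL) (okW_of_lt hM) h

theorem el_of_idQ {L : List ℕ} (hL : ∀ x ∈ L, x < 4) (h : idQ L = true) : el L = 1 := by
  simp only [idQ, Bool.and_eq_true, Nat.beq_eq] at h
  rw [← el_nil]
  refine el_eqQ hL (by simp) ?_
  unfold fpQ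
  rw [h.1.1.1, h.1.1.2, h.1.2, h.2]
  rfl

theorem idQ_of_el {L : List ℕ} (hL : ∀ x ∈ L, x < 4) (h : el L = 1) : idQ L = true := by
  have hp : ∀ u, u < 6156 → ptW L u = u := by
    intro u hu
    rw [ptW_eq L hL u hu, ← hom_el (okW_of_lt hL) ⟨u, lt_of_lt_of_eq hu table_N.symm⟩, h, map_one]
    rfl
  simp only [idQ, Bool.and_eq_true, Nat.beq_eq]
  exact ⟨⟨⟨hp 0 (by norm_num), hp 2 (by norm_num)⟩, hp 1 (by norm_num)⟩, hp 3 (by norm_num)⟩

theorem el_single (i : ℕ) : el [i] = coding.gen i := by simp [el, appProd]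

theorem el_wPow (i : ℕ) : el (wPow i) = el wA ^ i := appProd_replicate coding.gen wA i

theorem wA_lt : ∀ x ∈ wA, x < 4 := by decide

theorem wPow_lt (i : ℕ) : ∀ x ∈ wPow i, x < 4 := by
  intro x hx
  simp only [wPow, List.mem_flatten, List.mem_replicate] at hx
  obtain ⟨l, ⟨-, rfl⟩, hx⟩ := hx
  exact wA_lt x hx

theorem orderOf_A : orderOf (el wA) = 17 := by
  have : Fact (Nat.Prime 17) := ⟨by norm_num⟩
  refine orderOf_eq_prime ?_ ?_
  · rw [← el_wPow]; exact el_of_idQ (wPow_lt 17) pow17.1
  · intro h
    have := idQ_of_el wA_lt h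
    rw [pow17.2] at this
    exact Bool.false_ne_true this

theorem A_pow_eq {i k : ℕ} (h : i % 17 = k % 17) : el wA ^ i = el wA ^ k := by
  rw [pow_eq_pow_iff_modEq, orderOf_A]; exact h

/-- Centralisers of conjugates have the same order. -/
theorem card_cent_conj {G : Type*} [Group G] (g x : G) :
    Nat.card (Subgroup.centralizer ({g * x * g⁻¹} : Set G)) =
      Nat.card (Subgroup.centralizer ({x} : Set G)) := by
  have h : Subgroup.centralizer ({g * x * g⁻¹} : Set G) =
      (Subgroup.centralizer ({x} : Set G)).map (MulAut.conj g).toMonoidHom := by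
    ext y
    rw [Subgroup.mem_map_equiv, Subgroup.mem_centralizer_singleton_iff,
      Subgroup.mem_centralizer_singleton_iff, MulAut.conj_symm_apply]
    constructor
    · intro hy
      calc g⁻¹ * y * g * x = g⁻¹ * (y * (g * x * g⁻¹)) * g := by group
        _ = g⁻¹ * (g * x * g⁻¹ * y) * g := by rw [hy]
        _ = x * (g⁻¹ * y * g) := by group
    · intro hy
      calc y * (g * x * g⁻¹) = g * (g⁻¹ * y * g * x) * g⁻¹ := by group
        _ = g * (x * (g⁻¹ * y * g)) * g⁻¹ := by rw [hy]
        _ = g * x * g⁻¹ * y := by group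
  rw [h, Subgroup.card_map_of_injective (f := (MulAut.conj g).toMonoidHom) (MulAut.conj g).injective]

theorem card_cent_invol (x : PG) (hx : orderOf x = 2) :
    Nat.card (Subgroup.centralizer ({x} : Set PG)) = 1920 := by
  have := finite
  obtain ⟨g, hg⟩ := isConj_iff.1 (J3Cent.conj_all (MulEquiv.refl PG) card_eq.1 x hx)
  rw [← hg, card_cent_conj]
  exact J3Cent.card_cent (MulEquiv.refl PG)

theorem el_append2 (L M : List ℕ) : el (catR L M) = el M * el L := by
  rw [catR_eq, el_append]

theorem centWords_facts : (∀ w ∈ centWords, (∀ x ∈ w, x < 4) ∧ el w * el [0] = el [0] * el w) ∧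
    (centWords.map fpQ).Nodup := by
  have h := cent_words
  simp only [List.all_eq_true, Bool.and_eq_true, Nat.beq_eq] at h
  refine ⟨fun w hw => ?_, (incrL_spec _ _ cent_incr).2.nodup⟩
  obtain ⟨h1, h2⟩ := h w hw
  have hl := okR_spec w h1
  refine ⟨hl, ?_⟩
  have e := el_eqQ (L := catR w [0]) (M := 0 :: w)
    (by rw [catR_eq]; intro y hy; rcases List.mem_append.1 hy with hy | hy
        · exact hl y hy
        · simp at hy; omega)
    (by intro y hy; rcases List.mem_cons.1 hy with hy | hy
        · omega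
        · exact hl y hy) h2
  rw [el_append2, show (0 :: w) = [0] ++ w from rfl, el_append] at e
  exact e.symm

theorem cent_complete {x : PG} (hx : x * el [0] = el [0] * x) :
    ∃ i, i < 1920 ∧ el (centWords.getD i []) = x := by
  have := finite
  obtain ⟨hw, hnd⟩ := centWords_facts
  have hc : Nat.card (Subgroup.centralizer ({el [0]} : Set PG)) = 1920 := by
    obtain ⟨h1, h2⟩ := conjW_ok
    have hl : ∀ y ∈ conjW, y < 4 := fun y hy => by
      simpa [Nat.blt_eq] using List.all_eq_true.1 h1 y hy
    have e := el_of_idQ (by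
      intro y hy
      simp only [List.mem_append, List.mem_reverse, List.mem_cons, List.not_mem_nil, or_false] at hy
      rcases hy with ((hy | hy) | hy) | hy
      · exact hl y hy
      · omega
      · exact hl y hy
      · omega) h2
    rw [el_append, el_append, el_append, el_reverse conjW (okW_of_lt hl)] at e
    have e0 : el [0] = el conjW * el [2] * (el conjW)⁻¹ := by
      have hs : el [0] * el [0] = 1 := by
        rw [el_single]
        exact inv_eq_iff_mul_eq_one.1 (gen_inv (by norm_num))
      rw [mul_eq_one_iff_inv_eq] at e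
      rw [inv_eq_of_mul_eq_one_right hs] at e
      rw [e, mul_assoc]
    rw [e0, card_cent_conj]
    exact J3Cent.card_cent (MulEquiv.refl PG)
  have hget : ∀ i : Fin 1920, centWords.getD i [] = centWords[(i : ℕ)]'(i.2.trans_eq cent_length.symm) :=
    fun i => by
      rw [List.getD_eq_getElem?_getD, List.getElem?_eq_getElem (i.2.trans_eq cent_length.symm),
        Option.getD_some]
  let f : Fin 1920 → Subgroup.centralizer ({el [0]} : Set PG) := fun i =>
    ⟨el (centWords.getD i []), Subgroup.mem_centralizer_singleton_iff.2 (by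
      rw [hget]; exact (hw _ (List.getElem_mem _)).2)⟩
  have hf : Function.Injective f := by
    intro i j e
    have e' : el (centWords.getD i []) = el (centWords.getD j []) := congrArg Subtype.val e
    rw [hget, hget] at e'
    have := fpQ_of_el (hw _ (List.getElem_mem _)).1 (hw _ (List.getElem_mem _)).1 e'
    apply Fin.ext
    refine (List.Nodup.getElem_inj_iff hnd (hi := by rw [List.length_map, cent_length]; exact i.2)
      (hj := by rw [List.length_map, cent_length]; exact j.2)).1 ?_
    rw [List.getElem_map, List.getElem_map]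
    exact this
  have hb : Function.Bijective f :=
    (Nat.bijective_iff_injective_and_card f).2 ⟨hf, by rw [Nat.card_fin, hc]⟩
  obtain ⟨i, hi⟩ := hb.2 ⟨x, Subgroup.mem_centralizer_singleton_iff.2 hx⟩
  exact ⟨i, i.2, congrArg Subtype.val hi⟩

theorem card_grpH : Nat.card grpH = 8160 := by
  have h := grpH.card_mul_index
  rw [card_eq.1] at h
  have h1 : Nat.card grpH ≤ 8160 := card_H.1
  have h2 : grpH.index ≤ 6156 := index_H.1
  nlinarith

theorem fixW_mem : Nat.testBit (J3Data.table.orbitMask [0, 1, 2] 102 J3Data.search1) fixW = true := by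
  decide +kernel

theorem cent_A {x : PG} (hx : x * el wA = el wA * x) : ∃ i : ℕ, el wA ^ i = x := by
  have := finite
  set C := Subgroup.centralizer ({el wA} : Set PG)
  have h17 : 17 ∣ Nat.card C := by
    have hmem : el wA ∈ C := Subgroup.mem_centralizer_singleton_iff.2 rfl
    have := orderOf_dvd_natCard (⟨el wA, hmem⟩ : C)
    rwa [← Subgroup.orderOf_coe, orderOf_A] at this
  have hodd : ¬ 2 ∣ Nat.card C := by
    intro h2
    have : Fact (Nat.Prime 2) := ⟨Nat.prime_two⟩
    obtain ⟨y, hy⟩ := exists_prime_orderOf_dvd_card' 2 h2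
    rw [← Subgroup.orderOf_coe] at hy
    have hc := card_cent_invol _ hy
    have hmem : el wA ∈ Subgroup.centralizer ({(y : PG)} : Set PG) :=
      Subgroup.mem_centralizer_singleton_iff.2 (Subgroup.mem_centralizer_singleton_iff.1 y.2).symm
    have h := orderOf_dvd_natCard (⟨el wA, hmem⟩ : Subgroup.centralizer ({(y : PG)} : Set PG))
    rw [← Subgroup.orderOf_coe, orderOf_A, hc] at h
    norm_num at h
  have h0 : 0 < J3Data.table.N := lt_of_lt_of_eq (by norm_num) table_N.symm
  have hwlt : fixW < J3Data.table.N := lt_of_lt_of_eq fixW_facts.1 table_N.symm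
  let w : Fin J3Data.table.N := ⟨fixW, hwlt⟩
  have hA : ∀ u : Fin J3Data.table.N, hom (el wA) u = u → u = pt ∨ u = w := by
    intro u hu
    have hu' : (u : ℕ) < 6156 := lt_of_lt_of_eq u.2 table_N
    have h := of_allBelow fixOK_true u hu'
    simp only [Bool.or_eq_true, Bool.not_eq_true', Nat.beq_eq] at h
    have e : ptW wA u = u := by
      rw [ptW_eq wA wA_lt u hu', ← hom_el (okW_of_lt wA_lt) u, hu]
    rcases h with (h | h) | h
    · rw [show Nat.beq (ptW wA u) u = true from Nat.beq_eq ▸ e] at h
      exact absurd h (by simp)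
    · exact Or.inl (Fin.ext h)
    · exact Or.inr (Fin.ext h)
  have hfix : hom (el wA) pt = pt ∧ hom (el wA) w = w := by
    refine ⟨Fin.ext ?_, Fin.ext ?_⟩
    · rw [hom_el (okW_of_lt wA_lt), ← ptW_eq wA wA_lt _ (by exact Nat.lt_of_lt_of_eq (pt).2 table_N)]
      exact fixW_facts.2.2.2
    · rw [hom_el (okW_of_lt wA_lt), ← ptW_eq wA wA_lt _ fixW_facts.1]
      exact fixW_facts.2.2.1
  have hne : pt ≠ w := fun e => fixW_facts.2.1 (congrArg Fin.val e).symm
  have hperm : ∀ g ∈ C, hom g pt = pt ∧ hom g w = w := by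
    intro g hg
    have hc := Subgroup.mem_centralizer_singleton_iff.1 hg
    have key : ∀ u, hom (el wA) u = u → hom g u = pt ∨ hom g u = w := by
      intro u hu
      refine hA _ ?_
      rw [← Equiv.Perm.mul_apply, ← map_mul, ← hc, map_mul, Equiv.Perm.mul_apply, hu]
    rcases key pt hfix.1 with h | h
    · refine ⟨h, ?_⟩
      rcases key w hfix.2 with h' | h'
      · exact absurd ((hom g).injective (h'.trans h.symm)) hne.symm
      · exact h'
    · exfalso
      have h' : hom g w = pt := by
        rcases key w hfix.2 with h' | h'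
        · exact h'
        · exact absurd ((hom g).injective (h'.trans h.symm)) hne.symm
      have hev : ∀ k : ℕ, hom (g ^ (2 * k)) pt = pt := by
        intro k
        induction k with
        | zero => simp
        | succ k ih =>
          rw [show 2 * (k + 1) = 2 * k + 1 + 1 by ring, pow_succ, pow_succ, map_mul, map_mul,
            Equiv.Perm.mul_apply, Equiv.Perm.mul_apply, h, h', ih]
      have hd : ¬ 2 ∣ orderOf g := fun h2 => hodd (h2.trans (Subgroup.orderOf_dvd_natCard C hg))
      obtain ⟨k, hk⟩ : ∃ k, orderOf g = 2 * k + 1 := ⟨orderOf g / 2, by omega⟩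
      have h1 := pow_orderOf_eq_one g
      rw [hk, pow_succ'] at h1
      have h2 := congrArg (fun y => hom y pt) h1
      simp only [map_mul, Equiv.Perm.mul_apply, hev, map_one, Equiv.Perm.one_apply, h] at h2
      exact hne h2.symm
  set P := grpH.map hom
  have hP : Nat.card P = 8160 := by
    rw [Subgroup.card_map_of_injective (f := hom) card_eq.2, card_grpH]
  obtain ⟨O, hO, eO, hcO⟩ := suborbit (b := 102) (lt_of_lt_of_eq (by norm_num) table_N.symm)
    J3Data.search1_ok
  have hwO : w ∈ O := by rw [eO, PTab.mem_maskSet]; exact fixW_mem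
  have horb : Nat.card (MulAction.orbit P w) = 120 := by
    rw [← Finset.mem_coe, hO] at hwO
    rw [MulAction.orbit_eq_iff.2 hwO, ← hO, Nat.card_coe_set_eq, Set.ncard_coe_finset, hcO,
      show J3Data.search1.length = 119 by decide +kernel]
  have hst : Nat.card (MulAction.stabilizer P w) = 68 := by
    have h := Nat.card_congr (MulAction.orbitProdStabilizerEquivGroup P w)
    rw [Nat.card_prod, horb, hP] at h
    omega
  have hle : C.map hom ≤ P := by
    rintro _ ⟨g, hg, rfl⟩
    exact Subgroup.mem_map_of_mem hom (J3Cent.mem_grpH (hperm g hg).1)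
  have hle2 : (C.map hom).subgroupOf P ≤ MulAction.stabilizer P w := by
    rintro ⟨π, hπ⟩ hmem
    obtain ⟨g, hg, e⟩ := Subgroup.mem_subgroupOf.1 hmem
    show π w = w
    rw [← show hom g = π from e]
    exact (hperm g hg).2
  have hdvd : Nat.card C ∣ 68 := by
    rw [← hst]
    refine dvd_trans ?_ (Subgroup.card_dvd_of_le hle2)
    rw [Nat.card_congr (Subgroup.subgroupOfEquivOfLe hle).toEquiv,
      Subgroup.card_map_of_injective (f := hom) card_eq.2]
  have hC : Nat.card C = 17 := by
    have h1 : Nat.card C ≤ 68 := Nat.le_of_dvd (by norm_num) hdvd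
    obtain ⟨k, hk⟩ := h17
    have hk4 : k ≤ 4 := by omega
    have hpos : 0 < Nat.card C := Nat.card_pos
    rw [hk] at hdvd hodd hpos
    interval_cases k <;> simp_all
  have heq : Subgroup.zpowers (el wA) = C := by
    refine Subgroup.eq_of_le_of_card_ge ?_ ?_
    · exact Subgroup.zpowers_le.2 (Subgroup.mem_centralizer_singleton_iff.2 rfl)
    · rw [hC, Nat.card_zpowers, orderOf_A]
  have hxC : x ∈ C := Subgroup.mem_centralizer_singleton_iff.2 hx
  rw [← heq] at hxC
  exact mem_powers_iff_mem_zpowers.2 hxC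

theorem appProd_aut {G H : Type*} [Group G] [Group H] (φ : G →* H) (g : ℕ → G) :
    ∀ L : List ℕ, φ (appProd g L) = appProd (fun x => φ (g x)) L := by
  intro L
  induction L with
  | nil => simp [appProd]
  | cons x t ih => simp [appProd, ih]

theorem el_subW (m : ℕ → List ℕ) : ∀ r : List ℕ, el (subW m r) = appProd (fun x => el (m x)) r := by
  intro r
  induction r with
  | nil => rfl
  | cons x t ih =>
    show el (catR (m x) (subW m t)) = _
    rw [el_append2, ih]
    rfl

theorem rel_one {r : FreeGroup Gen} (hr : r ∈ allRels) : el (appWord code code r) = 1 :=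
  (coding.mk_eq r).symm.trans (mk_relList coding.pairs_mem hr)

/-- A homomorphism given by words on the letters respects a relator, as the kernel sees it. -/
theorem image_rel (φ : PG →* PG) (m : ℕ → List ℕ) (hm : ∀ x, x < 4 → φ (coding.gen x) = el (m x))
    (hml : ∀ x, ∀ y ∈ m x, y < 4)
    {L : List ℕ} (hL : ∀ x ∈ L, x < 4) (hin : L ∈ allRels.map (appWord code code)) :
    idQ (subW m L) = true := by
  refine idQ_of_el ?_ ?_
  · rw [subW_eq]
    intro y hy
    obtain ⟨x, -, hy⟩ := List.mem_flatMap.1 hy
    exact hml x y hy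
  · obtain ⟨r, hr, rfl⟩ := List.mem_map.1 hin
    rw [el_subW]
    have h := congrArg φ (rel_one hr)
    rw [map_one, el, appProd_aut] at h
    rw [← h]
    have key : ∀ (f g : ℕ → PG) (L : List ℕ), (∀ x ∈ L, f x = g x) → appProd f L = appProd g L := by
      intro f g L
      induction L with
      | nil => intro _; rfl
      | cons x t ih =>
        intro h'
        simp only [appProd]
        rw [ih fun y hy => h' y (List.mem_cons_of_mem _ hy), h' x List.mem_cons_self]
    exact key _ _ _ fun x hx => (hm x (hL x hx)).symm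

theorem centWord_lt (i : ℕ) : ∀ x ∈ centWords.getD i [], x < 4 := by
  intro x hx
  by_cases hi : i < centWords.length
  · rw [List.getD_eq_getElem?_getD, List.getElem?_eq_getElem hi, Option.getD_some] at hx
    exact (centWords_facts.1 _ (List.getElem_mem hi)).1 x hx
  · rw [List.getD_eq_default _ _ (Nat.le_of_not_lt hi)] at hx
    simp at hx

theorem wA'_lt (j : ℕ) : ∀ x ∈ wA' j, x < 4 := by
  unfold wA'
  rcases Nat.beq j 0 <;> simp [wA]

theorem imAll_lt (j ic id' : ℕ) :
    ∀ x, ∀ y ∈ imAll j (centWords.getD ic []) (centWords.getD id' []) x, y < 4 := by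
  intro x
  unfold imAll imAB
  rcases Nat.beq x 2 <;> rcases Nat.beq x 3 <;> rcases Nat.beq x 0 <;>
    simp only [cond_true, cond_false] <;> intro y hy <;>
    first
      | exact centWord_lt _ y hy
      | (simp only [List.mem_append, List.mem_cons, List.not_mem_nil, or_false] at hy
         rcases hy with hy | hy
         · omega
         · exact wA'_lt j y hy)
      | (simp only [List.mem_cons, List.not_mem_nil, or_false] at hy; omega)

theorem scanOK_spec {rels : List (List ℕ)} {j : ℕ} {surv : List ℕ} :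
    ∀ (l : List (List ℕ)) (s : ℕ), scanOK rels j surv l s = true → ∀ k, k < l.length →
      (rels.all fun r => idQ (subW (fun x => bif Nat.blt x 2 then imAB j x else l.getD k []) r)) = true →
      s + k ∈ surv := by
  intro l
  induction l with
  | nil => intro s _ k hk; simp at hk
  | cons w t ih =>
    intro s h k hk hp
    change ((!(rels.all fun r =>
        idQ (subW (fun x => bif Nat.blt x 2 then imAB j x else w) r)) || surv.contains s) &&
      scanOK rels j surv t (Nat.succ s)) = true at h
    simp only [Bool.and_eq_true, Bool.or_eq_true, Bool.not_eq_true', List.contains_iff_mem] at h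
    cases k with
    | zero =>
      rcases h.1 with h1 | h1
      · simp only [List.getD_cons_zero] at hp
        rw [hp] at h1
        exact absurd h1 (by simp)
      · simpa using h1
    | succ k =>
      simp only [List.getD_cons_succ] at hp
      have := ih (Nat.succ s) h.2 k (by simpa using hk) hp
      rwa [show s + (k + 1) = Nat.succ s + k by omega]

theorem gen_comm {x : ℕ} (hx : x = 2 ∨ x = 3) : coding.gen x * el [0] = el [0] * coding.gen x := by
  have h : ∀ y ∈ ([2, 3] : List ℕ), fpQ [0, y] = fpQ [y, 0] := by decide +kernel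
  have e := el_eqQ (L := [0, x]) (M := [x, 0]) (by simp; omega) (by simp; omega)
    (h x (by simp [hx]))
  simpa [el, appProd] using e

theorem closure_gens : Subgroup.closure (coding.gen '' Set.Iio 4) = ⊤ := coding.closure_gen_eq_top

/-- After an inner automorphism, an automorphism is one of two given on the generators. -/
theorem normal_form (α : MulAut PG) :
    ∃ γ ∈ Inn PG, ∃ p : ℕ × ℕ, (p = idPair ∨ p = outPair) ∧ ∀ x, x < 4 →
      (γ * α) (coding.gen x) =
        el (imAll 0 (centWords.getD p.1 []) (centWords.getD p.2 []) x) := by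
  have := finite
  have : Fact (Nat.Prime 17) := ⟨by norm_num⟩
  set A := el wA with hAdef
  set s := el [0] with hsdef
  have hs : s * s = 1 := by
    rw [hsdef, el_single]; exact inv_eq_iff_mul_eq_one.1 (gen_inv (by norm_num))
  have hs' : s⁻¹ = s := inv_eq_of_mul_eq_one_right hs
  have hg1 : coding.gen 1 = A * s := by
    rw [hAdef, hsdef]
    simp only [el, wA, appProd, one_mul]
    rw [mul_assoc, inv_eq_iff_mul_eq_one.1 (gen_inv (by norm_num : (0 : ℕ) < 4)), mul_one]
  have hinv : s * A * s⁻¹ = A⁻¹ := by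
    have h1 : coding.gen 1 * coding.gen 1 = 1 :=
      inv_eq_iff_mul_eq_one.1 (gen_inv (by norm_num))
    rw [hg1] at h1
    rw [hs']
    refine (inv_eq_of_mul_eq_one_right ?_).symm
    simpa [mul_assoc] using h1
  obtain ⟨g, i0, hi0, hi17, hg⟩ := OutCert.exists_conj_pow (G := PG) (p := 17)
    (by rw [card_eq.1]; norm_num) orderOf_A ((MulEquiv.orderOf_eq α A).trans orderOf_A)
  have hp := of_allBelow powOK_true (i0 - 1) (by omega)
  simp only [Bool.and_eq_true, List.all_eq_true, Nat.blt_eq, Nat.beq_eq] at hp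
  rw [show Nat.succ (i0 - 1) = i0 by omega] at hp
  obtain ⟨⟨hn, hj⟩, hfp⟩ := hp
  set j := (powConj.getD (i0 - 1) (2, [])).1
  set n := (powConj.getD (i0 - 1) (2, [])).2
  have hlt1 : ∀ x ∈ wPow i0 ++ n, x < 4 := fun x hx => by
    rcases List.mem_append.1 hx with hx | hx
    exacts [wPow_lt _ x hx, hn x hx]
  have hlt2 : ∀ x ∈ n ++ wA' j, x < 4 := fun x hx => by
    rcases List.mem_append.1 hx with hx | hx
    exacts [hn x hx, wA'_lt _ x hx]
  have hconj := el_eqQ hlt1 hlt2 hfp
  rw [el_append, el_append, el_wPow] at hconj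
  obtain ⟨k, hk, hAk⟩ : ∃ k, (k = 1 ∨ k = 3) ∧ el (wA' j) = A ^ k := by
    by_cases hj0 : j = 0
    · exact ⟨1, Or.inl rfl, by rw [hj0, pow_one]; rfl⟩
    · refine ⟨3, Or.inr rfl, ?_⟩
      rw [show j = 1 by omega, show wA' 1 = wA ++ wA ++ wA from rfl, el_append, el_append,
        pow_succ, pow_two, ← hAdef, mul_assoc]
  set β := MulAut.conj (el n * g) * α
  have hβA : β A = A ^ k := by
    rw [← hAk]
    calc β A = el n * (g * α A * g⁻¹) * (el n)⁻¹ := by simp [β, mul_assoc]
      _ = el (wA' j) := by rw [hg, hconj, mul_inv_cancel_right]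
  set y := β s
  have hy1 : y * y = 1 := by rw [← map_mul, hs, map_one]
  have hy2 : y * A ^ k * y⁻¹ = (A ^ k)⁻¹ := by
    rw [← hβA, ← map_inv β s, ← map_mul, ← map_mul, hinv, map_inv]
  have hsk : s * A ^ k * s⁻¹ = (A ^ k)⁻¹ := by
    rw [← conj_pow, hinv, inv_pow]
  have hcomm : (y * s) * A ^ k = A ^ k * (y * s) := by
    have e : (y * s) * A ^ k * (y * s)⁻¹ = A ^ k := by
      calc (y * s) * A ^ k * (y * s)⁻¹ = y * (s * A ^ k * s⁻¹) * y⁻¹ := by group
        _ = (y * A ^ k * y⁻¹)⁻¹ := by rw [hsk]; group
        _ = A ^ k := by rw [hy2, inv_inv]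
    exact mul_inv_eq_iff_eq_mul.1 e
  obtain ⟨i, hi⟩ := cent_A (x := y * s) (by
    have hkk : ∃ m, (k * m) % 17 = 1 % 17 := by
      rcases hk with rfl | rfl
      exacts [⟨1, rfl⟩, ⟨6, rfl⟩]
    obtain ⟨m, hm⟩ := hkk
    have e : A = (A ^ k) ^ m := by
      rw [← pow_mul]; exact (pow_one A).symm.trans (A_pow_eq hm.symm)
    rw [← hAdef, e]
    exact (Commute.pow_right hcomm m).eq)
  have hy : y = A ^ i * s := by
    rw [hAdef, hi, mul_assoc, hs, mul_one]
  set M := A ^ (9 * i) with hM
  have hsM : s * M = M⁻¹ * s := by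
    have : s * M * s⁻¹ = M⁻¹ := by rw [hM, ← conj_pow, hinv, inv_pow]
    exact mul_inv_eq_iff_eq_mul.1 this
  have hfix : M⁻¹ * y * M = s := by
    rw [hy, mul_assoc, mul_assoc, hsM, ← mul_assoc, ← mul_assoc]
    have e : M⁻¹ * A ^ i * M⁻¹ = 1 := by
      have e2 : A ^ i = M * M := by rw [hM, ← pow_add]; exact A_pow_eq (by omega)
      rw [e2]; group
    rw [e, one_mul]
  set γ := MulAut.conj M⁻¹ * MulAut.conj (el n * g) with hγ
  have hγm : γ ∈ Inn PG := mul_mem ⟨_, rfl⟩ ⟨_, rfl⟩
  have happ : ∀ z, (γ * α) z = M⁻¹ * β z * M := fun z => by simp [hγ, β, mul_assoc]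
  have hfA : (γ * α) A = A ^ k := by
    rw [happ, hβA, hM]
    have : Commute (A ^ k) (A ^ (9 * i)) := (Commute.refl A).pow_pow _ _
    rw [mul_assoc, this.eq, inv_mul_cancel_left]
  have hfs : (γ * α) s = s := by rw [happ]; exact hfix
  set f := γ * α
  have hc : ∀ x, x = 2 ∨ x = 3 → ∃ i, i < 1920 ∧ el (centWords.getD i []) = f (coding.gen x) := by
    intro x hx
    refine cent_complete ?_
    have := congrArg f (gen_comm hx)
    rwa [map_mul, map_mul, hfs] at this
  obtain ⟨ic, hic, hfc⟩ := hc 2 (Or.inl rfl)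
  obtain ⟨id', hid, hfd⟩ := hc 3 (Or.inr rfl)
  have him : ∀ x, x < 4 →
      f.toMonoidHom (coding.gen x) = el (imAll j (centWords.getD ic []) (centWords.getD id' []) x) := by
    intro x hx
    show f (coding.gen x) = _
    match x, hx with
    | 0, _ =>
      show _ = el [0]
      rw [← el_single, ← hsdef]
      exact hfs
    | 1, _ =>
      show _ = el ([0] ++ wA' j)
      rw [el_append, hAk, hg1, map_mul, hfA, hfs]
    | 2, _ => exact hfc.symm
    | 3, _ => exact hfd.symm
    | n + 4, h => exact absurd h (by omega)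
  obtain ⟨hwC, hwD, hwCD, hwlt⟩ := rels_words
  simp only [List.all_eq_true, Nat.blt_eq, List.mem_append] at hwlt
  have hall : ∀ r, (r ∈ relsC ∨ r ∈ relsD ∨ r ∈ relsCD) →
      idQ (subW (imAll j (centWords.getD ic []) (centWords.getD id' [])) r) = true := by
    intro r hr
    refine image_rel f.toMonoidHom _ him (imAll_lt j ic id') (fun x hx => ?_) ?_
    · refine hwlt r ?_ x hx
      tauto
    · rcases hr with hr | hr | hr
      exacts [hwC hr, hwD hr, hwCD hr]
  have two_letters : ∀ (r : List ℕ) (z : ℕ) (w : List ℕ), (∀ x ∈ r, x = 0 ∨ x = 1 ∨ x = z) →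
      imAll j (centWords.getD ic []) (centWords.getD id' []) z = w → ¬ z < 2 →
      subW (fun x => bif Nat.blt x 2 then imAB j x else w) r =
        subW (imAll j (centWords.getD ic []) (centWords.getD id' [])) r := by
    intro r z w hr hw hz
    induction r with
    | nil => rfl
    | cons x t ih =>
      show catR _ _ = catR _ _
      rw [show List.rec (motive := fun _ => List ℕ) [] (fun x _ ih => catR
          (bif Nat.blt x 2 then imAB j x else w) ih) t =
        subW (fun x => bif Nat.blt x 2 then imAB j x else w) t from rfl,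
        ih fun y hy => hr y (List.mem_cons_of_mem _ hy)]
      refine congrArg (fun l => catR l _) ?_
      rcases hr x List.mem_cons_self with rfl | rfl | rfl
      · rfl
      · rfl
      · show (bif Nat.blt x 2 then imAB j x else w) = _
        rw [show Nat.blt x 2 = false by
          rcases hb : Nat.blt x 2
          · rfl
          · rw [Nat.blt_eq] at hb; exact absurd hb hz]
        exact hw.symm
  have hletC : ∀ r ∈ relsC, ∀ x ∈ r, x = 0 ∨ x = 1 ∨ x = 2 := by decide +kernel
  have hletD : ∀ r ∈ relsD, ∀ x ∈ r, x = 0 ∨ x = 1 ∨ x = 3 := by decide +kernel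
  have hsC : ic ∈ survC.getD j [] := by
    have key : ∀ j', j' < 2 → scanOK relsC j' (survC.getD j' []) centWords 0 = true
      | 0, _ => scanC0
      | 1, _ => scanC1
    have := scanOK_spec centWords 0 (key j hj) ic (by rw [cent_length]; exact hic) (by
      rw [List.all_eq_true]
      intro r hr
      rw [two_letters r 2 (centWords.getD ic []) (hletC r hr) rfl (by norm_num)]
      exact hall r (Or.inl hr))
    simpa using this
  have hsD : id' ∈ survD.getD j [] := by
    have key : ∀ j', j' < 2 → scanOK relsD j' (survD.getD j' []) centWords 0 = true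
      | 0, _ => scanD0
      | 1, _ => scanD1
    have := scanOK_spec centWords 0 (key j hj) id' (by rw [cent_length]; exact hid) (by
      rw [List.all_eq_true]
      intro r hr
      rw [two_letters r 3 (centWords.getD id' []) (hletD r hr) rfl (by norm_num)]
      exact hall r (Or.inr (Or.inl hr)))
    simpa using this
  have h := of_allBelow pairsOK_true j hj
  simp only [List.all_eq_true, Bool.or_eq_true, Bool.not_eq_true', Bool.and_eq_true,
    Nat.beq_eq] at h
  rcases h ic hsC id' hsD with h | ⟨hj0, h⟩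
  · rw [List.all_eq_false] at h
    obtain ⟨r, hr, hr'⟩ := h
    exact absurd (hall r (Or.inr (Or.inr hr))) hr'
  · refine ⟨γ, hγm, (ic, id'), ?_, fun x hx => hj0 ▸ him x hx⟩
    rcases h with ⟨a, b⟩ | ⟨a, b⟩
    · exact Or.inl (Prod.ext a b)
    · exact Or.inr (Prod.ext a b)

theorem id_pair (x : ℕ) (hx : x < 4) :
    el (imAll 0 (centWords.getD idPair.1 []) (centWords.getD idPair.2 []) x) = coding.gen x := by
  obtain ⟨h1, h2, -, -⟩ := pair_facts
  match x, hx with
  | 0, _ => exact el_single 0
  | 1, _ =>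
    show el (imAB 0 1) = _
    rw [← el_single]
    exact el_eqQ (imAll_lt 0 0 0 1) (by simp) imAB_ok.2
  | 2, _ =>
    show el (centWords.getD idPair.1 []) = _
    rw [← el_single]
    exact el_eqQ (centWord_lt _) (by simp) h1
  | 3, _ =>
    show el (centWords.getD idPair.2 []) = _
    rw [← el_single]
    exact el_eqQ (centWord_lt _) (by simp) h2
  | n + 4, h => exact absurd h (by omega)

theorem aut_eq {α β : MulAut PG} (h : ∀ x, x < 4 → α (coding.gen x) = β (coding.gen x)) : α = β := by
  have h1 : Set.EqOn α.toMonoidHom β.toMonoidHom (coding.gen '' Set.Iio 4) := by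
    rintro _ ⟨x, hx, rfl⟩; exact h x hx
  exact MulEquiv.ext fun z =>
    DFunLike.congr_fun (MonoidHom.eq_of_eqOn_dense closure_gens h1) z

theorem outIm_sq : ∀ x, x < 4 → idQ (outIm x ++ outIm x) = true := by decide +kernel

theorem exists_outer : ∃ β : MulAut PG, β ∉ Inn PG := by
  have := finite
  have := isSimple
  have hl : ∀ x, ∀ y ∈ outIm x, y < 4 := imAll_lt 0 _ _
  have hrel : ∀ r ∈ Cfsg.Spor.coxRelators edges ∪ {r | r ∈ extra},
      FreeGroup.lift (fun a => el (outIm (code a))) r = 1 := by
    refine lift_cox_eq_one _ coding.pairs_cover ?_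
    intro r hr
    rw [lift_eq_appProd _ (fun x => el (outIm x)) code code (fun _ => rfl) (fun a => by
      have hx : code a < 4 := by cases a <;> decide
      have := el_of_idQ (fun y hy => by
        rcases List.mem_append.1 hy with hy | hy <;> exact hl _ y hy) (outIm_sq _ hx)
      rw [el_append] at this
      exact eq_inv_of_mul_eq_one_left this)]
    have h := out_rels
    rw [List.all_eq_true] at h
    rw [← el_subW]
    refine el_of_idQ ?_ (h r hr)
    rw [subW_eq]
    intro y hy
    obtain ⟨x, -, hy⟩ := List.mem_flatMap.1 hy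
    exact hl x y hy
  let φ : PG →* PG := PresentedGroup.toGroup hrel
  have hφ : ∀ x, x < 4 → φ (coding.gen x) = el (outIm x) := by
    intro x hx
    have hg : ∀ j < 4, j = code (gens.getD j Gen.a) := by decide
    conv_lhs => rw [hg x hx]
    show φ (coding.gen (coding.code _)) = _
    rw [Coding.gen_code]
    show PresentedGroup.toGroup hrel (PresentedGroup.of _) = _
    rw [PresentedGroup.toGroup.of, ← hg x hx]
  have h0 : φ (coding.gen 0) = coding.gen 0 := (hφ 0 (by norm_num)).trans (el_single 0)
  have hinj : Function.Injective φ := by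
    rw [← MonoidHom.ker_eq_bot_iff]
    refine (IsSimpleGroup.eq_bot_or_eq_top_of_normal _ φ.normal_ker).resolve_right fun ht => ?_
    have h1 : φ (coding.gen 0) = 1 := MonoidHom.mem_ker.1 (ht ▸ Subgroup.mem_top _)
    rw [h0, ← el_single] at h1
    have h2 := idQ_of_el (L := [0]) (by simp) h1
    have h3 : idQ [0] = false := by decide +kernel
    rw [h3] at h2
    exact Bool.false_ne_true h2
  let σ : MulAut PG := MulEquiv.ofBijective φ (Finite.injective_iff_bijective.1 hinj)
  refine ⟨σ, ?_⟩
  rintro ⟨g, hg⟩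
  have hσ : ∀ x, x < 4 → g * coding.gen x * g⁻¹ = el (outIm x) := fun x hx => by
    rw [← MulAut.conj_apply, hg]; exact hφ x hx
  have e0 : g * coding.gen 0 * g⁻¹ = coding.gen 0 := (hσ 0 (by norm_num)).trans (el_single 0)
  have e1 : g * coding.gen 1 * g⁻¹ = coding.gen 1 := by
    refine (hσ 1 (by norm_num)).trans ?_
    rw [← el_single 1]
    exact el_eqQ (hl 1) (by simp) imAB_ok.2
  have hA : g * el wA = el wA * g := by
    refine mul_inv_eq_iff_eq_mul.1 ?_
    simp only [el, wA, appProd, one_mul]
    calc g * (coding.gen 1 * coding.gen 0) * g⁻¹ = g * coding.gen 1 * g⁻¹ * (g * coding.gen 0 * g⁻¹) := by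
          group
      _ = _ := by rw [e0, e1]
  obtain ⟨i, rfl⟩ := cent_A hA
  have hone : el wA ^ i = 1 := by
    have hs := gen_inv (show (0 : ℕ) < 4 by norm_num)
    have h1 : coding.gen 0 * el wA * (coding.gen 0)⁻¹ = (el wA)⁻¹ := by
      simp only [el, wA, appProd, one_mul]
      rw [mul_inv_rev, hs, gen_inv (show (1 : ℕ) < 4 by norm_num)]
      simp only [mul_assoc, inv_eq_iff_mul_eq_one.1 hs, mul_one]
    have h2 : coding.gen 0 * el wA ^ i * (coding.gen 0)⁻¹ = (el wA ^ i)⁻¹ := by
      rw [← conj_pow, h1, inv_pow]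
    have h3 : coding.gen 0 * el wA ^ i * (coding.gen 0)⁻¹ = el wA ^ i := by
      have hc : Commute (el wA ^ i) (coding.gen 0) := mul_inv_eq_iff_eq_mul.1 e0
      rw [← hc.eq, mul_inv_cancel_right]
    have h4 : el wA ^ (i + i) = 1 := by
      rw [pow_add]; exact inv_eq_iff_mul_eq_one.1 (h2.symm.trans h3)
    have h5 : (i + i) % 17 = 0 := by
      have := orderOf_dvd_of_pow_eq_one h4
      rw [orderOf_A] at this
      omega
    rw [← pow_zero (el wA)]
    exact A_pow_eq (by omega)
  have h2 := hσ 2 (by norm_num)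
  rw [hone, one_mul, inv_one, mul_one, ← el_single] at h2
  have hne := pair_facts.2.2.1
  have : idQ (centWords.getD outPair.1 [] ++ [2]) = true := by
    refine idQ_of_el (fun y hy => ?_) ?_
    · rcases List.mem_append.1 hy with hy | hy
      · exact centWord_lt _ y hy
      · simp at hy; omega
    · rw [el_append, show el (centWords.getD outPair.1 []) = el [2] from h2.symm, el_single]
      exact inv_eq_iff_mul_eq_one.1 (gen_inv (by norm_num))
  rw [hne] at this
  exact Bool.false_ne_true this

theorem card_out_PG : Nat.card (Out PG) = 2 := by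
  have := finite
  obtain ⟨σ, hσ⟩ := exists_outer
  refine le_antisymm ?_ ?_
  · refine (Nat.card_le_card_of_surjective
      (fun c : Bool => if c then (1 : Out PG) else QuotientGroup.mk σ) fun q => ?_).trans (by simp)
    obtain ⟨α, rfl⟩ := QuotientGroup.mk_surjective q
    by_cases hα : α ∈ Inn PG
    · exact ⟨true, ((QuotientGroup.eq_one_iff α).2 hα).symm⟩
    refine ⟨false, ?_⟩
    have other : ∀ δ : MulAut PG, δ ∉ Inn PG → ∃ γ ∈ Inn PG, ∀ x, x < 4 →
        (γ * δ) (coding.gen x) = el (outIm x) := by
      intro δ hδ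
      obtain ⟨γ, hγ, p, hp, himg⟩ := normal_form δ
      rcases hp with rfl | rfl
      · refine absurd ?_ hδ
        have h : γ * δ = 1 := aut_eq fun x hx => (himg x hx).trans (id_pair x hx)
        rw [show δ = γ⁻¹ from eq_inv_of_mul_eq_one_right h]
        exact inv_mem hγ
      · exact ⟨γ, hγ, himg⟩
    obtain ⟨γ, hγ, e1⟩ := other α hα
    obtain ⟨γ0, hγ0, e2⟩ := other σ hσ
    have h := aut_eq fun x hx => (e2 x hx).trans (e1 x hx).symm
    simp only [Bool.false_eq_true, if_false]
    have := congrArg (QuotientGroup.mk (s := Inn PG)) h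
    simpa [(QuotientGroup.eq_one_iff γ).2 hγ, (QuotientGroup.eq_one_iff γ0).2 hγ0] using this
  · have : Nontrivial (Out PG) :=
      ⟨⟨QuotientGroup.mk σ, 1, fun e => hσ ((QuotientGroup.eq_one_iff σ).1 e)⟩⟩
    exact Finite.one_lt_card

end CfsgLib.Sporadic.J3Out
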