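import Cfsg.Agent.Lib.Sporadic.J3Base
import Cfsg.Agent.Lib.Sporadic.CosetCertWords
import Cfsg.Agent.Lib.Sporadic.CosetCertBelow
import Cfsg.Agent.Lib.Sporadic.J3Data.J3OutData

/-!
# Automorphisms of the third Janko group: checks

Elements are compared through the images of four base points, which are evaluated in flat rows.
-/

set_option maxRecDepth 100000

open CfsgLib.Sporadic.CosetCert.J3P CfsgLib.Sporadic.CosetCert

namespace CfsgLib.Sporadic.J3Out

/-- The flat row of a letter. -/
noncomputable def selR (x : ℕ) : ℕ :=
  Nat.rec (motive := fun _ => ℕ) J3Data.flat0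
    (fun k _ => Nat.rec (motive := fun _ => ℕ) J3Data.flat1
      (fun k _ => Nat.rec (motive := fun _ => ℕ) J3Data.flat2 (fun _ _ => J3Data.flat3) k) k) x

/-- One step of a point. -/
noncomputable def stepW (x v : ℕ) : ℕ :=
  Nat.mod (Nat.shiftRight (selR x) (Nat.mul v 13)) 8192

/-- The image of a point under a word. -/
noncomputable def ptW (L : List ℕ) : ℕ → ℕ :=
  List.rec (motive := fun _ => ℕ → ℕ) (fun v => v)
    (fun x _ ih v => Nat.rec (motive := fun _ => ℕ) (ih 0) (fun w _ => ih (Nat.succ w)) (stepW x v)) L

theorem ptW_cons (x : ℕ) (L : List ℕ) (v : ℕ) : ptW (x :: L) v = ptW L (stepW x v) := by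
  show Nat.rec (motive := fun _ => ℕ) (ptW L 0) (fun w _ => ptW L (Nat.succ w)) (stepW x v) = _
  cases stepW x v <;> rfl

theorem selR_eq : ∀ x, x < 4 → selR x = J3Data.flats.getD x 0
  | 0, _ => rfl
  | 1, _ => rfl
  | 2, _ => rfl
  | 3, _ => rfl

theorem table_wb : J3Data.table.wb = 13 := rfl

attribute [local irreducible] J3Data.table in
theorem ptW_eq : ∀ L : List ℕ, (∀ x ∈ L, x < 4) → ∀ u, u < 6156 → ptW L u = at_ L u := by
  intro L
  induction L with
  | nil => intro _ u _; rfl
  | cons x t ih =>
    intro hL u hu
    have hx := hL x List.mem_cons_self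
    obtain ⟨h1, h2⟩ := J3Data.table_flat x (lt_of_lt_of_eq hx table_nl.symm) u
      (lt_of_lt_of_eq hu table_N.symm)
    rw [ptW_cons]
    show ptW t (stepW x u) = at_ t (J3Data.table.img x u)
    have e : stepW x u = J3Data.table.img x u := by
      rw [h1, table_wb, stepW, selR_eq x hx]
    rw [e]
    exact ih (fun y hy => hL y (List.mem_cons_of_mem _ hy)) _ (lt_of_lt_of_eq h2 table_N)

/-- The packed images of the base points. -/
noncomputable def fpQ (L : List ℕ) : ℕ :=
  Nat.add (ptW L 0) (Nat.mul 6156 (Nat.add (ptW L 2)
    (Nat.mul 6156 (Nat.add (ptW L 1) (Nat.mul 6156 (ptW L 3))))))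

/-- A word fixes the four base points. -/
noncomputable def idQ (L : List ℕ) : Bool :=
  Nat.beq (ptW L 0) 0 && Nat.beq (ptW L 2) 2 && Nat.beq (ptW L 1) 1 && Nat.beq (ptW L 3) 3

/-- The element of order 17. -/
def wA : List ℕ := [0, 1]

/-- The two possible images of the element of order 17. -/
def wA' (j : ℕ) : List ℕ := bif Nat.beq j 0 then wA else wA ++ wA ++ wA

/-- Unpack a word, with recursors. -/
noncomputable def unp (w : ℕ × ℕ) : List ℕ :=
  Nat.rec (motive := fun _ => ℕ → List ℕ) (fun _ => [])
    (fun _ ih b => Nat.mod b 16 :: ih (Nat.shiftRight b 4)) w.1 w.2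

/-- Append, with recursors. -/
noncomputable def catR (L M : List ℕ) : List ℕ :=
  List.rec (motive := fun _ => List ℕ) M (fun x _ ih => x :: ih) L

theorem catR_eq (L M : List ℕ) : catR L M = L ++ M := by
  induction L with
  | nil => rfl
  | cons x t ih => exact congrArg (x :: ·) ih

/-- Reverse, with recursors. -/
noncomputable def revR (L : List ℕ) : List ℕ :=
  List.rec (motive := fun _ => List ℕ → List ℕ) (fun acc => acc)
    (fun x _ ih acc => ih (x :: acc)) L []

theorem revR_eq (L : List ℕ) : revR L = L.reverse := by
  have key : ∀ (L acc : List ℕ), List.rec (motive := fun _ => List ℕ → List ℕ) (fun acc => acc)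
      (fun x _ ih acc => ih (x :: acc)) L acc = L.reverse ++ acc := by
    intro L
    induction L with
    | nil => intro acc; rfl
    | cons x t ih => intro acc; exact (ih (x :: acc)).trans (by simp)
  exact (key L []).trans (List.append_nil _)

/-- All letters are small, with recursors. -/
noncomputable def okR (L : List ℕ) : Bool :=
  List.rec (motive := fun _ => Bool) true (fun x _ ih => Nat.blt x 4 && ih) L

theorem okR_spec : ∀ L : List ℕ, okR L = true → ∀ x ∈ L, x < 4 := by
  intro L
  induction L with
  | nil => intro _ x hx; simp at hx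
  | cons x t ih =>
    intro h y hy
    change (Nat.blt x 4 && okR t) = true at h
    simp only [Bool.and_eq_true, Nat.blt_eq] at h
    rcases List.mem_cons.1 hy with rfl | hy
    exacts [h.1, ih h.2 y hy]

/-- The words of the centraliser of the first letter. -/
noncomputable def centWords : List (List ℕ) :=
  (centPart0 ++ centPart1 ++ centPart2 ++ centPart3 ++ centPart4 ++ centPart5 ++ centPart6 ++
    centPart7).map unp

/-- The images of the first two letters in case `j`. -/
def imAB (j x : ℕ) : List ℕ := bif Nat.beq x 0 then [0] else [0] ++ wA' j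

/-- Substitute in a word. -/
noncomputable def subW (m : ℕ → List ℕ) (L : List ℕ) : List ℕ :=
  List.rec (motive := fun _ => List ℕ) [] (fun x _ ih => catR (m x) ih) L

theorem subW_eq (m : ℕ → List ℕ) (L : List ℕ) : subW m L = L.flatMap m := by
  induction L with
  | nil => rfl
  | cons x t ih => rw [List.flatMap_cons, ← ih]; exact catR_eq _ _

/-- The images in case `j`, the last two letters going to `c` and `d`. -/
def imAll (j : ℕ) (c d : List ℕ) (x : ℕ) : List ℕ :=
  bif Nat.beq x 2 then c else bif Nat.beq x 3 then d else imAB j x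

/-- The power of the element of order 17. -/
def wPow (i : ℕ) : List ℕ := (List.replicate i wA).flatten

theorem pow17 : idQ (wPow 17) = true ∧ idQ wA = false := by decide +kernel

/-- The powers are conjugate to one of the two. -/
noncomputable def powOK : Bool :=
  allBelow (fun i => (powConj.getD i (2, [])).2.all (fun x => Nat.blt x 4) &&
    Nat.blt (powConj.getD i (2, [])).1 2 &&
    Nat.beq (fpQ (wPow (Nat.succ i) ++ (powConj.getD i (2, [])).2))
      (fpQ ((powConj.getD i (2, [])).2 ++ wA' (powConj.getD i (2, [])).1))) 16

theorem powOK_true : powOK = true := by decide +kernel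

/-- The fixed points of the element of order 17. -/
noncomputable def fixOK : Bool :=
  allBelow (fun u => !Nat.beq (ptW wA u) u || Nat.beq u 0 || Nat.beq u fixW) 6156

theorem fixOK_true : fixOK = true := by decide +kernel

theorem fixW_facts : fixW < 6156 ∧ fixW ≠ 0 ∧ ptW wA fixW = fixW ∧ ptW wA 0 = 0 := by decide +kernel

/-- A list increases strictly. -/
noncomputable def incrL : List ℕ → ℕ → Bool :=
  fun l => List.rec (motive := fun _ => ℕ → Bool) (fun _ => true)
    (fun a _ ih p => Nat.blt p (Nat.succ a) && ih (Nat.succ a)) l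

theorem incrL_spec : ∀ (l : List ℕ) (p : ℕ), incrL l p = true →
    (∀ a ∈ l, p ≤ a) ∧ l.Pairwise (· < ·) := by
  intro l
  induction l with
  | nil => exact fun _ _ => ⟨by simp, List.Pairwise.nil⟩
  | cons a t ih =>
    intro p h
    change (Nat.blt p (Nat.succ a) && incrL t (Nat.succ a)) = true at h
    simp only [Bool.and_eq_true, Nat.blt_eq] at h
    obtain ⟨h1, h2⟩ := ih _ h.2
    refine ⟨?_, List.pairwise_cons.2 ⟨fun b hb => h1 b hb, h2⟩⟩
    intro b hb
    rcases List.mem_cons.1 hb with rfl | hb
    · omega
    · have := h1 b hb; omega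

theorem cent_words : centWords.all (fun w => okR w &&
    Nat.beq (fpQ (catR w [0])) (fpQ (0 :: w))) = true := by decide +kernel

theorem cent_incr : incrL (centWords.map fpQ) 0 = true := by decide +kernel

theorem cent_length : centWords.length = 1920 := by decide +kernel

theorem conjW_ok : conjW.all (fun x => Nat.blt x 4) = true ∧
    idQ (conjW.reverse ++ [2] ++ conjW ++ [0]) = true := by decide +kernel

theorem rels_words : relsC ⊆ allRels.map (appWord code code) ∧
    relsD ⊆ allRels.map (appWord code code) ∧ relsCD ⊆ allRels.map (appWord code code) ∧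
    (relsC ++ relsD ++ relsCD).all (fun r => r.all fun x => Nat.blt x 4) = true := by decide +kernel

/-- Scan the centraliser: whoever passes the relators in three letters is listed. -/
noncomputable def scanOK (rels : List (List ℕ)) (j : ℕ) (surv : List ℕ) : List (List ℕ) → ℕ → Bool :=
  fun l => List.rec (motive := fun _ => ℕ → Bool) (fun _ => true)
    (fun w _ ih i => (!(rels.all fun r =>
        idQ (subW (fun x => bif Nat.blt x 2 then imAB j x else w) r)) || surv.contains i) &&
      ih (Nat.succ i)) l

theorem scanC0 : scanOK relsC 0 (survC.getD 0 []) centWords 0 = true := by decide +kernel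

theorem scanC1 : scanOK relsC 1 (survC.getD 1 []) centWords 0 = true := by decide +kernel

theorem scanD0 : scanOK relsD 0 (survD.getD 0 []) centWords 0 = true := by decide +kernel

theorem scanD1 : scanOK relsD 1 (survD.getD 1 []) centWords 0 = true := by decide +kernel

/-- Pairs of survivors passing the other relators are one of the two known pairs. -/
noncomputable def pairsOK : Bool :=
  allBelow (fun j => (survC.getD j []).all fun ic => (survD.getD j []).all fun id' =>
    !(relsCD.all fun r =>
        idQ (subW (imAll j (centWords.getD ic []) (centWords.getD id' [])) r)) ||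
      (Nat.beq j 0 && ((Nat.beq ic idPair.1 && Nat.beq id' idPair.2) ||
        (Nat.beq ic outPair.1 && Nat.beq id' outPair.2)))) 2

theorem pairsOK_true : pairsOK = true := by decide +kernel

/-- The images under the outer automorphism. -/
noncomputable def outIm (x : ℕ) : List ℕ :=
  imAll 0 (centWords.getD outPair.1 []) (centWords.getD outPair.2 []) x

theorem pair_facts : fpQ (centWords.getD idPair.1 []) = fpQ [2] ∧
    fpQ (centWords.getD idPair.2 []) = fpQ [3] ∧
    idQ (centWords.getD outPair.1 [] ++ [2]) = false ∧
    outPair.1 < 1920 ∧ outPair.2 < 1920 ∧ idPair.1 < 1920 ∧ idPair.2 < 1920 := by decide +kernel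

theorem out_rels : allRels.all (fun r => idQ (subW outIm (appWord code code r))) = true := by
  decide +kernel

theorem imAB_ok : imAB 0 0 = [0] ∧ fpQ (imAB 0 1) = fpQ [1] := by decide +kernel

end CfsgLib.Sporadic.J3Out
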