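import Cfsg.Agent.Lib.Sporadic.J3Presented
import Cfsg.Prelude.Def_Sporadic

/-!
# The third Janko group on 6156 points
-/

namespace CfsgLib.Sporadic.CosetCert.J3P

open J3Data (table)

attribute [local irreducible] J3Data.table

theorem perm_group : ∃ H : Subgroup (Equiv.Perm (Fin table.N)), Cfsg.IsJ3 H ∧
    MulAction.IsPretransitive H (Fin table.N) ∧ Nat.card (MulAction.stabilizer H pt) = 8160 := by
  have := finite
  have := isSimple
  let e : PG ≃* hom.range := MonoidHom.ofInjective card_eq.2
  have hc : Nat.card hom.range = 50232960 := by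
    rw [← Nat.card_congr e.toEquiv]; exact card_eq.1
  have : Nontrivial hom.range := e.injective.nontrivial
  have htr : MulAction.IsPretransitive hom.range (Fin table.N) := ⟨fun u v => by
    obtain ⟨a, ha⟩ := transitive u
    obtain ⟨c, hc'⟩ := transitive v
    refine ⟨⟨hom (c * a⁻¹), c * a⁻¹, rfl⟩, ?_⟩
    show hom (c * a⁻¹) u = v
    rw [map_mul, map_inv, Equiv.Perm.mul_apply, ← ha, Equiv.Perm.inv_def, Equiv.symm_apply_apply,
      hc']⟩
  refine ⟨hom.range, ⟨IsSimpleGroup.isSimpleGroup_of_surjective e.toMonoidHom e.surjective, hc⟩,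
    htr, ?_⟩
  have h1 := Nat.card_congr (MulAction.orbitProdStabilizerEquivGroup hom.range pt)
  rw [Nat.card_prod, hc, Nat.card_coe_set_eq, MulAction.orbit_eq_univ, Set.ncard_univ, Nat.card_fin] at h1
  have h2 := (congrArg (fun n => n * Nat.card (MulAction.stabilizer hom.range pt)) table_N).symm.trans h1

  omega

theorem perm_group_6156 : ∃ H : Subgroup (Equiv.Perm (Fin 6156)), Cfsg.IsJ3 H ∧
    MulAction.IsPretransitive H (Fin 6156) ∧
      Nat.card (MulAction.stabilizer H (0 : Fin 6156)) = 8160 := by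
  have h := perm_group
  have key : ∀ (n : ℕ) (hn : n = 6156) (p : Fin n), (p : ℕ) = 0 →
      (∃ H : Subgroup (Equiv.Perm (Fin n)), Cfsg.IsJ3 H ∧
        MulAction.IsPretransitive H (Fin n) ∧ Nat.card (MulAction.stabilizer H p) = 8160) →
      ∃ H : Subgroup (Equiv.Perm (Fin 6156)), Cfsg.IsJ3 H ∧
        MulAction.IsPretransitive H (Fin 6156) ∧
          Nat.card (MulAction.stabilizer H (0 : Fin 6156)) = 8160 := by
    intro n hn p hp
    subst hn
    rw [show p = 0 from Fin.ext hp]
    exact id
  exact key _ table_N pt rfl h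

end CfsgLib.Sporadic.CosetCert.J3P
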