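import Cfsg.Agent.Lib.Sporadic.J3Mat
import Cfsg.Agent.Lib.Sporadic.CosetCertBelow
import Cfsg.Agent.Lib.Sporadic.J3Data.J3PointData

/-!
# Checkers for searches of lines
-/

set_option maxRecDepth 100000

open Matrix Cfsg.Spor CfsgLib.Sporadic.G2Four CfsgLib.Sporadic.CosetCert

namespace CfsgLib.Sporadic.J3Mat

/-- Vectors. -/
abbrev VecJ : Type := F9 → FieldFour

/-- The vector of a code. -/
def toVecJ (c : ℕ) : VecJ := fun z => ofN (coordN c (posJ z))

/-- An entry of a search table. -/
noncomputable def entP (t : Tr) (kb i : ℕ) : ℕ := t.get (Nat.add kb 29) i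

/-- The key of an entry. -/
noncomputable def keyP (t : Tr) (kb i : ℕ) : ℕ := Nat.mod (entP t kb i) (Nat.pow 2 kb)

/-- The depth of an entry. -/
noncomputable def rankP (t : Tr) (kb i : ℕ) : ℕ :=
  Nat.shiftRight (entP t kb i) (Nat.add kb 21)

/-- The predecessor of an entry. -/
noncomputable def predP (t : Tr) (kb i : ℕ) : ℕ :=
  Nat.mod (Nat.shiftRight (entP t kb i) kb) 65536

/-- An entry comes from its predecessor by a step, the root apart. -/
noncomputable def edgeOK (t : Tr) (kb N root : ℕ) (step : ℕ → ℕ → ℕ → ℕ → Bool) (i : ℕ) : Bool :=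
  bif Nat.beq i root then Nat.beq (rankP t kb i) 0
  else Nat.blt (predP t kb i) N && Nat.blt (rankP t kb (predP t kb i)) (rankP t kb i) &&
    step (Nat.mod (Nat.shiftRight (entP t kb i) (Nat.add kb 16)) 8)
      (Nat.mod (Nat.shiftRight (entP t kb i) (Nat.add kb 19)) 4)
      (keyP t kb (predP t kb i)) (keyP t kb i)

/-- Entries from `s` on check. -/
noncomputable def edgesFrom (t : Tr) (kb N root : ℕ) (step : ℕ → ℕ → ℕ → ℕ → Bool) (s n : ℕ) :
    Bool :=
  allBelow (fun i => edgeOK t kb N root step (Nat.add s i)) n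

theorem edgesFrom_spec {t : Tr} {kb N root : ℕ} {step : ℕ → ℕ → ℕ → ℕ → Bool} {s n : ℕ}
    (h : edgesFrom t kb N root step s n = true) :
    ∀ i, s ≤ i → i < s + n → edgeOK t kb N root step i = true := by
  intro i hi hi'
  have h2 := of_allBelow h (i - s) (by omega)
  rwa [show Nat.add s (i - s) = i by simp only [Nat.add_eq]; omega] at h2

theorem forest_induction {t : Tr} {kb N root : ℕ} {step : ℕ → ℕ → ℕ → ℕ → Bool} (P : ℕ → Prop)
    (h : ∀ i < N, edgeOK t kb N root step i = true) (hroot : P (keyP t kb root))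
    (hstep : ∀ g k a b, step g k a b = true → P a → P b) : ∀ i < N, P (keyP t kb i) := by
  suffices ∀ r i, i < N → rankP t kb i = r → P (keyP t kb i) from fun i hi => this _ i hi rfl
  intro r
  induction r using Nat.strong_induction_on with
  | _ r ih =>
    intro i hi hr
    have h1 := h i hi
    unfold edgeOK at h1
    rcases hb : Nat.beq i root
    · rw [hb] at h1
      simp only [cond_false, Bool.and_eq_true, Nat.blt_eq] at h1
      exact hstep _ _ _ _ h1.2 (ih _ (hr ▸ h1.1.2) _ h1.1.1 rfl)
    · rw [Nat.eq_of_beq_eq_true hb]; exact hroot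

/-- The keys increase. -/
noncomputable def incrOK (t : Tr) (kb s n : ℕ) : Bool :=
  allBelow (fun i => Nat.blt (keyP t kb (Nat.add s i)) (keyP t kb (Nat.succ (Nat.add s i)))) n

theorem incrOK_inj {t : Tr} {kb n : ℕ} (h : incrOK t kb 0 n = true) :
    ∀ i ≤ n, ∀ j ≤ n, keyP t kb i = keyP t kb j → i = j := by
  have hstep : ∀ i < n, keyP t kb i < keyP t kb (i + 1) := by
    intro i hi
    have h1 := of_allBelow h i hi
    simp only [Nat.blt_eq, Nat.add_eq, zero_add] at h1
    exact h1
  have hlt : ∀ i j, i < j → j ≤ n → keyP t kb i < keyP t kb j := by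
    intro i j hij
    induction j, hij using Nat.le_induction with
    | base => intro hn; exact hstep i (by omega)
    | succ j hij ih => intro hn; exact (ih (by omega)).trans (hstep j (by omega))
  intro i hi j hj e
  rcases Nat.lt_trichotomy i j with h' | h' | h'
  · exact absurd e (hlt i j h' hj).ne
  · exact h'
  · exact absurd e (hlt j i h' hi).ne'

/-- Apply a matrix given by its nonzero entries. -/
def appE : List (ℕ × ℕ × ℕ) → ℕ → ℕ
  | [], _ => 0
  | e :: t, c => (mulN e.2.2 (coordN c e.2.1) <<< (2 * e.1)) ^^^ appE t c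

/-- Entries in range. -/
def entsJ (es : List (ℕ × ℕ × ℕ)) : Bool :=
  es.all fun e => decide (e.1 < 9) && decide (e.2.1 < 9) && decide (e.2.2 < 4)

/-- The matrix of a list of entries. -/
def entMatJ : List (ℕ × ℕ × ℕ) → MatJ
  | [] => 0
  | e :: t => Matrix.single (idxJ e.1) (idxJ e.2.1) (ofN e.2.2) + entMatJ t

theorem toVecJ_zero : toVecJ 0 = 0 := by
  funext z
  show ofN (coordN 0 (posJ z)) = 0
  rw [coordN_zero, ofN_zero]

theorem toVecJ_appE : ∀ es, entsJ es = true → ∀ c,
    toVecJ (appE es c) = entMatJ es *ᵥ toVecJ c := by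
  intro es
  induction es with
  | nil => intro _ c; rw [entMatJ, Matrix.zero_mulVec]; exact toVecJ_zero
  | cons e t ih =>
    intro h c
    simp only [entsJ, List.all_cons, Bool.and_eq_true, decide_eq_true_eq] at h
    obtain ⟨⟨⟨h1, h2⟩, h3⟩, ht⟩ := h
    have hm := ofN_mulN _ h3 _ (coordN_lt c e.2.1)
    rw [entMatJ, Matrix.add_mulVec, ← ih ht c, Matrix.single_mulVec]
    funext z
    rw [Pi.add_apply, appE]
    show ofN (coordN _ (posJ z)) = _
    rw [ofN_coord_xor, coordN_shift hm.2]
    refine congrArg₂ (· + ·) ?_ rfl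
    by_cases hz : posJ z = e.1
    · rw [if_pos hz, hm.1, show z = idxJ e.1 by rw [← hz, idxJ_posJ], Function.update_self]
      show _ = ofN e.2.2 * ofN (coordN c (posJ (idxJ e.2.1)))
      rw [posJ_idxJ _ h2]
    · rw [if_neg hz, ofN_zero, Function.update_of_ne (fun e' => hz (by rw [e', posJ_idxJ _ h1]))]
      rfl

theorem toVecJ_sclJ {k : ℕ} (hk : k < 4) (c : ℕ) : toVecJ (sclJ k c) = ofN k • toVecJ c := by
  funext z
  exact ofN_coord_sclJ hk c (posJ_lt z)

/-- A step between lines. -/
noncomputable def lineStep (g k a b : ℕ) : Bool :=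
  Nat.blt g 7 && Nat.blt 0 k && Nat.blt k 4 &&
    Nat.beq (appE (selEnts.getD g []) a) (sclJ k b)

/-- The value at the first nonzero coordinate. -/
def leadTo (c : ℕ) (n : ℕ) : ℕ :=
  Nat.rec (motive := fun _ => ℕ) 0
    (fun i ih => bif Nat.beq (coordN c (Nat.sub 8 i)) 0 then ih else coordN c (Nat.sub 8 i)) n

/-- The value at the first nonzero coordinate. -/
def leadJ (c : ℕ) : ℕ := leadTo c 9

/-- Normalised codes. -/
def normJ (c : ℕ) : Bool := Nat.beq (leadJ c) 1 && Nat.blt c 262144

/-- Keys are normalised. -/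
noncomputable def normFrom (t : Tr) (s n : ℕ) : Bool :=
  allBelow (fun i => normJ (keyP t 18 (Nat.add s i))) n

/-- Whether the weight is odd, as a code. -/
def oddJ (c : ℕ) : ℕ := xorBelow (fun i => bif Nat.beq (coordN c i) 0 then 0 else 1) 9

/-- The code number `u` with first nonzero coordinate `j`, equal to one. -/
def leadCode (j u : ℕ) : ℕ := Nat.add (Nat.pow 4 j) (Nat.mul u (Nat.pow 4 (Nat.succ j)))

/-- Walk along the isotropic normalised codes and the table. -/
noncomputable def walkJ (t : Tr) (N j s n p : ℕ) : ℕ :=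
  Nat.rec (motive := fun _ => ℕ) p
    (fun i q =>
      bif Nat.beq (oddJ (leadCode j (Nat.add s i))) 0 then
        (bif Nat.blt q N && Nat.beq (keyP t 18 q) (leadCode j (Nat.add s i)) then Nat.succ q
          else Nat.succ N)
      else q)
    n

theorem walkJ_spec {t : Tr} {N j s n p q : ℕ} (h : walkJ t N j s n p = q) (hq : q ≤ N) :
    ∀ u, s ≤ u → u < s + n → oddJ (leadCode j u) = 0 → ∃ i < N, keyP t 18 i = leadCode j u := by
  induction n generalizing q with
  | zero => intro u hu hu'; omega
  | succ n ih =>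
    intro u hu hu' he
    have hdef : walkJ t N j s (n + 1) p =
        bif Nat.beq (oddJ (leadCode j (Nat.add s n))) 0 then
          (bif Nat.blt (walkJ t N j s n p) N &&
              Nat.beq (keyP t 18 (walkJ t N j s n p)) (leadCode j (Nat.add s n))
            then Nat.succ (walkJ t N j s n p) else Nat.succ N)
        else walkJ t N j s n p := rfl
    rw [hdef] at h
    rcases hb : Nat.beq (oddJ (leadCode j (Nat.add s n))) 0
    · rw [hb] at h
      simp only [cond_false] at h
      rcases Nat.lt_or_eq_of_le (Nat.le_of_lt_succ hu') with h' | rfl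
      · exact ih h hq u hu h' he
      · simp only [Nat.add_eq] at hb he
        rw [he] at hb
        exact absurd hb (by decide)
    · rw [hb] at h
      simp only [cond_true] at h
      rcases hc : (Nat.blt (walkJ t N j s n p) N &&
          Nat.beq (keyP t 18 (walkJ t N j s n p)) (leadCode j (Nat.add s n)))
      · rw [hc] at h; simp only [cond_false] at h; omega
      · rw [hc] at h
        simp only [cond_true] at h
        simp only [Bool.and_eq_true, Nat.blt_eq] at hc
        rcases Nat.lt_or_eq_of_le (Nat.le_of_lt_succ hu') with h' | rfl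
        · exact ih rfl hc.1.le u hu h' he
        · exact ⟨_, hc.1, Nat.eq_of_beq_eq_true hc.2⟩

theorem selEnts_ok : ∀ g < 7, entsJ (selEnts.getD g []) = true ∧
    selNums.getD g 43 < 43 ∧ entMatJ (selEnts.getD g []) = famMat (selNums.getD g 43) := by
  decide +kernel

end CfsgLib.Sporadic.J3Mat
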