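import Cfsg.Agent.Lib.Sporadic.J3Presented
import Cfsg.Agent.Lib.Sporadic.J3Data.J3TwoData
import Cfsg.Agent.Lib.FusionSystem.GroupSimpleLocal
import Cfsg.Agent.Lib.PGroup.Frattini
import Cfsg.Agent.Lib.Solvable.FrattiniFitting

/-!
# The 2-fusion of the third Janko group

Elements are words in the four letters; the images of four points determine an element. The size of a
centralizer of an involution is bounded through the number of conjugates fixing a point.
-/

set_option maxRecDepth 100000
set_option autoImplicit false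
set_option linter.style.haveILetI false

open Cfsg.Spor Subgroup

namespace CfsgLib.Sporadic.CosetCert.J3P.TwoLocal

open J3Data (table sGens sElems sConj qGens qElems yThree yFive fixConj)
open CfsgLib.Fsys.GroupSimpleLocal (localCore)

attribute [local instance] finite

/-- The element of a word. -/
noncomputable abbrev el (L : List ℕ) : PG := appProd coding.gen L

/-- The images of the four base points. -/
noncomputable def key (L : List ℕ) : List ℕ :=
  [0, 2, 1, 3].map fun v => L.foldl (fun w x => table.img x w) v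

/-- All letters are valid. -/
def good (L : List ℕ) : Bool := L.all fun x => decide (x < 4)

theorem good_iff {L : List ℕ} : good L = true ↔ ∀ x ∈ L, x < table.nl := by
  simp [good, show table.nl = 4 from rfl]

theorem el_append : ∀ L L' : List ℕ, el (L ++ L') = el L' * el L
  | [], L' => by simp [el, appProd]
  | x :: t, L' => by
      show el (t ++ L') * coding.gen x = el L' * (el t * coding.gen x)
      rw [el_append t L', mul_assoc]

theorem key_hom {L : List ℕ} (hL : good L = true) (v : Fin table.N) :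
    ((hom (el L) v : Fin table.N) : ℕ) = L.foldl (fun w x => table.img x w) (v : ℕ) :=
  hom_word L (good_iff.1 hL) v

theorem el_eq {L L' : List ℕ} (hL : good L = true) (hL' : good L' = true) (h : key L = key L') :
    el L = el L' := by
  refine eq_of_inv_mul_eq_one (eq_one_of_fix _ fun u hu => ?_)
  have e : hom (el L) u = hom (el L') u := Fin.ext <| by
    rw [key_hom hL, key_hom hL']
    simp only [key, List.map_cons, List.map_nil, List.cons.injEq] at h
    rcases hu with hu | hu | hu | hu <;> rw [hu]
    exacts [h.1, h.2.1, h.2.2.1, h.2.2.2.1]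
  rw [map_mul, map_inv, Equiv.Perm.mul_apply, ← e, Equiv.Perm.inv_def, Equiv.symm_apply_apply]

theorem key_eq {L L' : List ℕ} (hL : good L = true) (hL' : good L' = true) (h : el L = el L') :
    key L = key L' := by
  have hb : ∀ v ∈ ([0, 2, 1, 3] : List ℕ), v < table.N := by decide +kernel
  refine List.map_congr_left fun v hv => ?_
  rw [← key_hom hL ⟨v, hb v hv⟩, ← key_hom hL' ⟨v, hb v hv⟩, h]

theorem gen_sq : ∀ x < 4, key [x, x] = key [] := by decide +kernel

theorem el_reverse : ∀ {L : List ℕ}, good L = true → el L.reverse = (el L)⁻¹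
  | [], _ => by simp [el, appProd]
  | x :: t, h => by
      simp only [good, List.all_cons, Bool.and_eq_true, decide_eq_true_eq] at h
      have hx : coding.gen x * coding.gen x = 1 := by
        have := el_eq (L := [x, x]) (L' := []) (by simp [good, h.1]) rfl (gen_sq x h.1)
        simpa [el, appProd] using this
      rw [List.reverse_cons, el_append, el_reverse (L := t) h.2]
      show el [x] * (el t)⁻¹ = (el t * coding.gen x)⁻¹
      rw [mul_inv_rev, inv_eq_of_mul_eq_one_left hx]
      simp [el, appProd]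

/-- A word for a conjugate. -/
def cw (n x : List ℕ) : List ℕ := n.reverse ++ x ++ n

theorem el_cw {n : List ℕ} (hn : good n = true) (x : List ℕ) :
    el (cw n x) = el n * el x * (el n)⁻¹ := by
  rw [cw, el_append, el_append, el_reverse hn, mul_assoc]

theorem good_append {L L' : List ℕ} (h : good L = true) (h' : good L' = true) :
    good (L ++ L') = true := by
  simp only [good, List.all_append, Bool.and_eq_true] at *
  exact ⟨h, h'⟩

theorem good_reverse {L : List ℕ} (h : good L = true) : good L.reverse = true := by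
  simpa [good] using h

theorem good_cw {n x : List ℕ} (hn : good n = true) (hx : good x = true) : good (cw n x) = true :=
  good_append (good_append (good_reverse hn) hx) hn

/-- The product of listed generators. -/
def word (gs : List (List ℕ)) (w : List ℕ) : List ℕ := (w.map fun i => gs.getD i []).flatten

theorem word_mem (gs : List (List ℕ)) : ∀ w : List ℕ, el (word gs w) ∈ closure {x | ∃ g ∈ gs, el g = x}
  | [] => by simp [word, el, appProd]
  | i :: w => by
      have h := word_mem gs w
      show el (gs.getD i [] ++ word gs w) ∈ _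
      rw [el_append]
      refine mul_mem h ?_
      rw [List.getD_eq_getElem?_getD]
      cases hi : gs[i]? with
      | none => simp [el, appProd]
      | some g => exact subset_closure ⟨g, List.mem_of_getElem? hi, rfl⟩

/-- The subgroup generated by listed words. -/
abbrev gen (gs : List (List ℕ)) : Subgroup PG := closure {x | ∃ g ∈ gs, el g = x}

/-- The listed products form the group generated by the involutions `gs`. -/
noncomputable def closedOK (gs es : List (List ℕ)) : Bool :=
  (gs.all fun g => good g && key (g ++ g) == key []) &&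
    ((es.map (word gs)).all fun e => good e) &&
    ((es.map fun w => key (word gs w)).contains (key [])) &&
    ((es.map (word gs)).all fun e => gs.all fun g =>
      (es.map fun w => key (word gs w)).contains (key (e ++ g)))

theorem gen_spec {gs es : List (List ℕ)} (h : closedOK gs es = true) :
    (∀ w ∈ es, good (word gs w) = true) ∧ ∀ x ∈ gen gs, ∃ w ∈ es, el (word gs w) = x := by
  simp only [closedOK, Bool.and_eq_true, List.all_eq_true, List.mem_map, forall_exists_index, and_imp,
    forall_apply_eq_imp_iff₂, List.contains_iff_mem, beq_iff_eq] at h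
  obtain ⟨⟨⟨hg, he⟩, h1⟩, hm⟩ := h
  have step : ∀ g ∈ gs, ∀ y, (∃ w ∈ es, el (word gs w) = y) → ∃ w ∈ es, el (word gs w) = el g * y := by
    rintro g hg' _ ⟨w, hw, rfl⟩
    obtain ⟨w', hw', e⟩ := hm w hw g hg'
    exact ⟨w', hw', by rw [← el_append]; exact el_eq (he w' hw') (good_append (he w hw) (hg g hg').1) e⟩
  refine ⟨he, fun x hx => ?_⟩
  induction hx using closure_induction_left with
  | one =>
    obtain ⟨w, hw, e⟩ := h1
    exact ⟨w, hw, by rw [el_eq (he w hw) rfl e]; simp [el, appProd]⟩
  | mul_left a ha y hy ih =>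
    obtain ⟨g, hg', rfl⟩ := ha
    exact step g hg' y ih
  | inv_mul_cancel a ha y hy ih =>
    obtain ⟨g, hg', rfl⟩ := ha
    have : (el g)⁻¹ = el g := inv_eq_of_mul_eq_one_left (by
      rw [← el_append, el_eq (good_append (hg g hg').1 (hg g hg').1) rfl (hg g hg').2]
      simp [el, appProd])
    rw [this]
    exact step g hg' y ih

theorem s_closed : closedOK sGens sElems = true := by decide +kernel

theorem q_closed : closedOK qGens qElems = true := by decide +kernel

/-- A Sylow subgroup. -/
abbrev S : Subgroup PG := gen sGens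

/-- Its normal subgroup of order 32. -/
abbrev Q : Subgroup PG := gen qGens

theorem s_card_ok : (sElems.map fun w => key (word sGens w)).Nodup ∧ sElems.length = 128 := by
  decide +kernel

theorem card_S : Nat.card S = 128 := by
  classical
  obtain ⟨hgood, hS⟩ := gen_spec s_closed
  have hnd : (sElems.map fun w => el (word sGens w)).Nodup := by
    rw [List.nodup_map_iff_inj_on (List.Nodup.of_map _ s_card_ok.1)]
    intro a ha b hb e
    exact List.inj_on_of_nodup_map s_card_ok.1 ha hb (key_eq (hgood a ha) (hgood b hb) e)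
  have : (S : Set PG) = ↑(sElems.map fun w => el (word sGens w)).toFinset := by
    ext x
    simp only [List.coe_toFinset, List.mem_map, Set.mem_setOf_eq, SetLike.mem_coe]
    refine ⟨fun hx => hS x hx, ?_⟩
    rintro ⟨w, -, rfl⟩
    exact word_mem _ _
  rw [← SetLike.coe_sort_coe, Nat.card_coe_set_eq, this, Set.ncard_coe_finset,
    List.toFinset_card_of_nodup hnd, List.length_map, s_card_ok.2]

theorem pgroup_S : IsPGroup 2 S := IsPGroup.of_card (n := 7) (by rw [card_S]; norm_num)

/-- The central involution. -/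
noncomputable def z : PG := el [2]

theorem z_ne : z ≠ 1 := by
  intro h
  have h' := key_eq (L := [2]) (L' := []) rfl rfl (h.trans (by simp [el, appProd]))
  exact absurd h' (by decide +kernel)

/-- Two words have equal products in both orders. -/
noncomputable def commOK (a b : List ℕ) : Bool := key (a ++ b) == key (b ++ a)

theorem comm_of_ok {a b : List ℕ} (ha : good a = true) (hb : good b = true) (h : commOK a b = true) :
    el a * el b = el b * el a := by
  rw [← el_append, ← el_append]
  exact (el_eq (good_append ha hb) (good_append hb ha) (beq_iff_eq.1 h)).symm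

theorem not_comm_of_ok {a b : List ℕ} (ha : good a = true) (hb : good b = true) (h : commOK a b = false) :
    el a * el b ≠ el b * el a := by
  intro e
  rw [← el_append, ← el_append] at e
  have : commOK a b = true := beq_iff_eq.2 (key_eq (good_append ha hb) (good_append hb ha) e.symm)
  rw [h] at this
  exact Bool.false_ne_true this

theorem gens_ok : (∀ g ∈ sGens, good g = true ∧ commOK g [2] = true) ∧
    (∀ g ∈ qGens, good g = true ∧ commOK g [2] = true) := by decide +kernel

theorem key_in_ok : key [2] ∈ qElems.map (fun w => key (word qGens w)) ∧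
    (∀ g ∈ qGens, key g ∈ sElems.map fun w => key (word sGens w)) ∧
    (∀ n ∈ sGens, ∀ q ∈ qGens, key (cw n q) ∈ qElems.map fun w => key (word qGens w)) := by
  decide +kernel

theorem mem_S_of_key {L : List ℕ} (hL : good L = true)
    (h : key L ∈ sElems.map fun w => key (word sGens w)) : el L ∈ S := by
  obtain ⟨w, hw, e⟩ := List.mem_map.1 h
  rw [← el_eq ((gen_spec s_closed).1 w hw) hL e]
  exact word_mem _ _

theorem mem_Q_of_key {L : List ℕ} (hL : good L = true)
    (h : key L ∈ qElems.map fun w => key (word qGens w)) : el L ∈ Q := by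
  obtain ⟨w, hw, e⟩ := List.mem_map.1 h
  rw [← el_eq ((gen_spec q_closed).1 w hw) hL e]
  exact word_mem _ _

theorem z_mem_Q : z ∈ Q := mem_Q_of_key rfl key_in_ok.1

theorem Q_le_S : Q ≤ S := (closure_le _).2 (by
  rintro _ ⟨g, hg, rfl⟩
  exact mem_S_of_key (gens_ok.2 g hg).1 (key_in_ok.2.1 g hg))

theorem z_mem_S : z ∈ S := Q_le_S z_mem_Q

/-- The centralizer of the central involution. -/
abbrev C : Subgroup PG := centralizer {z}

theorem S_le_C : S ≤ C := (closure_le _).2 (by
  rintro _ ⟨g, hg, rfl⟩
  exact mem_centralizer_singleton_iff.2 (comm_of_ok (gens_ok.1 g hg).1 rfl (gens_ok.1 g hg).2))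

/-- A word normalising `Q`. -/
noncomputable def normOK (n : List ℕ) : Bool :=
  good n && qGens.all fun q => (qElems.map fun w => key (word qGens w)).contains (key (cw n q))

theorem mem_normalizer_of_ok {n : List ℕ} (h : normOK n = true) : el n ∈ normalizer (Q : Set PG) := by
  simp only [normOK, Bool.and_eq_true, List.all_eq_true, List.contains_iff_mem] at h
  have hle : Q.map (MulAut.conj (el n)).toMonoidHom ≤ Q := by
    rw [MonoidHom.map_closure, closure_le]
    rintro _ ⟨_, ⟨q, hq, rfl⟩, rfl⟩
    show el n * el q * (el n)⁻¹ ∈ Q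
    rw [← el_cw h.1]
    exact mem_Q_of_key (good_cw h.1 (gens_ok.2 q hq).1) (h.2 q hq)
  have heq : Q.map (MulAut.conj (el n)).toMonoidHom = Q :=
    eq_of_le_of_card_ge hle (by rw [card_map_of_injective (MulAut.conj (el n)).injective])
  refine mem_normalizer_iff.2 fun x => ⟨fun hx => heq.le ⟨x, hx, rfl⟩, fun hx => ?_⟩
  obtain ⟨y, hy, e⟩ := heq.ge hx
  rwa [← (MulAut.conj (el n)).injective e]

theorem S_le_normalizer : S ≤ normalizer (Q : Set PG) := (closure_le _).2 (by
  rintro _ ⟨g, hg, rfl⟩
  refine mem_normalizer_of_ok ?_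
  simp only [normOK, Bool.and_eq_true, List.all_eq_true, List.contains_iff_mem]
  exact ⟨(gens_ok.1 g hg).1, fun q hq => key_in_ok.2.2 g hg q hq⟩)

theorem center_ok : ∀ w ∈ sElems, key (word sGens w) = key [] ∨ key (word sGens w) = key [2] ∨
    ((∃ g ∈ sGens, commOK (word sGens w) g = false) ∧ ∃ q ∈ qGens, commOK (word sGens w) q = false) := by
  decide +kernel

theorem eq_one_or_z {x : PG} (hx : x ∈ S)
    (h : (∀ g ∈ sGens, x * el g = el g * x) ∨ ∀ q ∈ qGens, x * el q = el q * x) : x = 1 ∨ x = z := by
  obtain ⟨w, hw, rfl⟩ := (gen_spec s_closed).2 x hx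
  have hgood := (gen_spec s_closed).1 w hw
  rcases center_ok w hw with e | e | ⟨⟨g, hg, e⟩, q, hq, e'⟩
  · exact Or.inl ((el_eq hgood rfl e).trans (by simp [el, appProd]))
  · exact Or.inr (el_eq hgood rfl e)
  · rcases h with h | h
    · exact absurd (h g hg) (not_comm_of_ok hgood (gens_ok.1 g hg).1 e)
    · exact absurd (h q hq) (not_comm_of_ok hgood (gens_ok.2 q hq).1 e')

theorem conj_ok : sConj.length = sGens.length ∧
    ∀ p ∈ sGens.zip sConj, good p.2 = true ∧ key (cw p.2 [2]) = key p.1 := by decide +kernel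

/-- A strongly closed nontrivial subgroup of `S` is everything. -/
theorem le_of_strongly_closed {T : Subgroup PG} (hT : T ≤ S) (hne : T ≠ ⊥)
    (hcl : ∀ g x : PG, x ∈ T → g * x * g⁻¹ ∈ S → g * x * g⁻¹ ∈ T) : S ≤ T := by
  haveI := Fact.mk Nat.prime_two
  haveI := pgroup_S.isNilpotent
  have hN : (T.subgroupOf S).Normal := ⟨fun t ht n =>
    hcl n t ht (mul_mem (mul_mem n.2 (hT ht)) (inv_mem n.2))⟩
  haveI := hN
  have hne' : T.subgroupOf S ≠ ⊥ := by
    rw [Ne, subgroupOf_eq_bot]
    exact fun h => hne (le_bot_iff.1 fun t ht => h.le_bot ⟨ht, hT ht⟩)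
  obtain ⟨y, ⟨hy1, hy2⟩, hy⟩ := (Subgroup.bot_or_exists_ne_one (T.subgroupOf S ⊓ center S)).resolve_left
    (CfsgLib.Solvable.FrattiniFitting.inf_center_ne_bot (T.subgroupOf S) hne')
  have hz : z ∈ T := by
    rcases eq_one_or_z y.2 (Or.inl fun g hg => (congrArg Subtype.val
      (mem_center_iff.1 hy2 ⟨el g, subset_closure ⟨g, hg, rfl⟩⟩)).symm) with h1 | h1
    · exact absurd (Subtype.ext h1) hy
    · exact h1 ▸ hy1
  refine (closure_le _).2 ?_
  rintro _ ⟨g, hg, rfl⟩
  obtain ⟨i, hi, rfl⟩ := List.mem_iff_getElem.1 hg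
  have hi' : i < sConj.length := conj_ok.1.symm ▸ hi
  obtain ⟨hu, he⟩ := conj_ok.2 (sGens[i], sConj[i])
    (List.mem_iff_getElem.2 ⟨i, by simpa using ⟨hi, hi'⟩, List.getElem_zip⟩)
  have e : el sGens[i] = el sConj[i] * z * (el sConj[i])⁻¹ := by
    rw [z, ← el_cw hu]
    exact (el_eq (good_cw hu rfl) (gens_ok.1 _ (List.getElem_mem hi)).1 he).symm
  show el (sGens[i]) ∈ T
  rw [e]
  exact hcl _ z hz (e ▸ subset_closure ⟨_, List.getElem_mem hi, rfl⟩)

theorem fix_ok : fixConj.length = 323 ∧ (fixConj.map fun u => key (cw u [2])).Nodup ∧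
    ∀ u ∈ fixConj, good u = true ∧ (cw u [2]).foldl (fun w x => table.img x w) 0 = 0 := by decide +kernel

theorem fixed_ok : ((List.range 6156).filter fun v => table.img 2 v == v).length = 76 := by decide +kernel

theorem card_C_le : Nat.card C ≤ 1920 := by
  classical
  haveI : Fintype PG := Fintype.ofFinite PG
  set X : Finset PG := Finset.univ.filter fun x => IsConj z x
  have hz : (Finset.univ.filter fun v : Fin table.N => hom z v = v).card = 76 := by
    rw [← fixed_ok, ← Finset.card_map Fin.valEmbedding, ← List.toFinset_card_of_nodup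
      ((List.nodup_range).filter _)]
    congr 1
    ext v
    simp only [Finset.mem_map, Finset.mem_filter, Finset.mem_univ, true_and, List.mem_toFinset,
      List.mem_filter, List.mem_range, Fin.valEmbedding_apply, beq_iff_eq]
    constructor
    · rintro ⟨u, hu, rfl⟩
      refine ⟨lt_of_lt_of_eq u.2 table_N, ?_⟩
      have := key_hom (L := [2]) rfl u
      rw [show hom (el [2]) u = u from hu] at this
      exact this.symm
    · rintro ⟨hv, e⟩
      refine ⟨⟨v, by rw [table_N]; exact hv⟩, Fin.ext ?_, rfl⟩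
      rw [z, key_hom rfl]
      exact e
  have hrow : ∀ x ∈ X, (Finset.univ.filter fun v : Fin table.N => hom x v = v).card = 76 := by
    intro x hx
    obtain ⟨g, rfl⟩ := isConj_iff.1 (Finset.mem_filter.1 hx).2
    rw [← hz]
    refine Finset.card_equiv (hom g).symm fun v => ?_
    simp only [Finset.mem_filter, Finset.mem_univ, true_and, map_mul, map_inv, Equiv.Perm.mul_apply,
      Equiv.Perm.inv_def]
    exact (hom g).apply_eq_iff_eq_symm_apply.trans Iff.rfl
  have hcol : ∀ v : Fin table.N, 323 ≤ (X.filter fun x => hom x v = v).card := by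
    intro v
    obtain ⟨a, rfl⟩ := transitive v
    obtain ⟨hlen, hnd, hu⟩ := fix_ok
    have hinj : (fixConj.map fun u => el (cw u [2])).Nodup := by
      rw [List.nodup_map_iff_inj_on (List.Nodup.of_map _ hnd)]
      intro p hp q hq e
      exact List.inj_on_of_nodup_map hnd hp hq
        (key_eq (good_cw (hu p hp).1 rfl) (good_cw (hu q hq).1 rfl) e)
    refine le_of_eq_of_le ?_ (Finset.card_le_card_of_injOn
      (s := (fixConj.map fun u => el (cw u [2])).toFinset) (fun x => a * x * a⁻¹) ?_ ?_)
    · rw [List.toFinset_card_of_nodup hinj, List.length_map, hlen]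
    · intro x hx
      simp only [List.coe_toFinset, List.mem_map, Set.mem_setOf_eq] at hx
      obtain ⟨u, hu', rfl⟩ := hx
      simp only [Finset.coe_filter, Set.mem_setOf_eq, X, Finset.mem_filter, Finset.mem_univ, true_and]
      refine ⟨isConj_iff.2 ⟨a * el u, by rw [el_cw (hu u hu').1, z]; group⟩, ?_⟩
      have e : hom (el (cw u [2])) pt = pt := Fin.ext <| by
        rw [key_hom (good_cw (hu u hu').1 rfl)]
        exact (hu u hu').2
      simp only [map_mul, map_inv, Equiv.Perm.mul_apply, Equiv.Perm.inv_def, Equiv.symm_apply_apply, e]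
    · intro p _ q _ e
      exact mul_left_cancel (mul_right_cancel e)
  have h1 : Fintype.card (Fin table.N) * 323 ≤ X.card * 76 := by
    have h2 : ∑ x ∈ X, (Finset.univ.filter fun v : Fin table.N => hom x v = v).card = X.card * 76 := by
      rw [Finset.sum_congr rfl hrow, Finset.sum_const, smul_eq_mul]
    have h3 := Finset.sum_card_bipartiteAbove_eq_sum_card_bipartiteBelow
      (fun (x : PG) (v : Fin table.N) => hom x v = v) (s := X) (t := Finset.univ)
    simp only [Finset.bipartiteAbove, Finset.bipartiteBelow] at h3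
    rw [← h2, h3]
    exact (Finset.card_nsmul_le_sum _ _ 323 fun v _ => hcol v).trans' (by rw [Finset.card_univ, smul_eq_mul])
  rw [Fintype.card_fin, table_N] at h1
  have h4 : Nat.card (MulAction.orbit (ConjAct PG) z) = X.card := by
    rw [Nat.card_coe_set_eq, ← Set.ncard_coe_finset]
    congr 1
    ext x
    simp only [X, Finset.coe_filter, Finset.mem_univ, true_and, Set.mem_setOf_eq, ConjAct.mem_orbit_conjAct]
    exact isConj_comm
  have h5 := Nat.card_congr (MulAction.orbitProdStabilizerEquivGroup (ConjAct PG) z)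
  rw [Nat.card_prod, h4, show Nat.card (ConjAct PG) = 50232960 from card_eq.1] at h5
  have h6 : Nat.card (MulAction.stabilizer (ConjAct PG) z) = Nat.card C := by
    rw [ConjAct.stabilizer_eq_centralizer]
    rfl
  rw [h6] at h5
  by_contra hc
  push Not at hc
  have h7 : 26163 ≤ X.card := by omega
  have := Nat.mul_le_mul h7 hc
  omega

/-- The witnessed product of order three or five. -/
noncomputable def yWord (d : List ℕ × ℕ × ℕ × ℕ) : List ℕ :=
  cw d.1 (sGens.getD d.2.1 []) ++ word sGens (sElems.getD d.2.2.1 [])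

/-- The checks on a witness. -/
noncomputable def yOK (r : ℕ) (d : List ℕ × ℕ × ℕ × ℕ) : Bool :=
  normOK d.1 && decide (d.2.1 < sGens.length) && decide (d.2.2.1 < sElems.length) &&
    decide (d.2.2.2 < qGens.length) &&
    key ((List.replicate r (yWord d)).flatten) == key [] &&
    key (yWord d) != key [] && commOK d.1 [2] && !commOK (yWord d) (qGens.getD d.2.2.2 [])

theorem y_ok : yOK 3 yThree = true ∧ yOK 5 yFive = true := by decide +kernel

theorem el_replicate (L : List ℕ) : ∀ r : ℕ, el ((List.replicate r L).flatten) = el L ^ r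
  | 0 => by simp [el, appProd]
  | r + 1 => by rw [List.replicate_succ, List.flatten_cons, el_append, el_replicate L r, pow_succ]

theorem y_spec {r : ℕ} (hr : r.Prime) {d : List ℕ × ℕ × ℕ × ℕ} (h : yOK r d = true) :
    ∃ y : PG, y ∈ C ∧ y ∈ localCore S Q ∧ orderOf y = r ∧ y ∉ centralizer (Q : Set PG) := by
  simp only [yOK, Bool.and_eq_true, decide_eq_true_eq, Bool.not_eq_true', bne_iff_ne, beq_iff_eq] at h
  obtain ⟨⟨⟨⟨⟨⟨⟨hn, h1⟩, h2⟩, h3⟩, hpow⟩, hne⟩, hnz⟩, hnc⟩ := h
  have hgn : good d.1 = true := by
    simp only [normOK, Bool.and_eq_true] at hn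
    exact hn.1
  have hg1 : sGens.getD d.2.1 [] ∈ sGens := by
    rw [List.getD_eq_getElem _ _ h1]
    exact List.getElem_mem h1
  have hg3 : qGens.getD d.2.2.2 [] ∈ qGens := by
    rw [List.getD_eq_getElem _ _ h3]
    exact List.getElem_mem h3
  have hw : good (word sGens (sElems.getD d.2.2.1 [])) = true := by
    rw [List.getD_eq_getElem _ _ h2]
    exact (gen_spec s_closed).1 _ (List.getElem_mem h2)
  have hgy : good (yWord d) = true := good_append (good_cw hgn (gens_ok.1 _ hg1).1) hw
  have hnC : el d.1 ∈ C := mem_centralizer_singleton_iff.2 (comm_of_ok hgn rfl hnz)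
  have hsS : el (word sGens (sElems.getD d.2.2.1 [])) ∈ S := word_mem _ _
  have hxS : el (sGens.getD d.2.1 []) ∈ S := subset_closure ⟨_, hg1, rfl⟩
  have e : el (yWord d) = el (word sGens (sElems.getD d.2.2.1 [])) *
      (el d.1 * el (sGens.getD d.2.1 []) * (el d.1)⁻¹) := by
    rw [yWord, el_append, el_cw hgn]
  refine ⟨el (yWord d), ?_, ?_, ?_, fun hc => ?_⟩
  · rw [e]
    exact mul_mem (S_le_C hsS) (mul_mem (mul_mem hnC (S_le_C hxS)) (inv_mem hnC))
  · rw [e]
    exact mul_mem (CfsgLib.Fsys.GroupSimpleLocal.mem_localCore hsS (S_le_normalizer hsS))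
      (subset_closure ⟨_, mem_normalizer_of_ok hn, _, hxS, S_le_normalizer hxS, rfl⟩)
  · haveI := Fact.mk hr
    refine orderOf_eq_prime ?_ fun h' => hne ?_
    · rw [← el_replicate]
      have hgr : good ((List.replicate r (yWord d)).flatten) = true := by
        simp only [good, List.all_eq_true, List.mem_flatten, List.mem_replicate] at hgy ⊢
        rintro x ⟨l, ⟨-, rfl⟩, hx⟩
        exact hgy x hx
      rw [el_eq hgr rfl hpow]
      simp [el, appProd]
    · exact key_eq hgy rfl (h'.trans (by simp [el, appProd]))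
  · exact not_comm_of_ok hgy (gens_ok.2 _ hg3).1 hnc
      (mem_centralizer_iff.1 hc _ (subset_closure ⟨_, hg3, rfl⟩)).symm

theorem C_le_localCore : C ≤ localCore S Q := by
  haveI := Fact.mk Nat.prime_two
  obtain ⟨y3, hy3C, hy3L, hy3o, -⟩ := y_spec (by norm_num) y_ok.1
  obtain ⟨y5, hy5C, hy5L, hy5o, -⟩ := y_spec (by norm_num) y_ok.2
  set L : Subgroup PG := localCore S Q ⊓ C
  have hS : 128 ∣ Nat.card L := card_S ▸ card_dvd_of_le (le_inf
    (fun x hx => CfsgLib.Fsys.GroupSimpleLocal.mem_localCore hx (S_le_normalizer hx)) S_le_C)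
  have h3 : 3 ∣ Nat.card L := hy3o ▸ orderOf_dvd_natCard L ⟨hy3L, hy3C⟩
  have h5 : 5 ∣ Nat.card L := hy5o ▸ orderOf_dvd_natCard L ⟨hy5L, hy5C⟩
  have h : 1920 ≤ Nat.card L := Nat.le_of_dvd Nat.card_pos
    (Nat.Coprime.mul_dvd_of_dvd_of_dvd (m := 128 * 3) (by norm_num)
      (Nat.Coprime.mul_dvd_of_dvd_of_dvd (by norm_num) hS h3) h5)
  exact (eq_of_le_of_card_ge (inf_le_right : L ≤ C) (card_C_le.trans h)).ge.trans inf_le_left

theorem card_C : Nat.card C = 1920 := by
  refine le_antisymm card_C_le ?_
  obtain ⟨y3, hy3C, -, hy3o, -⟩ := y_spec (by norm_num) y_ok.1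
  obtain ⟨y5, hy5C, -, hy5o, -⟩ := y_spec (by norm_num) y_ok.2
  exact Nat.le_of_dvd Nat.card_pos (Nat.Coprime.mul_dvd_of_dvd_of_dvd (m := 128 * 3) (by norm_num)
    (Nat.Coprime.mul_dvd_of_dvd_of_dvd (by norm_num) (card_S ▸ card_dvd_of_le S_le_C)
      (hy3o ▸ orderOf_dvd_natCard C hy3C)) (hy5o ▸ orderOf_dvd_natCard C hy5C))

theorem centralizer_Q : centralizer (Q : Set PG) ≤ Q := by
  haveI := Fact.mk Nat.prime_two
  set K : Subgroup PG := centralizer (Q : Set PG)
  have hKC : K ≤ C := fun g hg =>
    mem_centralizer_singleton_iff.2 (mem_centralizer_iff.1 hg z z_mem_Q).symm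
  have hCN : C ≤ normalizer (Q : Set PG) :=
    C_le_localCore.trans (CfsgLib.Fsys.GroupSimpleLocal.localCore_le_normalizer _ _)
  haveI hN : (K.subgroupOf C).Normal := ⟨fun k hk c => by
    rw [mem_subgroupOf, mem_centralizer_iff] at hk ⊢
    intro q hq
    have h := hk ((c : PG)⁻¹ * q * c) (by
      have := (mem_normalizer_iff.1 (inv_mem (hCN c.2)) q).1 hq
      simpa using this)
    push_cast
    calc q * ((c : PG) * k * (c : PG)⁻¹) = c * ((c : PG)⁻¹ * q * c * k) * (c : PG)⁻¹ := by group
      _ = c * ((k : PG) * ((c : PG)⁻¹ * q * c)) * (c : PG)⁻¹ := by rw [h]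
      _ = _ := by group⟩
  have key' : ∀ r : ℕ, r.Prime → 1920 = r * (1920 / r) → ¬ r ∣ 1920 / r →
      ∀ y : PG, y ∈ C → orderOf y = r → y ∉ K → ¬ r ∣ Nat.card K := by
    intro r hr hsplit hnd y hy ho hyK hdvd
    haveI := Fact.mk hr
    have hcard : r ∣ Nat.card (K.subgroupOf C) := by
      rwa [Nat.card_congr (subgroupOfEquivOfLe hKC).toEquiv]
    obtain ⟨w, hw⟩ := exists_prime_orderOf_dvd_card' r hcard
    have hoy : orderOf (⟨y, hy⟩ : C) = r := by rw [← Subgroup.orderOf_coe]; exact ho
    have how : orderOf (w : C) = r := by rw [Subgroup.orderOf_coe]; exact hw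
    have mk : ∀ a : C, orderOf a = r → ∃ P : Sylow r C, (P : Subgroup C) = zpowers a := by
      intro a ha
      have hp : IsPGroup r (zpowers a) := IsPGroup.of_card (n := 1) (by rw [Nat.card_zpowers, ha, pow_one])
      have hi : ¬ r ∣ (zpowers a).index := by
        have h := (zpowers a).card_mul_index
        rw [Nat.card_zpowers, ha, card_C, hsplit] at h
        rw [Nat.eq_of_mul_eq_mul_left hr.pos h]
        exact hnd
      exact ⟨hp.toSylow hi, IsPGroup.toSylow_coe _ _⟩
    obtain ⟨P, hP⟩ := mk ⟨y, hy⟩ hoy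
    obtain ⟨P', hP'⟩ := mk w how
    obtain ⟨g, hg⟩ := MulAction.exists_smul_eq C P' P
    have hle : (P : Subgroup C) ≤ K.subgroupOf C := by
      rw [← hg, Sylow.coe_subgroup_smul, hP']
      rintro _ ⟨a, ha, rfl⟩
      exact hN.conj_mem a ((zpowers_le.2 w.2) ha) g
    exact hyK (hle (hP ▸ mem_zpowers (⟨y, hy⟩ : C)))
  obtain ⟨y3, hy3C, -, hy3o, hy3K⟩ := y_spec (by norm_num) y_ok.1
  obtain ⟨y5, hy5C, -, hy5o, hy5K⟩ := y_spec (by norm_num) y_ok.2
  have h3 := key' 3 (by norm_num) (by norm_num) (by norm_num) y3 hy3C hy3o hy3K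
  have h5 := key' 5 (by norm_num) (by norm_num) (by norm_num) y5 hy5C hy5o hy5K
  have hd : Nat.card K ∣ 2 ^ 7 * (3 * 5) := by
    rw [show 2 ^ 7 * (3 * 5) = Nat.card C by rw [card_C]; norm_num]
    exact card_dvd_of_le hKC
  have hd' : Nat.card K ∣ 2 ^ 7 := Nat.Coprime.dvd_of_dvd_mul_right
    (Nat.Coprime.mul_right ((Nat.Prime.coprime_iff_not_dvd (by norm_num)).2 h3).symm
      ((Nat.Prime.coprime_iff_not_dvd (by norm_num)).2 h5).symm) hd
  obtain ⟨j, -, hj⟩ := (Nat.dvd_prime_pow Nat.prime_two).1 hd'
  have hKp : IsPGroup 2 (K.subgroupOf C) :=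
    IsPGroup.of_card (n := j) (by rw [Nat.card_congr (subgroupOfEquivOfLe hKC).toEquiv, hj])
  have hidx : ¬ 2 ∣ (S.subgroupOf C).index := by
    have h := (S.subgroupOf C).card_mul_index
    rw [Nat.card_congr (subgroupOfEquivOfLe S_le_C).toEquiv, card_S, card_C] at h
    omega
  have hSp : IsPGroup 2 (S.subgroupOf C) := pgroup_S.of_equiv (subgroupOfEquivOfLe S_le_C).symm
  have hsup : K.subgroupOf C ≤ S.subgroupOf C :=
    le_sup_left.trans ((hSp.toSylow hidx).is_maximal' (hKp.to_sup_of_normal_left hSp) le_sup_right).le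
  intro g hg
  rcases eq_one_or_z (x := g) (hsup (show (⟨g, hKC hg⟩ : C) ∈ K.subgroupOf C from hg))
    (Or.inr fun q hq => (mem_centralizer_iff.1 hg _ (subset_closure ⟨q, hq, rfl⟩)).symm) with e | e
  · rw [e]; exact one_mem _
  · rw [e]; exact z_mem_Q

theorem normalizer_le_localCore : normalizer (S : Set PG) ≤ localCore S Q := by
  refine le_trans (fun n hn => mem_centralizer_singleton_iff.2 ?_) C_le_localCore
  have hm : n * z * n⁻¹ ∈ S := (mem_normalizer_iff.1 hn z).1 z_mem_S
  have hc : ∀ g ∈ sGens, n * z * n⁻¹ * el g = el g * (n * z * n⁻¹) := by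
    intro g hg
    have hg' : n⁻¹ * el g * n ∈ S := by
      have := (mem_normalizer_iff.1 (inv_mem hn) (el g)).1 (subset_closure ⟨g, hg, rfl⟩)
      simpa using this
    have e : z * (n⁻¹ * el g * n) = (n⁻¹ * el g * n) * z :=
      (mem_centralizer_singleton_iff.1 (S_le_C hg')).symm
    calc n * z * n⁻¹ * el g = n * (z * (n⁻¹ * el g * n)) * n⁻¹ := by group
      _ = n * ((n⁻¹ * el g * n) * z) * n⁻¹ := by rw [e]
      _ = el g * (n * z * n⁻¹) := by group
  rcases eq_one_or_z hm (Or.inl hc) with h | h
  · exact absurd (conj_eq_one_iff.1 h) z_ne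
  · exact mul_inv_eq_iff_eq_mul.1 h

/-- The 2-fusion system of a group isomorphic to the presented group is simple. -/
theorem isSimple_fusion {G : Type*} [Group G] [Finite G] (e₀ : G ≃* PG) (P : Sylow 2 G) :
    (Cfsg.groupFusionSystem (P : Subgroup G)).IsSimple 2 := by
  haveI := Fact.mk Nat.prime_two
  have hidx : ¬ 2 ∣ S.index := by
    have h := S.card_mul_index
    rw [card_S, card_eq.1] at h
    omega
  obtain ⟨g, hg⟩ := MulAction.exists_smul_eq PG (P.mapSurjective (f := e₀.toMonoidHom) e₀.surjective)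
    (pgroup_S.toSylow hidx)
  set e : G ≃* PG := e₀.trans (MulAut.conj g)
  have hS : (P : Subgroup G).map e.toMonoidHom = S := by
    have := congrArg (fun T : Sylow 2 PG => (T : Subgroup PG)) hg
    simp only [IsPGroup.toSylow_coe, Sylow.coe_subgroup_smul] at this
    rw [← this]
    show (P : Subgroup G).map ((MulAut.conj g).toMonoidHom.comp e₀.toMonoidHom) = _
    rw [← Subgroup.map_map]
    rfl
  have hmem : ∀ x, x ∈ (P : Subgroup G) ↔ e x ∈ S := fun x => by
    rw [← hS]; exact (mem_map_iff_mem e.injective).symm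
  refine CfsgLib.Fsys.GroupSimpleLocal.isSimple P ?_ ?_ ?_
  · intro h
    have := card_S
    rw [← hS, h, Subgroup.map_bot, card_bot] at this
    omega
  · intro T hT hne hcl x hx
    have key := le_of_strongly_closed (T := T.map e.toMonoidHom) ((map_mono hT).trans hS.le)
      (fun h => hne ((map_eq_bot_iff_of_injective _ e.injective).mp h)) fun g y hy hgy => by
        obtain ⟨t, ht, rfl⟩ := hy
        obtain ⟨g, rfl⟩ := e.surjective g
        have he : e g * e t * (e g)⁻¹ = e (g * t * g⁻¹) := by simp
        refine ⟨g * t * g⁻¹, hcl g t ht ((hmem _).mpr ?_), he.symm⟩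
        rw [← he]; exact hgy
    exact (mem_map_iff_mem e.injective).mp (key ((hmem x).mp hx))
  · intro n hn
    refine subset_closure (Or.inr ⟨hn, Q.comap e.toMonoidHom, fun r hr => (hmem r).mpr (Q_le_S hr),
      fun x hx => centralizer_Q (mem_centralizer_iff.mpr fun q hq => ?_), ?_⟩)
    · obtain ⟨r, rfl⟩ := e.surjective q
      exact ((map_mul e r x).symm.trans (congrArg e (mem_centralizer_iff.mp hx r hq))).trans (map_mul e x r)
    · have hnorm : e n ∈ normalizer (S : Set PG) := mem_normalizer_iff.mpr fun y => by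
        obtain ⟨y, rfl⟩ := e.surjective y
        rw [← map_mul, ← map_inv, ← map_mul, ← hmem, ← hmem]
        exact mem_normalizer_iff.mp hn y
      have hle : localCore S Q ≤ (localCore (P : Subgroup G) (Q.comap e.toMonoidHom)).map e.toMonoidHom := by
        refine (closure_le _).mpr ?_
        rintro _ ⟨m, hm, x, hx, hxN, rfl⟩
        obtain ⟨m, rfl⟩ := e.surjective m
        obtain ⟨x, rfl⟩ := e.surjective x
        have pull : ∀ {a : G}, e a ∈ normalizer (Q : Set PG) → a ∈ normalizer (Q.comap e.toMonoidHom : Set G) :=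
          fun {a} ha => mem_normalizer_iff.mpr fun b => by
            simp only [SetLike.mem_coe, mem_comap, MulEquiv.coe_toMonoidHom, map_mul, map_inv]
            exact mem_normalizer_iff.mp ha (e b)
        exact ⟨m * x * m⁻¹, subset_closure ⟨m, pull hm, x, (hmem x).mpr hx, pull hxN, rfl⟩, by simp⟩
      exact (mem_map_iff_mem e.injective).mp (hle (normalizer_le_localCore hnorm))

end CfsgLib.Sporadic.CosetCert.J3P.TwoLocal
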