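import Cfsg.Agent.Lib.Sporadic.J3Group
import Cfsg.Prelude.Def_Classical
import Cfsg.Prelude.Def_Sporadic

/-!
# The triple cover of the third Janko group inside SU(9, 2)
-/

set_option maxRecDepth 100000

open Matrix Cfsg.Spor CfsgLib.Sporadic.G2Four

namespace CfsgLib.Sporadic.J3Mat

/-- Indices in a line. -/
def idxEquiv : F9 ≃ Fin 9 where
  toFun z := ⟨posJ z, posJ_lt z⟩
  invFun n := idxJ n
  left_inv := idxJ_posJ
  right_inv n := Fin.ext (posJ_idxJ n n.2)

theorem sq_add (x y : FieldFour) : (x + y) ^ 2 = x ^ 2 + y ^ 2 := by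
  revert x y; decide +kernel

theorem det_sq_one (i : ℕ) : (toMatJ (xCode i)).det = 1 := by
  have h := congrArg Matrix.det (xCode_sq i)
  rw [Matrix.det_mul, Matrix.det_one] at h
  have key : ∀ x : FieldFour, x * x = 1 → x = 1 := by decide +kernel
  exact key _ h

theorem fam_herm : ∀ n < 4,
    (toMatJ (invCodes.getD n []))ᵀ * (toMatJ (invCodes.getD n [])).map (fun x => x ^ 2) = 1 := by
  decide +kernel

/-- Units with determinant one preserving the Hermitian form. -/
def unit9 : Subgroup (GL F9 FieldFour) where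
  carrier := {g | (g : MatJ).det = 1 ∧ (g : MatJ)ᵀ * (g : MatJ).map (fun x => x ^ 2) = 1}
  one_mem' := by
    refine ⟨by simp, ?_⟩
    simp [Matrix.map_one]
  mul_mem' {a b} ha hb := by
    refine ⟨by rw [Units.val_mul, Matrix.det_mul, ha.1, hb.1, mul_one], ?_⟩
    let f : FieldFour →+* FieldFour :=
      { toFun := fun x => x ^ 2
        map_one' := one_pow 2
        map_mul' := fun x y => mul_pow x y 2
        map_zero' := zero_pow (by norm_num)
        map_add' := sq_add }
    have e : ∀ M : MatJ, M.map (fun x => x ^ 2) = M.map f := fun _ => rfl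
    rw [Units.val_mul, e, Matrix.map_mul, Matrix.transpose_mul, mul_assoc, ← mul_assoc _ _ (b.1.map f),
      ← e, ha.2, one_mul, ← e, hb.2]
  inv_mem' {a} ha := by
    have hfin : IsOfFinOrder a := isOfFinOrder_of_finite a
    obtain ⟨n, hn⟩ := (mem_powers_iff_mem_zpowers (x := a) (y := a⁻¹)).2
      (inv_mem (Subgroup.mem_zpowers a))
    rw [← hn]
    clear hn
    induction n with
    | zero => exact ⟨by simp, by simp [Matrix.map_one]⟩
    | succ n ih =>
      show a ^ (n + 1) ∈ {g : GL F9 FieldFour | _}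
      rw [pow_succ]
      let f : FieldFour →+* FieldFour :=
        { toFun := fun x => x ^ 2
          map_one' := one_pow 2
          map_mul' := fun x y => mul_pow x y 2
          map_zero' := zero_pow (by norm_num)
          map_add' := sq_add }
      have e : ∀ M : MatJ, M.map (fun x => x ^ 2) = M.map f := fun _ => rfl
      refine ⟨by rw [Units.val_mul, Matrix.det_mul, ih.1, ha.1, mul_one], ?_⟩
      rw [Units.val_mul, e, Matrix.map_mul, Matrix.transpose_mul, mul_assoc,
        ← mul_assoc _ _ (a.1.map f), ← e, ih.2, one_mul, ← e, ha.2]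

theorem xUnit_mem_unit9 (i : ℕ) : xUnit i ∈ unit9 :=
  ⟨det_sq_one i, fam_herm _ (Nat.mod_lt _ (by norm_num))⟩

theorem scalar_facts : ∀ x : FieldFour, x ≠ 0 → x ^ 9 = 1 ∧ x * x ^ 2 = 1 := by decide +kernel

theorem scalU_mem_unit9 (c : FieldFourˣ) : scalU c ∈ unit9 := by
  obtain ⟨h1, h2⟩ := scalar_facts c c.ne_zero
  refine ⟨?_, ?_⟩
  · rw [scalU_val, Matrix.det_smul, Matrix.det_one, mul_one,
      show Fintype.card F9 = 9 from rfl, h1]
  · rw [scalU_val, Matrix.smul_one_eq_diagonal, Matrix.diagonal_transpose,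
      Matrix.diagonal_map (f := fun x : FieldFour => x ^ 2) (by simp), Matrix.diagonal_mul_diagonal]
    simp [h2]

theorem T3_le_unit9 : T3 ≤ unit9 := by
  rw [T3_eq, Subgroup.closure_le]
  rintro _ ⟨n, -, rfl⟩
  exact mul_mem (scalU_mem_unit9 _) (appProd_mem _ _ _ fun a _ => xUnit_mem_unit9 a)

/-- Into the special linear group on a line of nine indices. -/
def toSL : T3 →* Matrix.SpecialLinearGroup (Fin 9) FieldFour where
  toFun g := ⟨Matrix.reindex idxEquiv idxEquiv (g.1 : MatJ), by
    rw [Matrix.det_reindex_self]; exact (T3_le_unit9 g.2).1⟩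
  map_one' := Subtype.ext (by simp)
  map_mul' a b := Subtype.ext (by
    simp only [Subgroup.coe_mul, Units.val_mul, Matrix.SpecialLinearGroup.coe_mul,
      Matrix.reindex_apply]
    exact (Matrix.submatrix_mul_equiv _ _ _ _ _).symm)

theorem toSL_injective : Function.Injective toSL := fun a b e =>
  Subtype.ext (Units.ext ((Matrix.reindex idxEquiv idxEquiv).injective (congrArg Subtype.val e)))

theorem toSL_mem_SU (g : T3) : toSL g ∈ Cfsg.SU 9 FieldFour 2 := by
  intro u v
  obtain ⟨-, h⟩ := T3_le_unit9 g.2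
  let M : Matrix (Fin 9) (Fin 9) FieldFour := Matrix.reindex idxEquiv idxEquiv (g.1 : MatJ)
  have hM : Mᵀ * M.map (fun x => x ^ 2) = 1 := by
    have h' := congrArg (Matrix.reindex idxEquiv idxEquiv) h
    simp only [Matrix.reindex_apply] at h'
    rw [← Matrix.submatrix_mul_equiv _ _ _ idxEquiv.symm _] at h'
    simpa [M, Matrix.transpose_submatrix, Matrix.submatrix_map] using h'
  show Cfsg.hermForm 9 FieldFour 2 (M *ᵥ u) (M *ᵥ v) = Cfsg.hermForm 9 FieldFour 2 u v
  have key : ∀ a b, Cfsg.hermForm 9 FieldFour 2 a b = a ⬝ᵥ fun i => b i ^ 2 := fun _ _ => rfl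
  have hsq : (fun i => (M *ᵥ v) i ^ 2) = M.map (fun x => x ^ 2) *ᵥ fun i => v i ^ 2 := by
    funext i
    simp only [Matrix.mulVec, dotProduct, Matrix.map_apply]
    have hs : ∀ (s : Finset (Fin 9)) (f : Fin 9 → FieldFour),
        (∑ j ∈ s, f j) ^ 2 = ∑ j ∈ s, f j ^ 2 := by
      intro s f
      induction s using Finset.induction_on with
      | empty => simp
      | insert a s ha ih => rw [Finset.sum_insert ha, Finset.sum_insert ha, sq_add, ih]
    rw [hs]
    exact Finset.sum_congr rfl fun j _ => mul_pow _ _ 2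
  rw [key, key, hsq, Matrix.dotProduct_mulVec, Matrix.vecMul_mulVec, hM, Matrix.vecMul_one]

theorem su9_subgroup : ∃ (F : Type) (_ : Field F) (_ : Fintype F), Fintype.card F = 4 ∧
    ∃ H : Subgroup (Cfsg.SU 9 F 2),
      Nat.card (Subgroup.center H) = 3 ∧ Cfsg.IsJ3 (H ⧸ Subgroup.center H) := by
  refine ⟨FieldFour, inferInstance, inferInstance, FieldFour.card_eq, ?_⟩
  let φ : T3 →* Cfsg.SU 9 FieldFour 2 := toSL.codRestrict _ toSL_mem_SU
  have hφ : Function.Injective φ := fun a b e => toSL_injective (congrArg Subtype.val e)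
  let e : T3 ≃* φ.range := MonoidHom.ofInjective hφ
  have hcen : (Subgroup.center T3).map e.toMonoidHom = Subgroup.center φ.range := by
    ext g
    rw [Subgroup.mem_map_equiv, Subgroup.mem_center_iff, Subgroup.mem_center_iff]
    constructor
    · intro h x
      have := congrArg e (h (e.symm x))
      simpa using this
    · intro h x
      apply e.injective
      simpa using h (e x)
  refine ⟨φ.range, ?_, ?_⟩
  · rw [← hcen, Subgroup.card_map_of_injective (f := e.toMonoidHom) e.injective, center_card]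
  · let q : Q3 ≃* φ.range ⧸ Subgroup.center φ.range := QuotientGroup.congr _ _ e hcen
    have := q3_simple
    have : Nontrivial (φ.range ⧸ Subgroup.center φ.range) := q.injective.nontrivial
    exact ⟨IsSimpleGroup.isSimpleGroup_of_surjective q.toMonoidHom q.surjective,
      by rw [← Nat.card_congr q.toEquiv, q3_card]⟩

end CfsgLib.Sporadic.J3Mat
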