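import Cfsg.Agent.Lib.Sporadic.J4Rep.Checks

/-!
# In the presented fourth Janko group the generator `x` is not trivial
-/

set_option autoImplicit false
set_option maxRecDepth 100000

namespace CfsgLib.Sporadic.J4Rep

open BitMatrix CosetCert Cfsg.Spor

attribute [local irreducible] BitMatrix.mulP BitMatrix.ok BitMatrix.one isOne dec mX mY mYi mT

/-- Matrices of degree 112. -/
abbrev M112 : Type := Matrix (Fin 112) (Fin 112) (ZMod 2)

theorem ok_lett (k : ℕ) : ok 112 (lett k) = true := by
  by_cases hk : k < 4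
  · exact oks k hk
  · rw [lett, List.getD_eq_default _ _ (by simpa using hk)]; exact ok_one

theorem inv_spec {A B : List ℕ} (hA : ok 112 A = true) (hB : ok 112 B = true)
    (h : isOne 112 [A, B] = true) : dec 112 A * dec 112 B = 1 := by
  simpa using isOne_spec (L := [A, B]) (by simp [hA, hB]) h

/-- The matrices of the generators. -/
noncomputable def uJ : J4.Gen → M112ˣ
  | .x => ⟨dec 112 mX, dec 112 mX, inv_spec (ok_lett 0) (ok_lett 0) invs.1,
      inv_spec (ok_lett 0) (ok_lett 0) invs.1⟩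
  | .y => ⟨dec 112 mY, dec 112 mYi, inv_spec (ok_lett 1) (ok_lett 2) invs.2.1,
      inv_spec (ok_lett 2) (ok_lett 1) invs.2.2.1⟩
  | .t => ⟨dec 112 mT, dec 112 mT, inv_spec (ok_lett 3) (ok_lett 3) invs.2.2.2,
      inv_spec (ok_lett 3) (ok_lett 3) invs.2.2.2⟩

/-- The four letters. -/
noncomputable def gJ (k : ℕ) : M112ˣ := [uJ .x, uJ .y, (uJ .y)⁻¹, uJ .t].getD k 1

theorem gJ_val (k : ℕ) : (gJ k).val = dec 112 (lett k) := by
  match k with
  | 0 => rfl
  | 1 => rfl
  | 2 => rfl
  | 3 => rfl
  | k + 4 => exact dec_one.symm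

theorem rels_hold : ∀ r ∈ coxRelators J4.edges ∪ {r | r ∈ J4.extra}, FreeGroup.lift uJ r = 1 := by
  rintro r (⟨u, hu, -⟩ | hr)
  · exact absurd hu (by simp [coxNodes, J4.edges])
  obtain ⟨i, hi, rfl⟩ := List.mem_iff_getElem.1 (Set.mem_ofPred_eq ▸ hr : r ∈ J4.extra)
  rw [lift_eq_appProd uJ gJ codeJ cinvJ (fun k => by cases k <;> rfl)
      (fun k => by cases k <;> first | rfl | exact Units.ext rfl),
    ← List.getD_eq_getElem _ 1 hi]
  apply Units.ext
  have hv : ∀ L : List ℕ, (appProd gJ L).val = (L.reverse.map fun k => dec 112 (lett k)).prod := by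
    intro L
    induction L with
    | nil => rfl
    | cons k l ih => simp [appProd, ih, gJ_val]
  rw [hv]
  have := isOne_spec (L := (appWord codeJ cinvJ (J4.extra.getD i 1)).reverse.map lett) (by
    intro B hB; obtain ⟨k, -, rfl⟩ := List.mem_map.1 hB; exact ok_lett k) (relsJ i hi)
  rw [List.map_map] at this
  exact this

/-- The representation of degree 112. -/
noncomputable def rep : PresentedGroup (coxRelators J4.edges ∪ {r | r ∈ J4.extra}) →* M112ˣ :=
  PresentedGroup.toGroup rels_hold

theorem rep_x_ne_one : rep (PresentedGroup.of J4.Gen.x) ≠ 1 := by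
  intro h2
  rw [rep, PresentedGroup.toGroup.of] at h2
  have h3 : dec 112 mX = 1 := congrArg Units.val h2
  have h4 := congrFun (congrFun h3 0) 5
  unfold dec at h4
  rw [show (((5 : Fin 112) : ℕ)) = 5 from rfl, show (((0 : Fin 112) : ℕ)) = 0 from rfl,
    show mX = lett 0 from rfl, x_entry, Matrix.one_apply_ne (by decide)] at h4
  exact absurd h4 (by decide)

theorem x_ne_one : (PresentedGroup.of J4.Gen.x :
    PresentedGroup (coxRelators J4.edges ∪ {r | r ∈ J4.extra})) ≠ 1 := fun h => rep_x_ne_one (by rw [h, map_one])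

end CfsgLib.Sporadic.J4Rep
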