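import Cfsg.Agent.Lib.Sporadic.MathieuMultiplier
import Cfsg.Agent.Lib.SmallGroups.MathieuSimple

/-!
# `M23` and `M24` have trivial multiplier
-/

set_option autoImplicit false

namespace CfsgLib.Sporadic.MathieuMultiplier

open Cfsg Subgroup Equiv CfsgLib.SmallGroups.Golay CfsgLib.SmallGroups.GolayOctads
  CfsgLib.SmallGroups.M24Group CfsgLib.SmallGroups.MathieuSets CfsgLib.Schur
  CfsgLib.Sporadic.MathieuMultiplierData CfsgLib.Sporadic.OctadStabilizer
open scoped commutatorElement Pointwise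

universe u

theorem ab_facts : (IsTbl aT ∧ tfun aT none = none ∧ tfun aT (bpt 6) = bpt 6) ∧
    (IsTbl bT ∧ tfun bT none = none ∧ tfun bT (bpt 6) = bpt 6) ∧
    (IsTbl gbT ∧ tfun gbT none = none ∧ ∀ q, tfun gbT (tfun tT q) = tfun bT (tfun gbT q)) ∧
    (IsTbl gbaT ∧ tfun gbaT none = none ∧
      ∀ q, tfun gbaT (tfun tT q) = tfun bT (tfun aT (tfun gbaT q))) ∧
    IsTbl gaaT ∧ tfun gaaT none = none ∧
      ∀ q, tfun gaaT (tfun tT q) = tfun aT (tfun aT (tfun gaaT q)) := by
  decide +kernel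

/-- `(0 1 2 3)(4 5)`. -/
def quad (n : ℕ) [NeZero n] : Perm (Fin n) := swap 0 1 * swap 1 2 * swap 2 3 * swap 4 5

/-- `(1 3)(4 5)`. -/
def flip' (n : ℕ) [NeZero n] : Perm (Fin n) := swap 1 3 * swap 4 5

theorem squares_alt {M : Subgroup (Perm GolayPt)} (hge : ∀ g ∈ M24, g none = none → g ∈ M)
    {X : Type u} [Group X] [Finite X] (ξ : X →* M) (hs : Function.Surjective ξ)
    (hk : ξ.ker ≤ center X) (h2 : ∀ k : X, ξ k = 1 → k * k = 1) {n : ℕ} [NeZero n]
    (e : Fin n → GolayPt)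
    (hfix : ∀ x : M, (∀ m, (x : Perm GolayPt) (e m) = e m) →
      (x : Perm GolayPt) (bpt 6) = bpt 6 → x = 1)
    (ha : ∀ m, tfun aT (e m) = e (quad n m)) (hb : ∀ m, tfun bT (e m) = e (flip' n m))
    (C : Subgroup M) (φ : C →* alternatingGroup (Fin n))
    (hφ : ∀ (x : C) m, ((x : M) : Perm GolayPt) (e m) = e ((φ x : Perm (Fin n)) m) ∧
      ((x : M) : Perm GolayPt) (bpt 6) = bpt 6) :
    ∀ (x : X) (h : ξ x ∈ C),
      ((φ ⟨ξ x, h⟩ : Perm (Fin n)) = flip' n ∨ (φ ⟨ξ x, h⟩ : Perm (Fin n)) = flip' n * quad n ∨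
        (φ ⟨ξ x, h⟩ : Perm (Fin n)) = quad n * quad n) → x * x = 1 := by
  obtain ⟨⟨hA, hA0, hAp⟩, ⟨hB, hB0, hBp⟩, ⟨hg1, hg10, hg1c⟩, ⟨hg2, hg20, hg2c⟩,
    hg3, hg30, hg3c⟩ := ab_facts
  obtain ⟨sa, hsa⟩ := exists_el hge hA hA0
  obtain ⟨sb, hsb⟩ := exists_el hge hB hB0
  have key : ∀ (x : X) (h : ξ x ∈ C) (s : M), (s : Perm GolayPt) (bpt 6) = bpt 6 →
      (∀ m, (s : Perm GolayPt) (e m) = e ((φ ⟨ξ x, h⟩ : Perm (Fin n)) m)) → ξ x = s := by
    intro x h s hsp hsm
    refine (inv_mul_eq_one.1 (hfix (s⁻¹ * ξ x) (fun m => ?_) ?_)).symm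
    · rw [Subgroup.coe_mul, Subgroup.coe_inv, Perm.mul_apply, Perm.inv_eq_iff_eq,
        (hφ ⟨ξ x, h⟩ m).1, hsm]
    · rw [Subgroup.coe_mul, Subgroup.coe_inv, Perm.mul_apply, Perm.inv_eq_iff_eq,
        (hφ ⟨ξ x, h⟩ 0).2, hsp]
  obtain ⟨-, hsq⟩ := squares hge ξ hs hk h2
  intro x h hx
  rcases hx with hx | hx | hx
  · refine hsq x gbT hg1 hg10 fun q => ?_
    rw [key x h sb (by rw [hsb, hBp]) (fun m => by rw [hsb, hb, hx]), hsb, hg1c]
  · refine hsq x gbaT hg2 hg20 fun q => ?_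
    rw [key x h (sb * sa) (by rw [Subgroup.coe_mul, Perm.mul_apply, hsa, hAp, hsb, hBp])
      (fun m => by rw [Subgroup.coe_mul, Perm.mul_apply, hsa, hsb, ha, hb, hx]; rfl),
      Subgroup.coe_mul, Perm.mul_apply, hsa, hsb, hg2c]
  · refine hsq x gaaT hg3 hg30 fun q => ?_
    rw [key x h (sa * sa) (by simp only [Subgroup.coe_mul, Perm.mul_apply, hsa, hAp])
      (fun m => by simp only [Subgroup.coe_mul, Perm.mul_apply, hsa, ha, hx]),
      Subgroup.coe_mul, Perm.mul_apply, hsa, hsa, hg3c]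

/-- Seven points of the octad. -/
def pts7 (i : Fin 7) : GolayPt := pt ([0, 12, 14, 16, 17, 18, 22].getD i 0)

/-- The eight points of the octad. -/
def pts8 (i : Fin 8) : GolayPt := pt ([0, 12, 14, 16, 17, 18, 22, 23].getD i 0)

theorem pts7_inj : Function.Injective pts7 := by
  intro a b; revert a b; decide +kernel

theorem pts8_inj : Function.Injective pts8 := by
  intro a b; revert a b; decide +kernel

theorem eq_one_of_fix {g : Perm GolayPt} (hg : g ∈ M24) (h : ∀ q ∈ oct, g q = q)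
    (hp : g (bpt 6) = bpt 6) : g = 1 := by
  have h1 : g ∈ ptStab oct := mem_ptStab.2 ⟨hg, h⟩
  have h2 : g ∈ ptStab oct ⊓ comp oct (bpt 6) := ⟨h1, ptStab_le oct h1, hp⟩
  rwa [show oct = toSet octB from rfl, inf_bot octB_mem bpt_six, mem_bot] at h2

theorem M23_ge : ∀ g ∈ M24, g none = none → g ∈ Spor.M23 := fun _ hg h => ⟨hg, h⟩

theorem M23_le : Spor.M23 ≤ M24 := inf_le_left

theorem card_M23' : Nat.card Spor.M23 = 10200960 := by
  rw [← CfsgLib.SmallGroups.MathieuSimple.card_stab_point none]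
  refine Nat.card_congr ⟨fun g => ⟨⟨g, g.2.1⟩, g.2.2⟩, fun g => ⟨g.1, g.1.2, g.2⟩,
    fun _ => rfl, fun _ => rfl⟩

theorem sq_ker {X : Type u} [Group X] {Q : Type*} [Group Q] (ξ : X →* Q)
    (h : Nat.card ξ.ker = 2) : ∀ k : X, ξ k = 1 → k * k = 1 := fun k hk => by
  have h1 : (⟨k, hk⟩ : ξ.ker) ^ 2 = 1 := h ▸ pow_card_eq_one'
  rw [← sq]
  exact congrArg Subtype.val h1

theorem gens7_ok : ∀ d ∈ gens7, (Good d.2.1 ∧ Good d.2.2 ∧
    (∀ m, tfun d.2.1 (pts7 m) = pts7 (cyc d.1 m)) ∧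
    (∀ q, tfun (gens7.getD 0 (0, [], [])).2.1 (tfun d.2.2 q) =
      tfun d.2.2 (tfun (gens7.getD 0 (0, [], [])).2.1 q)) ∧
    ∀ q, tfun d.2.2 (tfun d.2.1 q) = tfun d.2.1 (tfun d.2.2 q)) ∧
    tfun d.2.1 none = none ∧ tfun d.2.2 none = none ∧ Perm.sign (cyc d.1) = 1 := by
  decide +kernel

theorem gens8_ok : ∀ d ∈ gens8, (Good d.2.1 ∧ Good d.2.2 ∧
    (∀ m, tfun d.2.1 (pts8 m) = pts8 (cyc d.1 m)) ∧
    (∀ q, tfun (gens8.getD 0 (0, [], [])).2.1 (tfun d.2.2 q) =
      tfun d.2.2 (tfun (gens8.getD 0 (0, [], [])).2.1 q)) ∧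
    ∀ q, tfun d.2.2 (tfun d.2.1 q) = tfun d.2.1 (tfun d.2.2 q)) ∧
    Perm.sign (cyc d.1) = 1 := by
  decide +kernel

theorem quad_flip_mem : (quad 7 ∈ alternatingGroup (Fin 7) ∧ flip' 7 ∈ alternatingGroup (Fin 7)) ∧
    quad 8 ∈ alternatingGroup (Fin 8) ∧ flip' 8 ∈ alternatingGroup (Fin 8) := by
  simp only [Perm.mem_alternatingGroup]
  decide +kernel

/-- `M23` has no stem double cover. -/
theorem no_double_M23 (X : Type u) [Group X] [Finite X] (ξ : X →* Spor.M23)
    (hs : Function.Surjective ξ) (hk : ξ.ker ≤ center X) (h : Nat.card ξ.ker = 2)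
    (hd : ξ.ker ≤ commutator X) : False := by
  have h2 := sq_ker ξ h
  have hfix : ∀ x : Spor.M23, (∀ m, (x : Perm GolayPt) (pts7 m) = pts7 m) →
      (x : Perm GolayPt) (bpt 6) = bpt 6 → x = 1 := fun x h1 hp => Subtype.ext
    (eq_one_of_fix (M23_le x.2) (fun q hq => by
      rcases (by decide +kernel : ∀ q ∈ oct, q = none ∨ ∃ m, pts7 m = q) q hq with rfl | ⟨m, rfl⟩
      · exact x.2.2
      · exact h1 m) hp)
  obtain ⟨C, φ, hφ, hspec, hidx, hcatch⟩ := catch_complement (M := Spor.M23) pts7_inj M23_le M23_ge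
    hfix (by decide +kernel) gens7 (gens7.getD 0 (0, [], [])).2.1 (by decide +kernel)
    (exists_el M23_ge (by decide +kernel) (by decide +kernel))
    (fun d hd => (gens7_ok d hd).1)
    (fun d hd => ⟨exists_el M23_ge (gens7_ok d hd).1.1.1 (gens7_ok d hd).2.1,
      exists_el M23_ge (gens7_ok d hd).1.2.1.1 (gens7_ok d hd).2.2.1⟩)
    (by decide +kernel) (by decide +kernel) (fun d hd => (gens7_ok d hd).2.2.2)
  rw [Alternating.card_alt 7 (by norm_num), card_M23', show Nat.factorial 7 = 5040 from rfl] at hidx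
  have hker : ξ.ker = ⊥ := by
    rw [eq_bot_iff]
    intro z hz
    rw [mem_bot]
    have hz' := hcatch ξ hs hk (squares M23_ge ξ hs hk h2).1 z ⟨hz, hd hz⟩
    have hz2 : z ^ 2 = 1 := by rw [sq]; exact h2 z hz
    rw [show ((ptStab oct).subgroupOf Spor.M23 ⊔ C).index = 2 * 126 + 1 by omega, pow_succ,
      pow_mul, hz2, one_pow, one_mul, ← map_subtype_commutator] at hz'
    obtain ⟨y, hy, rfl⟩ := hz'
    let η : C.comap ξ →* alternatingGroup (Fin 7) := φ.comp (ξ.subgroupComap C)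
    have hη : Function.Surjective η := fun σ => by
      obtain ⟨c, rfl⟩ := hφ.2 σ
      obtain ⟨x, hx⟩ := hs c
      exact ⟨⟨x, by rw [mem_comap, hx]; exact c.2⟩, congrArg φ (Subtype.ext hx)⟩
    have hηk : η.ker ≤ center (C.comap ξ) := fun x hx => mem_center_iff.2 fun w => Subtype.ext
      (OctadLift.comm_of_ker ξ hk
        (congrArg Subtype.val (hφ.1 (show φ (ξ.subgroupComap C x) = φ 1 by
          rw [map_one]; exact hx)) : ξ x.1 = 1) w.1)
    have hsq := squares_alt M23_ge ξ hs hk h2 pts7 hfix (by decide +kernel) (by decide +kernel)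
      C φ hspec
    have hy2 : y ^ 315 = 1 := by
      have := OctadLift.dihedral_lift η hη hηk ⟨quad 7, quad_flip_mem.1.1⟩ ⟨flip' 7, quad_flip_mem.1.2⟩
        (fun w hw => Subtype.ext (hsq w.1 w.2 (Or.inl (congrArg Subtype.val hw))))
        (fun w hw => Subtype.ext (hsq w.1 w.2 (Or.inr (Or.inl (congrArg Subtype.val hw)))))
        (fun w hw => Subtype.ext (hsq w.1 w.2 (Or.inr (Or.inr (congrArg Subtype.val hw)))))
        (by decide +kernel) (z := y) ⟨?_, hy⟩
      · rwa [Alternating.closure_index _ _ 4 2 3 8 315 (by norm_num) (by norm_num) (by decide +kernel)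
          (by decide +kernel) (by decide +kernel) (by decide +kernel)
          (by rw [Alternating.card_alt 7 (by norm_num)]; rfl) (by norm_num)] at this
      · show φ _ = 1
        rw [show ξ.subgroupComap C y = 1 from Subtype.ext hz, map_one]
    have hy3 : (y : X) ^ 315 = 1 := by rw [← Subgroup.coe_pow, hy2]; rfl
    have hyy : (y : X) * (y : X) = 1 := h2 _ hz
    rw [show 315 = 2 * 157 + 1 from rfl, pow_succ, pow_mul, sq, hyy, one_pow, one_mul] at hy3
    exact hy3
  rw [hker, Subgroup.card_bot] at h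
  exact absurd h (by norm_num)

theorem quad_flip_facts : quad 8 ^ 4 = 1 ∧ flip' 8 ^ 2 = 1 ∧ flip' 8 * quad 8 = quad 8 ^ 3 * flip' 8 ∧
    quad 8 * quad 8 ≠ 1 ∧ quad 8 7 = 7 ∧ flip' 8 7 = 7 ∧
    ((Finset.range 4 ×ˢ Finset.range 2).image fun p => quad 8 ^ p.1 * flip' 8 ^ p.2).card = 8 := by
  decide +kernel

/-- The index of the dihedral pair in any group embedded in the permutations of eight points. -/
theorem index_quad_flip {R : Type*} [Group R] [Finite R] (ι : R →* Perm (Fin 8))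
    (hι : Function.Injective ι) (a b : R) (ha : ι a = quad 8) (hb : ι b = flip' 8)
    (hc : Nat.card R = 2520) : (closure ({a, b} : Set R)).index = 315 := by
  classical
  obtain ⟨f1, f2, f3, -, -, -, f7⟩ := quad_flip_facts
  refine Alternating.closure_index a b 4 2 3 8 315 (by norm_num) (by norm_num) (hι ?_) (hι ?_)
    (hι ?_) ?_ hc (by norm_num)
  · rw [map_pow, map_one, ha, f1]
  · rw [map_pow, map_one, hb, f2]
  · rw [map_mul, map_mul, map_pow, ha, hb, f3]
  · rw [← Finset.card_image_of_injective _ hι, Finset.image_image,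
      show ((fun x => ι x) ∘ fun p : ℕ × ℕ => a ^ p.1 * b ^ p.2) =
        fun p => quad 8 ^ p.1 * flip' 8 ^ p.2 from funext fun p => by simp [ha, hb]]
    convert f7

theorem card_altOn_seven : Nat.card (Alternating.altOn (Finset.univ.erase (7 : Fin 8))) = 2520 := by
  have hs : (Finset.univ.erase (7 : Fin 8)).card = 7 := by decide +kernel
  rw [Alternating.altOn, ← Nat.card_congr (MonoidHom.ofInjective
    (alternatingGroup.ofSubtype_injective (s := Finset.univ.erase (7 : Fin 8)))).toEquiv]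
  haveI : Nontrivial (Finset.univ.erase (7 : Fin 8) : Finset (Fin 8)) :=
    Fintype.one_lt_card_iff_nontrivial.1 (by rw [Fintype.card_coe, hs]; norm_num)
  rw [nat_card_alternatingGroup, Nat.card_eq_finsetCard, hs]
  norm_num [Nat.factorial]

/-- `M24` has no stem double cover. -/
theorem no_double_M24 (X : Type u) [Group X] [Finite X] (ξ : X →* M24)
    (hs : Function.Surjective ξ) (hk : ξ.ker ≤ center X) (h : Nat.card ξ.ker = 2)
    (hd : ξ.ker ≤ commutator X) : False := by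
  have h2 := sq_ker ξ h
  have hge : ∀ g ∈ M24, g none = none → g ∈ M24 := fun _ hg _ => hg
  have hfix : ∀ x : M24, (∀ m, (x : Perm GolayPt) (pts8 m) = pts8 m) →
      (x : Perm GolayPt) (bpt 6) = bpt 6 → x = 1 := fun x h1 hp => Subtype.ext
    (eq_one_of_fix x.2 (fun q hq => by
      obtain ⟨m, rfl⟩ := (by decide +kernel : ∀ q ∈ oct, ∃ m, pts8 m = q) q hq
      exact h1 m) hp)
  have hel : ∀ {l : List ℕ}, IsTbl l → ∃ s : M24, ∀ q, (s : Perm GolayPt) q = tfun l q :=
    fun {l} hl => ⟨⟨tperm l hl, tperm_mem l hl⟩, fun _ => rfl⟩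
  obtain ⟨C, φ, hφ, hspec, hidx, hcatch⟩ := catch_complement (M := M24) pts8_inj le_rfl hge
    hfix (by decide +kernel) gens8 (gens8.getD 0 (0, [], [])).2.1 (by decide +kernel)
    (hel (by decide +kernel))
    (fun d hd => (gens8_ok d hd).1)
    (fun d hd => ⟨hel (gens8_ok d hd).1.1.1, hel (gens8_ok d hd).1.2.1.1⟩)
    (by decide +kernel) (by decide +kernel) (fun d hd => (gens8_ok d hd).2)
  rw [Alternating.card_alt 8 (by norm_num), card_M24, show Nat.factorial 8 = 40320 from rfl] at hidx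
  have hker : ξ.ker = ⊥ := by
    rw [eq_bot_iff]
    intro z hz
    rw [mem_bot]
    have hz' := hcatch ξ hs hk (squares hge ξ hs hk h2).1 z ⟨hz, hd hz⟩
    have hz2 : z ^ 2 = 1 := by rw [sq]; exact h2 z hz
    rw [show ((ptStab oct).subgroupOf M24 ⊔ C).index = 2 * 379 + 1 by omega, pow_succ,
      pow_mul, hz2, one_pow, one_mul, ← map_subtype_commutator] at hz'
    obtain ⟨y, hy, rfl⟩ := hz'
    let η : C.comap ξ →* alternatingGroup (Fin 8) := φ.comp (ξ.subgroupComap C)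
    have hη : Function.Surjective η := fun σ => by
      obtain ⟨c, rfl⟩ := hφ.2 σ
      obtain ⟨x, hx⟩ := hs c
      exact ⟨⟨x, by rw [mem_comap, hx]; exact c.2⟩, congrArg φ (Subtype.ext hx)⟩
    have hηk : η.ker ≤ center (C.comap ξ) := fun x hx => mem_center_iff.2 fun w => Subtype.ext
      (OctadLift.comm_of_ker ξ hk
        (congrArg Subtype.val (hφ.1 (show φ (ξ.subgroupComap C x) = φ 1 by
          rw [map_one]; exact hx)) : ξ x.1 = 1) w.1)
    have hsq := squares_alt hge ξ hs hk h2 pts8 hfix (by decide +kernel) (by decide +kernel)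
      C φ hspec
    have hy1 : η y = 1 := by
      show φ _ = 1
      rw [show ξ.subgroupComap C y = 1 from Subtype.ext hz, map_one]
    have hl := Alternating.le_lifts η (by norm_num) hη hηk (7 : Fin 8) ⟨hy1, hy⟩
    rw [Alternating.lifts, ← map_subtype_commutator] at hl
    set A7 := Alternating.altOn (Finset.univ.erase (7 : Fin 8)) with hA7
    obtain ⟨w, hw, rfl⟩ := hl
    let η2 : A7.comap η →* A7 := η.subgroupComap A7
    have hη2 : Function.Surjective η2 := fun σ => by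
      obtain ⟨x, hx⟩ := hη σ
      exact ⟨⟨x, by rw [mem_comap, hx]; exact σ.2⟩, Subtype.ext hx⟩
    have hη2k : η2.ker ≤ center (A7.comap η) := fun x hx => mem_center_iff.2 fun v => Subtype.ext
      (OctadLift.comm_of_ker η hηk (congrArg Subtype.val hx : η x.1 = 1) v.1)
    have hmemA : ∀ σ : alternatingGroup (Fin 8), (σ : Perm (Fin 8)) 7 = 7 → σ ∈ A7 :=
      fun σ h7 => Alternating.mem_altOn_erase h7
    obtain ⟨-, -, -, f4, f5, f6, -⟩ := quad_flip_facts
    set a : A7 := ⟨⟨quad 8, quad_flip_mem.2.1⟩, hmemA _ f5⟩ with ha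
    set b : A7 := ⟨⟨flip' 8, quad_flip_mem.2.2⟩, hmemA _ f6⟩ with hb
    let ι : A7 →* Perm (Fin 8) := (alternatingGroup (Fin 8)).subtype.comp A7.subtype
    have hιa : ι a = quad 8 := rfl
    have hιb : ι b = flip' 8 := rfl
    have hw2 : w ^ 315 = 1 := by
      have := OctadLift.dihedral_lift η2 hη2 hη2k a b
        (fun v hv => Subtype.ext (Subtype.ext (hsq v.1.1 v.1.2
          (Or.inl ((congrArg ι hv).trans hιb)))))
        (fun v hv => Subtype.ext (Subtype.ext (hsq v.1.1 v.1.2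
          (Or.inr (Or.inl ((congrArg ι hv).trans (by rw [map_mul, hιa, hιb])))))))
        (fun v hv => Subtype.ext (Subtype.ext (hsq v.1.1 v.1.2
          (Or.inr (Or.inr ((congrArg ι hv).trans (by rw [map_mul, hιa])))))))
        (fun e => f4 (by rw [← hιa, ← map_mul, e, map_one]))
        (z := w) ⟨Subtype.ext hy1, hw⟩
      rwa [index_quad_flip ι (fun s t hst => Subtype.ext (Subtype.ext hst)) a b hιa hιb
        (hA7 ▸ card_altOn_seven)] at this
    have hy3 : ((w : C.comap ξ) : X) ^ 315 = 1 := by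
      rw [← Subgroup.coe_pow, ← Subgroup.coe_pow, hw2]; rfl
    have hww : ((w : C.comap ξ) : X) * ((w : C.comap ξ) : X) = 1 := h2 _ hz
    rw [show 315 = 2 * 157 + 1 from rfl, pow_succ, pow_mul, sq, hww, one_pow, one_mul] at hy3
    exact hy3
  rw [hker, Subgroup.card_bot] at h
  exact absurd h (by norm_num)

/-! ### The odd primes -/

theorem cyclic_prime {Q : Type*} [Group Q] [Finite Q] {X : Type u} [Group X] (ξ : X →* Q)
    (hs : Function.Surjective ξ) (hk : ξ.ker ≤ center X) {z : X}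
    (hz : z ∈ ξ.ker ⊓ commutator X) {p k : ℕ} [Fact p.Prime] (hc : Nat.card Q = p * k) :
    z ^ k = 1 := by
  obtain ⟨g, hg⟩ := exists_prime_orderOf_dvd_card' (G := Q) p (hc ▸ dvd_mul_right p k)
  have hi : (zpowers g).index = k := by
    have h := (zpowers g).card_mul_index
    rw [Nat.card_zpowers, hg, hc] at h
    exact Nat.eq_of_mul_eq_mul_left (Fact.out : p.Prime).pos h
  rw [← hi]
  exact Bound.pow_index_eq_one_of_cyclic ξ hs hk (zpowers g) hz.1 hz.2

theorem index_closure_pair {M : Subgroup (Perm GolayPt)} (a b : M) {c k : ℕ} (hc0 : 0 < c)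
    (hc : Nat.card (closure ({(a : Perm GolayPt), (b : Perm GolayPt)} : Set _)) = c)
    (hM : Nat.card M = c * k) : (closure ({a, b} : Set M)).index = k := by
  have h1 : Nat.card (closure ({a, b} : Set M)) = c := by
    rw [← hc, ← card_map_of_injective M.subtype_injective, MonoidHom.map_closure, Set.image_pair]
    rfl
  have h := (closure ({a, b} : Set M)).card_mul_index
  rw [h1, hM] at h
  exact Nat.eq_of_mul_eq_mul_left hc0 h

theorem nine_tbl : IsTbl nineA ∧ IsTbl nineB ∧ IsTbl nineG ∧ tfun nineA none = none ∧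
    tfun nineB none = none ∧ tfun nineG none = none := by decide +kernel

/-- The first element of order three. -/
def pNA : Perm GolayPt := tperm nineA nine_tbl.1

/-- The second element of order three. -/
def pNB : Perm GolayPt := tperm nineB nine_tbl.2.1

/-- The element inverting the first and centralising the second. -/
def pNG : Perm GolayPt := tperm nineG nine_tbl.2.2.1

theorem nine_facts : pNA ^ 3 = 1 ∧ pNB ^ 3 = 1 ∧ pNA * pNB = pNB * pNA ∧
    pNG * pNA * pNG⁻¹ = pNA⁻¹ ∧ pNG * pNB * pNG⁻¹ = pNB := by decide +kernel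

theorem nine_distinct : ∀ p ∈ Finset.range 3 ×ˢ Finset.range 3,
    ∀ r ∈ Finset.range 3 ×ˢ Finset.range 3, p ≠ r →
      ∃ q, (tfun nineA)^[p.1] ((tfun nineB)^[p.2] q) ≠ (tfun nineA)^[r.1] ((tfun nineB)^[r.2] q) := by
  decide +kernel

theorem three_M23 {X : Type u} [Group X] [Finite X] (ξ : X →* Spor.M23)
    (hs : Function.Surjective ξ) (hk : ξ.ker ≤ center X) {z : X}
    (hz : z ∈ ξ.ker ⊓ commutator X) : z ^ 1133440 = 1 := by
  classical
  obtain ⟨hA, hB, hG, hA0, hB0, hG0⟩ := nine_tbl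
  let a : Spor.M23 := ⟨pNA, M23_ge _ (tperm_mem _ _) hA0⟩
  let b : Spor.M23 := ⟨pNB, M23_ge _ (tperm_mem _ _) hB0⟩
  let g : Spor.M23 := ⟨pNG, M23_ge _ (tperm_mem _ _) hG0⟩
  obtain ⟨h1, h1', h2, h3, h4⟩ := nine_facts
  have ha3 : a ^ 3 = 1 := Subtype.ext h1
  have hb3 : b ^ 3 = 1 := Subtype.ext h1'
  have hab : a * b = b * a := Subtype.ext h2
  have happ : ∀ (i j : ℕ) q, ((a ^ i * b ^ j : Spor.M23) : Perm GolayPt) q =
      (tfun nineA)^[i] ((tfun nineB)^[j] q) := fun i j q => by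
    rw [Subgroup.coe_mul, Subgroup.coe_pow, Subgroup.coe_pow, Perm.mul_apply, Perm.coe_pow,
      Perm.coe_pow]
    rfl
  have hc : ((Finset.range 3 ×ˢ Finset.range 3).image fun p => a ^ p.1 * b ^ p.2).card = 9 := by
    rw [Finset.card_image_of_injOn]
    · rfl
    · intro p hp r hr he
      by_contra hne
      obtain ⟨q, hq⟩ := nine_distinct p hp r hr hne
      refine hq ?_
      rw [← happ, ← happ]
      exact congrArg (fun g : Spor.M23 => (g : Perm GolayPt) q) he
  have hi : (closure ({a, b} : Set Spor.M23)).index = 1133440 :=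
    Alternating.closure_index a b 3 3 1 9 1133440 (by norm_num) (by norm_num) ha3 hb3
      (by rw [pow_one, hab]) hc (by rw [card_M23']) (by norm_num)
  rw [← hi]
  exact Alternating.nine_bound ξ hs hk a b g ha3 hab (Subtype.ext h3) (Subtype.ext h4) z hz

theorem ext_tbl : IsTbl extA ∧ IsTbl extB ∧ IsTbl extG ∧ IsTbl extH := by decide +kernel

/-- The first generator of a Sylow subgroup of order twenty-seven. -/
def pEA : Perm GolayPt := tperm extA ext_tbl.1

/-- The second generator. -/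
def pEB : Perm GolayPt := tperm extB ext_tbl.2.1

/-- An element centralising the first generator and inverting the second. -/
def pEG : Perm GolayPt := tperm extG ext_tbl.2.2.1

/-- An element inverting the first generator and centralising the second. -/
def pEH : Perm GolayPt := tperm extH ext_tbl.2.2.2

theorem ext_facts : pEA ^ 3 = 1 ∧ pEB ^ 3 = 1 ∧ pEA * ⁅pEA, pEB⁆ = ⁅pEA, pEB⁆ * pEA ∧
    pEB * ⁅pEA, pEB⁆ = ⁅pEA, pEB⁆ * pEB ∧ ⁅pEA, pEB⁆ ≠ 1 ∧ pEG * pEA * pEG⁻¹ = pEA ∧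
    pEG * pEB * pEG⁻¹ = pEB⁻¹ ∧ pEH * pEA * pEH⁻¹ = pEA⁻¹ ∧ pEH * pEB * pEH⁻¹ = pEB := by
  decide +kernel

/-- The map of an element of the Sylow subgroup. -/
def extFun (r : ℕ) : GolayPt → GolayPt := tfun (extElts.getD r [])

theorem ext_ok : (∀ r < 27, IsTbl (extElts.getD r [])) ∧ ∀ q, extFun 0 q = q := by
  decide +kernel

theorem ext_distinct : ∀ r < 27, ∀ s < 27, r ≠ s → ∃ q, extFun r q ≠ extFun s q := by
  decide +kernel

theorem ext_closedA : ∀ r : Fin 27, ∃ s : Fin 27, ∀ q, extFun r (tfun extA q) = extFun s q := by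
  decide +kernel

theorem ext_closedB : ∀ r : Fin 27, ∃ s : Fin 27, ∀ q, extFun r (tfun extB q) = extFun s q := by
  decide +kernel

theorem ext_parent : ∀ r < 27, r ≠ 0 → (extParents.getD r (0, false)).1 < r ∧ ∀ q, extFun r q =
    extFun (extParents.getD r (0, false)).1
      (tfun (if (extParents.getD r (0, false)).2 then extB else extA) q) := by
  decide +kernel

theorem ext_card : Nat.card (closure ({pEA, pEB} : Set (Perm GolayPt))) = 27 := by
  obtain ⟨h1, h0⟩ := ext_ok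
  have hne := ext_distinct
  have hpar := ext_parent
  let f : Fin 27 → Perm GolayPt := fun r => tperm _ (h1 r r.2)
  have hf : ∀ (r : Fin 27) q, f r q = extFun r q := fun r q => rfl
  have hinj : Function.Injective f := fun r s h => by
    by_contra hrs
    obtain ⟨q, hq⟩ := hne r r.2 s s.2 (fun e => hrs (Fin.ext e))
    exact hq (by rw [← hf, ← hf, h])
  have hmem : ∀ n (r : Fin 27), (r : ℕ) ≤ n → f r ∈ closure ({pEA, pEB} : Set (Perm GolayPt)) := by
    have hz : ∀ r : Fin 27, (r : ℕ) = 0 → f r ∈ closure ({pEA, pEB} : Set (Perm GolayPt)) :=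
      fun r hr => by
        rw [show f r = 1 from Equiv.ext fun q => by rw [hf, hr, h0]; rfl]
        exact one_mem _
    intro n
    induction n with
    | zero => exact fun r hr => hz r (Nat.le_zero.1 hr)
    | succ n ih =>
      intro r hr
      by_cases h : (r : ℕ) = 0
      · exact hz r h
      obtain ⟨hlt, he⟩ := hpar r r.2 h
      have hp := ih ⟨_, hlt.trans r.2⟩ (show (extParents.getD r (0, false)).1 ≤ n by omega)
      rcases Bool.eq_false_or_eq_true (extParents.getD r (0, false)).2 with hb | hb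
      · rw [show f r = f ⟨_, hlt.trans r.2⟩ * pEB from Equiv.ext fun q => by
          rw [hf, he, hb]; rfl]
        exact mul_mem hp (subset_closure (by simp))
      · rw [show f r = f ⟨_, hlt.trans r.2⟩ * pEA from Equiv.ext fun q => by
          rw [hf, he, hb]; rfl]
        exact mul_mem hp (subset_closure (by simp))
  rw [OctadLift.card_closure_of_closed pEA pEB (Finset.univ.image f) ?_ ?_ ?_,
    Finset.card_image_of_injective _ hinj, Finset.card_univ, Fintype.card_fin]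
  · exact Finset.mem_image.2 ⟨0, Finset.mem_univ _, Equiv.ext fun q => h0 q⟩
  · intro x hx
    obtain ⟨r, -, rfl⟩ := Finset.mem_image.1 hx
    exact hmem r r le_rfl
  · intro x hx
    obtain ⟨r, -, rfl⟩ := Finset.mem_image.1 hx
    obtain ⟨s, hs'⟩ := ext_closedA r
    obtain ⟨t, ht'⟩ := ext_closedB r
    exact ⟨Finset.mem_image.2 ⟨s, Finset.mem_univ _, Equiv.ext fun q => (hs' q).symm⟩,
      Finset.mem_image.2 ⟨t, Finset.mem_univ _, Equiv.ext fun q => (ht' q).symm⟩⟩

theorem three_M24 {X : Type u} [Group X] [Finite X] (ξ : X →* M24)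
    (hs : Function.Surjective ξ) (hk : ξ.ker ≤ center X) {z : X}
    (hz : z ∈ ξ.ker ⊓ commutator X) : z ^ 9067520 = 1 := by
  let a : M24 := ⟨pEA, tperm_mem _ _⟩
  let b : M24 := ⟨pEB, tperm_mem _ _⟩
  let g : M24 := ⟨pEG, tperm_mem _ _⟩
  let h' : M24 := ⟨pEH, tperm_mem _ _⟩
  obtain ⟨h1, h2, h3, h4, h5, h6, h7, h8, h9⟩ := ext_facts
  have h := OctadLift.twentyseven_bound ξ hs hk a b g h' (Subtype.ext h1) (Subtype.ext h2)
    (Subtype.ext h3) (Subtype.ext h4) (fun e => h5 (congrArg Subtype.val e)) (Subtype.ext h6)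
    (Subtype.ext h7) (Subtype.ext h8) (Subtype.ext h9) z hz
  rwa [index_closure_pair a b (k := 9067520) (by norm_num : 0 < 27) ext_card (by rw [card_M24])] at h

theorem prime_cases {p : ℕ} (hp : p.Prime) (h : p ∣ 244823040) :
    p = 2 ∨ p = 3 ∨ p = 5 ∨ p = 7 ∨ p = 11 ∨ p = 23 := by
  rw [show (244823040 : ℕ) = 2 ^ 10 * 3 ^ 3 * 5 * 7 * 11 * 23 by norm_num] at h
  rcases hp.dvd_mul.1 h with h | h
  · rcases hp.dvd_mul.1 h with h | h
    · rcases hp.dvd_mul.1 h with h | h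
      · rcases hp.dvd_mul.1 h with h | h
        · rcases hp.dvd_mul.1 h with h | h
          · exact Or.inl ((Nat.prime_dvd_prime_iff_eq hp Nat.prime_two).1 (hp.dvd_of_dvd_pow h))
          · exact Or.inr (Or.inl
              ((Nat.prime_dvd_prime_iff_eq hp Nat.prime_three).1 (hp.dvd_of_dvd_pow h)))
        · exact Or.inr (Or.inr (Or.inl ((Nat.prime_dvd_prime_iff_eq hp Nat.prime_five).1 h)))
      · exact Or.inr (Or.inr (Or.inr (Or.inl
          ((Nat.prime_dvd_prime_iff_eq hp (by norm_num)).1 h))))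
    · exact Or.inr (Or.inr (Or.inr (Or.inr (Or.inl
        ((Nat.prime_dvd_prime_iff_eq hp (by norm_num)).1 h)))))
  · exact Or.inr (Or.inr (Or.inr (Or.inr (Or.inr
      ((Nat.prime_dvd_prime_iff_eq hp (by norm_num)).1 h)))))

theorem multiplier_M23 : Cfsg.HasCyclicSchurMultiplier Spor.M23 1 := by
  refine Basic.hasCyclicSchurMultiplier_one_of fun Γ _ _ σ hσ => ?_
  rw [eq_bot_iff]
  intro z hz
  rw [mem_bot]
  have hz' : z ∈ σ.ker ⊓ commutator Γ := ⟨hz, hσ.2.2 hz⟩
  refine Bound.eq_one_of_pow_index z (Nat.card Spor.M23) Nat.card_pos.ne' (fun p hp hpn => ?_)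
    (Bound.pow_card_eq_one σ hσ.1 hσ.2.1 hz (hσ.2.2 hz))
  haveI := Fact.mk hp
  rw [card_M23'] at hpn
  rcases prime_cases hp (hpn.trans ⟨24, rfl⟩) with rfl | rfl | rfl | rfl | rfl | rfl
  · exact ⟨Nat.card σ.ker, OctadLift.odd_card_ker σ hσ no_double_M23,
      congrArg Subtype.val (pow_card_eq_one' (x := (⟨z, hz⟩ : σ.ker)))⟩
  · exact ⟨_, by norm_num, three_M23 σ hσ.1 hσ.2.1 hz'⟩
  · exact ⟨2040192, by norm_num,
      cyclic_prime σ hσ.1 hσ.2.1 hz' (p := 5) (by rw [card_M23'])⟩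
  · exact ⟨1457280, by norm_num,
      cyclic_prime σ hσ.1 hσ.2.1 hz' (p := 7) (by rw [card_M23'])⟩
  · exact ⟨927360, by norm_num,
      cyclic_prime σ hσ.1 hσ.2.1 hz' (p := 11) (by rw [card_M23'])⟩
  · exact ⟨443520, by norm_num,
      cyclic_prime σ hσ.1 hσ.2.1 hz' (p := 23) (by rw [card_M23'])⟩

theorem multiplier_M24 : Cfsg.HasCyclicSchurMultiplier M24 1 := by
  refine Basic.hasCyclicSchurMultiplier_one_of fun Γ _ _ σ hσ => ?_
  rw [eq_bot_iff]
  intro z hz
  rw [mem_bot]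
  have hz' : z ∈ σ.ker ⊓ commutator Γ := ⟨hz, hσ.2.2 hz⟩
  refine Bound.eq_one_of_pow_index z (Nat.card M24) Nat.card_pos.ne' (fun p hp hpn => ?_)
    (Bound.pow_card_eq_one σ hσ.1 hσ.2.1 hz (hσ.2.2 hz))
  haveI := Fact.mk hp
  rw [card_M24] at hpn
  rcases prime_cases hp hpn with rfl | rfl | rfl | rfl | rfl | rfl
  · exact ⟨Nat.card σ.ker, OctadLift.odd_card_ker σ hσ no_double_M24,
      congrArg Subtype.val (pow_card_eq_one' (x := (⟨z, hz⟩ : σ.ker)))⟩
  · exact ⟨_, by norm_num, three_M24 σ hσ.1 hσ.2.1 hz'⟩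
  · exact ⟨48964608, by norm_num,
      cyclic_prime σ hσ.1 hσ.2.1 hz' (p := 5) (by rw [card_M24])⟩
  · exact ⟨34974720, by norm_num,
      cyclic_prime σ hσ.1 hσ.2.1 hz' (p := 7) (by rw [card_M24])⟩
  · exact ⟨22256640, by norm_num,
      cyclic_prime σ hσ.1 hσ.2.1 hz' (p := 11) (by rw [card_M24])⟩
  · exact ⟨10644480, by norm_num,
      cyclic_prime σ hσ.1 hσ.2.1 hz' (p := 23) (by rw [card_M24])⟩

end CfsgLib.Sporadic.MathieuMultiplier
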