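import Cfsg.Agent.Lib.Sporadic.LeechSubTools
import Cfsg.Agent.Lib.Sporadic.LeechCo3OrbitsA
import Cfsg.Agent.Lib.Sporadic.LeechCo3OrbitsB
import Cfsg.Agent.Lib.Sporadic.LeechCo3OrbitsC
import Cfsg.Agent.Lib.Sporadic.LeechMcLOrbits

/-!
The rank 5 action of the stabiliser of a vector of square norm 48 on the 11178 minimal vectors at inner
product `-16`: suborbits of sizes 1, 352, 1100, 4125 and 5600.
-/

set_option autoImplicit false
set_option maxRecDepth 10000

namespace CfsgLib.Sporadic.LeechCo3Suborbits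

open Cfsg CfsgLib.SmallGroups.Golay CfsgLib.SmallGroups.LeechOrbit CfsgLib.SmallGroups.LeechEnum
  CfsgLib.SmallGroups.LeechLists CfsgLib.SmallGroups.LeechVectorStab CfsgLib.SmallGroups.LeechPairs
open CfsgLib.SmallGroups CfsgLib.SmallGroups.LeechParamCount LeechSuborbits LeechSubTools
open scoped Pointwise

/-- The part of the base set at inner product `d` with the base vector. -/
def part (d : ℤ) : Set leechLattice :=
  {y | sqNorm (y : GolayPt → ℤ) = 32 ∧ dotInt (v48 : GolayPt → ℤ) (y : GolayPt → ℤ) = 16 ∧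
    dotInt (LeechHS.vZ : GolayPt → ℤ) (y : GolayPt → ℤ) = d}

/-- The part with a further inner product. -/
def cls (d e : ℤ) : Set leechLattice :=
  {y | y ∈ part d ∧ dotInt (vV : GolayPt → ℤ) (y : GolayPt → ℤ) = e}

theorem finite_part (d : ℤ) : (part d).Finite :=
  Set.Finite.of_finite_image (LeechHS.finite32.subset (by
    rintro _ ⟨x, hx, rfl⟩
    exact ⟨x.2, hx.1⟩)) Subtype.val_injective.injOn

/-- The joint stabiliser of the two base vectors. -/
noncomputable abbrev baseH : Subgroup Co0 :=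
  MulAction.stabilizer Co0 v48 ⊓ MulAction.stabilizer Co0 LeechHS.vZ

theorem class_sub {root : ℕ} {T : VTree} {n : ℕ} {d e : ℤ}
    (hc : cert LeechHSData.gens5 [kU, LeechHS.kZ, kV] root T = true) (hcan : canon T = true)
    (hlen : T.keys.length = n)
    (hf : LeechReach.okGood (dig root 23) (Pk root) = true ∧ dotK root root = 32 ∧
      dotK kU root = 16 ∧ dotK LeechHS.kZ root = d ∧ dotK kV root = e) :
    ∃ hr : Pk root ∈ leechLattice, vecs T ⊆ cls d e ∧ (vecs T).ncard = n ∧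
      ∀ y ∈ vecs T, y ∈ MulAction.orbit baseH (⟨Pk root, hr⟩ : leechLattice) := by
  obtain ⟨hg, hnorm, hU, hZ, hV⟩ := hf
  have hr : Pk root ∈ leechLattice := LeechBasic.mem_lattice.2 (LeechReach.good_of_ok hg)
  refine ⟨hr, fun y hy => ⟨⟨norm_of_mem hc hr hy hnorm,
    dot_of_mem hc hr hy (List.mem_cons_self ..) coe_v48 hU,
    dot_of_mem hc hr hy (List.mem_cons_of_mem _ (List.mem_cons_self ..)) LeechHS.coe_vZ hZ⟩,
    dot_of_mem hc hr hy (List.mem_cons_of_mem _ (List.mem_cons_of_mem _ (List.mem_cons_self ..))) coe_vV hV⟩,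
    by rw [ncard_vecs hc hr hcan, hlen], ?_⟩
  rintro y ⟨n', hn', e'⟩
  obtain ⟨g, hfix, hg'⟩ := orbit_sound hc ⟨_, hr⟩ rfl hn'
  exact ⟨⟨g, hfix kU (List.mem_cons_self ..) v48 coe_v48,
    hfix LeechHS.kZ (List.mem_cons_of_mem _ (List.mem_cons_self ..)) LeechHS.vZ LeechHS.coe_vZ⟩,
    Subtype.ext (hg'.trans e'.symm)⟩

/-- The word joining the classes. -/
def joinW : List Step := LeechHSData.gens4.getD 9 []

theorem joinW_ok : (joinW.all okStep &&
    ((run joinW kU == some kU) && (run joinW LeechHS.kZ == some LeechHS.kZ))) = true := by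
  decide +kernel

/-- A class is joined to another by the word. -/
theorem join_class {rA rB m n : ℕ} {TA TB : VTree} (hA : Pk rA ∈ leechLattice) (hB : Pk rB ∈ leechLattice)
    (oA : ∀ y ∈ vecs TA, y ∈ MulAction.orbit baseH (⟨Pk rA, hA⟩ : leechLattice))
    (oB : ∀ y ∈ vecs TB, y ∈ MulAction.orbit baseH (⟨Pk rB, hB⟩ : leechLattice))
    (hgm : LeechReach.okGood (dig m 23) (Pk m) = true ∧ LeechReach.okGood (dig n 23) (Pk n) = true ∧
      TA.has m = true ∧ TB.has n = true ∧ run joinW m = some n) :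
    ∀ y ∈ vecs TB, y ∈ MulAction.orbit baseH (⟨Pk rA, hA⟩ : leechLattice) := by
  obtain ⟨gm, gn, hm, hn, hrun⟩ := hgm
  have hm' : Pk m ∈ leechLattice := LeechBasic.mem_lattice.2 (LeechReach.good_of_ok gm)
  have hn' : Pk n ∈ leechLattice := LeechBasic.mem_lattice.2 (LeechReach.good_of_ok gn)
  have hw := joinW_ok
  simp only [Bool.and_eq_true, beq_iff_eq] at hw
  obtain ⟨g, hg⟩ := run_sound hw.1
  have hgH : g ∈ baseH := ⟨Subtype.ext ((hg kU kU hw.2.1 v48 coe_v48).trans coe_v48.symm),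
    Subtype.ext ((hg LeechHS.kZ LeechHS.kZ hw.2.2 LeechHS.vZ LeechHS.coe_vZ).trans LeechHS.coe_vZ.symm)⟩
  have e1 := MulAction.orbit_eq_iff.2 (oA ⟨Pk m, hm'⟩ ⟨m, VTree.find_mem _ _ hm, rfl⟩)
  have e2 := MulAction.orbit_eq_iff.2 (oB ⟨Pk n, hn'⟩ ⟨n, VTree.find_mem _ _ hn, rfl⟩)
  have e3 : MulAction.orbit baseH (⟨Pk n, hn'⟩ : leechLattice) = MulAction.orbit baseH ⟨Pk m, hm'⟩ :=
    MulAction.orbit_eq_iff.2 ⟨⟨g, hgH⟩, Subtype.ext (hg m n hrun ⟨Pk m, hm'⟩ rfl)⟩
  intro y hy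
  rw [← e1, ← e3, e2]
  exact oB y hy

/-- A part is an orbit once enough of it lies in one. -/
theorem part_eq {r : leechLattice} {d : ℤ} {U : Set leechLattice} (hr : r ∈ part d) (hU : U ⊆ part d)
    (hn : (part d).ncard ≤ U.ncard) (ho : ∀ y ∈ U, y ∈ MulAction.orbit baseH r) :
    MulAction.orbit baseH r = part d := by
  rw [← Set.eq_of_subset_of_ncard_le hU hn (finite_part d)]
  refine Set.Subset.antisymm (fun y hy => ?_) ho
  rw [Set.eq_of_subset_of_ncard_le hU hn (finite_part d)]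
  obtain ⟨⟨g, g1, g2⟩, rfl⟩ := hy
  refine ⟨(norm_smul g r).trans hr.1, ?_, ?_⟩
  · have h := dot_smul g v48 r
    rw [show g • v48 = v48 from g1] at h
    exact h.trans hr.2.1
  · have h := dot_smul g LeechHS.vZ r
    rw [show g • LeechHS.vZ = LeechHS.vZ from g2] at h
    exact h.trans hr.2.2

theorem disjoint_cls {d e e' : ℤ} {S S' : Set leechLattice} (h : S ⊆ cls d e) (h' : S' ⊆ cls d e')
    (he : e ≠ e') : Disjoint S S' :=
  Set.disjoint_left.2 fun _ hy hy' => he ((h hy).2.symm.trans (h' hy').2)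

theorem two_classes {rA rB nA nB mA mB : ℕ} {TA TB : VTree} {d eA eB : ℤ}
    (cA : cert LeechHSData.gens5 [kU, LeechHS.kZ, kV] rA TA = true) (kA' : canon TA = true)
    (lA : TA.keys.length = nA)
    (fA : LeechReach.okGood (dig rA 23) (Pk rA) = true ∧ dotK rA rA = 32 ∧ dotK kU rA = 16 ∧
      dotK LeechHS.kZ rA = d ∧ dotK kV rA = eA)
    (cB : cert LeechHSData.gens5 [kU, LeechHS.kZ, kV] rB TB = true) (kB' : canon TB = true)
    (lB : TB.keys.length = nB)
    (fB : LeechReach.okGood (dig rB 23) (Pk rB) = true ∧ dotK rB rB = 32 ∧ dotK kU rB = 16 ∧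
      dotK LeechHS.kZ rB = d ∧ dotK kV rB = eB)
    (jB : LeechReach.okGood (dig mA 23) (Pk mA) = true ∧ LeechReach.okGood (dig mB 23) (Pk mB) = true ∧
      TA.has mA = true ∧ TB.has mB = true ∧ run joinW mA = some mB)
    (he : eA ≠ eB) :
    ∃ (hA : Pk rA ∈ leechLattice) (U : Set leechLattice), U ⊆ part d ∧ U.ncard = nA + nB ∧
      (∀ y ∈ U, y ∈ MulAction.orbit baseH (⟨Pk rA, hA⟩ : leechLattice)) ∧
      (∀ y ∈ U, dotInt (vV : GolayPt → ℤ) (y : GolayPt → ℤ) = eA ∨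
        dotInt (vV : GolayPt → ℤ) (y : GolayPt → ℤ) = eB) ∧
      (⟨Pk rA, hA⟩ : leechLattice) ∈ part d ∧ (∀ y ∈ vecs TA, y ∈ MulAction.orbit baseH
        (⟨Pk rA, hA⟩ : leechLattice)) := by
  obtain ⟨hA, sA, nA', oA⟩ := class_sub cA kA' lA fA
  obtain ⟨hB, sB, nB', oB⟩ := class_sub cB kB' lB fB
  have fin : ∀ {T : VTree} {e : ℤ}, vecs T ⊆ cls d e → (vecs T).Finite := fun h =>
    (finite_part d).subset fun y hy => (h hy).1
  refine ⟨hA, vecs TA ∪ vecs TB, Set.union_subset (fun y hy => (sA hy).1) (fun y hy => (sB hy).1), ?_, ?_, ?_,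
    ⟨by rw [sqNorm_eq, dotK_eq, fA.2.1], by rw [coe_v48, dotK_eq, fA.2.2.1],
      by rw [LeechHS.coe_vZ, dotK_eq, fA.2.2.2.1]⟩, oA⟩
  · rw [Set.ncard_union_eq (disjoint_cls sA sB he) (fin sA) (fin sB), nA', nB']
  · rintro y (hy | hy)
    exacts [oA y hy, join_class hA hB oA oB jB y hy]
  · rintro y (hy | hy)
    exacts [Or.inl (sA hy).2, Or.inr (sB hy).2]

theorem three_classes {rA rB rC nA nB nC mA mB qA qC : ℕ} {TA TB TC : VTree} {d eA eB eC : ℤ}
    (cA : cert LeechHSData.gens5 [kU, LeechHS.kZ, kV] rA TA = true) (kA' : canon TA = true)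
    (lA : TA.keys.length = nA)
    (fA : LeechReach.okGood (dig rA 23) (Pk rA) = true ∧ dotK rA rA = 32 ∧ dotK kU rA = 16 ∧
      dotK LeechHS.kZ rA = d ∧ dotK kV rA = eA)
    (cB : cert LeechHSData.gens5 [kU, LeechHS.kZ, kV] rB TB = true) (kB' : canon TB = true)
    (lB : TB.keys.length = nB)
    (fB : LeechReach.okGood (dig rB 23) (Pk rB) = true ∧ dotK rB rB = 32 ∧ dotK kU rB = 16 ∧
      dotK LeechHS.kZ rB = d ∧ dotK kV rB = eB)
    (cC : cert LeechHSData.gens5 [kU, LeechHS.kZ, kV] rC TC = true) (kC' : canon TC = true)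
    (lC : TC.keys.length = nC)
    (fC : LeechReach.okGood (dig rC 23) (Pk rC) = true ∧ dotK rC rC = 32 ∧ dotK kU rC = 16 ∧
      dotK LeechHS.kZ rC = d ∧ dotK kV rC = eC)
    (jB : LeechReach.okGood (dig mA 23) (Pk mA) = true ∧ LeechReach.okGood (dig mB 23) (Pk mB) = true ∧
      TA.has mA = true ∧ TB.has mB = true ∧ run joinW mA = some mB)
    (jC : LeechReach.okGood (dig qA 23) (Pk qA) = true ∧ LeechReach.okGood (dig qC 23) (Pk qC) = true ∧
      TA.has qA = true ∧ TC.has qC = true ∧ run joinW qA = some qC)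
    (hAB : eA ≠ eB) (hAC : eA ≠ eC) (hBC : eB ≠ eC) :
    ∃ (r : leechLattice) (U : Set leechLattice), U ⊆ part d ∧ U.ncard = nA + nB + nC ∧
      (∀ y ∈ U, y ∈ MulAction.orbit baseH r) ∧ r ∈ part d := by
  obtain ⟨hA, U, hU, nU, oU, eU, hr, oA⟩ := two_classes cA kA' lA fA cB kB' lB fB jB hAB
  obtain ⟨hC, sC, nC', oC⟩ := class_sub cC kC' lC fC
  have hsub : U ∪ vecs TC ⊆ part d := Set.union_subset hU fun y hy => (sC hy).1
  have hcard : (U ∪ vecs TC).ncard = nA + nB + nC := by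
    rw [Set.ncard_union_eq ?_ ((finite_part d).subset hU) ((finite_part d).subset fun y hy => (sC hy).1), nU, nC']
    refine Set.disjoint_left.2 fun y hy hy' => ?_
    rcases eU y hy with h | h
    exacts [hAC (h.symm.trans (sC hy').2), hBC (h.symm.trans (sC hy').2)]
  refine ⟨⟨Pk rA, hA⟩, U ∪ vecs TC, hsub, hcard, ?_, hr⟩
  rintro y (hy | hy)
  exacts [oU y hy, join_class hA hC oA oC jC y hy]

set_option maxHeartbeats 4000000 in
theorem part352 : ∃ (r : leechLattice) (U : Set leechLattice), U ⊆ part (-8) ∧ U.ncard = 352 ∧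
    (∀ y ∈ U, y ∈ MulAction.orbit baseH r) ∧ r ∈ part (-8) := by
  obtain ⟨hA, U, hU, nU, oU, -, hr, -⟩ := two_classes (eA := 8) (eB := 16) (mA := 42255020007617254258289182858) (mB := 46879241860382366090927905179) (d := (-8 : ℤ))
    LeechCo3OrbitsA.cert176a LeechCo3OrbitsA.canon176a LeechCo3OrbitsA.length176a (by decide +kernel)
    LeechCo3OrbitsA.cert176b LeechCo3OrbitsA.canon176b LeechCo3OrbitsA.length176b (by decide +kernel)
    (by decide +kernel) (by decide)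
  exact ⟨⟨Pk _, hA⟩, U, hU, nU, oU, hr⟩

set_option maxHeartbeats 4000000 in
theorem part1100 : ∃ (r : leechLattice) (U : Set leechLattice), U ⊆ part (16) ∧ U.ncard = 1100 ∧
    (∀ y ∈ U, y ∈ MulAction.orbit baseH r) ∧ r ∈ part (16) := by
  exact three_classes (eA := 8) (eB := 0) (eC := 16) (mA := 56780183727834034114882279831) (mB := 52160958136780545352197113990) (qA := 57399153782055362199337670551) (qC := 62062060562386754820104554632) (d := (16 : ℤ))
    LeechCo3OrbitsA.cert616 LeechCo3OrbitsA.canon616 LeechCo3OrbitsA.length616 (by decide +kernel)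
    LeechMcLOrbits.cert462 LeechMcLOrbits.canon462 LeechMcLOrbits.length462 (by decide +kernel)
    LeechCo3OrbitsA.cert22 LeechCo3OrbitsA.canon22 LeechCo3OrbitsA.length22 (by decide +kernel)
    (by decide +kernel) (by decide +kernel) (by decide) (by decide) (by decide)

set_option maxHeartbeats 4000000 in
theorem part4125 : ∃ (r : leechLattice) (U : Set leechLattice), U ⊆ part (0) ∧ U.ncard = 4125 ∧
    (∀ y ∈ U, y ∈ MulAction.orbit baseH r) ∧ r ∈ part (0) := by
  exact three_classes (eA := 8) (eB := 0) (eC := 16) (mA := 46876823420753169483656952249) (mB := 42257437861561726329437072008) (qA := 46876663450588597458264758169) (qC := 52160967581378369979876411530) (d := (0 : ℤ))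
    LeechCo3OrbitsB.cert2640 LeechCo3OrbitsB.canon2640 LeechCo3OrbitsB.length2640 (by decide +kernel)
    LeechMcLOrbits.cert330 LeechMcLOrbits.canon330 LeechMcLOrbits.length330 (by decide +kernel)
    LeechCo3OrbitsA.cert1155 LeechCo3OrbitsA.canon1155 LeechCo3OrbitsA.length1155 (by decide +kernel)
    (by decide +kernel) (by decide +kernel) (by decide) (by decide) (by decide)

set_option maxHeartbeats 4000000 in
theorem part5600 : ∃ (r : leechLattice) (U : Set leechLattice), U ⊆ part (8) ∧ U.ncard = 5600 ∧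
    (∀ y ∈ U, y ∈ MulAction.orbit baseH r) ∧ r ∈ part (8) := by
  exact three_classes (eA := 8) (eB := 0) (eC := 16) (mA := 51500884676174016119432710280) (mB := 46879100154800234863938607479) (qA := 52117436844033396865979951240) (qC := 56782611022043903165080377721) (d := (8 : ℤ))
    LeechCo3OrbitsC.cert3696 LeechCo3OrbitsC.canon3696 LeechCo3OrbitsC.length3696 (by decide +kernel)
    LeechMcLOrbits.cert1232 LeechMcLOrbits.canon1232 LeechMcLOrbits.length1232 (by decide +kernel)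
    LeechCo3OrbitsA.cert672 LeechCo3OrbitsA.canon672 LeechCo3OrbitsA.length672 (by decide +kernel)
    (by decide +kernel) (by decide +kernel) (by decide) (by decide) (by decide)

theorem base_parts : ∃ r₁ r₂ r₃ r₄ : leechLattice,
    let H := MulAction.stabilizer Co0 v48 ⊓ MulAction.stabilizer Co0 LeechHS.vZ
    (r₁ ∈ at' v48 16 ∧ (MulAction.orbit H r₁).ncard = 352) ∧
    (r₂ ∈ at' v48 16 ∧ (MulAction.orbit H r₂).ncard = 1100) ∧
    (r₃ ∈ at' v48 16 ∧ (MulAction.orbit H r₃).ncard = 4125) ∧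
    (r₄ ∈ at' v48 16 ∧ (MulAction.orbit H r₄).ncard = 5600) ∧
    at' v48 16 = {LeechHS.vZ} ∪ MulAction.orbit H r₁ ∪ MulAction.orbit H r₂ ∪ MulAction.orbit H r₃ ∪
      MulAction.orbit H r₄ := by
  obtain ⟨r₁, U₁, s1, c1, o1, m1⟩ := part352
  obtain ⟨r₂, U₂, s2, c2, o2, m2⟩ := part1100
  obtain ⟨r₃, U₃, s3, c3, o3, m3⟩ := part4125
  obtain ⟨r₄, U₄, s4, c4, o4, m4⟩ := part5600
  have hZ : LeechHS.vZ ∈ at' v48 16 :=
    ⟨LeechHS.norm_vZ, by rw [coe_v48, LeechHS.coe_vZ, dotK_eq, LeechHS.facts.2.1]⟩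
  have hZd : dotInt (LeechHS.vZ : GolayPt → ℤ) (LeechHS.vZ : GolayPt → ℤ) = 32 := by
    rw [← sqNorm_eq]; exact LeechHS.norm_vZ
  have hfin : (at' v48 16).Finite := Set.finite_of_ncard_ne_zero (by rw [ncard_at16_base]; norm_num)
  have hpf : ∀ d, (part d).Finite := fun d => hfin.subset fun y hy => ⟨hy.1, hy.2.1⟩
  have hd : ∀ d d' : ℤ, d ≠ d' → Disjoint (part d) (part d') := fun d d' h =>
    Set.disjoint_left.2 fun y hy hy' => h (hy.2.2.symm.trans hy'.2.2)
  have hdz : ∀ d : ℤ, d ≠ 32 → LeechHS.vZ ∉ part d := fun d h hy => h (hy.2.2.symm.trans hZd)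
  set W := {LeechHS.vZ} ∪ part (-8) ∪ part 16 ∪ part 0 ∪ part 8 with hW
  have hWsub : W ⊆ at' v48 16 := by
    rintro y ((((rfl | hy) | hy) | hy) | hy)
    exacts [hZ, ⟨hy.1, hy.2.1⟩, ⟨hy.1, hy.2.1⟩, ⟨hy.1, hy.2.1⟩, ⟨hy.1, hy.2.1⟩]
  have hWcard : W.ncard = 1 + (part (-8)).ncard + (part 16).ncard + (part 0).ncard + (part 8).ncard := by
    have f0 := Set.finite_singleton LeechHS.vZ
    rw [hW, Set.ncard_union_eq ?_ (((f0.union (hpf _)).union (hpf _)).union (hpf _)) (hpf _),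
      Set.ncard_union_eq ?_ ((f0.union (hpf _)).union (hpf _)) (hpf _),
      Set.ncard_union_eq ?_ (f0.union (hpf _)) (hpf _),
      Set.ncard_union_eq ?_ f0 (hpf _), Set.ncard_singleton]
    all_goals
      simp (disch := norm_num) [Set.disjoint_union_left, Set.disjoint_singleton_left, hd, hdz]
  have htot := Set.ncard_le_ncard hWsub hfin
  rw [hWcard, ncard_at16_base] at htot
  have l1 := c1 ▸ Set.ncard_le_ncard s1 (hpf _)
  have l2 := c2 ▸ Set.ncard_le_ncard s2 (hpf _)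
  have l3 := c3 ▸ Set.ncard_le_ncard s3 (hpf _)
  have l4 := c4 ▸ Set.ncard_le_ncard s4 (hpf _)
  have n1 : (part (-8)).ncard = 352 := by omega
  have n2 : (part 16).ncard = 1100 := by omega
  have n3 : (part 0).ncard = 4125 := by omega
  have n4 : (part 8).ncard = 5600 := by omega
  refine ⟨r₁, r₂, r₃, r₄, ?_⟩
  dsimp only [baseH] at *
  rw [part_eq m1 s1 (by rw [c1, n1]) o1, part_eq m2 s2 (by rw [c2, n2]) o2,
    part_eq m3 s3 (by rw [c3, n3]) o3, part_eq m4 s4 (by rw [c4, n4]) o4]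
  refine ⟨⟨⟨m1.1, m1.2.1⟩, n1⟩, ⟨⟨m2.1, m2.2.1⟩, n2⟩, ⟨⟨m3.1, m3.2.1⟩, n3⟩, ⟨⟨m4.1, m4.2.1⟩, n4⟩, ?_⟩
  exact (Set.eq_of_subset_of_ncard_le hWsub (by rw [hWcard, ncard_at16_base, n1, n2, n3, n4]) hfin).symm

theorem suborbits (u x : leechLattice) (hu : sqNorm (u : GolayPt → ℤ) = 48) (hx : x ∈ at' u (-16)) :
    ∃ y₁ ∈ at' u (-16), ∃ y₂ ∈ at' u (-16), ∃ y₃ ∈ at' u (-16), ∃ y₄ ∈ at' u (-16),
      let H := MulAction.stabilizer Co0 u ⊓ MulAction.stabilizer Co0 x
      (MulAction.orbit H y₁).ncard = 352 ∧ (MulAction.orbit H y₂).ncard = 1100 ∧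
      (MulAction.orbit H y₃).ncard = 4125 ∧ (MulAction.orbit H y₄).ncard = 5600 ∧
      at' u (-16) = {x} ∪ MulAction.orbit H y₁ ∪ MulAction.orbit H y₂ ∪ MulAction.orbit H y₃ ∪
        MulAction.orbit H y₄ := by
  obtain ⟨r₁, r₂, r₃, r₄, hb⟩ := base_parts
  dsimp only at hb
  obtain ⟨⟨m1, n1⟩, ⟨m2, n2⟩, ⟨m3, n3⟩, ⟨m4, n4⟩, hS⟩ := hb
  obtain ⟨a, ha, hz⟩ := LeechHS.exists_map u (-x) hu (by rw [NegMemClass.coe_neg, sqNorm_neg]; exact hx.1)
    (by rw [NegMemClass.coe_neg, dot_neg, hx.2]; norm_num)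
  have hH : ∀ g, g ∈ MulAction.stabilizer Co0 v48 ⊓ MulAction.stabilizer Co0 LeechHS.vZ ↔
      a * g * a⁻¹ ∈ MulAction.stabilizer Co0 u ⊓ MulAction.stabilizer Co0 x := by
    intro g
    rw [← stab_neg x, ← ha, ← hz]
    simp [Subgroup.mem_inf, MulAction.mem_stabilizer_iff, mul_smul]
  have hF : (fun z => -(a • z)) '' at' v48 16 = at' u (-16) := by
    ext y
    constructor
    · rintro ⟨z, ⟨h1, h2⟩, rfl⟩
      refine ⟨?_, ?_⟩
      · rw [NegMemClass.coe_neg, sqNorm_neg, norm_smul, h1]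
      · rw [← ha, NegMemClass.coe_neg, dot_neg, dot_smul, h2]
    · rintro ⟨h1, h2⟩
      refine ⟨a⁻¹ • -y, ⟨?_, ?_⟩, by simp⟩
      · rw [norm_smul, NegMemClass.coe_neg, sqNorm_neg, h1]
      · have h := dot_smul a v48 (a⁻¹ • -y)
        rw [ha, smul_inv_smul, NegMemClass.coe_neg, dot_neg, h2] at h
        rw [← h]; norm_num
  have hinj : Function.Injective fun z : leechLattice => -(a • z) := fun p q h =>
    MulAction.injective a (neg_injective h)
  have hm : ∀ r ∈ at' v48 16, -(a • r) ∈ at' u (-16) := fun r hr => hF ▸ ⟨r, hr, rfl⟩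
  refine ⟨_, hm r₁ m1, _, hm r₂ m2, _, hm r₃ m3, _, hm r₄ m4, ?_⟩
  dsimp only
  rw [orbit_transport a hH, orbit_transport a hH, orbit_transport a hH, orbit_transport a hH,
    Set.ncard_image_of_injective _ hinj, Set.ncard_image_of_injective _ hinj,
    Set.ncard_image_of_injective _ hinj, Set.ncard_image_of_injective _ hinj]
  refine ⟨n1, n2, n3, n4, ?_⟩
  rw [← hF, hS, Set.image_union, Set.image_union, Set.image_union, Set.image_union, Set.image_singleton, hz,
    neg_neg]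

end CfsgLib.Sporadic.LeechCo3Suborbits
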