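/-!
# Data for the maximality of the cross stabiliser

Each step is a table of an element of `M24`, the inverse table, the number of a code word of signs
and a flag for a following application of the non-monomial involution.  A word is read from left
to right.
-/

set_option autoImplicit false

namespace CfsgLib.Sporadic.LeechCrossData

/-- One step of a word. -/
structure Step where
  /-- The table of the permutation. -/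
  t : List Nat
  /-- The inverse table. -/
  s : List Nat
  /-- The code word of signs. -/
  k : Nat
  /-- Whether the involution follows. -/
  f : Bool

/-- A word that carries the base vector to the class `c`. -/
def wordC : List Step := [
    ⟨[4, 16, 13, 20, 5, 22, 1, 6, 12, 14, 18, 21, 2, 0, 9, 23, 19, 10, 3, 17, 7, 8, 11, 15], [13, 6, 12, 18, 0, 4, 7, 20, 21, 14, 17, 22, 8, 2, 9, 23, 1, 19, 10, 16, 3, 11, 5, 15], 3109, true⟩,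
    ⟨[5, 21, 6, 20, 9, 13, 4, 2, 18, 14, 0, 22, 17, 11, 7, 12, 3, 1, 16, 15, 23, 19, 10, 8], [10, 17, 7, 16, 6, 0, 2, 14, 23, 4, 22, 13, 15, 5, 9, 19, 18, 12, 8, 21, 3, 1, 11, 20], 8, false⟩]

/-- A word that carries the base vector to the class `o`. -/
def wordO : List Step := [
    ⟨[6, 7, 4, 8, 1, 0, 12, 3, 15, 13, 9, 23, 19, 5, 21, 20, 22, 10, 11, 18, 14, 16, 2, 17], [5, 4, 22, 7, 2, 13, 0, 1, 3, 10, 17, 18, 6, 9, 20, 8, 21, 23, 19, 12, 15, 14, 16, 11], 383, true⟩,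
    ⟨[21, 18, 23, 15, 3, 12, 5, 13, 19, 2, 9, 16, 10, 11, 8, 22, 6, 4, 7, 14, 1, 20, 0, 17], [22, 20, 9, 4, 17, 6, 16, 18, 14, 10, 12, 13, 5, 7, 19, 3, 11, 23, 1, 8, 21, 0, 15, 2], 196, true⟩,
    ⟨[20, 15, 7, 10, 17, 9, 5, 8, 4, 22, 23, 1, 13, 18, 21, 0, 14, 6, 2, 11, 16, 3, 12, 19], [15, 11, 18, 21, 8, 6, 17, 2, 7, 5, 3, 19, 22, 12, 16, 1, 20, 4, 13, 23, 0, 14, 9, 10], 296, false⟩]

/-- The monomial steps that lead from the class `o` to the class `c`. -/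
def preO : Step := ⟨[9, 19, 3, 8, 4, 13, 14, 7, 23, 21, 1, 15, 6, 22, 18, 10, 16, 11, 5, 20, 17, 2, 12, 0], [23, 10, 21, 2, 4, 18, 12, 7, 3, 0, 15, 17, 22, 5, 6, 11, 16, 20, 14, 1, 19, 9, 13, 8], 1201, false⟩

/-- The closing monomial step for the class `o`. -/
def postO : Step := ⟨[11, 10, 16, 0, 6, 12, 20, 19, 14, 23, 7, 13, 3, 4, 2, 5, 21, 22, 8, 17, 9, 1, 18, 15], [3, 21, 14, 12, 13, 15, 4, 10, 18, 20, 1, 0, 5, 11, 8, 23, 2, 19, 22, 7, 6, 16, 17, 9], 7, false⟩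

/-- A word that carries the base vector to the class `h`. -/
def wordH : List Step := [
    ⟨[15, 23, 12, 9, 5, 19, 6, 18, 4, 21, 14, 11, 1, 8, 22, 20, 3, 17, 13, 7, 16, 0, 2, 10], [21, 12, 22, 16, 8, 4, 6, 19, 13, 3, 23, 11, 2, 18, 10, 0, 20, 17, 7, 5, 15, 9, 14, 1], 2855, true⟩,
    ⟨[5, 10, 23, 18, 13, 21, 6, 7, 9, 16, 2, 3, 1, 15, 12, 17, 0, 11, 4, 8, 20, 19, 14, 22], [16, 12, 10, 11, 18, 0, 6, 7, 19, 8, 1, 17, 14, 4, 22, 13, 9, 15, 3, 21, 20, 5, 23, 2], 1690, true⟩,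
    ⟨[11, 4, 7, 2, 10, 6, 23, 16, 18, 9, 13, 14, 17, 19, 3, 15, 5, 20, 22, 12, 8, 0, 1, 21], [21, 22, 3, 14, 1, 16, 5, 2, 20, 9, 4, 0, 19, 10, 11, 15, 7, 12, 8, 13, 17, 23, 18, 6], 416, false⟩]

/-- The monomial steps that lead from the class `h` to the class `o`. -/
def preH : Step := ⟨[14, 2, 1, 15, 20, 5, 7, 11, 17, 22, 3, 18, 12, 8, 10, 19, 6, 16, 13, 9, 21, 23, 0, 4], [22, 2, 1, 10, 23, 5, 16, 6, 13, 19, 14, 7, 12, 18, 0, 3, 17, 8, 11, 15, 4, 20, 9, 21], 504, false⟩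

/-- The closing monomial step for the class `h`. -/
def postH : Step := ⟨[4, 7, 14, 6, 19, 20, 5, 10, 22, 8, 2, 11, 18, 1, 9, 3, 0, 13, 21, 23, 15, 12, 16, 17], [16, 13, 10, 15, 0, 6, 3, 1, 9, 14, 7, 11, 21, 17, 2, 20, 22, 23, 12, 4, 5, 18, 8, 19], 197, false⟩

/-- A word that carries the base vector to the class `i`. -/
def wordI : List Step := [
    ⟨[15, 8, 18, 22, 14, 20, 19, 9, 1, 0, 17, 12, 13, 21, 4, 16, 10, 6, 3, 23, 11, 2, 5, 7], [9, 8, 21, 18, 14, 22, 17, 23, 1, 7, 16, 20, 11, 12, 4, 0, 15, 10, 2, 6, 5, 13, 3, 19], 2175, true⟩,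
    ⟨[19, 3, 7, 18, 11, 14, 10, 2, 6, 12, 17, 9, 1, 15, 16, 23, 20, 22, 4, 13, 0, 21, 5, 8], [20, 12, 7, 1, 18, 22, 8, 2, 23, 11, 6, 4, 9, 19, 5, 13, 14, 10, 3, 0, 16, 21, 17, 15], 1782, true⟩,
    ⟨[2, 13, 4, 22, 9, 23, 11, 3, 12, 15, 7, 14, 18, 21, 0, 19, 10, 16, 17, 5, 20, 8, 6, 1], [14, 23, 0, 7, 2, 19, 22, 10, 21, 4, 16, 6, 8, 1, 11, 9, 17, 18, 12, 15, 20, 13, 3, 5], 256, false⟩]

/-- The monomial steps that lead from the class `i` to the class `o`. -/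
def preI : Step := ⟨[0, 1, 4, 14, 19, 13, 11, 17, 23, 12, 16, 5, 7, 6, 3, 18, 10, 9, 8, 21, 20, 2, 22, 15], [0, 1, 21, 14, 2, 11, 13, 12, 18, 17, 16, 6, 9, 5, 3, 23, 10, 7, 15, 4, 20, 19, 22, 8], 405, false⟩

/-- The closing monomial step for the class `i`. -/
def postI : Step := ⟨[3, 23, 7, 14, 12, 5, 19, 21, 17, 1, 18, 10, 2, 4, 8, 16, 20, 13, 6, 11, 0, 22, 15, 9], [20, 9, 12, 0, 13, 5, 18, 2, 14, 23, 11, 19, 4, 17, 3, 22, 15, 8, 10, 6, 16, 7, 21, 1], 451, false⟩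

/-- A word that carries the base vector to the class `f`. -/
def wordF : List Step := [
    ⟨[23, 15, 13, 3, 16, 11, 19, 5, 10, 22, 1, 8, 20, 14, 2, 9, 18, 0, 17, 21, 6, 12, 4, 7], [17, 10, 14, 3, 22, 7, 20, 23, 11, 15, 8, 5, 21, 2, 13, 1, 4, 18, 16, 6, 12, 19, 9, 0], 1132, true⟩,
    ⟨[8, 2, 20, 22, 7, 9, 14, 3, 11, 10, 1, 15, 23, 17, 18, 12, 6, 0, 4, 5, 13, 21, 19, 16], [17, 10, 1, 7, 18, 19, 16, 4, 0, 5, 9, 8, 15, 20, 6, 11, 23, 13, 14, 22, 2, 21, 3, 12], 1718, true⟩,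
    ⟨[9, 8, 20, 22, 3, 18, 23, 14, 10, 21, 11, 5, 4, 13, 16, 1, 6, 0, 7, 17, 19, 12, 15, 2], [17, 15, 23, 4, 12, 11, 16, 18, 1, 0, 8, 10, 21, 13, 7, 22, 14, 19, 5, 20, 2, 9, 3, 6], 102, false⟩]

/-- The monomial steps that lead from the class `f` to the class `i`. -/
def preF : Step := ⟨[13, 6, 3, 8, 23, 21, 9, 1, 16, 2, 10, 15, 0, 7, 4, 12, 19, 14, 22, 5, 11, 17, 20, 18], [12, 7, 9, 2, 14, 19, 1, 13, 3, 6, 10, 20, 15, 0, 17, 11, 8, 21, 23, 16, 22, 5, 18, 4], 2430, false⟩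

/-- The closing monomial step for the class `f`. -/
def postF : Step := ⟨[0, 2, 16, 19, 13, 11, 1, 18, 22, 8, 12, 3, 7, 20, 23, 5, 14, 9, 21, 6, 4, 10, 15, 17], [0, 6, 1, 11, 20, 15, 19, 12, 9, 17, 21, 5, 10, 4, 16, 22, 2, 23, 7, 3, 13, 18, 8, 14], 1408, false⟩

/-- A word that carries the base vector to the class `g`. -/
def wordG : List Step := [
    ⟨[15, 16, 1, 11, 12, 22, 2, 5, 23, 13, 8, 9, 21, 20, 7, 6, 0, 3, 19, 14, 17, 10, 18, 4], [16, 2, 6, 17, 23, 7, 15, 14, 10, 11, 21, 3, 4, 9, 19, 0, 1, 20, 22, 18, 13, 12, 5, 8], 3743, true⟩,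
    ⟨[8, 18, 19, 9, 21, 1, 6, 4, 7, 5, 10, 14, 22, 13, 12, 2, 15, 17, 3, 23, 11, 0, 20, 16], [21, 5, 15, 18, 7, 9, 6, 8, 0, 3, 10, 20, 14, 13, 11, 16, 23, 17, 1, 2, 22, 4, 12, 19], 1540, true⟩,
    ⟨[4, 12, 22, 8, 2, 19, 18, 9, 21, 13, 15, 16, 1, 23, 6, 7, 3, 14, 10, 5, 0, 20, 11, 17], [20, 12, 4, 16, 0, 19, 14, 15, 3, 7, 18, 22, 1, 9, 17, 10, 11, 23, 6, 5, 21, 8, 2, 13], 2076, true⟩,
    ⟨[0, 15, 20, 12, 6, 21, 17, 14, 3, 23, 9, 5, 22, 18, 7, 10, 19, 8, 4, 13, 1, 16, 11, 2], [0, 20, 23, 8, 18, 11, 4, 14, 17, 10, 15, 22, 3, 19, 7, 1, 21, 6, 13, 16, 2, 5, 12, 9], 3695, false⟩]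

/-- The monomial steps that lead from the class `g` to the class `i`. -/
def preG : Step := ⟨[9, 15, 22, 11, 1, 12, 7, 10, 6, 2, 14, 17, 21, 18, 13, 16, 19, 5, 4, 8, 23, 0, 20, 3], [21, 4, 9, 23, 18, 17, 8, 6, 19, 0, 7, 3, 5, 14, 10, 1, 15, 11, 13, 16, 22, 12, 2, 20], 1202, false⟩

/-- The closing monomial step for the class `g`. -/
def postG : Step := ⟨[10, 17, 13, 5, 2, 20, 23, 6, 12, 19, 14, 3, 8, 7, 0, 15, 16, 1, 9, 18, 21, 22, 11, 4], [14, 17, 4, 11, 23, 3, 7, 13, 12, 18, 0, 22, 8, 2, 10, 15, 16, 1, 19, 9, 5, 20, 21, 6], 3492, false⟩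

/-- A word that carries the base vector to the class `b`. -/
def wordB : List Step := [
    ⟨[15, 21, 20, 3, 7, 6, 8, 13, 2, 10, 22, 4, 14, 11, 12, 17, 23, 5, 9, 19, 0, 16, 1, 18], [20, 22, 8, 3, 11, 17, 5, 4, 6, 18, 9, 13, 14, 7, 12, 0, 21, 15, 23, 19, 2, 1, 10, 16], 3640, true⟩,
    ⟨[3, 15, 5, 4, 12, 9, 23, 1, 10, 11, 17, 21, 19, 0, 8, 6, 7, 18, 22, 13, 2, 20, 14, 16], [13, 7, 20, 0, 3, 2, 15, 16, 14, 5, 8, 9, 4, 19, 22, 1, 23, 10, 17, 12, 21, 11, 18, 6], 1071, true⟩,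
    ⟨[13, 19, 10, 2, 11, 6, 9, 1, 21, 20, 0, 17, 14, 22, 16, 3, 7, 23, 4, 8, 12, 5, 18, 15], [10, 7, 3, 15, 18, 21, 5, 16, 19, 6, 2, 4, 20, 0, 12, 23, 14, 11, 22, 1, 9, 8, 13, 17], 74, true⟩,
    ⟨[11, 5, 8, 22, 14, 3, 10, 19, 1, 17, 13, 15, 21, 6, 23, 9, 7, 0, 12, 18, 20, 2, 4, 16], [17, 8, 21, 5, 22, 1, 13, 16, 2, 15, 6, 0, 18, 10, 4, 11, 23, 9, 19, 7, 20, 12, 3, 14], 2242, false⟩]

/-- The monomial steps that lead from the class `b` to the class `o`. -/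
def preB : Step := ⟨[8, 2, 20, 12, 9, 22, 1, 14, 21, 16, 17, 10, 23, 3, 11, 7, 15, 5, 18, 0, 19, 4, 13, 6], [19, 6, 1, 13, 21, 17, 23, 15, 0, 4, 11, 14, 3, 22, 7, 16, 9, 10, 18, 20, 2, 8, 5, 12], 2797, false⟩

/-- The closing monomial step for the class `b`. -/
def postB : Step := ⟨[18, 3, 5, 0, 7, 19, 15, 8, 22, 10, 6, 1, 2, 13, 17, 14, 21, 20, 12, 9, 23, 4, 11, 16], [3, 11, 12, 1, 21, 2, 10, 4, 7, 19, 9, 22, 18, 13, 15, 6, 23, 14, 0, 5, 17, 16, 8, 20], 86, false⟩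

/-- A word that carries the base vector to the class `a`. -/
def wordA : List Step := [
    ⟨[9, 7, 21, 5, 11, 22, 8, 20, 15, 19, 12, 0, 14, 6, 13, 2, 1, 10, 23, 3, 4, 18, 16, 17], [11, 16, 15, 19, 20, 3, 13, 1, 6, 0, 17, 4, 10, 14, 12, 8, 22, 23, 21, 9, 7, 2, 5, 18], 4010, true⟩,
    ⟨[8, 5, 0, 2, 10, 13, 14, 22, 3, 11, 21, 9, 1, 16, 19, 18, 6, 23, 12, 7, 4, 17, 15, 20], [2, 12, 3, 8, 20, 1, 16, 19, 0, 11, 4, 9, 18, 5, 6, 22, 13, 21, 15, 14, 23, 10, 7, 17], 2657, true⟩,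
    ⟨[16, 13, 15, 5, 9, 1, 4, 14, 10, 11, 21, 19, 6, 8, 20, 17, 12, 3, 2, 18, 22, 7, 0, 23], [22, 5, 18, 17, 6, 3, 12, 21, 13, 4, 8, 9, 16, 1, 7, 2, 0, 15, 19, 11, 14, 10, 20, 23], 2378, true⟩,
    ⟨[0, 13, 4, 9, 15, 2, 19, 1, 5, 10, 14, 23, 3, 17, 11, 6, 22, 20, 18, 8, 16, 21, 7, 12], [0, 7, 5, 12, 2, 8, 15, 22, 19, 3, 9, 14, 23, 1, 10, 4, 20, 13, 18, 6, 17, 21, 16, 11], 2115, false⟩]

/-- The monomial steps that lead from the class `a` to the class `g`. -/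
def preA : Step := ⟨[1, 3, 12, 2, 4, 15, 18, 10, 21, 5, 0, 16, 7, 13, 11, 8, 6, 14, 19, 17, 9, 23, 22, 20], [10, 0, 3, 1, 4, 9, 16, 12, 15, 20, 7, 14, 2, 13, 17, 5, 11, 19, 6, 18, 23, 8, 22, 21], 2459, false⟩

/-- The closing monomial step for the class `a`. -/
def postA : Step := ⟨[19, 16, 0, 18, 15, 2, 22, 10, 23, 1, 9, 21, 14, 5, 7, 6, 4, 12, 3, 8, 20, 17, 11, 13], [2, 9, 5, 18, 16, 13, 15, 14, 19, 10, 7, 22, 17, 23, 12, 4, 1, 21, 3, 0, 20, 11, 6, 8], 701, false⟩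

end CfsgLib.Sporadic.LeechCrossData
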