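import Cfsg.Agent.Lib.Sporadic.LeechMonoReach
import Cfsg.Agent.Lib.Sporadic.LeechCrossData

/-!
# The stabiliser of the standard cross is a maximal subgroup

An overgroup moves the base vector outside the cross, hence to one of eight monomial classes.  For
each class an element carrying the base vector there lies in the overgroup, and it leads from the
class to one that is already settled, ending in the class whose element is the involution.
-/

set_option autoImplicit false
set_option maxRecDepth 10000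

namespace CfsgLib.Sporadic.LeechCrossMax

open Cfsg CfsgLib.SmallGroups.Golay CfsgLib.SmallGroups.GolayOctads CfsgLib.SmallGroups.M24Group
  CfsgLib.SmallGroups.LeechBasic CfsgLib.SmallGroups.Mathieu CfsgLib.SmallGroups CfsgLib.ThreeTransp
  CfsgLib.Sporadic.M24Orbits CfsgLib.Sporadic.LeechCrossData
open CfsgLib.SmallGroups.LeechGroup (monoSub mono_mem)
open CfsgLib.SmallGroups.LeechReach (pv)
open CfsgLib.SmallGroups.LeechShapes (sv co16)
open scoped Pointwise

/-- The signed permutation of a step. -/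
def monoF (a : Step) (x : GolayPt → ℤ) (q : GolayPt) : ℤ :=
  if (enc a.k).testBit (idx q) then -x (tblFun a.s q) else x (tblFun a.s q)

/-- The positions of a tetrad, as a list. -/
def mates (p : GolayPt) : List GolayPt :=
  ((List.range 24).map pt).filter fun q => LeechXi.tet p == LeechXi.tet q

/-- The involution on integer vectors. -/
def xiF (x : GolayPt → ℤ) (p : GolayPt) : ℤ :=
  (if LeechXi.tet p = 0 then -1 else 1) * (2 * x p - ((mates p).map x).sum) / 2

/-- One step. -/
def stepF (a : Step) (x : GolayPt → ℤ) : GolayPt → ℤ :=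
  if a.f then xiF (monoF a x) else monoF a x

/-- A word, read from left to right. -/
def run (l : List Step) (x : GolayPt → ℤ) : GolayPt → ℤ := l.foldl (fun y a => stepF a y) x

/-- The validity of a step. -/
def okStep (a : Step) : Bool :=
  okTbl a.t && decide (a.k < 4096) && decide (∀ q, tblNat a.t (idx (tblFun a.s q)) = idx q)

/-- `g` acts on coordinates by `f`. -/
def Acts (g : Co0) (f : (GolayPt → ℤ) → GolayPt → ℤ) : Prop :=
  ∀ v : leechLattice, ((g • v : leechLattice) : GolayPt → ℤ) = f v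

theorem mates_spec : ∀ p, (mates p).Nodup ∧
    ∀ q, q ∈ mates p ↔ LeechXi.tet p = LeechXi.tet q := by decide +kernel

theorem dblHom_apply (x : GolayPt → ℤ) (p : GolayPt) : LeechXi.dblHom x p =
    (if LeechXi.tet p = 0 then -1 else 1) * (2 * x p - ((mates p).map x).sum) := by
  obtain ⟨hnd, hmem⟩ := mates_spec p
  have hset : (mates p).toFinset = Finset.univ.filter fun q => LeechXi.tet p = LeechXi.tet q := by
    ext q; simp [hmem]
  rw [← List.sum_toFinset _ hnd, hset]
  change ∑ q, LeechXi.entry p q * x q = _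
  simp only [LeechXi.entry, ite_mul, zero_mul]
  rw [← Finset.sum_filter]
  split_ifs <;>
    simp [sub_mul, ite_mul, Finset.sum_sub_distrib, Finset.sum_ite_eq]

theorem acts_xi : Acts LeechXi.xi xiF := fun v => funext fun p => by
  have h := congrFun (LeechXi.two_xi v) p
  rw [dblHom_apply] at h
  rw [xiF, ← h]
  change _ = (2 * (_ : ℤ)) / 2
  rw [Int.mul_ediv_cancel_left _ two_ne_zero]
  rfl

theorem acts_mono {a : Step} (h : okStep a = true) : ∃ g ∈ monoSub, Acts g (monoF a) := by
  simp only [okStep, Bool.and_eq_true, decide_eq_true_eq] at h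
  obtain ⟨⟨ht, hk⟩, hs⟩ := h
  obtain ⟨σ, hσ, hidx⟩ := exists_elt ht
  have hc : toSet (enc a.k) ∈ LeechMonomial.CS := by
    rw [← support₂_word]; exact mem_supports_word (word_enc_mem a.k)
  refine ⟨_, mono_mem (⟨σ, hσ⟩, ⟨_, hc⟩), fun v => ?_⟩
  rw [LeechMonomial.mono_apply]
  have e : ∀ q, σ.symm q = tblFun a.s q := fun q => by
    rw [Equiv.symm_apply_eq]
    exact idx_injective ((hidx _).trans (hs q)).symm
  funext q
  simp only [signedPerm, monoF, mem_toSet, e]

theorem acts_mul {g g' : Co0} {f f' : (GolayPt → ℤ) → GolayPt → ℤ} (h : Acts g f) (h' : Acts g' f') :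
    Acts (g' * g) fun x => f' (f x) := fun v => by
  rw [mul_smul, h', h]

theorem acts_run : ∀ l : List Step, l.all okStep = true → ∃ g : Co0, Acts g (run l)
  | [], _ => ⟨1, fun v => by rw [one_smul]; rfl⟩
  | a :: l, h => by
    rw [List.all_cons, Bool.and_eq_true] at h
    obtain ⟨g, hg⟩ := acts_run l h.2
    obtain ⟨m, -, hm⟩ := acts_mono h.1
    by_cases hf : a.f
    · exact ⟨g * (LeechXi.xi * m), fun v => by
        rw [acts_mul (acts_mul hm acts_xi) hg]; simp [run, stepF, hf]⟩
    · exact ⟨g * m, fun v => by rw [acts_mul hm hg]; simp [run, stepF, hf]⟩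

/-- The vector `x` is an image of the base vector under `N`. -/
def Hit (N : Subgroup Co0) (x : GolayPt → ℤ) : Prop :=
  ∃ h ∈ N, ((h • LeechOrder.base8 : leechLattice) : GolayPt → ℤ) = x

variable {N : Subgroup Co0}

theorem mem_of_hit (hN : monoSub ≤ N) {g : Co0} {x : GolayPt → ℤ} (hx : Hit N x)
    (hg : ((g • LeechOrder.base8 : leechLattice) : GolayPt → ℤ) = x) : g ∈ N := by
  obtain ⟨h, hh, e⟩ := hx
  have e' : h • LeechOrder.base8 = g • LeechOrder.base8 := Subtype.ext (e.trans hg.symm)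
  have hfix : (h⁻¹ * g) • LeechOrder.base8 = LeechOrder.base8 := by
    rw [mul_smul, ← e', inv_smul_smul]
  have := mul_mem hh (hN (LeechOrder.pres_of_fix hfix))
  rwa [mul_inv_cancel_left] at this

theorem hit_acts {g : Co0} {f : (GolayPt → ℤ) → GolayPt → ℤ} (hg : g ∈ N) (ha : Acts g f)
    {x : GolayPt → ℤ} (hx : Hit N x) : Hit N (f x) := by
  obtain ⟨h, hh, e⟩ := hx
  exact ⟨g * h, mul_mem hg hh, by rw [mul_smul, ha, e]⟩

theorem hit_step (hN : monoSub ≤ N) {l : List Step} {a z : Step} {r r' : GolayPt → ℤ}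
    (hl : l.all okStep = true) (hok : okStep a = true ∧ a.f = false ∧ okStep z = true ∧ z.f = false)
    (hbase : ∀ q, run l (fun q => if q = none then 8 else 0) q = r q)
    (hcert : ∀ q, run (a :: (l ++ [z])) r q = r' q) (hr : Hit N r) : Hit N r' := by
  obtain ⟨g, hg⟩ := acts_run l hl
  obtain ⟨ha, haf, hz, hzf⟩ := hok
  obtain ⟨m, hm, hma⟩ := acts_mono ha
  obtain ⟨w, hw, hwa⟩ := acts_mono hz
  have hgN : g ∈ N := mem_of_hit hN hr (by
    rw [hg, LeechOrder.coe_base8, ← funext hbase]
    congr 1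
    funext q
    simp [Pi.single_apply])
  have h := hit_acts (hN hw) hwa (hit_acts hgN hg (hit_acts (hN hm) hma hr))
  convert h using 1
  funext q
  rw [← hcert q]
  simp [run, stepF, haf, hzf]

/-- The involution lies in an overgroup that reaches the class `4⁴`. -/
theorem xi_mem (hN : monoSub ≤ N) (h : Hit N (pv 0 [4, 4, 4, 4])) : LeechXi.xi ∈ N := by
  have hok : ∀ a ∈ wordC, okStep a = true := by decide +kernel
  obtain ⟨a, z, hC, haf, hzf⟩ : ∃ a z, wordC = [a, z] ∧ a.f = true ∧ z.f = false :=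
    ⟨_, _, rfl, rfl, rfl⟩
  obtain ⟨m, hm, hma⟩ := acts_mono (hok a (by simp [hC]))
  obtain ⟨w, hw, hwa⟩ := acts_mono (hok z (by simp [hC]))
  have hrun : ∀ q, run wordC (fun q => if q = none then 8 else 0) q = pv 0 [4, 4, 4, 4] q := by
    decide +kernel
  have hgN : w * (LeechXi.xi * m) ∈ N := mem_of_hit hN h (by
    rw [acts_mul (acts_mul hma acts_xi) hwa, LeechOrder.coe_base8, ← funext hrun, hC]
    simp only [run, stepF, List.foldl_cons, List.foldl_nil, haf, hzf, if_true, Bool.false_eq_true,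
      if_false]
    congr 3
    funext q
    simp [Pi.single_apply])
  exact (Subgroup.mul_mem_cancel_right _ (hN hm)).1 ((Subgroup.mul_mem_cancel_left _ (hN hw)).1 hgN)

theorem chain (hN : monoSub ≤ N) :
    (Hit N (pv 1 [-3, -3, -3, -3, -3]) ∨ Hit N (pv 1 [-3, -3, 5]) ∨ Hit N (pv 0 [4, 4, 4, 4]) ∨
      Hit N (sv octB 6 0 0) ∨ Hit N (sv octB 0 1 1) ∨ Hit N (sv dodB 4 0 1) ∨
      Hit N (sv co16 0 0 0) ∨ Hit N (sv co16 0 0 (2 + 4))) → Hit N (pv 0 [4, 4, 4, 4]) := by
  have O : Hit N (sv octB 6 0 0) → Hit N (pv 0 [4, 4, 4, 4]) :=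
    hit_step hN (l := wordO) (a := preO) (z := postO) (by decide +kernel) (by decide +kernel)
      (by decide +kernel) (by decide +kernel)
  have H : Hit N (sv co16 0 0 0) → Hit N (sv octB 6 0 0) :=
    hit_step hN (l := wordH) (a := preH) (z := postH) (by decide +kernel) (by decide +kernel)
      (by decide +kernel) (by decide +kernel)
  have I : Hit N (sv co16 0 0 (2 + 4)) → Hit N (sv octB 6 0 0) :=
    hit_step hN (l := wordI) (a := preI) (z := postI) (by decide +kernel) (by decide +kernel)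
      (by decide +kernel) (by decide +kernel)
  have F : Hit N (sv octB 0 1 1) → Hit N (sv co16 0 0 (2 + 4)) :=
    hit_step hN (l := wordF) (a := preF) (z := postF) (by decide +kernel) (by decide +kernel)
      (by decide +kernel) (by decide +kernel)
  have G : Hit N (sv dodB 4 0 1) → Hit N (sv co16 0 0 (2 + 4)) :=
    hit_step hN (l := wordG) (a := preG) (z := postG) (by decide +kernel) (by decide +kernel)
      (by decide +kernel) (by decide +kernel)
  have B : Hit N (pv 1 [-3, -3, 5]) → Hit N (sv octB 6 0 0) :=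
    hit_step hN (l := wordB) (a := preB) (z := postB) (by decide +kernel) (by decide +kernel)
      (by decide +kernel) (by decide +kernel)
  have A : Hit N (pv 1 [-3, -3, -3, -3, -3]) → Hit N (sv dodB 4 0 1) :=
    hit_step hN (l := wordA) (a := preA) (z := postA) (by decide +kernel) (by decide +kernel)
      (by decide +kernel) (by decide +kernel)
  rintro (h | h | h | h | h | h | h | h)
  exacts [O (I (G (A h))), O (B h), h, O h, O (I (F h)), O (I (G h)), O (H h), O (I h)]

theorem hit_reach (hN : monoSub ≤ N) {x T : GolayPt → ℤ} (hx : Hit N x)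
    (h : LeechMonoReach.Reach x T) : Hit N T := by
  obtain ⟨h', hh', e⟩ := hx
  obtain ⟨g, hg, eg⟩ := h (e ▸ SetLike.coe_mem _)
  refine ⟨g * h', mul_mem (hN hg) hh', ?_⟩
  rw [mul_smul, ← eg]
  congr 2
  exact Subtype.ext e

/-- A vector of square norm 64 lies in the cross or in one of the eight classes. -/
theorem normal_form {x : GolayPt → ℤ} (hx : Good x) (hN : sqNorm x = 64) :
    x ∈ stdCross ∨ ∃ T, LeechMonoReach.Reach x T ∧
      ∀ (M : Subgroup Co0), Hit M T →
        (Hit M (pv 1 [-3, -3, -3, -3, -3]) ∨ Hit M (pv 1 [-3, -3, 5]) ∨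
          Hit M (pv 0 [4, 4, 4, 4]) ∨ Hit M (sv octB 6 0 0) ∨ Hit M (sv octB 0 1 1) ∨
          Hit M (sv dodB 4 0 1) ∨ Hit M (sv co16 0 0 0) ∨ Hit M (sv co16 0 0 (2 + 4))) := by
  by_cases hodd : x none % 2 = 1
  · obtain ⟨a, b, hab, -, hr⟩ :=
      LeechMonoReach.reach_odd hx (Q := 5) (by rw [hN]; norm_num) (by norm_num) hodd
    rcases (show a = 5 ∧ b = 0 ∨ a = 2 ∧ b = 1 by omega) with ⟨rfl, rfl⟩ | ⟨rfl, rfl⟩
    · exact Or.inr ⟨_, hr, fun M h => Or.inl h⟩
    · exact Or.inr ⟨_, hr, fun M h => Or.inr (Or.inl h)⟩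
  by_cases h4 : ∀ q, (4 : ℤ) ∣ x q
  · obtain ⟨a, b, hab, hb, hr⟩ := LeechMonoReach.reach_four (by omega) h4
    rcases (show a = 4 ∧ b = 0 ∨ a = 0 ∧ b = 1 by omega) with ⟨rfl, rfl⟩ | ⟨rfl, rfl⟩
    · exact Or.inr ⟨_, hr, fun M h => Or.inr (Or.inr (Or.inl h))⟩
    · obtain ⟨i, hi⟩ := Finset.card_eq_one.1 hb.symm
      have h8 : |x i| = 8 := by
        have := Finset.mem_singleton_self i
        rw [← hi] at this
        exact (Finset.mem_filter.1 this).2
      refine Or.inl ⟨i, x i, (abs_eq (by norm_num)).1 h8, ?_⟩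
      funext q
      by_cases hq : q = i
      · subst hq; simp
      rw [Pi.single_eq_of_ne hq]
      have hle := Finset.sum_le_sum_of_subset_of_nonneg (Finset.subset_univ {i, q})
        (f := fun q => x q ^ 2) fun q _ _ => sq_nonneg _
      rw [Finset.sum_pair (Ne.symm hq), ← sq_abs (x i), h8] at hle
      change _ ≤ sqNorm x at hle
      rw [hN] at hle
      exact pow_eq_zero_iff (n := 2) two_ne_zero |>.1 (le_antisymm (by linarith) (sq_nonneg _))
  obtain ⟨O, A2, A3, hmem, hc, hd, hs, hsh, hn, -, -⟩ :=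
    LeechShapes.exists_shape hx (by omega) (by omega) h4
  rcases (show O.card = 8 ∧ A2.card = 2 ∧ A3.card = 0 ∨ O.card = 8 ∧ A2.card = 0 ∧ A3.card = 1 ∨
      O.card = 12 ∧ A2.card = 1 ∧ A3.card = 0 ∨ O.card = 16 ∧ A2.card = 0 ∧ A3.card = 0 by omega)
    with ⟨h, h2, h3⟩ | ⟨h, h2, h3⟩ | ⟨h, h2, h3⟩ | ⟨h, h2, h3⟩
  · obtain rfl := Finset.card_eq_zero.1 h3
    exact Or.inr ⟨_, LeechMonoReach.reach_octad_out_two ⟨hmem, h⟩ h2 hd hsh,
      fun M h => by simp only [h, true_or, or_true]⟩
  · obtain rfl := Finset.card_eq_zero.1 h2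
    exact Or.inr ⟨_, LeechMonoReach.reach_octad_in_one ⟨hmem, h⟩ h3 hs hsh,
      fun M h => by simp only [h, true_or, or_true]⟩
  · obtain rfl := Finset.card_eq_zero.1 h3
    exact Or.inr ⟨_, LeechMonoReach.reach_dodecad_out_one ⟨hmem, h⟩ h2 hd hsh,
      fun M h => by simp only [h, true_or, or_true]⟩
  · obtain rfl := Finset.card_eq_zero.1 h2
    obtain rfl := Finset.card_eq_zero.1 h3
    rcases LeechMonoReach.reach_sixteen hx (LeechShapes.octad_of_compl hmem h) hsh with hr | hr <;>
      exact Or.inr ⟨_, hr, fun M h => by simp only [h, true_or, or_true]⟩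

/-- A proper overgroup of the monomial subgroup does not exist. -/
theorem isCoatom_monoSub : IsCoatom monoSub := by
  refine ⟨fun htop => ?_, fun N hlt => ?_⟩
  · have hxi : LeechXi.xi ∈ monoSub := htop ▸ Subgroup.mem_top _
    obtain ⟨i, s, hs, e⟩ := hxi LeechOrder.base8 (⟨none, 8, Or.inl rfl, rfl⟩)
    rw [acts_xi, LeechOrder.coe_base8] at e
    have h0 : ∀ q : GolayPt, xiF (Pi.single none 8) q ≠ 8 ∧ xiF (Pi.single none 8) q ≠ -8 := by
      decide +kernel
    have := h0 i
    rw [e, Pi.single_eq_same] at this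
    rcases hs with rfl | rfl <;> simp at this
  · obtain ⟨g, hg, hgm⟩ := SetLike.exists_of_lt hlt
    have hn : sqNorm ((g • LeechOrder.base8 : leechLattice) : GolayPt → ℤ) = 64 :=
      (g.2.2 _).trans LeechOrder.norm_base8
    rcases normal_form (mem_lattice.1 (g • LeechOrder.base8).2) hn with hc | ⟨T, hr, hT⟩
    · refine absurd ?_ hgm
      obtain ⟨i, s, hs, e⟩ := hc
      obtain ⟨σ, hσ, hσi⟩ := M24Config.exists_to_points (n := 1) (by norm_num)
        (fun _ => i) (Function.injective_of_subsingleton _)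
      have hσn : σ⁻¹ none = i := by
        rw [← M24Config.bpt_zero, Equiv.Perm.inv_eq_iff_eq]
        exact (hσi 0).symm
      have hone : support₂ (1 : GolayPt → ZMod 2) = Finset.univ := by ext q; simp [support₂]
      obtain ⟨c, hc, hcs⟩ : ∃ c ∈ LeechMonomial.CS, (if i ∈ c then (-8 : ℤ) else 8) = s := by
        rcases hs with rfl | rfl
        · exact ⟨∅, LeechReach.empty_mem_CS, if_neg (Finset.notMem_empty i)⟩
        · exact ⟨Finset.univ, hone ▸ mem_supports_word one_mem_code, if_pos (Finset.mem_univ i)⟩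
      have hm := mono_mem (⟨σ⁻¹, inv_mem hσ⟩, ⟨c, hc⟩)
      have hfix : ((LeechMonomial.mono (⟨σ⁻¹, inv_mem hσ⟩, ⟨c, hc⟩))⁻¹ * g) • LeechOrder.base8 =
          LeechOrder.base8 := by
        rw [mul_smul, inv_smul_eq_iff]
        refine Subtype.ext ?_
        rw [e, LeechMonomial.mono_apply, LeechOrder.coe_base8, LeechMonomial.signedPerm_single]
        simp only [hσn, hcs]
      have h := mul_mem hm (show _ ∈ monoSub from LeechOrder.pres_of_fix hfix)
      rwa [mul_inv_cancel_left] at h
    · exact LeechGroup.eq_top_of_le hlt.le (xi_mem hlt.le (chain hlt.le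
        (hT N (hit_reach hlt.le ⟨g, hg, rfl⟩ hr))))

end CfsgLib.Sporadic.LeechCrossMax
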