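import Cfsg.Agent.Lib.Sporadic.LeechE8Vectors
import Cfsg.Agent.Lib.SmallGroups.LeechEnum
import Cfsg.Agent.Lib.Orth.Standard

/-!
# Coordinates modulo 2 on the sublattice of an octad

The chosen basis is hyperbolic modulo 2, so the pairings with it give coordinates in which the halved
norm becomes the quadratic form of plus type.
-/

set_option autoImplicit false
set_option maxRecDepth 10000

namespace CfsgLib.Sporadic.LeechE8

open Cfsg CfsgLib.SmallGroups.Golay CfsgLib.SmallGroups CfsgLib.SmallGroups.LeechBasic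
  CfsgLib.SmallGroups.LeechEnum CfsgLib.Sporadic.LeechE8Data

/-- The index set of the coordinates. -/
abbrev J8 : Type := Fin 4 ⊕ Fin 4

/-- The row of a coordinate. -/
def row : J8 → ℕ := Sum.elim (fun i => (i : ℕ)) fun i => 4 + i

/-- The halved values of a basis vector. -/
def wY (j : J8) (k : Fin 8) : ℤ := (basisRows.getD (row j) []).getD k 0

/-- The halved values of a dual vector. -/
def dY (j : J8) (k : Fin 8) : ℤ := (dualRows.getD (row j) []).getD k 0

theorem ok_rows : (∀ j, okY (wY j) = true) ∧ ∀ j, okY (dY j) = true := by decide +kernel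

/-- A vector of the sublattice with given halved values. -/
def mk8 (y : Fin 8 → ℤ) (h : okY y = true) : sub8 :=
  ⟨⟨ext8 y, mem_of_ok h⟩, fun _ hq => ext8_off y hq⟩

/-- The basis. -/
def wv (j : J8) : sub8 := mk8 (wY j) (ok_rows.1 j)

/-- The dual vectors. -/
def dv (j : J8) : sub8 := mk8 (dY j) (ok_rows.2 j)

/-- The coordinates of `v` in the basis. -/
def coef (v : sub8) (j : J8) : ℤ :=
  dotInt ((v : leechLattice) : GolayPt → ℤ) ((dv j : leechLattice) : GolayPt → ℤ) / 16

theorem dual_id : ∀ r q : GolayPt, (∑ j, ext8 (dY j) r * ext8 (wY j) q) =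
    if r = q ∧ octX.testBit (idx q) = true then 16 else 0 := by
  decide +kernel

theorem expand (v : sub8) : v = ∑ j, coef v j • wv j := by
  refine Subtype.ext (Subtype.ext (funext fun q => ?_))
  simp only [AddSubgroup.val_finsetSum, AddSubgroupClass.coe_zsmul, Finset.sum_apply,
    Pi.smul_apply, smul_eq_mul]
  refine mul_left_cancel₀ (show (16 : ℤ) ≠ 0 by norm_num) ?_
  rw [Finset.mul_sum]
  have e : ∀ j, 16 * (coef v j * ((wv j : leechLattice) : GolayPt → ℤ) q) =
      ∑ r, ((v : leechLattice) : GolayPt → ℤ) r * (ext8 (dY j) r * ext8 (wY j) q) := fun j => by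
    rw [← mul_assoc, coef, Int.mul_ediv_cancel' (dot16 v.2 (dv j).2), dotInt, Finset.sum_mul]
    exact Finset.sum_congr rfl fun r _ => mul_assoc _ _ _
  simp only [e]
  rw [Finset.sum_comm]
  simp only [← Finset.mul_sum, dual_id, mul_ite, mul_zero]
  by_cases hq : q ∈ oc
  · have hb : octX.testBit (idx q) = true := by rwa [oc, mem_toSet] at hq
    simp [hb, mul_comm]
  · have hb : ¬ octX.testBit (idx q) = true := by rwa [oc, mem_toSet] at hq
    simp [hb, v.2 q hq]

/-- The halved inner product modulo 2. -/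
def bil (v : sub8) : sub8 →+ ZMod 2 :=
  AddMonoidHom.mk'
    (fun w => ((dotInt ((v : leechLattice) : GolayPt → ℤ) ((w : leechLattice) : GolayPt → ℤ) / 16 : ℤ) :
      ZMod 2))
    fun a b => by
      rw [← Int.cast_add, ← Int.add_ediv_of_dvd_left (dot16 v.2 a.2)]
      congr 2
      simp only [AddSubgroup.coe_add, dotInt, Pi.add_apply, mul_add, Finset.sum_add_distrib]

theorem bil_comm (v w : sub8) : bil v w = bil w v := by
  simp only [bil, AddMonoidHom.mk'_apply, dot_comm]

/-- The halved norm modulo 2. -/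
def qL (v : sub8) : ZMod 2 := ((sqNorm ((v : leechLattice) : GolayPt → ℤ) / 32 : ℤ) : ZMod 2)

theorem qL_add (v w : sub8) : qL (v + w) = qL v + qL w + bil v w := by
  simp only [qL, bil, AddMonoidHom.mk'_apply, ← Int.cast_add]
  congr 1
  obtain ⟨a, ha⟩ := norm32 v.2
  obtain ⟨b, hb⟩ := norm32 w.2
  obtain ⟨c, hc⟩ := dot16 v.2 w.2
  rw [AddSubgroup.coe_add, AddSubgroup.coe_add, sqNorm_add, ha, hb, hc]
  omega

theorem qL_neg (v : sub8) : qL (-v) = qL v := by
  simp [qL, sqNorm, NegMemClass.coe_neg]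

theorem qL_zero : qL 0 = 0 := by
  simp [qL, sqNorm]

theorem gram : ∀ i j : J8, bil (wv i) (wv j) = if i = j.swap then 1 else 0 := by decide +kernel

theorem qL_basis : ∀ j, qL (wv j) = 0 := by decide +kernel

/-- The coordinates modulo 2. -/
def phi : sub8 →+ (J8 → ZMod 2) :=
  AddMonoidHom.mk' (fun v i => bil (wv i.swap) v) fun a b => funext fun i => map_add _ a b

theorem phi_apply (v : sub8) (i : J8) : phi v i = bil (wv i.swap) v := rfl

theorem phi_wv (j : J8) : phi (wv j) = Pi.single j 1 := by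
  funext i
  rw [phi_apply, gram, Pi.single_apply]
  by_cases h : i = j
  · subst h; simp
  · rw [if_neg h, if_neg fun e => h (by simpa using congrArg Sum.swap e)]

theorem phi_eq_coef (v : sub8) (i : J8) : phi v i = (coef v i : ZMod 2) := by
  conv_lhs => rw [expand v]
  rw [map_sum, Finset.sum_apply, Finset.sum_eq_single i]
  · simp [phi_wv]
  · intro j _ hj
    simp [phi_wv, Ne.symm hj]
  · simp

/-- A vector with given coordinates. -/
def lift8 (u : J8 → ZMod 2) : sub8 := ∑ j, ((u j).val : ℤ) • wv j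

theorem phi_lift (u : J8 → ZMod 2) : phi (lift8 u) = u := by
  funext i
  rw [lift8, map_sum, Finset.sum_apply, Finset.sum_eq_single i]
  · simp [phi_wv]
  · intro j _ hj
    simp [phi_wv, Ne.symm hj]
  · simp

theorem phi_eq_zero_iff (v : sub8) : phi v = 0 ↔ ∃ x : sub8, v = 2 • x := by
  refine ⟨fun h => ?_, fun ⟨x, hx⟩ => by rw [hx, map_nsmul, two_nsmul]; funext i; exact CharTwo.add_self_eq_zero _⟩
  have hd : ∀ j, (2 : ℤ) ∣ coef v j := fun j =>
    (ZMod.intCast_zmod_eq_zero_iff_dvd _ 2).1 (by rw [← phi_eq_coef, h]; rfl)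
  choose c hc using hd
  refine ⟨∑ j, c j • wv j, ?_⟩
  conv_lhs => rw [expand v]
  rw [Finset.smul_sum]
  refine Finset.sum_congr rfl fun j _ => ?_
  rw [hc j, mul_zsmul, two_zsmul, two_nsmul]

theorem bil_eq (v w : sub8) :
    bil v w = ∑ j, phi v j * phi w j.swap := by
  conv_lhs => rw [expand w]
  rw [map_sum]
  simp only [map_zsmul, zsmul_eq_mul, ← phi_eq_coef]
  rw [← (Equiv.sumComm (Fin 4) (Fin 4)).sum_comp]
  refine Finset.sum_congr rfl fun j _ => ?_
  simp only [Equiv.sumComm_apply]
  rw [bil_comm v, mul_comm]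
  congr 1

theorem plus_polar (x y : J8 → ZMod 2) :
    CfsgLib.Orth.plusForm (ZMod 2) 4 (x + y) = CfsgLib.Orth.plusForm (ZMod 2) 4 x +
      CfsgLib.Orth.plusForm (ZMod 2) 4 y + ∑ j, x j * y j.swap := by
  simp only [← CfsgLib.Orth.plusForm_apply, Cfsg.quadFormPlus, Pi.add_apply, Fintype.sum_sum_type,
    Sum.swap_inl, Sum.swap_inr, ← Finset.sum_add_distrib]
  exact Finset.sum_congr rfl fun i _ => by ring

/-- In the coordinates the halved norm is the form of plus type. -/
theorem qL_eq (v : sub8) : qL v = CfsgLib.Orth.plusForm (ZMod 2) 4 (phi v) := by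
  let S : AddSubgroup sub8 :=
    { carrier := {v | qL v = CfsgLib.Orth.plusForm (ZMod 2) 4 (phi v)}
      zero_mem' := by simp [qL_zero]
      add_mem' := fun {a b} ha hb => by
        simp only [Set.mem_ofPred_eq] at ha hb ⊢
        rw [qL_add, map_add, plus_polar, bil_eq, ha, hb]
      neg_mem' := fun {a} ha => by
        simp only [Set.mem_ofPred_eq] at ha ⊢
        rw [qL_neg, map_neg, ha]
        congr 1
        funext i
        rw [Pi.neg_apply, CharTwo.neg_eq] }
  have hS : v ∈ S := by
    rw [expand v]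
    refine sum_mem fun j _ => zsmul_mem ?_ _
    change qL (wv j) = _
    rw [qL_basis, phi_wv, ← CfsgLib.Orth.plusForm_apply, Cfsg.quadFormPlus]
    refine (Finset.sum_eq_zero fun i _ => ?_).symm
    rcases j with a | a <;> simp
  exact hS

end CfsgLib.Sporadic.LeechE8
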