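/-!
# Data for the root lattice supported on an octad of two tetrads

The octad has the bits of `octX`.  A vector supported there is given by its halved values at the eight
positions `pos`.  `basisRows` is a basis of the sublattice which is hyperbolic modulo 2, `dualRows` the
dual rows, and `ptTables` are the tables of the permutations fixing the octad pointwise.
-/

set_option autoImplicit false

namespace CfsgLib.Sporadic.LeechE8Data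

/-- The octad as a mask. -/
def octX : Nat := 12656663

/-- The positions of the octad. -/
def pos : List Nat := [0, 1, 2, 4, 13, 16, 22, 23]

/-- The basis. -/
def basisRows : List (List Int) := [
  [0, 0, 2, -2, 0, 6, -4, 2],
  [0, -2, -2, 0, 0, 2, 2, 0],
  [1, 3, 1, 3, 1, -5, 1, -1],
  [3, 1, 1, -1, 1, 5, -3, 1],
  [-2, 0, 2, 2, 0, -2, 0, 0],
  [0, -2, 0, -2, 0, 2, -2, 0],
  [2, 0, -4, 0, 0, -2, 2, -2],
  [0, 2, 2, 2, 2, 8, -4, 4]]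

/-- The dual rows. -/
def dualRows : List (List Int) := [
  [-10, 8, 2, -6, 12, 6, 4, -16],
  [-6, 4, 2, -4, 10, 4, 4, -10],
  [-8, 6, 2, -6, 14, 4, 4, -12],
  [6, -4, 0, 4, -8, -2, -2, 6],
  [2, -2, 0, 4, -6, 0, -2, 0],
  [-2, 0, 0, -2, 6, 0, 0, -2],
  [-1, 1, -1, 1, -1, 1, -1, -3],
  [1, -1, -1, 1, -1, -1, -1, 3]]

/-- The permutations fixing the octad. -/
def ptTables : List (List Nat) := [
  [0, 1, 2, 3, 4, 5, 6, 7, 8, 9, 10, 11, 12, 13, 14, 15, 16, 17, 18, 19, 20, 21, 22, 23],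
  [0, 1, 2, 5, 4, 3, 21, 19, 11, 10, 9, 8, 18, 13, 17, 20, 16, 14, 12, 7, 15, 6, 22, 23],
  [0, 1, 2, 6, 4, 21, 3, 14, 10, 11, 8, 9, 20, 13, 7, 18, 16, 19, 15, 17, 12, 5, 22, 23],
  [0, 1, 2, 7, 4, 19, 14, 3, 20, 18, 12, 15, 10, 13, 6, 11, 16, 21, 9, 5, 8, 17, 22, 23],
  [0, 1, 2, 8, 4, 11, 10, 20, 3, 21, 6, 5, 14, 13, 12, 19, 16, 18, 17, 15, 7, 9, 22, 23],
  [0, 1, 2, 9, 4, 10, 11, 18, 21, 3, 5, 6, 19, 13, 15, 14, 16, 20, 7, 12, 17, 8, 22, 23],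
  [0, 1, 2, 10, 4, 9, 8, 12, 6, 5, 3, 21, 7, 13, 20, 17, 16, 15, 19, 18, 14, 11, 22, 23],
  [0, 1, 2, 11, 4, 8, 9, 15, 5, 6, 21, 3, 17, 13, 18, 7, 16, 12, 14, 20, 19, 10, 22, 23],
  [0, 1, 2, 12, 4, 18, 20, 10, 14, 19, 7, 17, 3, 13, 8, 21, 16, 11, 5, 9, 6, 15, 22, 23],
  [0, 1, 2, 14, 4, 17, 7, 6, 12, 15, 20, 18, 8, 13, 3, 9, 16, 5, 11, 21, 10, 19, 22, 23],
  [0, 1, 2, 15, 4, 20, 18, 11, 19, 14, 17, 7, 21, 13, 9, 3, 16, 10, 6, 8, 5, 12, 22, 23],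
  [0, 1, 2, 17, 4, 14, 19, 21, 18, 20, 15, 12, 11, 13, 5, 10, 16, 3, 8, 6, 9, 7, 22, 23],
  [0, 1, 2, 18, 4, 12, 15, 9, 17, 7, 19, 14, 5, 13, 11, 6, 16, 8, 3, 10, 21, 20, 22, 23],
  [0, 1, 2, 19, 4, 7, 17, 5, 15, 12, 18, 20, 9, 13, 21, 8, 16, 6, 10, 3, 11, 14, 22, 23],
  [0, 1, 2, 20, 4, 15, 12, 8, 7, 17, 14, 19, 6, 13, 10, 5, 16, 9, 21, 11, 3, 18, 22, 23],
  [0, 1, 2, 21, 4, 6, 5, 17, 9, 8, 11, 10, 15, 13, 19, 12, 16, 7, 20, 14, 18, 3, 22, 23]]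

end CfsgLib.Sporadic.LeechE8Data
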