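import Cfsg.Agent.Lib.Sporadic.LeechE8Orbits
import Cfsg.Agent.Lib.Sporadic.M24Orbits
import Cfsg.Agent.Lib.Sporadic.ExtraspecialCrit

/-!
# The kernel on the sublattice of an octad

The automorphisms that fix every vector supported on the octad are the products of a permutation fixing
the octad pointwise and a sign change on a code word disjoint from it; they form an extraspecial group
of order 512.
-/

set_option autoImplicit false
set_option maxRecDepth 10000

open scoped commutatorElement

namespace CfsgLib.Sporadic.LeechE8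

open Cfsg CfsgLib.SmallGroups.Golay CfsgLib.SmallGroups.GolayOctads CfsgLib.SmallGroups
  CfsgLib.SmallGroups.LeechBasic CfsgLib.SmallGroups.MathieuSets CfsgLib.Sporadic.M24Orbits
  CfsgLib.Sporadic.LeechE8Data
open CfsgLib.SmallGroups.LeechGroup (monoSub sgn moved sgn_add sgn_zero sgn_conj sgn_apply permOf
  permOf_spec mono_mem ext_apply)
open LeechMonomial (mono)
open scoped Pointwise

/-- The automorphisms fixing the sublattice of the octad pointwise. -/
noncomputable def qCo : Subgroup Co0 where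
  carrier := {g | ∀ v ∈ sub8, g • v = v}
  one_mem' := fun v _ => one_smul _ v
  mul_mem' := fun {a b} ha hb v hv => by rw [mul_smul, hb v hv, ha v hv]
  inv_mem' := fun {a} ha v hv => by rw [inv_smul_eq_iff, ha v hv]

/-- A permutation fixing the octad pointwise as an element of `M24`. -/
def toM (σ : ptStab oc) : M24 := ⟨σ.1, σ.2.1⟩

/-- A permutation fixing the octad pointwise as a monomial map. -/
noncomputable def pS : ptStab oc →* monoSub :=
  MonoidHom.mk' (fun σ => ⟨mono (toM σ, ⟨∅, LeechReach.empty_mem_CS⟩), mono_mem _⟩) fun σ τ => by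
    refine ext_apply fun v i => ?_
    rw [Subgroup.coe_mul, mul_smul, LeechMonomial.mono_apply, LeechMonomial.mono_apply,
      LeechMonomial.mono_apply]
    simp [signedPerm, toM, Equiv.Perm.mul_def]

theorem permOf_pS (σ : ptStab oc) : permOf (pS σ) = toM σ :=
  permOf_spec (g := pS σ) (p := (toM σ, ⟨∅, LeechReach.empty_mem_CS⟩)) rfl

/-- The words that vanish on the octad. -/
abbrev W0 : Type := {w : golayCode // ∀ q ∈ oc, (w : GolayPt → ZMod 2) q = 0}

/-- The complement of the octad as a word. -/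
def wC : W0 := ⟨⟨fun q => 1 + word octX q, add_mem one_mem_code
    (mem_code_iff_isCW.2 (by decide +kernel))⟩, fun q hq => by
  rw [oc, mem_toSet] at hq
  simp [word, hq, show (1 : ZMod 2) + 1 = 0 from rfl]⟩

theorem wC_apply (q : GolayPt) :
    ((wC : golayCode) : GolayPt → ZMod 2) q = if octX.testBit (idx q) = true then 0 else 1 := by
  show 1 + word octX q = _
  rw [word]
  split_ifs <;> decide

/-- The element with the given permutation and signs. -/
noncomputable def elt (σ : ptStab oc) (w : W0) : monoSub := sgn w.1 * pS σ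

theorem elt_apply (σ : ptStab oc) (w : W0) (v : leechLattice) (q : GolayPt) :
    (((elt σ w : monoSub) : Co0) • v : leechLattice).1 q =
      if (w.1 : GolayPt → ZMod 2) q ≠ 0 then -(v : GolayPt → ℤ) ((σ : Equiv.Perm GolayPt).symm q)
        else (v : GolayPt → ℤ) ((σ : Equiv.Perm GolayPt).symm q) := by
  rw [elt, Subgroup.coe_mul, mul_smul, sgn_apply]
  simp only [pS, MonoidHom.mk'_apply, LeechMonomial.mono_apply, signedPerm, Finset.notMem_empty,
    if_false]
  rfl

theorem fix_oc (σ : ptStab oc) {q : GolayPt} (hq : q ∈ oc) : (σ : Equiv.Perm GolayPt).symm q = q := by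
  rw [Equiv.symm_apply_eq]
  exact ((mem_ptStab.1 σ.2).2 q hq).symm

theorem elt_mem (σ : ptStab oc) (w : W0) : ((elt σ w : monoSub) : Co0) ∈ qCo := by
  intro v hv
  refine Subtype.ext (funext fun q => ?_)
  rw [elt_apply]
  by_cases hq : q ∈ oc
  · rw [w.2 q hq, fix_oc σ hq]; simp
  · have hq' : (σ : Equiv.Perm GolayPt).symm q ∉ oc := fun h => by
      have := (mem_ptStab.1 σ.2).2 _ h
      rw [Equiv.apply_symm_apply] at this
      exact hq (this ▸ h)
    rw [hv q hq, hv _ hq']
    split_ifs <;> simp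

theorem elt_injective : Function.Injective fun p : ptStab oc × W0 => elt p.1 p.2 := by
  rintro ⟨σ, w⟩ ⟨τ, u⟩ h
  simp only at h
  have hp : permOf (elt σ w) = permOf (elt τ u) := by rw [h]
  rw [elt, elt, map_mul, map_mul, LeechGroup.permOf_sgn, LeechGroup.permOf_sgn, one_mul, one_mul,
    permOf_pS, permOf_pS] at hp
  obtain rfl : σ = τ := Subtype.ext (congrArg (fun m : M24 => (m : Equiv.Perm GolayPt)) hp)
  have hs : sgn w.1 = sgn u.1 := mul_right_cancel h
  refine Prod.ext rfl (Subtype.ext (Subtype.ext (funext fun i => ?_)))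
  have hi := congrArg (fun m : monoSub => (((m : Co0) • LeechCenter.unitVec i : leechLattice) :
    GolayPt → ℤ) i) hs
  simp only [sgn_apply] at hi
  have key : ∀ z : ZMod 2, z = 0 ∨ z = 1 := by decide
  simp only [show ((LeechCenter.unitVec i : leechLattice) : GolayPt → ℤ) i = 8 from
    Pi.single_eq_same i 8] at hi
  rcases key ((w.1 : GolayPt → ZMod 2) i) with e | e <;>
    rcases key ((u.1 : GolayPt → ZMod 2) i) with e' | e' <;> simp [e, e'] at hi ⊢

theorem exists_elt_of_units (g : Co0)
    (hunit : ∀ i ∈ oc, g • LeechCenter.unitVec i = LeechCenter.unitVec i) :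
    ∃ σ w, ((elt σ w : monoSub) : Co0) = g := by
  have hnone : (none : GolayPt) ∈ oc := by rw [oc, mem_toSet]; decide +kernel
  obtain ⟨⟨σ, ⟨c, hc⟩⟩, hp⟩ := LeechMonomial.exists_mono (LeechOrder.pres_of_fix (hunit none hnone))
  obtain ⟨w, hw, rfl⟩ := hc
  have key : ∀ i ∈ oc, (σ : Equiv.Perm GolayPt) i = i ∧ w i = 0 := by
    intro i hi
    have e := congrArg (fun v : leechLattice => (v : GolayPt → ℤ)) (hunit i hi)
    simp only [← hp, LeechGroup.smul_unit] at e
    change (Pi.single _ _ : GolayPt → ℤ) = Pi.single i (8 : ℤ) at e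
    have h1 : (σ : Equiv.Perm GolayPt) i = i := by
      by_contra hne
      have := congrFun e i
      rw [Pi.single_eq_of_ne (Ne.symm hne), Pi.single_eq_same] at this
      omega
    refine ⟨h1, ?_⟩
    have := congrFun e i
    simp only [h1, Pi.single_eq_same, support₂, Finset.mem_filter, Finset.mem_univ, true_and] at this
    rcases (show ∀ z : ZMod 2, z = 0 ∨ z = 1 by decide) (w i) with e0 | e0
    · exact e0
    · simp [e0] at this
  refine ⟨⟨σ, mem_ptStab.2 ⟨σ.2, fun i hi => (key i hi).1⟩⟩, ⟨⟨w, hw⟩, fun i hi => (key i hi).2⟩, ?_⟩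
  rw [← hp]
  refine Subtype.ext (Equiv.ext fun v => Subtype.ext (funext fun q => ?_))
  refine (elt_apply _ _ v q).trans ?_
  show _ = signedPerm (σ : Equiv.Perm GolayPt) (support₂ w) v q
  simp only [signedPerm, support₂, Finset.mem_filter, Finset.mem_univ, true_and]

theorem mem_qCo_of_units {g : Co0}
    (hunit : ∀ i ∈ oc, g • LeechCenter.unitVec i = LeechCenter.unitVec i) : g ∈ qCo := by
  obtain ⟨σ, w, rfl⟩ := exists_elt_of_units g hunit
  exact elt_mem σ w

theorem mem_qCo_iff (g : Co0) : g ∈ qCo ↔ ∃ σ w, ((elt σ w : monoSub) : Co0) = g :=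
  ⟨fun hg => exists_elt_of_units g fun i hi => hg _ fun r hr => by
    show (Pi.single i (8 : ℤ) : GolayPt → ℤ) r = 0
    exact Pi.single_eq_of_ne (fun e : r = i => hr (e ▸ hi)) _,
    fun ⟨σ, w, e⟩ => e ▸ elt_mem σ w⟩

theorem moved_mem (σ : ptStab oc) (w : W0) : ∀ q ∈ oc, (moved (toM σ) w.1 : GolayPt → ZMod 2) q = 0 := by
  intro q hq
  show (w.1 : GolayPt → ZMod 2) (((toM σ)⁻¹ : M24).1 q) = 0
  rw [show ((toM σ)⁻¹ : M24).1 q = (σ : Equiv.Perm GolayPt).symm q from rfl, fix_oc σ hq]
  exact w.2 q hq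

/-- The action on the words. -/
def act (σ : ptStab oc) (w : W0) : W0 := ⟨moved (toM σ) w.1, moved_mem σ w⟩

/-- Addition of words. -/
def wadd (w u : W0) : W0 := ⟨w.1 + u.1, fun q hq => by
  rw [Submodule.coe_add, Pi.add_apply, w.2 q hq, u.2 q hq, add_zero]⟩

/-- The zero word. -/
def wzero : W0 := ⟨0, fun _ _ => rfl⟩

theorem elt_mul (σ τ : ptStab oc) (w u : W0) :
    elt σ w * elt τ u = elt (σ * τ) (wadd w (act σ u)) := by
  simp only [elt, wadd, act, map_mul, sgn_add]
  have h := sgn_conj (pS σ) u.1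
  rw [permOf_pS, mul_inv_eq_iff_eq_mul] at h
  calc sgn w.1 * pS σ * (sgn u.1 * pS τ) = sgn w.1 * (pS σ * sgn u.1) * pS τ := by
        simp only [mul_assoc]
    _ = _ := by rw [h]; simp only [mul_assoc]

theorem elt_one : elt 1 wzero = 1 := by
  rw [elt, map_one, mul_one]
  exact sgn_zero

/-- The tables of the code words that vanish on the octad. -/
def wl : List ℕ := cw.filter fun n => n &&& octX == 0

theorem exists_word_mask (w : W0) : ∃ n ∈ wl, (w.1 : GolayPt → ZMod 2) = word n := by
  obtain ⟨k, hk, e⟩ := mem_code_iff.1 w.1.2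
  refine ⟨enc k, List.mem_filter.2 ⟨mem_cw.2 ⟨k, hk, rfl⟩, ?_⟩, e.symm⟩
  rw [beq_iff_eq]
  refine Nat.eq_of_testBit_eq fun i => ?_
  rw [Nat.testBit_and, Nat.zero_testBit]
  by_cases hb : octX.testBit i = true
  · have hi : i < 24 := by
      by_contra hge
      rw [Nat.testBit_eq_false_of_lt ((show octX < 2 ^ 24 by decide +kernel).trans_le
        (Nat.pow_le_pow_right (by norm_num) (not_lt.1 hge)))] at hb
      simp at hb
    have := w.2 (pt i) (by rw [oc, mem_toSet, idx_pt hi]; exact hb)
    rw [← e] at this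
    simp only [word, idx_pt hi] at this
    by_contra hne
    simp only [Bool.and_eq_false_iff, not_or, Bool.not_eq_false] at hne
    simp [hne.1] at this
  · simp [hb]

theorem tables_ok : ptTables.length = 16 ∧ ptTables.Nodup ∧
    (∀ t ∈ ptTables, okTbl t = true ∧ ∀ q, octX.testBit (idx q) = true → tblNat t (idx q) = idx q) ∧
    (∀ t ∈ ptTables, ∀ t' ∈ ptTables, (∀ q, tblNat t (idx q) = tblNat t' (idx q)) → t = t') := by
  decide +kernel

theorem exists_table (σ : ptStab oc) :
    ∃ t ∈ ptTables, ∀ q, (σ : Equiv.Perm GolayPt) q = tblFun t q := by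
  have hto : ∀ t ∈ ptTables.toFinset, ∃ g : ptStab oc, ∀ q, idx ((g : Equiv.Perm GolayPt) q) = tblNat t (idx q) := by
    intro t ht
    obtain ⟨h1, h2⟩ := tables_ok.2.2.1 t (List.mem_toFinset.1 ht)
    obtain ⟨g, hg, hidx⟩ := exists_elt h1
    refine ⟨⟨g, mem_ptStab.2 ⟨hg, fun p hp => idx_injective ?_⟩⟩, hidx⟩
    rw [oc, mem_toSet] at hp
    rw [hidx, h2 p hp]
  choose f hf using hto
  have hinj : Function.Injective fun t : ptTables.toFinset => f t.1 t.2 := by
    rintro ⟨t, ht⟩ ⟨t', ht'⟩ e
    simp only at e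
    refine Subtype.ext (tables_ok.2.2.2 t (List.mem_toFinset.1 ht) t' (List.mem_toFinset.1 ht')
      fun q => ?_)
    rw [← hf t ht, ← hf t' ht', e]
  have : Finite (ptStab oc) := inferInstance
  have hbij : Function.Bijective fun t : ptTables.toFinset => f t.1 t.2 :=
    hinj.bijective_of_nat_card_le (by
      rw [(ptStab_octad oc_mem).1, Nat.card_eq_fintype_card, Fintype.card_coe,
        List.toFinset_card_of_nodup tables_ok.2.1, tables_ok.1])
  obtain ⟨⟨t, ht⟩, e⟩ := hbij.2 σ
  refine ⟨t, List.mem_toFinset.1 ht, fun q => idx_injective ?_⟩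
  rw [← e, hf t ht, tblFun, idx_pt]
  exact hf t ht q ▸ idx_lt _

theorem act_apply (σ : ptStab oc) (w : W0) (q : GolayPt) :
    ((act σ w).1 : GolayPt → ZMod 2) q = (w.1 : GolayPt → ZMod 2) ((σ : Equiv.Perm GolayPt) q) := by
  show (w.1 : GolayPt → ZMod 2) (((σ : Equiv.Perm GolayPt)⁻¹) q) = _
  rw [inv_eq_of_mul_eq_one_right ((ptStab_octad oc_mem).2 _ σ.2)]

theorem pair_facts :
    (∀ t ∈ ptTables, ∀ n ∈ wl, (∀ q, word n (tblFun t q) + word n q = 0) ∨
      ∀ q, word n (tblFun t q) + word n q = if octX.testBit (idx q) = true then 0 else 1) ∧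
    (∀ t ∈ ptTables, (∀ q, tblFun t q = q) ∨ ∃ n ∈ wl, ∃ q, word n (tblFun t q) ≠ word n q) ∧
    (∀ n ∈ wl, (∀ q, word n q = 0) ∨ (∀ q, word n q = if octX.testBit (idx q) = true then 0 else 1) ∨
      ∃ t ∈ ptTables, ∃ q, word n (tblFun t q) ≠ word n q) := by
  decide +kernel

theorem act_add (σ : ptStab oc) (w : W0) : wadd (act σ w) w = wzero ∨ wadd (act σ w) w = wC := by
  obtain ⟨t, ht, et⟩ := exists_table σ
  obtain ⟨n, hn, en⟩ := exists_word_mask w
  rcases pair_facts.1 t ht n hn with h | h
  · refine Or.inl (Subtype.ext (Subtype.ext (funext fun q => ?_)))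
    show ((act σ w).1 : GolayPt → ZMod 2) q + (w.1 : GolayPt → ZMod 2) q = 0
    rw [act_apply, en, et]; exact h q
  · refine Or.inr (Subtype.ext (Subtype.ext (funext fun q => ?_)))
    show ((act σ w).1 : GolayPt → ZMod 2) q + (w.1 : GolayPt → ZMod 2) q = _
    rw [act_apply, en, et, wC_apply]; exact h q

theorem card_W0 : Nat.card W0 = 32 := by
  have hlen : wl.length = 32 ∧ wl.Nodup := ⟨by decide +kernel, cw_nodup.filter _⟩
  have hsp : ∀ n ∈ wl.toFinset, word n ∈ golayCode ∧ ∀ q ∈ oc, word n q = 0 := by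
    intro n hn
    obtain ⟨h1, h2⟩ := List.mem_filter.1 (List.mem_toFinset.1 hn)
    obtain ⟨k, -, rfl⟩ := mem_cw.1 h1
    refine ⟨word_enc_mem k, fun q hq => ?_⟩
    rw [beq_iff_eq] at h2
    rw [oc, mem_toSet] at hq
    have := congrArg (fun m => Nat.testBit m (idx q)) h2
    simp only [Nat.testBit_and, hq, Bool.and_true, Nat.zero_testBit] at this
    simp [word, this]
  have hlt : ∀ n ∈ wl, n < 2 ^ 24 := fun n hn => by
    obtain ⟨k, hk, rfl⟩ := mem_cw.1 (List.mem_filter.1 hn).1
    exact (enc_lt k hk).1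
  have e : Function.Bijective fun n : wl.toFinset =>
      (⟨⟨word n, (hsp n n.2).1⟩, (hsp n n.2).2⟩ : W0) := by
    constructor
    · rintro ⟨a, ha⟩ ⟨b, hb⟩ h
      have := congrArg (fun w : W0 => support₂ (w.1 : GolayPt → ZMod 2)) h
      simp only [support₂_word] at this
      exact Subtype.ext (toSet_inj (hlt a (List.mem_toFinset.1 ha)) (hlt b (List.mem_toFinset.1 hb)) this)
    · intro w
      obtain ⟨n, hn, e⟩ := exists_word_mask w
      exact ⟨⟨n, List.mem_toFinset.2 hn⟩, Subtype.ext (Subtype.ext e.symm)⟩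
  rw [← Nat.card_eq_of_bijective _ e, Nat.card_eq_fintype_card, Fintype.card_coe,
    List.toFinset_card_of_nodup hlen.2, hlen.1]

/-- The parametrisation of the kernel. -/
noncomputable def eqv : ptStab oc × W0 ≃ qCo :=
  Equiv.ofBijective (fun p => ⟨(elt p.1 p.2 : monoSub), elt_mem p.1 p.2⟩)
    ⟨fun p p' h => elt_injective (Subtype.ext (congrArg (fun g : qCo => (g : Co0)) h)),
      fun g => by
        obtain ⟨σ, w, e⟩ := (mem_qCo_iff g.1).1 g.2
        exact ⟨(σ, w), Subtype.ext e⟩⟩

theorem card_qCo : Nat.card qCo = 512 := by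
  rw [← Nat.card_congr eqv, Nat.card_prod, (ptStab_octad oc_mem).1, card_W0]

/-- The central involution of the kernel. -/
noncomputable def zQ : qCo := eqv (1, wC)

theorem eqv_mul (p p' : ptStab oc × W0) :
    eqv p * eqv p' = eqv (p.1 * p'.1, wadd p.2 (act p.1 p'.2)) :=
  Subtype.ext (congrArg (fun m : monoSub => (m : Co0)) (elt_mul p.1 p'.1 p.2 p'.2))

theorem eqv_one : eqv (1, wzero) = 1 :=
  Subtype.ext (congrArg (fun m : monoSub => (m : Co0)) elt_one)

theorem wadd_eq (a b c : W0) (h : ∀ q, (a.1 : GolayPt → ZMod 2) q + (b.1 : GolayPt → ZMod 2) q =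
    (c.1 : GolayPt → ZMod 2) q) : wadd a b = c :=
  Subtype.ext (Subtype.ext (funext h))

theorem act_one (w : W0) : act 1 w = w :=
  Subtype.ext (Subtype.ext (funext fun q => by rw [act_apply]; rfl))

theorem act_wC (σ : ptStab oc) : act σ wC = wC := by
  refine Subtype.ext (Subtype.ext (funext fun q => ?_))
  rw [act_apply, wC_apply, wC_apply]
  have h : ((σ : Equiv.Perm GolayPt) q ∈ oc ↔ q ∈ oc) := by
    constructor
    · intro h
      have e := fix_oc σ h
      rw [Equiv.symm_apply_apply] at e
      rwa [← e] at h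
    · intro h
      rwa [(mem_ptStab.1 σ.2).2 q h]
  simp only [oc, mem_toSet] at h
  simp only [h]

theorem exists_moving : ∃ (τ : ptStab oc) (u : W0), act τ u ≠ u := by
  by_contra hall
  push Not at hall
  have hone : ∀ τ : ptStab oc, τ = 1 := fun τ => by
    obtain ⟨t, ht, et⟩ := exists_table τ
    rcases pair_facts.2.1 t ht with h | ⟨n, hn, q, hq⟩
    · exact Subtype.ext (Equiv.ext fun q => (et q).trans (h q))
    · obtain ⟨h1, h2⟩ := List.mem_filter.1 hn
      obtain ⟨k, -, rfl⟩ := mem_cw.1 h1
      have hw : ∀ q ∈ oc, word (enc k) q = 0 := fun q hq => by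
        rw [beq_iff_eq] at h2
        rw [oc, mem_toSet] at hq
        have := congrArg (fun m => Nat.testBit m (idx q)) h2
        simp only [Nat.testBit_and, hq, Bool.and_true, Nat.zero_testBit] at this
        simp [word, this]
      have := congrArg (fun w : W0 => (w.1 : GolayPt → ZMod 2) q)
        (hall τ ⟨⟨word (enc k), word_enc_mem k⟩, hw⟩)
      simp only [act_apply, et] at this
      exact absurd this hq
  have h16 := (ptStab_octad oc_mem).1
  have : Subsingleton (ptStab oc) := ⟨fun a b => (hone a).trans (hone b).symm⟩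
  rw [Nat.card_of_subsingleton (1 : ptStab oc)] at h16
  omega

theorem central_facts (σ : ptStab oc) (w : W0) (h1 : ∀ u, act σ u = u) (h2 : ∀ τ, act τ w = w) :
    σ = 1 ∧ (w = wzero ∨ w = wC) := by
  constructor
  · obtain ⟨t, ht, et⟩ := exists_table σ
    rcases pair_facts.2.1 t ht with h | ⟨n, hn, q, hq⟩
    · exact Subtype.ext (Equiv.ext fun q => (et q).trans (h q))
    · obtain ⟨ha, hb⟩ := List.mem_filter.1 hn
      obtain ⟨k, -, rfl⟩ := mem_cw.1 ha
      have hw : ∀ q ∈ oc, word (enc k) q = 0 := fun q hq => by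
        rw [beq_iff_eq] at hb
        rw [oc, mem_toSet] at hq
        have := congrArg (fun m => Nat.testBit m (idx q)) hb
        simp only [Nat.testBit_and, hq, Bool.and_true, Nat.zero_testBit] at this
        simp [word, this]
      have := congrArg (fun w : W0 => (w.1 : GolayPt → ZMod 2) q)
        (h1 ⟨⟨word (enc k), word_enc_mem k⟩, hw⟩)
      simp only [act_apply, et] at this
      exact absurd this hq
  · obtain ⟨n, hn, en⟩ := exists_word_mask w
    rcases pair_facts.2.2 n hn with h | h | ⟨t, ht, q, hq⟩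
    · exact Or.inl (Subtype.ext (Subtype.ext (funext fun q => by rw [en]; exact h q)))
    · exact Or.inr (Subtype.ext (Subtype.ext (funext fun q => by rw [en, wC_apply]; exact h q)))
    · obtain ⟨h1', h2'⟩ := tables_ok.2.2.1 t ht
      obtain ⟨g, hg, hidx⟩ := exists_elt h1'
      have hτ : g ∈ ptStab oc := mem_ptStab.2 ⟨hg, fun p hp => idx_injective (by
        rw [oc, mem_toSet] at hp
        rw [hidx, h2' p hp])⟩
      have := congrArg (fun w : W0 => (w.1 : GolayPt → ZMod 2) q) (h2 ⟨g, hτ⟩)
      simp only [act_apply, en] at this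
      have eg : g q = tblFun t q := idx_injective (by
        rw [hidx, tblFun, idx_pt]; exact hidx q ▸ idx_lt _)
      rw [eg] at this
      exact absurd this hq

theorem zQ_ne_one : zQ ≠ 1 := by
  rw [← eqv_one]
  intro h
  have := congrArg (fun p : ptStab oc × W0 => (p.2.1 : GolayPt → ZMod 2) (pt 3)) (eqv.injective h)
  simp only [wC_apply] at this
  revert this
  decide +kernel

theorem zQ_central : zQ ∈ Subgroup.center qCo := by
  rw [Subgroup.mem_center_iff]
  intro g
  obtain ⟨⟨σ, w⟩, rfl⟩ := eqv.surjective g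
  rw [zQ, eqv_mul, eqv_mul, act_wC, act_one, mul_one, one_mul]
  congr 2
  exact Subtype.ext (add_comm _ _)

theorem isExtraspecial_qCo : Cfsg.IsExtraspecial 2 qCo := by
  have : Finite qCo := Nat.finite_of_card_ne_zero (by rw [card_qCo]; norm_num)
  refine ExtraspecialCrit.isExtraspecial (IsPGroup.of_card (n := 9) (by rw [card_qCo]; norm_num))
    zQ zQ_ne_one zQ_central ?_ ?_ ?_ ?_
  · intro a b
    obtain ⟨⟨σ, w⟩, rfl⟩ := eqv.surjective a
    obtain ⟨⟨τ, u⟩, rfl⟩ := eqv.surjective b
    have key : eqv (σ, w) * eqv (τ, u) = eqv (τ, u) * eqv (σ, w) ∨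
        eqv (σ, w) * eqv (τ, u) = zQ * (eqv (τ, u) * eqv (σ, w)) := by
      have hst : σ * τ = τ * σ := by
        have h := fun x : ptStab oc => inv_eq_of_mul_eq_one_right
          (show x * x = 1 from Subtype.ext ((ptStab_octad oc_mem).2 _ x.2))
        rw [← h (σ * τ), mul_inv_rev, h, h]
      simp only [zQ, eqv_mul, act_one, one_mul, hst]
      have hsum : wadd (wadd w (act σ u)) (wadd u (act τ w)) =
          wadd (wadd (act σ u) u) (wadd (act τ w) w) :=
        Subtype.ext (by simp only [wadd]; abel)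
      have cases : ∀ a : W0, a = wadd (wadd w (act σ u)) (wadd u (act τ w)) →
          a = wzero ∨ a = wC → (σ * τ, wadd w (act σ u)) = (τ * σ, wadd u (act τ w)) ∨
            (σ * τ, wadd w (act σ u)) = (τ * σ, wadd wC (wadd u (act τ w))) := by
        intro a ha hcase
        have two : ∀ z z' c : ZMod 2, z + z' = c → z = c + z' := by decide
        rcases hcase with rfl | rfl
        · refine Or.inl (Prod.ext hst (Subtype.ext (Subtype.ext (funext fun q => ?_))))
          have := two _ _ _ (congrArg (fun x : W0 => (x.1 : GolayPt → ZMod 2) q) ha).symm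
          exact this.trans (zero_add _)
        · refine Or.inr (Prod.ext hst (Subtype.ext (Subtype.ext (funext fun q => ?_))))
          exact two _ _ _ (congrArg (fun x : W0 => (x.1 : GolayPt → ZMod 2) q) ha).symm
      have hz : wadd (wadd (act σ u) u) (wadd (act τ w) w) = wzero ∨
          wadd (wadd (act σ u) u) (wadd (act τ w) w) = wC := by
        rcases act_add σ u with h | h <;> rcases act_add τ w with h' | h' <;> rw [h, h']
        · exact Or.inl (Subtype.ext (add_zero _))
        · exact Or.inr (Subtype.ext (zero_add _))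
        · exact Or.inr (Subtype.ext (add_zero _))
        · exact Or.inl (Subtype.ext (Subtype.ext (funext fun q => CharTwo.add_self_eq_zero _)))
      rcases cases _ hsum.symm hz with h | h
      · exact Or.inl (congrArg eqv (by rw [← hst] at h ⊢; exact h))
      · exact Or.inr (congrArg eqv (by rw [← hst] at h ⊢; exact h))
    rcases key with h | h
    · exact Or.inl (commutatorElement_eq_one_iff_commute.2 h)
    · refine Or.inr ?_
      rw [commutatorElement_def, h]
      group
  · intro a
    obtain ⟨⟨σ, w⟩, rfl⟩ := eqv.surjective a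
    have hσ : σ * σ = 1 := Subtype.ext ((ptStab_octad oc_mem).2 _ σ.2)
    have hc : wadd w (act σ w) = wadd (act σ w) w := Subtype.ext (add_comm _ _)
    rw [eqv_mul, hσ, hc]
    rcases act_add σ w with h | h <;> rw [h]
    · exact Or.inl eqv_one
    · exact Or.inr rfl
  · intro a ha
    obtain ⟨⟨σ, w⟩, rfl⟩ := eqv.surjective a
    rw [Subgroup.mem_center_iff] at ha
    have h1 : ∀ u, act σ u = u := fun u => by
      have h := ha (eqv (1, u))
      rw [eqv_mul, eqv_mul] at h
      have := congrArg Prod.snd (eqv.injective h)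
      rw [act_one] at this
      refine Subtype.ext ?_
      have h' : u.1 + w.1 = w.1 + (act σ u).1 := congrArg Subtype.val this
      rw [add_comm u.1] at h'
      exact (add_left_cancel h').symm
    have h2 : ∀ τ, act τ w = w := fun τ => by
      have h := ha (eqv (τ, wzero))
      rw [eqv_mul, eqv_mul] at h
      have := congrArg Prod.snd (eqv.injective h)
      refine Subtype.ext ?_
      have h' : (0 : golayCode) + (act τ w).1 = w.1 + (act σ wzero).1 := congrArg Subtype.val this
      rwa [h1 wzero, show (wzero : W0).1 = 0 from rfl, zero_add, add_zero] at h'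
    obtain ⟨rfl, rfl | rfl⟩ := central_facts σ w h1 h2
    · exact Or.inl eqv_one
    · exact Or.inr rfl
  · obtain ⟨τ, u, hne⟩ := exists_moving
    refine ⟨eqv (τ, wzero), eqv (1, u), fun h => hne ?_⟩
    have h0 := h.eq
    rw [eqv_mul, eqv_mul] at h0
    have h' := congrArg Prod.snd (eqv.injective h0)
    refine Subtype.ext ?_
    have h'' : (0 : golayCode) + (act τ u).1 = u.1 + (act 1 wzero).1 := congrArg Subtype.val h'
    rwa [act_one, show (wzero : W0).1 = 0 from rfl, zero_add, add_zero] at h''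

end CfsgLib.Sporadic.LeechE8
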