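import Cfsg.Agent.Lib.SmallGroups.LeechHS
import Cfsg.Agent.Lib.SmallGroups.LeechParamCount

/-!
Suborbits of the stabilisers of vectors of square norm 32 and 48 on minimal vectors, deduced from the
transitivity on the McLaughlin and Higman–Sims configurations.
-/

set_option autoImplicit false
set_option maxRecDepth 10000

namespace CfsgLib.Sporadic.LeechSuborbits

open Cfsg CfsgLib.SmallGroups.Golay CfsgLib.SmallGroups.LeechOrbit CfsgLib.SmallGroups.LeechEnum
  CfsgLib.SmallGroups.LeechLists CfsgLib.SmallGroups.LeechVectorStab CfsgLib.SmallGroups.LeechPairs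
open CfsgLib.SmallGroups CfsgLib.SmallGroups.LeechParamCount
open scoped Pointwise

theorem smul_zero' (g : Co0) : g • (0 : leechLattice) = 0 := by
  simpa using smul_add' g 0 0

theorem smul_neg' (g : Co0) (a : leechLattice) : g • (-a) = -(g • a) := by
  rw [eq_neg_iff_add_eq_zero, ← smul_add', neg_add_cancel, smul_zero']

theorem dot_neg (a b : GolayPt → ℤ) : dotInt a (-b) = -dotInt a b := by
  simp [dotInt, Finset.sum_neg_distrib]

theorem sqNorm_neg (a : GolayPt → ℤ) : sqNorm (-a) = sqNorm a := by simp [sqNorm]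

/-- Six fixed candidates at inner product `-8` with `(4, 4, 0, ..., 0)`. -/
def cands : List ℕ :=
  
  [42252592745823659807075633254,
      32351509103334817129090943112,
      31734947525312171623919814792,
      42832886512498395563946444934,
      31732529639094832191697750152,
      42255020634796382264136206982,
      42874140555131901336864974982,
      32390175877116144783207213192,
      32390185319705428024204232840]

/-- A vector at inner product 16 with `(4, 4, 0, ..., 0)` orthogonal to no candidate. -/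
def bad (f : ℕ → ℤ) : Bool :=
  (4 * (f 23 + f 0) == 16) && cands.all fun c => ((List.range 24).map fun i => f i * dig c i).sum != 0

/-- The test for a bad vector. -/
def testBad : Test where
  pair i j a b := bad (pairF i j a b)
  oct o _ n := bad (octF o n)
  oddPre _ := true
  odd c p := bad (oddF c p)

theorem no_bad : cnt testBad = 0 := by decide +kernel

theorem cands_ok : ∀ c ∈ cands, LeechReach.okGood 0 (Pk c) = true ∧ dotK c c = 32 ∧
    4 * (dig c 23 + dig c 0) = -8 := by
  decide +kernel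

theorem dot_v44 (x : GolayPt → ℤ) :
    dotInt (LeechCo2.v44 : GolayPt → ℤ) x = 4 * (x none + x (some 0)) := by
  rw [dotInt, Finset.sum_congr rfl fun q _ => show (LeechCo2.v44 : GolayPt → ℤ) q * x q =
    if q ∈ ({none, some 0} : Finset GolayPt) then 4 * x q else 0 by
      rw [LeechCo2.v44_apply]; simp [ite_mul], Finset.sum_ite_mem, Finset.univ_inter,
    Finset.sum_pair (by simp), mul_add]

theorem exists_third_base (z : leechLattice) (hz : sqNorm (z : GolayPt → ℤ) = 32)
    (hd : dotInt (LeechCo2.v44 : GolayPt → ℤ) (z : GolayPt → ℤ) = 16) :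
    ∃ x : leechLattice, sqNorm (x : GolayPt → ℤ) = 32 ∧
      dotInt (LeechCo2.v44 : GolayPt → ℤ) (x : GolayPt → ℤ) = -8 ∧
      dotInt (z : GolayPt → ℤ) (x : GolayPt → ℤ) = 0 := by
  let P : (GolayPt → ℤ) → Prop := fun y => 4 * (y none + y (some 0)) = 16 ∧
    ∀ c ∈ cands, dotInt y (Pk c) ≠ 0
  have key : ∀ f, P (ofPos f) → bad f = true := by
    intro f hf
    simp only [bad, Bool.and_eq_true, beq_iff_eq, List.all_eq_true, bne_iff_ne]
    refine ⟨?_, fun c hc e => hf.2 c hc ?_⟩
    · have := hf.1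
      simp only [ofPos, Sporadic.M24Config.idx_none, Sporadic.M24Config.idx_zero] at this
      exact this
    · rw [← e, ← sum_range_eq]
      rfl
  have hsound : Sound testBad P := ⟨fun i j a b _ _ _ h => key _ h, fun o n k _ _ _ h => key _ h,
    fun c p _ h => ⟨rfl, key _ h⟩⟩
  have hle := ncard_le hsound
  rw [no_bad, Nat.le_zero, Set.ncard_eq_zero (LeechHS.finite32.subset fun x hx =>
    ⟨LeechBasic.mem_lattice.2 hx.1, hx.2.1⟩)] at hle
  have hnot : ¬ P (z : GolayPt → ℤ) := fun h =>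
    Set.eq_empty_iff_forall_notMem.1 hle _ ⟨LeechBasic.mem_lattice.1 z.2, hz, h⟩
  simp only [P, dot_v44] at hnot hd
  push Not at hnot
  obtain ⟨c, hc, hc0⟩ := hnot hd
  obtain ⟨h1, h2, h3⟩ := cands_ok c hc
  refine ⟨⟨Pk c, LeechBasic.mem_lattice.2 (LeechReach.good_of_ok h1)⟩, ?_, ?_, hc0⟩
  · rw [sqNorm_eq, dotK_eq, h2]
  · rw [dot_v44]
    simp only [Pk, Sporadic.M24Config.idx_none, Sporadic.M24Config.idx_zero]
    exact h3

theorem exists_third (v z : leechLattice) (hv : sqNorm (v : GolayPt → ℤ) = 32)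
    (hz : sqNorm (z : GolayPt → ℤ) = 32) (hd : dotInt (v : GolayPt → ℤ) (z : GolayPt → ℤ) = 16) :
    ∃ x : leechLattice, sqNorm (x : GolayPt → ℤ) = 32 ∧
      dotInt (v : GolayPt → ℤ) (x : GolayPt → ℤ) = -8 ∧
      dotInt (z : GolayPt → ℤ) (x : GolayPt → ℤ) = 0 := by
  obtain ⟨a, rfl⟩ := LeechTransitive.transitive32 LeechCo2.v44 v LeechCo2.norm_v44 hv
  obtain ⟨y, rfl⟩ : ∃ y, a • y = z := ⟨a⁻¹ • z, smul_inv_smul a z⟩
  rw [norm_smul] at hz
  rw [dot_smul] at hd
  obtain ⟨x, h1, h2, h3⟩ := exists_third_base y hz hd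
  exact ⟨a • x, (norm_smul a x).trans h1, (dot_smul a _ _).trans h2, (dot_smul a _ _).trans h3⟩

/-- Minimal vectors with inner product 16 form one orbit of pairs. -/
theorem exists_map16 (v z : leechLattice) (hv : sqNorm (v : GolayPt → ℤ) = 32)
    (hz : sqNorm (z : GolayPt → ℤ) = 32) (hd : dotInt (v : GolayPt → ℤ) (z : GolayPt → ℤ) = 16) :
    ∃ g : Co0, g • (v48 - vV) = v ∧ g • LeechHS.vZ = z := by
  obtain ⟨x, h1, h2, h3⟩ := exists_third v z hv hz hd
  have hu : sqNorm ((v + x : leechLattice) : GolayPt → ℤ) = 48 := by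
    rw [AddSubgroup.coe_add, sqNorm_add, hv, h1, h2]; norm_num
  have huz : dotInt ((v + x : leechLattice) : GolayPt → ℤ) (z : GolayPt → ℤ) = 16 := by
    rw [AddSubgroup.coe_add, LeechHS.dot_add_left, hd, dot_comm, h3]; norm_num
  have hx : x ∈ LeechHS.pts (v + x) z :=
    ⟨⟨h1, by rw [AddSubgroup.coe_add, add_sub_cancel_right]; exact hv⟩, h3⟩
  obtain ⟨g, g1, g2, g3⟩ := LeechHS.exists_map3 _ z x hu hz huz hx
  refine ⟨g, ?_, g2⟩
  rw [sub_eq_add_neg, smul_add', smul_neg', g1, g3, add_neg_cancel_right]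

theorem trans_of_maps {a b v w w' : leechLattice} (h : ∃ g : Co0, g • a = v ∧ g • b = w)
    (h' : ∃ g : Co0, g • a = v ∧ g • b = w') : ∃ g : Co0, g • v = v ∧ g • w = w' := by
  obtain ⟨g, g1, g2⟩ := h
  obtain ⟨g', g1', g2'⟩ := h'
  exact ⟨g' * g⁻¹, by rw [mul_smul, inv_smul_eq_iff.2 g1.symm, g1'],
    by rw [mul_smul, inv_smul_eq_iff.2 g2.symm, g2']⟩

/-- The stabiliser of a minimal vector is transitive at inner product `-16`. -/
theorem transitive_minus16 (v w w' : leechLattice) (hv : sqNorm (v : GolayPt → ℤ) = 32)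
    (hw : sqNorm (w : GolayPt → ℤ) = 32) (hw' : sqNorm (w' : GolayPt → ℤ) = 32)
    (hd : dotInt (v : GolayPt → ℤ) (w : GolayPt → ℤ) = -16)
    (hd' : dotInt (v : GolayPt → ℤ) (w' : GolayPt → ℤ) = -16) :
    ∃ g : Co0, g • v = v ∧ g • w = w' := by
  have key : ∀ y : leechLattice, sqNorm (y : GolayPt → ℤ) = 32 →
      dotInt (v : GolayPt → ℤ) (y : GolayPt → ℤ) = -16 →
      ∃ g : Co0, g • (v48 - vV) = v ∧ g • LeechHS.vZ = -y := fun y hy hy' =>
    exists_map16 v (-y) hv (by rw [NegMemClass.coe_neg, sqNorm_neg, hy])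
      (by rw [NegMemClass.coe_neg, dot_neg, hy']; norm_num)
  obtain ⟨g, g1, g2⟩ := trans_of_maps (key w hw hd) (key w' hw' hd')
  rw [smul_neg', neg_inj] at g2
  exact ⟨g, g1, g2⟩

/-- The stabiliser of a minimal vector is transitive at inner product `-8`. -/
theorem transitive_minus8 (v w w' : leechLattice) (hv : sqNorm (v : GolayPt → ℤ) = 32)
    (hw : sqNorm (w : GolayPt → ℤ) = 32) (hw' : sqNorm (w' : GolayPt → ℤ) = 32)
    (hd : dotInt (v : GolayPt → ℤ) (w : GolayPt → ℤ) = -8)
    (hd' : dotInt (v : GolayPt → ℤ) (w' : GolayPt → ℤ) = -8) :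
    ∃ g : Co0, g • v = v ∧ g • w = w' := by
  have key : ∀ y : leechLattice, sqNorm (y : GolayPt → ℤ) = 32 →
      dotInt (v : GolayPt → ℤ) (y : GolayPt → ℤ) = -8 →
      ∃ g : Co0, g • vV = v ∧ g • (v48 - vV) = y := fun y hy hy' => by
    obtain ⟨g, g1, g2⟩ := LeechPairs.exists_map (v + y) v
      (by rw [AddSubgroup.coe_add, sqNorm_add, hv, hy, hy']; norm_num)
      ⟨hv, by rw [AddSubgroup.coe_add, add_sub_cancel_left]; exact hy⟩
    exact ⟨g, g2, by rw [sub_eq_add_neg, smul_add', smul_neg', g1, g2, add_comm v, add_neg_cancel_right]⟩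
  exact trans_of_maps (key w hw hd) (key w' hw' hd')

/-- The minimal vectors at inner product `d` with a vector. -/
def at' (u : leechLattice) (d : ℤ) : Set leechLattice :=
  {x | sqNorm (x : GolayPt → ℤ) = 32 ∧ dotInt (u : GolayPt → ℤ) (x : GolayPt → ℤ) = d}

theorem ncard_at16_base : (at' v48 16).ncard = 11178 := by
  have hZ : LeechHS.vZ ∈ at' v48 16 :=
    ⟨LeechHS.norm_vZ, by rw [coe_v48, LeechHS.coe_vZ, dotK_eq, LeechHS.facts.2.1]⟩
  have h := LeechMcL.card_mul (MulAction.stabilizer Co0 v48) LeechHS.vZ (at' v48 16) fun x =>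
    ⟨fun hx => LeechHS.transitive16 x hx.1 hx.2, fun ⟨g, hg, e⟩ => by
      rw [← e]
      refine ⟨(norm_smul g _).trans hZ.1, ?_⟩
      rw [← show g • v48 = v48 from hg, dot_smul]
      exact hZ.2⟩
  rw [LeechCo3.card_stab, show Nat.card ↥(MulAction.stabilizer Co0 v48 ⊓ MulAction.stabilizer Co0 LeechHS.vZ)
    = 44352000 from LeechHS.card_G2] at h
  generalize (at' v48 16).ncard = n at *
  exact Nat.eq_of_mul_eq_mul_right (show 0 < 44352000 by norm_num) (h.trans (by norm_num))

/-- The 11178 minimal vectors at inner product `-16` with a vector of square norm 48. -/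
theorem at_minus16 (u : leechLattice) (hu : sqNorm (u : GolayPt → ℤ) = 48) :
    (at' u (-16)).ncard = 11178 ∧
      ∀ x ∈ at' u (-16), ∀ x' ∈ at' u (-16), ∃ g : Co0, g • u = u ∧ g • x = x' := by
  have hneg : ∀ x, x ∈ at' u (-16) ↔ -x ∈ at' u 16 := fun x => by
    simp only [at', Set.mem_ofPred_eq, NegMemClass.coe_neg, sqNorm_neg, dot_neg]
    constructor <;> rintro ⟨a, b⟩ <;> exact ⟨a, by omega⟩
  refine ⟨?_, fun x hx x' hx' => ?_⟩
  · obtain ⟨a, rfl⟩ := LeechTransitive.transitive48 v48 u norm_v48 hu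
    have e1 : at' (a • v48) (-16) = Neg.neg '' at' (a • v48) 16 := by
      ext x
      rw [hneg, Set.mem_image]
      exact ⟨fun h => ⟨-x, h, neg_neg x⟩, fun ⟨y, hy, e⟩ => by rwa [← e, neg_neg]⟩
    rw [e1, Set.ncard_image_of_injective _ neg_injective,
      LeechMcL.ncard_transport (g := a) (s := at' v48 16) fun y => by
        simp only [at', Set.mem_ofPred_eq, norm_smul, dot_smul],
      ncard_at16_base]
  · have h1 := (hneg x).1 hx
    have h2 := (hneg x').1 hx'
    obtain ⟨g, g1, g2⟩ := trans_of_maps (LeechHS.exists_map u _ hu h1.1 h1.2)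
      (LeechHS.exists_map u _ hu h2.1 h2.2)
    rw [smul_neg', neg_inj] at g2
    exact ⟨g, g1, g2⟩

end CfsgLib.Sporadic.LeechSuborbits
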