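import Cfsg.Agent.Lib.Sporadic.LeechE8Shells
import Cfsg.Agent.Lib.Sporadic.OctadStabilizer
import Cfsg.Agent.Lib.Sporadic.LeechSuborbits

/-!
# The centraliser of the sign change on an octad

It contains the monomial maps preserving the octad and the non-monomial involution, and is transitive
on the two shells of the sublattice of the octad; this gives its order.
-/

set_option autoImplicit false
set_option maxRecDepth 10000

namespace CfsgLib.Sporadic.LeechE8

open Cfsg CfsgLib.SmallGroups.Golay CfsgLib.SmallGroups.GolayOctads CfsgLib.SmallGroups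
  CfsgLib.SmallGroups.LeechBasic CfsgLib.SmallGroups.LeechEnum CfsgLib.Sporadic.LeechE8Data
open CfsgLib.Sporadic.LeechSuborbits (smul_neg' smul_zero')
open CfsgLib.ThreeTransp
open LeechMonomial (mono)
open scoped Pointwise

/-- The sign change on the octad. -/
noncomputable def tOct : Co0 := mono (1, ⟨oc, oc_mem.1⟩)

theorem tOct_apply (v : leechLattice) (q : GolayPt) :
    ((tOct • v : leechLattice) : GolayPt → ℤ) q =
      if q ∈ oc then -(v : GolayPt → ℤ) q else (v : GolayPt → ℤ) q := rfl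

theorem mem_sub8_iff (v : leechLattice) : v ∈ sub8 ↔ tOct • v = -v := by
  constructor
  · intro h
    refine Subtype.ext (funext fun q => ?_)
    rw [tOct_apply, NegMemClass.coe_neg, Pi.neg_apply]
    split_ifs with hq
    · rfl
    · rw [h q hq, neg_zero]
  · intro h q hq
    have := congrArg (fun w : leechLattice => (w : GolayPt → ℤ) q) h
    simp only [tOct_apply, if_neg hq, NegMemClass.coe_neg, Pi.neg_apply] at this
    omega

/-- The centraliser of the sign change. -/
noncomputable abbrev cen : Subgroup Co0 := Subgroup.centralizer {tOct}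

theorem mem_cen_iff (g : Co0) : g ∈ cen ↔ ∀ v : leechLattice, g • tOct • v = tOct • g • v := by
  rw [Subgroup.mem_centralizer_singleton_iff]
  constructor
  · intro h v
    rw [smul_smul, smul_smul, h]
  · intro h
    exact Subtype.ext (Equiv.ext fun v => h v)

theorem smul_mem_sub8 {g : Co0} (hg : g ∈ cen) {v : leechLattice} (hv : v ∈ sub8) : g • v ∈ sub8 := by
  rw [mem_sub8_iff, ← (mem_cen_iff g).1 hg, (mem_sub8_iff v).1 hv, smul_neg']

theorem mono_mem_cen (σ : M24) (c : LeechMonomial.CS)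
    (hσ : ∀ q, (σ : Equiv.Perm GolayPt) q ∈ oc ↔ q ∈ oc) : mono (σ, c) ∈ cen := by
  rw [mem_cen_iff]
  intro v
  refine Subtype.ext (funext fun q => ?_)
  have h : ((σ : Equiv.Perm GolayPt).symm q ∈ oc ↔ q ∈ oc) := by
    rw [← hσ, Equiv.apply_symm_apply]
  simp only [LeechMonomial.mono_apply, tOct_apply, signedPerm, h]
  split_ifs <;> ring

theorem mono_mem_cen_iff (σ : M24) (c : LeechMonomial.CS) :
    mono (σ, c) ∈ cen ↔ ∀ q, (σ : Equiv.Perm GolayPt) q ∈ oc ↔ q ∈ oc := by
  refine ⟨fun h => ?_, mono_mem_cen σ c⟩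
  have key : ∀ q, q ∈ oc → (σ : Equiv.Perm GolayPt) q ∈ oc := fun q hq => by
    have hu : LeechCenter.unitVec q ∈ sub8 := fun r hr => by
      show (Pi.single q (8 : ℤ) : GolayPt → ℤ) r = 0
      exact Pi.single_eq_of_ne (fun e : r = q => hr (e ▸ hq)) _
    by_contra hne
    have := smul_mem_sub8 h hu _ hne
    rw [LeechGroup.smul_unit, Pi.single_eq_same] at this
    split_ifs at this <;> omega
  intro q
  refine ⟨fun hq => ?_, key q⟩
  have himg : oc.image (σ : Equiv.Perm GolayPt) = oc :=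
    Finset.eq_of_subset_of_card_le (Finset.image_subset_iff.2 key)
      (by rw [Finset.card_image_of_injective _ (Equiv.injective _)])
  rw [← himg, Finset.mem_image] at hq
  obtain ⟨r, hr, e⟩ := hq
  rwa [← (Equiv.injective _) e]

theorem xi_mem_cen : LeechXi.xi ∈ cen := by
  rw [mem_cen_iff]
  intro v
  refine Subtype.ext (smul_right_injective (GolayPt → ℤ) (two_ne_zero : (2 : ℤ) ≠ 0) ?_)
  funext p
  have key : ∀ p q : GolayPt, LeechXi.entry p q ≠ 0 → (q ∈ oc ↔ p ∈ oc) := by
    simp only [oc, mem_toSet]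
    decide +kernel
  have e1 : (2 : ℤ) * ((LeechXi.xi • tOct • v : leechLattice) : GolayPt → ℤ) p =
      ∑ q, LeechXi.entry p q * ((tOct • v : leechLattice) : GolayPt → ℤ) q :=
    congrFun (LeechXi.two_xi (tOct • v)) p
  have e2 : (2 : ℤ) * ((LeechXi.xi • v : leechLattice) : GolayPt → ℤ) p =
      ∑ q, LeechXi.entry p q * (v : GolayPt → ℤ) q :=
    congrFun (LeechXi.two_xi v) p
  show (2 : ℤ) * _ = (2 : ℤ) * ((tOct • (LeechXi.xi • v) : leechLattice) : GolayPt → ℤ) p
  rw [e1, tOct_apply, mul_ite, mul_neg, e2]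
  by_cases hp : p ∈ oc
  · rw [if_pos hp, ← Finset.sum_neg_distrib]
    refine Finset.sum_congr rfl fun q _ => ?_
    by_cases h0 : LeechXi.entry p q = 0
    · simp [h0]
    · rw [tOct_apply, if_pos ((key p q h0).2 hp), mul_neg]
  · rw [if_neg hp]
    refine Finset.sum_congr rfl fun q _ => ?_
    by_cases h0 : LeechXi.entry p q = 0
    · simp [h0]
    · rw [tOct_apply, if_neg fun h => hp ((key p q h0).1 h)]

/-! ### Signs and permutations on the octad -/

theorem exists_signs {E : Finset GolayPt} (hE : E ⊆ oc) (hev : 2 ∣ E.card) :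
    ∃ c : LeechMonomial.CS, ∀ q ∈ oc, q ∈ (c : Finset GolayPt) ↔ q ∈ E := by
  obtain ⟨c, hc, hcv⟩ := GolayUnique.golay_isDE.extend ocᶜ (fun q => if q ∈ E then 1 else 0)
    fun d hd hd0 => by
      obtain ⟨k, hk, rfl⟩ := mem_code_iff.1 hd
      rcases code_inside (mem_cw.2 ⟨k, hk, rfl⟩) (fun q hq => by
        have := hd0 q (Finset.mem_compl.2 hq)
        simpa [word] using this) with h | h
      · simp [h, word_zero]
      · rw [h]
        simp only [ite_mul, one_mul, zero_mul, Finset.sum_ite_mem, Finset.univ_inter]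
        rw [Finset.sum_congr rfl fun q hq => show word octX q = (1 : ZMod 2) by
          have := hE hq
          rw [oc, mem_toSet] at this
          simp [word, this]]
        rw [Finset.sum_const, nsmul_eq_mul, mul_one, ZMod.natCast_eq_zero_iff_even]
        exact (even_iff_two_dvd).2 hev
  refine ⟨⟨support₂ c, mem_supports_word hc⟩, fun q hq => ?_⟩
  have := hcv q (by simpa using hq)
  simp only [support₂, Finset.mem_filter, Finset.mem_univ, true_and, this]
  split_ifs with h <;> simp [h]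

/-- The eight points as the octad. -/
noncomputable def e8 : Fin 8 ≃ ↥oc :=
  Equiv.ofBijective (fun k => ⟨at8 k, at8_mem k⟩)
    ⟨fun i j e => at8_injective (Subtype.ext_iff.1 e), fun q => by
      obtain ⟨k, hk⟩ := (mem_oc_iff _).1 q.2
      exact ⟨k, Subtype.ext hk⟩⟩

theorem exists_perm (π : Equiv.Perm (Fin 8)) (hπ : Equiv.Perm.sign π = 1) :
    ∃ σ : M24, (∀ q, (σ : Equiv.Perm GolayPt) q ∈ oc ↔ q ∈ oc) ∧
      ∀ k, (σ : Equiv.Perm GolayPt) (at8 k) = at8 (π k) := by
  have hmem : e8.permCongr π ∈ (OctadStabilizer.res oc).range := by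
    rw [OctadStabilizer.range_res oc_mem, Equiv.Perm.mem_alternatingGroup, Equiv.Perm.sign_permCongr, hπ]
  obtain ⟨g, hg⟩ := hmem
  refine ⟨⟨g, g.2.1⟩, fun q => OctadStabilizer.apply_mem_iff g.2.2 q, fun k => ?_⟩
  have := congrArg (fun e : Equiv.Perm ↥oc => (e (e8 k) : GolayPt)) hg
  simp only [Equiv.permCongr_apply, Equiv.symm_apply_apply, OctadStabilizer.res_apply] at this
  exact this

/-- Vectors of equal absolute values are moved to each other by monomial maps of the centraliser. -/
theorem exists_mono {y y' : Fin 8 → ℤ} {x x' : leechLattice}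
    (hx : (x : GolayPt → ℤ) = ext8 y) (hx' : (x' : GolayPt → ℤ) = ext8 y')
    (hcnt : ∀ c : ℕ, (Finset.univ.filter fun k => (y k).natAbs = c).card =
      (Finset.univ.filter fun k => (y' k).natAbs = c).card)
    (hrep : ∃ a b, a ≠ b ∧ (y' a).natAbs = (y' b).natAbs)
    (hpar : (∃ k, y' k = 0) ∨
      ((∀ k, y' k % 2 = 1) ∧ (∑ k, y k) % 4 = 0 ∧ (∑ k, y' k) % 4 = 0)) :
    ∃ g ∈ cen, g • x = x' := by
  obtain ⟨π, hsgn, hπ⟩ : ∃ π : Equiv.Perm (Fin 8), Equiv.Perm.sign π = 1 ∧
      ∀ k, (y' (π k)).natAbs = (y k).natAbs := by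
    let π₀ : Equiv.Perm (Fin 8) := Equiv.ofFiberEquiv (f := fun k => (y k).natAbs)
      (g := fun k => (y' k).natAbs) fun c => Fintype.equivOfCardEq (by
        rw [Fintype.card_subtype, Fintype.card_subtype]; exact hcnt c)
    have h₀ : ∀ k, (y' (π₀ k)).natAbs = (y k).natAbs := fun k =>
      Equiv.ofFiberEquiv_map (f := fun k => (y k).natAbs) (g := fun k => (y' k).natAbs) _ k
    rcases Int.units_eq_one_or (Equiv.Perm.sign π₀) with h | h
    · exact ⟨π₀, h, h₀⟩
    · obtain ⟨a, b, hab, he⟩ := hrep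
      refine ⟨Equiv.swap a b * π₀, by rw [map_mul, Equiv.Perm.sign_swap hab, h]; rfl, fun k => ?_⟩
      rw [← h₀ k, Equiv.Perm.mul_apply, Equiv.swap_apply_def]
      split_ifs with e1 e2
      · rw [e1, he]
      · rw [e2, he]
      · rfl
  have habs : ∀ j, y (π.symm j) = y' j ∨ y (π.symm j) = -y' j := fun j => by
    have := hπ (π.symm j)
    rw [Equiv.apply_symm_apply] at this
    exact Int.natAbs_eq_natAbs_iff.1 this.symm
  set D := Finset.univ.filter fun j => y (π.symm j) ≠ y' j with hD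
  obtain ⟨D', hD', hev⟩ : ∃ D' : Finset (Fin 8), (∀ j, y' j ≠ 0 → (j ∈ D' ↔ j ∈ D)) ∧ 2 ∣ D'.card := by
    rcases Nat.even_or_odd D.card with h | h
    · exact ⟨D, fun _ _ => Iff.rfl, even_iff_two_dvd.1 h⟩
    rcases hpar with ⟨k, hk⟩ | ⟨hodd, hs, hs'⟩
    · have hkD : k ∉ D := by
        have := habs k
        simp only [hD, Finset.mem_filter, Finset.mem_univ, true_and, hk, neg_zero, or_self] at this ⊢
        simpa using this
      refine ⟨insert k D, fun j hj => ?_, ?_⟩
      · rw [Finset.mem_insert]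
        exact ⟨fun h' => h'.resolve_left fun e => hj (e ▸ hk), Or.inr⟩
      · rw [Finset.card_insert_of_notMem hkD]
        obtain ⟨r, hr⟩ := h
        omega
    · exfalso
      have e : ∑ k, y k = ∑ j, y' j - 2 * ∑ j ∈ D, y' j := by
        rw [← Equiv.sum_comp π.symm y, hD, Finset.sum_filter, Finset.mul_sum, ← Finset.sum_sub_distrib]
        refine Finset.sum_congr rfl fun j _ => ?_
        have := habs j
        split_ifs with hne <;> omega
      have h2 : ∑ j ∈ D, y' j = (D.card : ℤ) + 2 * ∑ j ∈ D, (y' j / 2) := by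
        rw [Finset.card_eq_sum_ones, Nat.cast_sum, Finset.mul_sum, ← Finset.sum_add_distrib]
        exact Finset.sum_congr rfl fun j _ => by have := hodd j; push_cast; omega
      obtain ⟨r, hr⟩ := h
      omega
  obtain ⟨σ, hσ, hσk⟩ := exists_perm π hsgn
  obtain ⟨c, hc⟩ := exists_signs (E := D'.image at8)
    (Finset.image_subset_iff.2 fun j _ => at8_mem j)
    (by rwa [Finset.card_image_of_injective _ at8_injective])
  refine ⟨mono (σ, c), mono_mem_cen σ c hσ, Subtype.ext (funext fun q => ?_)⟩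
  rw [LeechMonomial.mono_apply, hx, hx', signedPerm]
  by_cases hq : q ∈ oc
  · obtain ⟨j, rfl⟩ := (mem_oc_iff q).1 hq
    have es : (σ : Equiv.Perm GolayPt).symm (at8 j) = at8 (π.symm j) := by
      rw [Equiv.symm_apply_eq, hσk, Equiv.apply_symm_apply]
    simp only [es, ext8_at, hc _ hq, at8_injective.mem_finset_image]
    by_cases h0 : y' j = 0
    · have := habs j
      simp only [h0, neg_zero, or_self] at this
      simp [h0, this]
    · simp only [hD' j h0, hD, Finset.mem_filter, Finset.mem_univ, true_and]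
      have := habs j
      split_ifs with hne <;> omega
  · have hq' : (σ : Equiv.Perm GolayPt).symm q ∉ oc := by
      rw [← hσ, Equiv.apply_symm_apply]; exact hq
    simp only [ext8_off y hq', ext8_off y' hq]
    split_ifs <;> simp

/-! ### The two orbits -/

/-- Some element of the centraliser carries `x` to `z`. -/
def Conn (x z : leechLattice) : Prop := ∃ g ∈ cen, g • x = z

theorem Conn.trans {x z w : leechLattice} (h : Conn x z) (h' : Conn z w) : Conn x w := by
  obtain ⟨g, hg, rfl⟩ := h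
  obtain ⟨g', hg', rfl⟩ := h'
  exact ⟨g' * g, mul_mem hg' hg, mul_smul _ _ _⟩

theorem Conn.symm {x z : leechLattice} (h : Conn x z) : Conn z x := by
  obtain ⟨g, hg, rfl⟩ := h
  exact ⟨g⁻¹, inv_mem hg, inv_smul_smul g x⟩

/-- The vector with the given halved values. -/
def vec8 (y : Fin 8 → ℤ) (h : okY y = true) : leechLattice := ⟨ext8 y, mem_of_ok h⟩

theorem conn_xi {y y' : Fin 8 → ℤ} (h : okY y = true) (h' : okY y' = true)
    (he : ∀ q, LeechXi.dblHom (ext8 y) q = 2 * ext8 y' q) : Conn (vec8 y h) (vec8 y' h') :=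
  ⟨LeechXi.xi, xi_mem_cen, Subtype.ext (smul_right_injective (GolayPt → ℤ)
    (two_ne_zero : (2 : ℤ) ≠ 0) ((LeechXi.two_xi (vec8 y h)).trans (funext he)))⟩

/-- The halved values given by a list. -/
def yOf (l : List ℤ) (k : Fin 8) : ℤ := l.getD k 0

/-- The test that a list has the shape of a reference list, allowing the monomial move. -/
def sameShape (l r : List ℤ) : Bool :=
  (List.range 5).all (fun c => (Finset.univ.filter fun k => (yOf l k).natAbs = c).card ==
    (Finset.univ.filter fun k => (yOf r k).natAbs = c).card) &&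
  decide (∀ k, (yOf l k).natAbs < 5) &&
  decide (∀ k, (yOf r k).natAbs < 5) &&
  decide (∃ a b : Fin 8, a ≠ b ∧ (yOf r a).natAbs = (yOf r b).natAbs) &&
  (decide (∃ k, yOf r k = 0) || (decide (∀ k, yOf r k % 2 = 1) && decide ((∑ k, yOf l k) % 4 = 0) &&
    decide ((∑ k, yOf r k) % 4 = 0)))

theorem conn_of_shape {l r : List ℤ} (h : sameShape l r = true) {x z : leechLattice}
    (hx : (x : GolayPt → ℤ) = ext8 (yOf l)) (hz : (z : GolayPt → ℤ) = ext8 (yOf r)) : Conn x z := by
  simp only [sameShape, Bool.and_eq_true, Bool.or_eq_true, decide_eq_true_eq, and_assoc,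
    List.all_eq_true, List.mem_range, beq_iff_eq] at h
  obtain ⟨h1, h2, h3, h4, h5⟩ := h
  refine exists_mono hx hz (fun c => ?_) h4 (by tauto)
  rcases Nat.lt_or_ge c 5 with hc | hc
  · exact h1 c hc
  · rw [Finset.filter_eq_empty_iff.2 fun k _ => by have := h2 k; omega,
      Finset.filter_eq_empty_iff.2 fun k _ => by have := h3 k; omega]

/-- The reference lists of square norm 64. -/
def refs64 : List (List ℤ) :=
  [[0, 0, 0, 0, 0, 0, 0, 4], [2, 2, 2, 0, 0, 0, 0, -2], [1, 1, 1, 1, -1, -1, -1, 3]]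

/-- The reference lists of square norm 32. -/
def refs32 : List (List ℤ) :=
  [[2, 0, 0, 0, 0, 0, 0, 2], [-1, 1, 1, 1, -1, -1, -1, 1]]

theorem covered : (shell 16).all (fun l => refs64.any fun r => sameShape l r) = true ∧
    (shell 8).all (fun l => refs32.any fun r => sameShape l r) = true := by
  decide +kernel

theorem conn_refs64 : ∀ r ∈ refs64, ∃ h : okY (yOf r) = true,
    Conn LeechOrder.base8 (vec8 (yOf r) h) := by
  have hbase : ∀ q, ext8 (yOf [0, 0, 0, 0, 0, 0, 0, 4]) q = if q = none then 8 else 0 := by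
    decide +kernel
  have hA : Conn LeechOrder.base8 (vec8 (yOf [0, 0, 0, 0, 0, 0, 0, 4]) (by decide +kernel)) :=
    ⟨1, one_mem _, Subtype.ext (by
      rw [one_smul, LeechOrder.coe_base8]
      funext q
      rw [Pi.single_apply]
      exact (hbase q).symm)⟩
  have hB := hA.trans (conn_xi _ (y' := yOf [2, 2, 2, 0, 0, 0, 0, -2]) (by decide +kernel)
    (by decide +kernel))
  have hO := (hB.trans (conn_of_shape (l := [2, 2, 2, 0, 0, 0, 0, -2]) (r := [2, 2, 2, 2, 0, 0, 0, 0])
    (z := vec8 (yOf [2, 2, 2, 2, 0, 0, 0, 0]) (by decide +kernel)) (by decide +kernel) rfl rfl)).trans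
    (conn_xi _ (y' := yOf [1, 1, 1, 1, -1, -1, -1, 3]) (by decide +kernel) (by decide +kernel))
  intro r hr
  simp only [refs64, List.mem_cons, List.not_mem_nil, or_false] at hr
  rcases hr with rfl | rfl | rfl
  exacts [⟨_, hA⟩, ⟨_, hB⟩, ⟨_, hO⟩]

theorem ok_root : okY (yOf [2, 0, 0, 0, 0, 0, 0, 2]) = true := by decide +kernel

/-- The root `(4, 4, 0, ..., 0)`. -/
def rootU : leechLattice := vec8 (yOf [2, 0, 0, 0, 0, 0, 0, 2]) ok_root

theorem conn_refs32 : ∀ r ∈ refs32, ∃ h : okY (yOf r) = true, Conn rootU (vec8 (yOf r) h) := by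
  have hA : Conn rootU rootU := ⟨1, one_mem _, one_smul _ _⟩
  have hB : Conn rootU (vec8 (yOf [-1, 1, 1, 1, -1, -1, -1, 1]) (by decide +kernel)) :=
    (conn_of_shape (l := [2, 0, 0, 0, 0, 0, 0, 2]) (r := [2, 0, 0, 2, 0, 0, 0, 0])
      (z := vec8 (yOf [2, 0, 0, 2, 0, 0, 0, 0]) (by decide +kernel)) (by decide +kernel) rfl rfl).trans
      (conn_xi _ _ (by decide +kernel))
  intro r hr
  simp only [refs32, List.mem_cons, List.not_mem_nil, or_false] at hr
  rcases hr with rfl | rfl
  exacts [⟨ok_root, hA⟩, ⟨_, hB⟩]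

theorem conn_shell {b : ℤ} (hb : b ≤ 16) {refs : List (List ℤ)} {x0 : leechLattice}
    (hcov : (shell b).all (fun l => refs.any fun r => sameShape l r) = true)
    (href : ∀ r ∈ refs, ∃ h : okY (yOf r) = true, Conn x0 (vec8 (yOf r) h))
    {v : leechLattice} (hv : v ∈ shellSet b) : Conn x0 v := by
  obtain ⟨r, hr, hs⟩ := List.any_eq_true.1
    (List.all_eq_true.1 hcov _ (mem_shell_of hv.1 hb hv.2))
  obtain ⟨hok, hc⟩ := href r hr
  have hy : yOf (List.ofFn (half v)) = half v := funext fun k => by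
    fin_cases k <;> rfl
  exact hc.trans (conn_of_shape hs (x := v) (z := vec8 (yOf r) hok) (by rw [hy]; exact half_spec hv.1) rfl).symm

theorem base8_mem : LeechOrder.base8 ∈ shellSet 16 := by
  refine ⟨fun q hq => ?_, LeechOrder.norm_base8.trans (by norm_num)⟩
  rw [LeechOrder.coe_base8]
  exact Pi.single_eq_of_ne (fun e : q = none => hq (e ▸ by rw [oc, mem_toSet]; decide +kernel)) _

theorem rootU_mem : rootU ∈ shellSet 8 := by
  refine ⟨fun q hq => ext8_off _ hq, ?_⟩
  rw [show (rootU : GolayPt → ℤ) = ext8 (yOf [2, 0, 0, 0, 0, 0, 0, 2]) from rfl, norm_ext8]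
  decide +kernel

theorem orbit_eq_shell {b : ℤ} (hb : b ≤ 16) {refs : List (List ℤ)} {x0 : leechLattice}
    (hx0 : x0 ∈ shellSet b)
    (hcov : (shell b).all (fun l => refs.any fun r => sameShape l r) = true)
    (href : ∀ r ∈ refs, ∃ h : okY (yOf r) = true, Conn x0 (vec8 (yOf r) h)) :
    MulAction.orbit cen x0 = shellSet b := by
  ext v
  constructor
  · rintro ⟨g, rfl⟩
    exact ⟨smul_mem_sub8 g.2 hx0.1, (norm_smul (g : Co0) x0).trans hx0.2⟩
  · intro hv
    obtain ⟨g, hg, e⟩ := conn_shell hb hcov href hv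
    exact ⟨⟨g, hg⟩, e⟩

theorem orbit64 : MulAction.orbit cen LeechOrder.base8 = shellSet 16 :=
  orbit_eq_shell le_rfl base8_mem covered.1 conn_refs64

theorem orbit32 : MulAction.orbit cen rootU = shellSet 8 :=
  orbit_eq_shell (by norm_num) rootU_mem covered.2 conn_refs32

end CfsgLib.Sporadic.LeechE8
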