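import Cfsg.Agent.Lib.Sporadic.LeechE8Extra
import Cfsg.Agent.Lib.Classical.OrthCount
import Cfsg.Agent.Lib.Classical.OrthSimple

/-!
# The centraliser of the sign change on an octad, modulo 2

It acts on the sublattice of the octad modulo 2 with kernel the extraspecial group extended by `-1`, and
its image is the commutator subgroup of the orthogonal group of plus type in dimension 8.
-/

set_option autoImplicit false
set_option maxRecDepth 10000

namespace CfsgLib.Sporadic.LeechE8

open Cfsg CfsgLib.SmallGroups.Golay CfsgLib.SmallGroups CfsgLib.SmallGroups.LeechBasic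
  CfsgLib.SmallGroups.LeechEnum CfsgLib.Sporadic.LeechE8Data
open CfsgLib.Sporadic.LeechSuborbits (smul_neg')
open CfsgLib.SmallGroups.LeechGroup (monoSub sgn)
open LeechMonomial (mono)
open scoped Pointwise

/-- The quadratic form of plus type. -/
noncomputable abbrev Q8 : QuadraticForm (ZMod 2) (J8 → ZMod 2) := CfsgLib.Orth.plusForm (ZMod 2) 4

theorem smul_add8 (g : Co0) (a b : leechLattice) : g • (a + b) = g • a + g • b := g.2.1 a b

theorem smul_sub8 (g : Co0) (a b : leechLattice) : g • (a - b) = g • a - g • b := by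
  rw [sub_eq_add_neg, smul_add8, smul_neg', ← sub_eq_add_neg]

/-- The action of the centraliser on the sublattice. -/
noncomputable def act8 (g : cen) : sub8 →+ sub8 :=
  AddMonoidHom.mk' (fun v => ⟨(g : Co0) • (v : leechLattice), smul_mem_sub8 g.2 v.2⟩)
    fun a b => Subtype.ext (smul_add8 (g : Co0) a b)

theorem act8_coe (g : cen) (v : sub8) : (act8 g v : leechLattice) = (g : Co0) • (v : leechLattice) :=
  rfl

theorem act8_mul (g h : cen) (v : sub8) : act8 (g * h) v = act8 g (act8 h v) :=
  Subtype.ext (mul_smul (g : Co0) (h : Co0) (v : leechLattice))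

theorem act8_one (v : sub8) : act8 1 v = v := Subtype.ext (one_smul Co0 (v : leechLattice))

theorem phi_act_congr (g : cen) {v w : sub8} (h : phi v = phi w) :
    phi (act8 g v) = phi (act8 g w) := by
  obtain ⟨x, hx⟩ := (phi_eq_zero_iff (v - w)).1 (by rw [map_sub, h, sub_self])
  rw [← sub_eq_zero, ← map_sub, ← map_sub, hx, map_nsmul, phi_eq_zero_iff]
  exact ⟨_, rfl⟩

/-- The map modulo 2. -/
noncomputable def repAdd (g : cen) : (J8 → ZMod 2) →+ (J8 → ZMod 2) :=
  AddMonoidHom.mk' (fun u => phi (act8 g (lift8 u))) fun a b => by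
    rw [phi_act_congr g (show phi (lift8 (a + b)) = phi (lift8 a + lift8 b) by
      rw [map_add, phi_lift, phi_lift, phi_lift]), map_add, map_add]

theorem repAdd_phi (g : cen) (v : sub8) : repAdd g (phi v) = phi (act8 g v) :=
  phi_act_congr g (phi_lift _)

theorem repAdd_mul (g h : cen) (u : J8 → ZMod 2) : repAdd (g * h) u = repAdd g (repAdd h u) := by
  conv_rhs => rw [← phi_lift u, repAdd_phi, repAdd_phi, ← act8_mul]
  rfl

theorem repAdd_one (u : J8 → ZMod 2) : repAdd 1 u = u := by
  rw [← phi_lift u, repAdd_phi, act8_one]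

/-- The map modulo 2 as a linear equivalence. -/
noncomputable def repEquiv (g : cen) : (J8 → ZMod 2) ≃ₗ[ZMod 2] (J8 → ZMod 2) :=
  { (repAdd g).toZModLinearMap 2 with
    invFun := repAdd g⁻¹
    left_inv := fun u => by
      show repAdd g⁻¹ (repAdd g u) = u
      rw [← repAdd_mul, inv_mul_cancel, repAdd_one]
    right_inv := fun u => by
      show repAdd g (repAdd g⁻¹ u) = u
      rw [← repAdd_mul, mul_inv_cancel, repAdd_one] }

/-- The representation modulo 2. -/
noncomputable def rep : cen →* CfsgLib.Orth.orthGroup Q8 :=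
  MonoidHom.mk' (fun g => ⟨repEquiv g, fun u => by
    show Q8 (repAdd g u) = Q8 u
    rw [← phi_lift u, repAdd_phi, ← qL_eq, ← qL_eq]
    simp only [qL, act8_coe, norm_smul]⟩) fun g h => Subtype.ext (LinearEquiv.ext fun u => repAdd_mul g h u)

theorem rep_phi (g : cen) (v : sub8) : (rep g).1 (phi v) = phi (act8 g v) := repAdd_phi g v

/-! ### The kernel -/

/-- Negation. -/
noncomputable def negC : Co0 := ((sgn ⟨1, one_mem_code⟩ : monoSub) : Co0)

theorem negC_apply (v : leechLattice) : negC • v = -v :=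
  Subtype.ext (funext fun i => by rw [negC, LeechGroup.sgn_apply]; simp)

theorem negC_central (g : Co0) : g * negC = negC * g :=
  Subgroup.mem_center_iff.1 LeechGroup.sgn_one_central g

theorem negC_mem : negC ∈ cen := Subgroup.mem_centralizer_singleton_iff.2 (negC_central tOct).symm

theorem qCo_le : qCo ≤ cen := by
  intro g hg
  obtain ⟨σ, w, rfl⟩ := (mem_qCo_iff g).1 hg
  rw [elt, Subgroup.coe_mul]
  refine mul_mem (mono_mem_cen 1 _ fun q => Iff.rfl) (mono_mem_cen (toM σ) _ fun q => ?_)
  constructor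
  · intro h
    have e := fix_oc σ h
    change (σ : Equiv.Perm GolayPt).symm ((σ : Equiv.Perm GolayPt) q) = _ at e
    rw [Equiv.symm_apply_apply] at e
    rwa [e]
  · intro h
    show (σ : Equiv.Perm GolayPt) q ∈ oc
    rwa [(MathieuSets.mem_ptStab.1 σ.2).2 q h]

theorem act_root {g : cen} (hg : rep g = 1) {v : sub8}
    (hn : sqNorm ((v : leechLattice) : GolayPt → ℤ) = 32) :
    (g : Co0) • (v : leechLattice) = v ∨ (g : Co0) • (v : leechLattice) = -(v : leechLattice) := by
  have h : phi (act8 g v - v) = 0 := by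
    rw [map_sub, ← rep_phi, hg]
    exact sub_self _
  obtain ⟨x, hx⟩ := (phi_eq_zero_iff _).1 h
  set a : GolayPt → ℤ := (((g : Co0) • (v : leechLattice) : leechLattice) : GolayPt → ℤ) with ha
  set b : GolayPt → ℤ := ((v : leechLattice) : GolayPt → ℤ) with hb
  set c : GolayPt → ℤ := ((x : leechLattice) : GolayPt → ℤ) with hc
  have e : a - b = c + c := by
    have h := congrArg (fun w : sub8 => ((w : leechLattice) : GolayPt → ℤ)) hx
    simp only [AddSubgroupClass.coe_sub, act8_coe, two_nsmul, AddSubgroup.coe_add] at h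
    exact h
  have hna : sqNorm a = 32 := by rw [ha, norm_smul, hn]
  have e4 : sqNorm (c + c) = 4 * sqNorm c := by
    simp only [sqNorm, Finset.mul_sum, Pi.add_apply]
    exact Finset.sum_congr rfl fun q _ => by ring
  have h1 : sqNorm (a - b) = 4 * sqNorm c := by rw [e, e4]
  rw [sqNorm_sub, hna, hn] at h1
  by_cases hc0 : c = 0
  · left
    rw [hc0, add_zero, sub_eq_zero] at e
    exact Subtype.ext e
  · right
    have h32 : 32 ≤ sqNorm c := thirtytwo_le (mem_lattice.1 (x : leechLattice).2) hc0
    have h0 : sqNorm (a + b) ≤ 0 := by rw [sqNorm_add, hna, hn]; omega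
    refine Subtype.ext (funext fun q => ?_)
    have hq := Finset.single_le_sum (f := fun q => (a + b) q ^ 2) (fun q _ => sq_nonneg _)
      (Finset.mem_univ q)
    have : (a + b) q = 0 := (pow_eq_zero_iff (n := 2) two_ne_zero).1
      (le_antisymm (hq.trans h0) (sq_nonneg _))
    rw [NegMemClass.coe_neg, Pi.neg_apply]
    change a q = -b q
    simp only [Pi.add_apply] at this
    omega

/-- The halved values of the connected roots. -/
def rootY (j : Fin 7) (s : Bool) (k : Fin 8) : ℤ :=
  if k = 7 then 2 else if k = j.castSucc then (if s then 2 else -2) else 0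

theorem root_facts : (∀ j s, okY (rootY j s) = true) ∧
    (∀ j s, (∑ k, rootY j s k ^ 2) = 8) ∧
    (∀ j s, ¬ (j = 0 ∧ s = false) → (∑ k, rootY 0 true k * rootY j s k) ≠ 0) ∧
    (∑ k, rootY 1 true k * rootY 0 false k) ≠ 0 ∧
    (∀ j q, ext8 (rootY j true) q + ext8 (rootY j false) q = if q = at8 7 then 8 else 0) ∧
    ∀ j q, ext8 (rootY j true) q - ext8 (rootY j false) q = if q = at8 j.castSucc then 8 else 0 := by
  decide +kernel

theorem root_fix {g : cen} (hg : rep g = 1) (h0 : (g : Co0) • (vec8 (rootY 0 true) (root_facts.1 0 true)) =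
    vec8 (rootY 0 true) (root_facts.1 0 true)) (j : Fin 7) (s : Bool) :
    (g : Co0) • (vec8 (rootY j s) (root_facts.1 j s)) = vec8 (rootY j s) (root_facts.1 j s) := by
  have step : ∀ j j' : Fin 7, ∀ s s' : Bool, (∑ k, rootY j s k * rootY j' s' k) ≠ 0 →
      (g : Co0) • (vec8 (rootY j s) (root_facts.1 j s)) = vec8 (rootY j s) (root_facts.1 j s) →
      (g : Co0) • (vec8 (rootY j' s') (root_facts.1 j' s')) = vec8 (rootY j' s') (root_facts.1 j' s') := by
    intro j j' s s' hd hfix
    refine (act_root hg (v := ⟨_, fun q hq => ext8_off _ hq⟩)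
      (by show sqNorm (ext8 (rootY j' s')) = 32; rw [norm_ext8, root_facts.2.1]; norm_num)).resolve_right
        fun hneg => hd ?_
    have h := dot_smul (g : Co0) (vec8 (rootY j s) (root_facts.1 j s))
      (vec8 (rootY j' s') (root_facts.1 j' s'))
    have hneg' : (g : Co0) • vec8 (rootY j' s') (root_facts.1 j' s') =
        -vec8 (rootY j' s') (root_facts.1 j' s') := hneg
    rw [hfix, hneg'] at h
    have e : dotInt (ext8 (rootY j s)) (ext8 (rootY j' s')) = 4 * ∑ k, rootY j s k * rootY j' s' k := by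
      rw [dotInt, sum_oc _ fun q hq => by rw [ext8_off _ hq, zero_mul], Finset.mul_sum]
      exact Finset.sum_congr rfl fun k _ => by rw [ext8_at, ext8_at]; ring
    have h' : -dotInt (ext8 (rootY j s)) (ext8 (rootY j' s')) =
        dotInt (ext8 (rootY j s)) (ext8 (rootY j' s')) := by
      rw [← LeechSuborbits.dot_neg]
      exact h
    omega
  by_cases hj : j = 0 ∧ s = false
  · obtain ⟨rfl, rfl⟩ := hj
    exact step 1 0 true false root_facts.2.2.2.1
      (step 0 1 true true (root_facts.2.2.1 1 true (by decide)) h0)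
  · exact step 0 j true s (root_facts.2.2.1 j s hj) h0

theorem mem_qCo_of_ker {g : cen} (hg : rep g = 1) :
    (g : Co0) ∈ qCo ∨ negC * (g : Co0) ∈ qCo := by
  have key : ∀ h : cen, rep h = 1 → (h : Co0) • (vec8 (rootY 0 true) (root_facts.1 0 true)) =
      vec8 (rootY 0 true) (root_facts.1 0 true) → (h : Co0) ∈ qCo := by
    intro h hh h0
    refine mem_qCo_of_units fun i hi => ?_
    obtain ⟨k, rfl⟩ := (mem_oc_iff i).1 hi
    have hfix := root_fix hh h0
    rcases Fin.eq_castSucc_or_eq_last k with ⟨j, rfl⟩ | rfl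
    · have e : LeechCenter.unitVec (at8 j.castSucc) =
          vec8 (rootY j true) (root_facts.1 j true) - vec8 (rootY j false) (root_facts.1 j false) := by
        refine Subtype.ext (funext fun q => ?_)
        show (Pi.single (at8 j.castSucc) (8 : ℤ) : GolayPt → ℤ) q =
          ext8 (rootY j true) q - ext8 (rootY j false) q
        rw [root_facts.2.2.2.2.2, Pi.single_apply]
      rw [e, smul_sub8, hfix, hfix]
    · have e : LeechCenter.unitVec (at8 (Fin.last 7)) =
          vec8 (rootY 0 true) (root_facts.1 0 true) + vec8 (rootY 0 false) (root_facts.1 0 false) := by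
        refine Subtype.ext (funext fun q => ?_)
        show (Pi.single (at8 (Fin.last 7)) (8 : ℤ) : GolayPt → ℤ) q =
          ext8 (rootY 0 true) q + ext8 (rootY 0 false) q
        rw [root_facts.2.2.2.2.1, Pi.single_apply]
        rfl
      rw [e, smul_add8, hfix, hfix]
  have hn : sqNorm (ext8 (rootY 0 true)) = 32 := by rw [norm_ext8, root_facts.2.1]; norm_num
  rcases act_root hg (v := ⟨vec8 (rootY 0 true) (root_facts.1 0 true), fun q hq => ext8_off _ hq⟩) hn with
    h | h
  · exact Or.inl (key g hg h)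
  · refine Or.inr (key ⟨negC * g, mul_mem negC_mem g.2⟩ ?_ ?_)
    · refine Subtype.ext (LinearEquiv.ext fun u => ?_)
      rw [← phi_lift u, rep_phi]
      have e : act8 ⟨negC * g, mul_mem negC_mem g.2⟩ (lift8 u) = -act8 g (lift8 u) := Subtype.ext (by
        show (negC * (g : Co0)) • ((lift8 u : sub8) : leechLattice) = _
        rw [mul_smul, negC_apply]; rfl)
      rw [e, map_neg, ← rep_phi, hg]
      funext i
      exact CharTwo.neg_eq _
    · rw [mul_smul, negC_apply, h, neg_neg]

theorem rep_eq_one_iff (g : cen) : rep g = 1 ↔ (g : Co0) ∈ qCo ∨ negC * (g : Co0) ∈ qCo := by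
  refine ⟨mem_qCo_of_ker, fun h => Subtype.ext (LinearEquiv.ext fun u => ?_)⟩
  rw [← phi_lift u, rep_phi]
  change phi (act8 g (lift8 u)) = phi (lift8 u)
  rcases h with h | h
  · congr 1
    exact Subtype.ext (h _ (lift8 u).2)
  · have h2 := h _ (lift8 u).2
    rw [mul_smul, negC_apply, neg_eq_iff_eq_neg] at h2
    rw [show act8 g (lift8 u) = -lift8 u from Subtype.ext h2, map_neg]
    funext i
    exact CharTwo.neg_eq _

theorem negC_not_mem : negC ∉ qCo := by
  intro h
  have e := h LeechOrder.base8 base8_mem.1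
  rw [negC_apply] at e
  have := congrArg (fun v : leechLattice => (v : GolayPt → ℤ) none) e
  simp only [NegMemClass.coe_neg, Pi.neg_apply, LeechOrder.coe_base8, Pi.single_eq_same] at this
  omega

theorem negC_mul_self : negC * negC = 1 :=
  Subtype.ext (Equiv.ext fun v => by
    show (negC * negC) • v = v
    rw [mul_smul, negC_apply, negC_apply, neg_neg])

theorem card_ker_rep : Nat.card rep.ker = 1024 := by
  have hQ : ∀ q : qCo, rep ⟨q, qCo_le q.2⟩ = 1 := fun q => (rep_eq_one_iff _).2 (Or.inl q.2)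
  have hN : ∀ q : qCo, rep ⟨negC * q, mul_mem negC_mem (qCo_le q.2)⟩ = 1 := fun q =>
    (rep_eq_one_iff _).2 (Or.inr (by rw [← mul_assoc, negC_mul_self, one_mul]; exact q.2))
  have e : Function.Bijective fun p : ↥qCo ⊕ ↥qCo => Sum.elim
      (fun q : ↥qCo => (⟨⟨(q : Co0), qCo_le q.2⟩, hQ q⟩ : rep.ker))
      (fun q : ↥qCo => ⟨⟨negC * (q : Co0), mul_mem negC_mem (qCo_le q.2)⟩, hN q⟩) p := by
    constructor
    · rintro (a | a) (b | b) h <;>
        replace h := congrArg (fun x : rep.ker => ((x : cen) : Co0)) h <;>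
        simp only [Sum.elim_inl, Sum.elim_inr] at h
      · exact congrArg Sum.inl (Subtype.ext h)
      · refine absurd ?_ negC_not_mem
        have := mul_mem a.2 (inv_mem b.2)
        rwa [h, mul_inv_cancel_right] at this
      · refine absurd ?_ negC_not_mem
        have := mul_mem b.2 (inv_mem a.2)
        rwa [← h, mul_inv_cancel_right] at this
      · exact congrArg Sum.inr (Subtype.ext (mul_left_cancel h))
    · rintro ⟨g, hg⟩
      rcases mem_qCo_of_ker hg with h | h
      · exact ⟨Sum.inl ⟨g, h⟩, rfl⟩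
      · exact ⟨Sum.inr ⟨_, h⟩, Subtype.ext (Subtype.ext (by
          show negC * (negC * (g : Co0)) = g
          rw [← mul_assoc, negC_mul_self, one_mul]))⟩
  have : Finite qCo := Nat.finite_of_card_ne_zero (by rw [card_qCo]; norm_num)
  rw [← Nat.card_eq_of_bijective _ e, Nat.card_sum, card_qCo]

/-! ### The order -/

theorem card_point_octad : Nat.card {σ : M24 // (σ : Equiv.Perm GolayPt) none = none ∧
    ∀ q, (σ : Equiv.Perm GolayPt) q ∈ oc ↔ q ∈ oc} = 40320 := by
  have hnone : (none : GolayPt) = at8 7 := by decide +kernel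
  have horb : MulAction.orbit (OctadStabilizer.octStab oc) (none : GolayPt) = (oc : Set GolayPt) := by
    ext q
    constructor
    · rintro ⟨g, rfl⟩
      exact (OctadStabilizer.apply_mem_iff g.2.2 none).2 (hnone ▸ at8_mem 7)
    · intro hq
      obtain ⟨k, rfl⟩ := (mem_oc_iff q).1 hq
      obtain ⟨π, hπ, hπk⟩ : ∃ π : Equiv.Perm (Fin 8), Equiv.Perm.sign π = 1 ∧ π 7 = k := by
        have h : ∀ k : Fin 8, k ≠ 7 → ∃ a b : Fin 8, a ≠ b ∧ a ≠ k ∧ b ≠ k := by decide
        by_cases hk : k = 7
        · exact ⟨1, map_one _, hk.symm⟩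
        · obtain ⟨a, b, hab, ha, hb⟩ := h k hk
          refine ⟨Equiv.swap a b * Equiv.swap 7 k, by
            rw [map_mul, Equiv.Perm.sign_swap hab, Equiv.Perm.sign_swap (Ne.symm hk)]; rfl, ?_⟩
          rw [Equiv.Perm.mul_apply, Equiv.swap_apply_left, Equiv.swap_apply_of_ne_of_ne (Ne.symm ha) (Ne.symm hb)]
      obtain ⟨σ, hσ, hσk⟩ := exists_perm π hπ
      refine ⟨⟨σ, σ.2, ?_⟩, ?_⟩
      · refine Finset.ext fun r => ?_
        rw [← Finset.inv_smul_mem_iff, Equiv.Perm.smul_def, ← hσ, ← Equiv.Perm.mul_apply, mul_inv_cancel,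
          Equiv.Perm.one_apply]
      · show (σ : Equiv.Perm GolayPt) none = _
        rw [hnone, hσk, hπk]
  have hs := (MulAction.stabilizer (OctadStabilizer.octStab oc) (none : GolayPt)).card_mul_index
  rw [MulAction.index_stabilizer, horb, Set.ncard_coe_finset, oc_mem.2,
    OctadStabilizer.card_octStab oc_mem] at hs
  have e : MulAction.stabilizer (OctadStabilizer.octStab oc) (none : GolayPt) ≃
      {σ : M24 // (σ : Equiv.Perm GolayPt) none = none ∧
        ∀ q, (σ : Equiv.Perm GolayPt) q ∈ oc ↔ q ∈ oc} :=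
    { toFun := fun g => ⟨⟨g.1.1, g.1.2.1⟩, g.2, OctadStabilizer.apply_mem_iff g.1.2.2⟩
      invFun := fun σ => ⟨⟨σ.1, σ.1.2, by
        refine Finset.ext fun r => ?_
        rw [← Finset.inv_smul_mem_iff, Equiv.Perm.smul_def, ← σ.2.2, ← Equiv.Perm.mul_apply,
          mul_inv_cancel, Equiv.Perm.one_apply]⟩, σ.2.1⟩
      left_inv := fun g => rfl
      right_inv := fun σ => rfl }
  rw [← Nat.card_congr e]
  omega

theorem card_cen : Nat.card cen = 178362777600 := by
  have hs := (MulAction.stabilizer cen LeechOrder.base8).card_mul_index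
  rw [MulAction.index_stabilizer, orbit64, ncard_shellSet le_rfl, shell_length.2] at hs
  let Φ : {σ : M24 // (σ : Equiv.Perm GolayPt) none = none ∧
      ∀ q, (σ : Equiv.Perm GolayPt) q ∈ oc ↔ q ∈ oc} ×
      {c : LeechMonomial.CS // none ∉ (c : Finset GolayPt)} → MulAction.stabilizer cen LeechOrder.base8 :=
    fun p => ⟨⟨mono (p.1.1, p.2.1), mono_mem_cen _ _ p.1.2.2⟩,
      (LeechOrder.mono_fix_iff (p.1.1, p.2.1)).2 ⟨p.1.2.1, p.2.2⟩⟩
  have hΦ : Function.Bijective Φ := by
    constructor
    · intro p p' h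
      have := LeechMonomial.mono_injective (congrArg
        (fun g : MulAction.stabilizer cen LeechOrder.base8 => ((g : cen) : Co0)) h)
      simp only [Prod.mk.injEq] at this
      exact Prod.ext (Subtype.ext this.1) (Subtype.ext this.2)
    · intro g
      obtain ⟨⟨σ, c⟩, hp⟩ := LeechMonomial.exists_mono (LeechOrder.pres_of_fix (g := (g.1 : Co0)) g.2)
      have h1 := (LeechOrder.mono_fix_iff (σ, c)).1 (hp.symm ▸ g.2)
      refine ⟨⟨⟨σ, h1.1, (mono_mem_cen_iff σ c).1 (hp.symm ▸ g.1.2)⟩, ⟨c, h1.2⟩⟩, ?_⟩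
      exact Subtype.ext (Subtype.ext hp)
  rw [← Nat.card_eq_of_bijective Φ hΦ, Nat.card_prod, card_point_octad, LeechOrder.card_half] at hs
  omega

theorem card_range_rep : Nat.card rep.range = 174182400 := by
  have h := rep.ker.card_mul_index
  rw [Subgroup.index_ker, card_ker_rep, card_cen] at h
  omega

theorem card_orth8 : Nat.card (CfsgLib.Orth.orthGroup Q8) = 348364800 := by
  rw [CfsgLib.Classical.card_orth_plus (F := ZMod 2) (q := 2) (ZMod.card 2) 3]
  decide

theorem good8 : CfsgLib.Orth.Good (ZMod 2) (J8 → ZMod 2) :=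
  CfsgLib.Orth.good_of (Or.inr (by simp [Module.finrank_fintype_fun_eq_card]))

theorem range_rep : rep.range = commutator (CfsgLib.Orth.orthGroup Q8) := by
  have hi : rep.range.index = 2 := by
    have h := rep.range.card_mul_index
    rw [card_range_rep, card_orth8] at h
    omega
  have hc : (commutator (CfsgLib.Orth.orthGroup Q8)).index = 2 :=
    CfsgLib.Classical.index_commutator_two (Q := Q8) (CfsgLib.Orth.plusForm_nondeg 4) good8
      (by simp [Module.finrank_fintype_fun_eq_card])
  have hle := CfsgLib.Classical.commutator_le_of_index_two rep.range hi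
  refine (Subgroup.eq_of_le_of_card_ge hle ?_).symm
  have h := (commutator (CfsgLib.Orth.orthGroup Q8)).card_mul_index
  rw [hc, card_orth8] at h
  rw [card_range_rep]
  omega

end CfsgLib.Sporadic.LeechE8
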