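import Cfsg.Agent.Lib.Sporadic.LeechE8Coord

/-!
# The short vectors of the sublattice of an octad

The shells of square norm 32 and 64 are listed by their halved values; they have 240 and 2160 members.
-/

set_option autoImplicit false
set_option maxRecDepth 10000

namespace CfsgLib.Sporadic.LeechE8

open Cfsg CfsgLib.SmallGroups.Golay CfsgLib.SmallGroups CfsgLib.SmallGroups.LeechBasic
  CfsgLib.Sporadic.LeechE8Data

/-- All lists over `S` of length `k` whose squares add up to `b`. -/
def gen (S : List ℤ) : ℕ → ℤ → List (List ℤ)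
  | 0, b => if b = 0 then [[]] else []
  | k + 1, b => S.flatMap fun v => if v * v ≤ b then (gen S k (b - v * v)).map (v :: ·) else []

theorem mem_gen {S : List ℤ} : ∀ {k : ℕ} {b : ℤ} (l : List ℤ),
    l ∈ gen S k b ↔ l.length = k ∧ (∀ v ∈ l, v ∈ S) ∧ (l.map fun v => v * v).sum = b
  | 0, b, l => by
    simp only [gen]
    constructor
    · intro h
      split_ifs at h with hb
      · obtain rfl := List.mem_singleton.1 h
        simp [hb]
      · simp at h
    · rintro ⟨hl, -, hs⟩
      obtain rfl := List.length_eq_zero_iff.1 hl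
      simp at hs
      simp [← hs]
  | k + 1, b, l => by
    simp only [gen, List.mem_flatMap]
    constructor
    · rintro ⟨v, hv, h⟩
      split_ifs at h with hb
      · obtain ⟨t, ht, rfl⟩ := List.mem_map.1 h
        obtain ⟨h1, h2, h3⟩ := (mem_gen t).1 ht
        refine ⟨by simp [h1], by simp [hv]; exact h2, ?_⟩
        simp [h3]
      · simp at h
    · rintro ⟨hl, hS, hs⟩
      obtain ⟨v, t, rfl⟩ := List.exists_cons_of_length_eq_add_one hl
      simp only [List.map_cons, List.sum_cons] at hs
      have hnn : 0 ≤ (t.map fun v => v * v).sum := List.sum_nonneg (by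
        intro a ha
        obtain ⟨w, -, rfl⟩ := List.mem_map.1 ha
        exact mul_self_nonneg w)
      refine ⟨v, hS v (by simp), ?_⟩
      rw [if_pos (by linarith)]
      exact List.mem_map.2 ⟨t, (mem_gen t).2 ⟨by simpa using hl,
        fun w hw => hS w (List.mem_cons_of_mem _ hw), by linarith⟩, rfl⟩

theorem gen_nodup {S : List ℤ} (hS : S.Nodup) : ∀ (k : ℕ) (b : ℤ), (gen S k b).Nodup
  | 0, b => by simp only [gen]; split_ifs <;> simp
  | k + 1, b => by
    rw [gen, List.nodup_flatMap]
    refine ⟨fun v _ => ?_, hS.imp fun {v w} hne => ?_⟩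
    · split_ifs
      · exact (gen_nodup hS k _).map fun a a' e => (List.cons.inj e).2
      · exact List.nodup_nil
    · intro l hl hl'
      dsimp only at hl hl'
      split_ifs at hl hl' <;> try contradiction
      obtain ⟨a, -, rfl⟩ := List.mem_map.1 hl
      obtain ⟨a', -, e⟩ := List.mem_map.1 hl'
      exact hne (List.cons.inj e).1.symm

/-- The even values. -/
def evS : List ℤ := [0, 2, -2, 4, -4]

/-- The odd values. -/
def odS : List ℤ := [1, -1, 3, -3]

/-- The halved values of the vectors with square norm `4 * b`. -/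
def shell (b : ℤ) : List (List ℤ) := (gen evS 8 b ++ gen odS 8 b).filter fun l => l.sum % 4 == 0

theorem shell_length : (shell 8).length = 240 ∧ (shell 16).length = 2160 := by decide +kernel

theorem shell_nodup (b : ℤ) : (shell b).Nodup := by
  refine (List.nodup_append'.2 ⟨gen_nodup (by decide) _ _, gen_nodup (by decide) _ _, ?_⟩).filter _
  intro l hl hl'
  obtain ⟨hlen, h1, -⟩ := (mem_gen l).1 hl
  obtain ⟨-, h2, -⟩ := (mem_gen l).1 hl'
  obtain ⟨v, t, rfl⟩ := List.exists_cons_of_length_eq_add_one (show l.length = 7 + 1 from hlen)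
  have a1 := h1 v (by simp)
  have a2 := h2 v (by simp)
  simp only [evS, odS, List.mem_cons, List.not_mem_nil, or_false] at a1 a2
  omega

/-- The halved values of a vector. -/
def half (v : leechLattice) (k : Fin 8) : ℤ := (v : GolayPt → ℤ) (at8 k) / 2

theorem half_spec {v : leechLattice} (hv : v ∈ sub8) : (v : GolayPt → ℤ) = ext8 (half v) := by
  obtain ⟨y, -, e, -, -⟩ := shape hv
  rw [show half v = y from funext fun k => by rw [half, e, ext8_at, Int.mul_ediv_cancel_left _ two_ne_zero]]
  exact e

theorem norm_ext8 (y : Fin 8 → ℤ) : sqNorm (ext8 y) = 4 * ∑ k, y k ^ 2 := by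
  rw [sqNorm, sum_oc _ fun q hq => by rw [ext8_off y hq]; norm_num, Finset.mul_sum]
  exact Finset.sum_congr rfl fun k _ => by rw [ext8_at]; ring

theorem good_ext8 {y : Fin 8 → ℤ} {p : ℤ} (hp : ∀ k, (2 : ℤ) ∣ y k - p) (hs : (4 : ℤ) ∣ ∑ k, y k) :
    ext8 y ∈ leechLattice := by
  refine mem_lattice.2 ⟨0, fun q => ?_, ?_, ?_⟩
  · rw [Int.modEq_iff_dvd, zero_sub, dvd_neg]
    exact Finset.dvd_sum fun k _ => by split_ifs <;> simp
  · rw [sum_oc _ fun q hq => ext8_off y hq, Int.modEq_iff_dvd]
    simp only [ext8_at, ← Finset.mul_sum]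
    obtain ⟨a, ha⟩ := hs
    exact ⟨-a, by rw [ha]; ring⟩
  · have hw : wd (ext8 y) 0 = (p : ZMod 2) • word octX := by
      funext q
      simp only [wd, sub_zero, Pi.smul_apply, word, smul_eq_mul]
      by_cases hq : q ∈ oc
      · obtain ⟨k, rfl⟩ := (mem_oc_iff q).1 hq
        have hb : octX.testBit (idx (at8 k)) = true := by rwa [oc, mem_toSet] at hq
        rw [ext8_at, if_pos hb, mul_one, Int.mul_ediv_cancel_left _ two_ne_zero, ← sub_eq_zero,
          ← Int.cast_sub, ZMod.intCast_zmod_eq_zero_iff_dvd]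
        exact hp k
      · have hb : ¬ octX.testBit (idx q) = true := by rwa [oc, mem_toSet] at hq
        rw [ext8_off y hq, if_neg hb, mul_zero]
        simp
    rw [hw]
    exact Submodule.smul_mem _ _ (mem_code_iff_isCW.2 (by decide +kernel))

theorem mem_shell_of {v : leechLattice} (hv : v ∈ sub8) {b : ℤ} (hb : b ≤ 16)
    (hn : sqNorm (v : GolayPt → ℤ) = 4 * b) : List.ofFn (half v) ∈ shell b := by
  obtain ⟨y, p, e, hp, hs⟩ := shape hv
  have hh : half v = y := funext fun k => by
    rw [half, e, ext8_at, Int.mul_ediv_cancel_left _ two_ne_zero]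
  rw [hh]
  have hsq : ∑ k, y k ^ 2 = b := by rw [e, norm_ext8] at hn; linarith
  have hbd : ∀ k, -4 ≤ y k ∧ y k ≤ 4 := fun k => by
    have h := Finset.single_le_sum (f := fun k => y k ^ 2) (fun k _ => sq_nonneg _) (Finset.mem_univ k)
    rw [hsq] at h
    constructor <;> nlinarith
  refine List.mem_filter.2 ⟨?_, ?_⟩
  · rw [List.mem_append, mem_gen, mem_gen]
    have hsum : ((List.ofFn y).map fun v => v * v).sum = b := by
      rw [List.map_ofFn, List.sum_ofFn, ← hsq]
      exact Finset.sum_congr rfl fun k _ => (sq _).symm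
    rcases Int.emod_two_eq_zero_or_one p with h0 | h1
    · refine Or.inl ⟨List.length_ofFn, fun w hw => ?_, hsum⟩
      obtain ⟨k, rfl⟩ := List.mem_ofFn.1 hw
      have := hp k; have := hbd k
      simp only [evS, List.mem_cons, List.not_mem_nil, or_false]
      omega
    · refine Or.inr ⟨List.length_ofFn, fun w hw => ?_, hsum⟩
      obtain ⟨k, rfl⟩ := List.mem_ofFn.1 hw
      have := hp k; have := hbd k
      simp only [odS, List.mem_cons, List.not_mem_nil, or_false]
      omega
  · rw [List.sum_ofFn, beq_iff_eq]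
    omega

/-- The shell of square norm `4 * b` in the sublattice. -/
def shellSet (b : ℤ) : Set leechLattice :=
  {v | v ∈ sub8 ∧ sqNorm (v : GolayPt → ℤ) = 4 * b}

theorem ncard_shellSet {b : ℤ} (hb : b ≤ 16) : (shellSet b).ncard = (shell b).length := by
  rw [← List.toFinset_card_of_nodup (shell_nodup b), ← Set.ncard_coe_finset]
  refine Set.ncard_congr (fun v _ => List.ofFn (half v)) (fun v hv => ?_) (fun v w hv hw e => ?_) fun l hl => ?_
  · exact List.mem_toFinset.2 (mem_shell_of hv.1 hb hv.2)
  · refine Subtype.ext ?_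
    rw [half_spec hv.1, half_spec hw.1, List.ofFn_inj.1 e]
  · obtain ⟨hl', hsum⟩ := List.mem_filter.1 (List.mem_toFinset.1 hl)
    rw [beq_iff_eq] at hsum
    obtain ⟨hlen, hsq, p, hpar⟩ : l.length = 8 ∧ (l.map fun v => v * v).sum = b ∧
        ∃ p : ℤ, ∀ v ∈ l, (2 : ℤ) ∣ v - p := by
      rw [List.mem_append, mem_gen, mem_gen] at hl'
      rcases hl' with ⟨h1, h2, h3⟩ | ⟨h1, h2, h3⟩
      · refine ⟨h1, h3, 0, fun v hv => ?_⟩
        have := h2 v hv
        simp only [evS, List.mem_cons, List.not_mem_nil, or_false] at this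
        omega
      · refine ⟨h1, h3, 1, fun v hv => ?_⟩
        have := h2 v hv
        simp only [odS, List.mem_cons, List.not_mem_nil, or_false] at this
        omega
    obtain ⟨y, rfl⟩ : ∃ y : Fin 8 → ℤ, List.ofFn y = l := by
      refine ⟨fun k => l.getD k 0, ?_⟩
      apply List.ext_getElem (by simp [hlen])
      intro i h1 h2
      rw [List.getElem_ofFn]
      exact List.getD_eq_getElem _ _ h2
    rw [List.sum_ofFn] at hsum
    rw [List.map_ofFn, List.sum_ofFn] at hsq
    have hmem := good_ext8 (y := y) (p := p) (fun k => hpar _ (List.mem_ofFn.2 ⟨k, rfl⟩))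
      (Int.dvd_of_emod_eq_zero hsum)
    refine ⟨⟨ext8 y, hmem⟩, ⟨fun q hq => ext8_off y hq, ?_⟩, ?_⟩
    · rw [norm_ext8, ← hsq]
      congr 1
      exact Finset.sum_congr rfl fun k _ => sq _
    · congr 1
      funext k
      change ext8 y (at8 k) / 2 = y k
      rw [ext8_at, Int.mul_ediv_cancel_left _ two_ne_zero]

end CfsgLib.Sporadic.LeechE8
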