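import Cfsg.Agent.Lib.SmallGroups.LeechGroup
import Cfsg.Agent.Lib.Sporadic.LeechE8Data

/-!
# The sublattice of the vectors supported on an octad

A lattice vector supported on the octad is twice an integer vector on eight positions with constant
parity and sum divisible by four; this is the lattice of roots of type `E8`, scaled.
-/

set_option autoImplicit false
set_option maxRecDepth 10000

namespace CfsgLib.Sporadic.LeechE8

open Cfsg CfsgLib.SmallGroups.Golay CfsgLib.SmallGroups.GolayOctads CfsgLib.SmallGroups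
  CfsgLib.SmallGroups.LeechBasic CfsgLib.Sporadic.LeechE8Data

/-- The octad. -/
def oc : Finset GolayPt := toSet octX

/-- The `k`-th point of the octad. -/
def at8 (k : Fin 8) : GolayPt := pt (pos.getD k 0)

/-- A vector on the octad given by its halved values. -/
def ext8 (y : Fin 8 → ℤ) (q : GolayPt) : ℤ :=
  ∑ k, if at8 k = q then 2 * y k else 0

theorem at8_injective : Function.Injective at8 := by
  have h : ∀ i j : Fin 8, at8 i = at8 j → i = j := by decide +kernel
  exact fun i j => h i j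

theorem mem_oc_iff (q : GolayPt) : q ∈ oc ↔ ∃ k, at8 k = q := by
  have h : ∀ q : GolayPt, octX.testBit (idx q) = true ↔ ∃ k, at8 k = q := by decide +kernel
  rw [oc, mem_toSet]
  exact h q

theorem at8_mem (k : Fin 8) : at8 k ∈ oc := (mem_oc_iff _).2 ⟨k, rfl⟩

theorem oc_mem : oc ∈ octads :=
  mem_octads.2 ⟨octX, by
    rw [mem_cwOfWeight]
    exact ⟨mem_cw.2 (by decide +kernel), by decide +kernel⟩, rfl⟩

theorem ext8_at (y : Fin 8 → ℤ) (k : Fin 8) : ext8 y (at8 k) = 2 * y k := by
  rw [ext8, Finset.sum_eq_single k (fun j _ hj => if_neg fun h => hj (at8_injective h))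
    (fun h => absurd (Finset.mem_univ k) h), if_pos rfl]

theorem ext8_off (y : Fin 8 → ℤ) {q : GolayPt} (hq : q ∉ oc) : ext8 y q = 0 :=
  Finset.sum_eq_zero fun k _ => if_neg fun h : at8 k = q => hq (h ▸ at8_mem k)

theorem sum_oc {M : Type*} [AddCommMonoid M] (f : GolayPt → M) (h : ∀ q ∉ oc, f q = 0) :
    ∑ q, f q = ∑ k, f (at8 k) := by
  rw [← Finset.sum_subset (Finset.subset_univ oc) (fun q _ hq => h q hq)]
  exact (Finset.sum_bij (fun k _ => at8 k) (fun k _ => at8_mem k)
    (fun i _ j _ e => at8_injective e) (fun q hq => by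
      obtain ⟨k, rfl⟩ := (mem_oc_iff q).1 hq
      exact ⟨k, Finset.mem_univ k, rfl⟩) fun k _ => rfl).symm

/-- The sublattice of the vectors supported on the octad. -/
def sub8 : AddSubgroup leechLattice where
  carrier := {v | ∀ q ∉ oc, (v : GolayPt → ℤ) q = 0}
  zero_mem' := fun _ _ => rfl
  add_mem' := fun {a b} ha hb q hq => by
    rw [AddSubgroup.coe_add, Pi.add_apply, ha q hq, hb q hq, add_zero]
  neg_mem' := fun {a} ha q hq => by rw [NegMemClass.coe_neg, Pi.neg_apply, ha q hq, neg_zero]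

theorem code_inside {n : ℕ} (hn : n ∈ cw) (h : ∀ q ∉ oc, n.testBit (idx q) = false) :
    n = 0 ∨ n = octX := by
  have key : cw.all fun m => m &&& (16777215 ^^^ octX) != 0 || m == 0 || m == octX := by
    decide +kernel
  have := List.all_eq_true.1 key n hn
  simp only [Bool.or_eq_true, bne_iff_ne, beq_iff_eq] at this
  rcases this with (h1 | h1) | h1
  · refine absurd (Nat.eq_of_testBit_eq fun i => ?_) h1
    rw [Nat.testBit_and, Nat.zero_testBit]
    by_cases hi : i < 24
    · have hidx : idx (pt i) = i := idx_pt hi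
      by_cases hoc : octX.testBit i = true
      · rw [Nat.testBit_xor, hoc, show (16777215 : ℕ) = 2 ^ 24 - 1 from rfl,
          Nat.testBit_two_pow_sub_one, decide_eq_true hi]
        simp
      · have := h (pt i) (by rw [oc, mem_toSet, hidx]; exact hoc)
        rw [hidx] at this
        rw [this, Bool.false_and]
    · obtain ⟨k, hk, rfl⟩ := mem_cw.1 hn
      rw [Nat.testBit_eq_false_of_lt ((enc_lt k hk).1.trans_le
        (Nat.pow_le_pow_right (by norm_num) (not_lt.1 hi))), Bool.false_and]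
  · exact Or.inl h1
  · exact Or.inr h1

/-- The halved values have constant parity and sum divisible by four. -/
theorem shape {v : leechLattice} (hv : v ∈ sub8) :
    ∃ (y : Fin 8 → ℤ) (p : ℤ), (v : GolayPt → ℤ) = ext8 y ∧ (∀ k, (2 : ℤ) ∣ y k - p) ∧
      (4 : ℤ) ∣ ∑ k, y k := by
  obtain ⟨m, h1, h2, h3⟩ := mem_lattice.1 v.2
  have hout : ∃ q : GolayPt, q ∉ oc := ⟨pt 3, by decide +kernel⟩
  have hm : (2 : ℤ) ∣ m := by
    obtain ⟨q, hq⟩ := hout
    have := (h1 q).dvd
    rw [hv q hq, sub_zero] at this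
    exact this
  have hev : ∀ q, (2 : ℤ) ∣ (v : GolayPt → ℤ) q := fun q => by have := (h1 q).dvd; omega
  set y : Fin 8 → ℤ := fun k => (v : GolayPt → ℤ) (at8 k) / 2 with hy
  have hvy : (v : GolayPt → ℤ) = ext8 y := funext fun q => by
    by_cases hq : q ∈ oc
    · obtain ⟨k, rfl⟩ := (mem_oc_iff q).1 hq
      rw [ext8_at, hy, Int.mul_ediv_cancel' (hev _)]
    · rw [ext8_off y hq, hv q hq]
  set c : ZMod 2 := ((m / 2 : ℤ) : ZMod 2) with hc
  have hcode : (fun q => wd (v : GolayPt → ℤ) m q + c) ∈ golayCode := by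
    rcases (by decide : ∀ d : ZMod 2, d = 0 ∨ d = 1) c with h | h
    · simpa [h] using h3
    · rw [h]; exact add_mem h3 one_mem_code
  have hval : ∀ q, wd (v : GolayPt → ℤ) m q + c = (((v : GolayPt → ℤ) q / 2 : ℤ) : ZMod 2) :=
    fun q => by
      simp only [wd, hc]
      rw [show ((v : GolayPt → ℤ) q - m) / 2 = (v : GolayPt → ℤ) q / 2 - m / 2 by
        have := hev q; omega, Int.cast_sub, sub_add_cancel]
  obtain ⟨k, hk, hword⟩ := mem_code_iff.1 hcode
  have hcases := code_inside (mem_cw.2 ⟨k, hk, rfl⟩) fun q hq => by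
    have := congrFun hword q
    rw [hval q, hv q hq] at this
    by_contra hne
    simp [word, Bool.of_not_eq_false hne] at this
  have h4 : (4 : ℤ) ∣ ∑ k, y k := by
    have e : ∑ q, (v : GolayPt → ℤ) q = 2 * ∑ k, y k := by
      rw [sum_oc _ fun q hq => hv q hq, Finset.mul_sum]
      simp only [hvy, ext8_at]
    have := h2.dvd
    omega
  have hpar : ∃ p : ℤ, ∀ j, (2 : ℤ) ∣ y j - p := by
    rcases hcases with h0 | h0
    · refine ⟨0, fun j => ?_⟩
      have := congrFun hword (at8 j)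
      rw [hval, h0, word_zero, Pi.zero_apply, eq_comm, ZMod.intCast_zmod_eq_zero_iff_dvd] at this
      simpa [hy] using this
    · refine ⟨1, fun j => ?_⟩
      have := congrFun hword (at8 j)
      have hb : octX.testBit (idx (at8 j)) = true := by
        have := at8_mem j
        rwa [oc, mem_toSet] at this
      rw [hval, h0] at this
      simp only [word, hb, if_true, eq_comm (a := (1 : ZMod 2))] at this
      have h1' : (((v : GolayPt → ℤ) (at8 j) / 2 - 1 : ℤ) : ZMod 2) = 0 := by
        rw [Int.cast_sub, this, Int.cast_one, sub_self]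
      simpa [hy] using (ZMod.intCast_zmod_eq_zero_iff_dvd _ 2).1 h1'
  obtain ⟨p, hp⟩ := hpar
  exact ⟨y, p, hvy, hp, h4⟩

/-- Inner products in the sublattice are divisible by 16. -/
theorem dot16 {v w : leechLattice} (hv : v ∈ sub8) (hw : w ∈ sub8) :
    (16 : ℤ) ∣ dotInt (v : GolayPt → ℤ) (w : GolayPt → ℤ) := by
  obtain ⟨y, p, ev, hy, sy⟩ := shape hv
  obtain ⟨z, r, ew, hz, sz⟩ := shape hw
  choose a ha using hy
  choose b hb using hz
  have e : dotInt (v : GolayPt → ℤ) (w : GolayPt → ℤ) = 4 * ∑ k, y k * z k := by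
    rw [dotInt, sum_oc _ fun q hq => by rw [hv q hq, zero_mul], Finset.mul_sum]
    refine Finset.sum_congr rfl fun k _ => ?_
    rw [ev, ew, ext8_at, ext8_at]; ring
  have e1 : ∑ k, y k * z k = 8 * (p * r) + 2 * p * ∑ k, b k + 2 * r * ∑ k, a k +
      4 * ∑ k, a k * b k := by
    rw [Finset.sum_congr rfl fun k _ => show y k * z k = p * r + 2 * p * b k + 2 * r * a k +
      4 * (a k * b k) by rw [eq_add_of_sub_eq (ha k), eq_add_of_sub_eq (hb k)]; ring]
    simp [Finset.sum_add_distrib, Finset.mul_sum]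
  have e2 : ∀ (x : Fin 8 → ℤ) (p : ℤ) (a : Fin 8 → ℤ), (∀ k, x k - p = 2 * a k) →
      ∑ k, x k = 8 * p + 2 * ∑ k, a k := fun x p a h => by
    rw [Finset.sum_congr rfl fun k _ => show x k = p + 2 * a k by linarith [h k]]
    simp [Finset.sum_add_distrib, Finset.mul_sum]
  have ea : (2 : ℤ) ∣ ∑ k, a k := by rw [e2 y p a ha] at sy; omega
  have eb : (2 : ℤ) ∣ ∑ k, b k := by rw [e2 z r b hb] at sz; omega
  obtain ⟨A, hA⟩ := ea
  obtain ⟨B, hB⟩ := eb
  rw [e, e1, hA, hB]
  exact ⟨2 * (p * r) + p * B + r * A + ∑ k, a k * b k, by ring⟩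

/-- Square norms in the sublattice are divisible by 32. -/
theorem norm32 {v : leechLattice} (hv : v ∈ sub8) : (32 : ℤ) ∣ sqNorm (v : GolayPt → ℤ) := by
  obtain ⟨y, p, ev, hy, sy⟩ := shape hv
  choose a ha using hy
  have e : sqNorm (v : GolayPt → ℤ) = 4 * ∑ k, y k ^ 2 := by
    rw [sqNorm, sum_oc _ fun q hq => by rw [hv q hq]; norm_num, Finset.mul_sum]
    refine Finset.sum_congr rfl fun k _ => ?_
    rw [ev, ext8_at]; ring
  have e1 : ∑ k, y k ^ 2 = 8 * p ^ 2 + 4 * ((p + 1) * ∑ k, a k) + 4 * ∑ k, a k * (a k - 1) := by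
    rw [Finset.sum_congr rfl fun k _ => show y k ^ 2 = p ^ 2 + 4 * ((p + 1) * a k) + 4 * (a k * (a k - 1))
      by rw [eq_add_of_sub_eq (ha k)]; ring]
    simp [Finset.sum_add_distrib, Finset.mul_sum]
  have ea : (2 : ℤ) ∣ ∑ k, a k := by
    have : ∑ k, y k = 8 * p + 2 * ∑ k, a k := by
      rw [Finset.sum_congr rfl fun k _ => show y k = p + 2 * a k by linarith [ha k]]
      simp [Finset.sum_add_distrib, Finset.mul_sum]
    omega
  have eb : (2 : ℤ) ∣ ∑ k, a k * (a k - 1) := Finset.dvd_sum fun k _ =>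
    ((Int.even_mul_pred_self (a k)).two_dvd)
  obtain ⟨A, hA⟩ := ea
  obtain ⟨B, hB⟩ := eb
  rw [e, e1, hA, hB]
  exact ⟨p ^ 2 + (p + 1) * A + B, by ring⟩

/-- The criterion for an explicit vector to be a lattice vector. -/
def okY (y : Fin 8 → ℤ) : Bool := LeechReach.okGood 0 (ext8 y)

theorem mem_of_ok {y : Fin 8 → ℤ} (h : okY y = true) : ext8 y ∈ leechLattice :=
  mem_lattice.2 (LeechReach.good_of_ok h)

end CfsgLib.Sporadic.LeechE8
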