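import Cfsg.Agent.Lib.SmallGroups.LeechHS
import Cfsg.Agent.Lib.SmallGroups.LeechParamCount

/-!
An involution of the Higman–Sims group without fixed points on the hundred points: a monomial involution
fixing a suitable pair of lattice vectors and no point of their configuration.
-/

set_option autoImplicit false
set_option maxRecDepth 10000

namespace CfsgLib.Sporadic.LeechFixFree

open Cfsg CfsgLib.SmallGroups.Golay CfsgLib.SmallGroups.LeechOrbit CfsgLib.SmallGroups.LeechEnum
  CfsgLib.SmallGroups.LeechLists CfsgLib.SmallGroups.LeechVectorStab CfsgLib.SmallGroups.LeechPairs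
  CfsgLib.SmallGroups.M24Group
open CfsgLib.SmallGroups CfsgLib.SmallGroups.LeechParamCount CfsgLib.ThreeTransp
open scoped Pointwise

/-- The table of an involution of the permutation group. -/
def tbl : List ℕ :=
  [0, 13, 4, 11, 2, 8, 21, 20, 5, 10, 9, 3, 12, 1, 14, 19, 16, 17, 18, 15, 7, 6, 22, 23]

/-- The number of the code word of signs. -/
def kc : ℕ := 437

/-- A vector of square norm 48. -/
def kA : ℕ := 43454274420665321345585277064

/-- A minimal vector at inner product 16 with it. -/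
def kB : ℕ := 32970620236092527829125204104

/-- The image of a coordinate vector. -/
def act (f : ℕ → ℤ) (i : ℕ) : ℤ := if (enc kc).testBit i then -f (tbl.getD i 0) else f (tbl.getD i 0)

theorem tbl_facts : Sporadic.M24Orbits.okTbl tbl = true ∧
    (∀ i < 24, tbl.getD i 0 < 24 ∧ Sporadic.M24Orbits.tblNat tbl (tbl.getD i 0) = i) ∧
    (∀ i < 24, tbl.getD (tbl.getD i 0) 0 = i ∧
      (enc kc).testBit (tbl.getD i 0) = (enc kc).testBit i) ∧
    LeechReach.okGood (dig kA 23) (Pk kA) = true ∧ LeechReach.okGood (dig kB 23) (Pk kB) = true ∧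
    dotK kA kA = 48 ∧ dotK kB kB = 32 ∧ dotK kA kB = 16 ∧
    (∀ i < 24, act (dig kA) i = dig kA i ∧ act (dig kB) i = dig kB i) := by
  decide +kernel

/-- A fixed point of the configuration. -/
def bad (f : ℕ → ℤ) : Bool :=
  ((List.range 24).reverse.all fun i => act f i == f i) &&
    ((((List.range 24).map fun i => f i * dig kA i).sum == 24) &&
      (((List.range 24).map fun i => f i * dig kB i).sum == 0))

/-- The test for a fixed point. -/
def testBad : Test where
  pair i j a b := bad (pairF i j a b)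
  oct o _ n := bad (octF o n)
  oddPre _ := true
  odd c p := bad (oddF c p)

set_option maxHeartbeats 4000000 in
theorem no_bad : cnt testBad = 0 := by decide +kernel

theorem exists_fixfree (v z : leechLattice) (hv : sqNorm (v : GolayPt → ℤ) = 48)
    (hz : sqNorm (z : GolayPt → ℤ) = 32) (hd : dotInt (v : GolayPt → ℤ) (z : GolayPt → ℤ) = 16) :
    ∃ g : Co0, g • v = v ∧ g • z = z ∧ orderOf g = 2 ∧ ∀ x ∈ LeechHS.pts v z, g • x ≠ x := by
  obtain ⟨hok, hinv, htwo, hgA, hgB, nA, nB, dAB, hfix⟩ := tbl_facts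
  obtain ⟨σ, hσ, hidx⟩ := Sporadic.M24Orbits.exists_elt hok
  let m : Co0 := LeechMonomial.mono (⟨σ, hσ⟩, ⟨toSet (enc kc),
    by rw [← support₂_word]; exact LeechBasic.mem_supports_word (word_enc_mem kc)⟩)
  have hsymm : ∀ q, idx (σ.symm q) = tbl.getD (idx q) 0 := by
    intro q
    have h1 := hinv (idx q) (idx_lt q)
    have : σ (pt (tbl.getD (idx q) 0)) = q := idx_injective (by rw [hidx, idx_pt h1.1, h1.2])
    conv_lhs => rw [← this, Equiv.symm_apply_apply, idx_pt h1.1]
  have hm : ∀ (x : leechLattice) (q : GolayPt), ((m • x : leechLattice) : GolayPt → ℤ) q =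
      if (enc kc).testBit (idx q) then -(x : GolayPt → ℤ) (σ.symm q) else (x : GolayPt → ℤ) (σ.symm q) := by
    intro x q
    rw [LeechMonomial.mono_apply]
    simp only [signedPerm, mem_toSet]
  have hmm : ∀ x : leechLattice, m • m • x = x := by
    intro x
    refine Subtype.ext (funext fun q => ?_)
    have h2 := htwo (idx q) (idx_lt q)
    have e : σ.symm (σ.symm q) = q := idx_injective (by rw [hsymm, hsymm]; exact h2.1)
    rw [hm, hm, hsymm, e, h2.2]
    split_ifs <;> simp
  have hA : Pk kA ∈ leechLattice := LeechBasic.mem_lattice.2 (LeechReach.good_of_ok hgA)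
  have hB : Pk kB ∈ leechLattice := LeechBasic.mem_lattice.2 (LeechReach.good_of_ok hgB)
  have hfixk : ∀ k (hk : Pk k ∈ leechLattice), (∀ i < 24, act (dig k) i = dig k i) →
      m • (⟨Pk k, hk⟩ : leechLattice) = ⟨Pk k, hk⟩ := fun k hk h => Subtype.ext (funext fun q => by
    rw [hm]
    show (if _ then -dig k (idx (σ.symm q)) else dig k (idx (σ.symm q))) = dig k (idx q)
    rw [hsymm]
    exact h (idx q) (idx_lt q))
  have hne : m ≠ 1 := by
    intro e
    have h8 := congrArg (fun x : leechLattice => (x : GolayPt → ℤ) (pt 13))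
      (show m • LeechCenter.unitVec (pt 1) = LeechCenter.unitVec (pt 1) by rw [e, one_smul])
    rw [hm] at h8
    have e1 : σ.symm (pt 13) = pt 1 :=
      idx_injective (by rw [hsymm, idx_pt (by norm_num), idx_pt (by norm_num)]; decide)
    rw [e1] at h8
    have hne' : pt 13 ≠ pt 1 := fun h => absurd (congrArg idx h) (by
      rw [idx_pt (by norm_num), idx_pt (by norm_num)]; norm_num)
    simp only [LeechCenter.unitVec, Pi.single_eq_same, Pi.single_eq_of_ne hne'] at h8
    split_ifs at h8 <;> omega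
  have hm2 : orderOf m = 2 := by
    refine orderOf_eq_prime ?_ hne
    rw [pow_two]
    refine Subtype.ext (Equiv.ext fun x => ?_)
    exact hmm x
  have hfree : ∀ x ∈ LeechHS.pts (⟨Pk kA, hA⟩ : leechLattice) ⟨Pk kB, hB⟩, m • x ≠ x := by
    intro x hx e
    let P : (GolayPt → ℤ) → Prop := fun y => dotInt y (Pk kA) = 24 ∧ dotInt y (Pk kB) = 0 ∧
      ∀ q, (if (enc kc).testBit (idx q) then -y (σ.symm q) else y (σ.symm q)) = y q
    have key : ∀ f, P (ofPos f) → bad f = true := by
      rintro f ⟨f1, f2, f3⟩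
      simp only [bad, Bool.and_eq_true, beq_iff_eq, List.all_eq_true, List.mem_range, List.mem_reverse]
      refine ⟨fun i hi => ?_, ?_, ?_⟩
      · have h := f3 (pt i)
        simp only [ofPos, hsymm, idx_pt hi] at h
        exact h
      · rw [← f1, ← sum_range_eq]; rfl
      · rw [← f2, ← sum_range_eq]; rfl
    have hsound : Sound testBad P := ⟨fun i j a b _ _ _ h => key _ h, fun o n k _ _ _ h => key _ h,
      fun c p _ h => ⟨rfl, key _ h⟩⟩
    have hle := ncard_le hsound
    rw [no_bad, Nat.le_zero, Set.ncard_eq_zero (LeechHS.finite32.subset fun y hy =>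
      ⟨LeechBasic.mem_lattice.2 hy.1, hy.2.1⟩)] at hle
    refine Set.eq_empty_iff_forall_notMem.1 hle (x : GolayPt → ℤ)
      ⟨LeechBasic.mem_lattice.1 x.2, hx.1.1, ?_, ?_, fun q => ?_⟩
    · rw [dot_comm]
      exact (sub_norm_iff ⟨Pk kA, hA⟩ x (by rw [sqNorm_eq, dotK_eq, nA]) hx.1.1).1 hx.1.2
    · rw [dot_comm]
      exact hx.2
    · rw [← hm x q, e]
  obtain ⟨a, a1, a2⟩ := LeechHS.exists_map ⟨Pk kA, hA⟩ ⟨Pk kB, hB⟩ (by rw [sqNorm_eq, dotK_eq, nA])
    (by rw [sqNorm_eq, dotK_eq, nB]) (by rw [dotK_eq, dAB])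
  obtain ⟨b, b1, b2⟩ := LeechHS.exists_map v z hv hz hd
  have c1 : (b * a⁻¹) • (⟨Pk kA, hA⟩ : leechLattice) = v := by
    rw [mul_smul, inv_smul_eq_iff.2 a1.symm, b1]
  have c2 : (b * a⁻¹) • (⟨Pk kB, hB⟩ : leechLattice) = z := by
    rw [mul_smul, inv_smul_eq_iff.2 a2.symm, b2]
  set c := b * a⁻¹
  refine ⟨c * m * c⁻¹, ?_, ?_, ?_, fun x hx e => ?_⟩
  · rw [← c1, mul_smul, mul_smul, inv_smul_smul, hfixk kA hA fun i hi => (hfix i hi).1]
  · rw [← c2, mul_smul, mul_smul, inv_smul_smul, hfixk kB hB fun i hi => (hfix i hi).2]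
  · rw [← hm2]
    exact (MulAut.conj c).orderOf_eq m
  · obtain ⟨y, rfl⟩ : ∃ y, c • y = x := ⟨c⁻¹ • x, smul_inv_smul c x⟩
    rw [← c1, ← c2, LeechHS.smul_mem_pts] at hx
    rw [mul_smul, mul_smul, inv_smul_smul] at e
    exact hfree y hx (MulAction.injective c e)

/-- An involution without fixed points on the hundred points. -/
theorem exists_involution (v w : leechLattice) (hv : sqNorm (v : GolayPt → ℤ) = 48)
    (hw : sqNorm (w : GolayPt → ℤ) = 48) (hvw : dotInt (v : GolayPt → ℤ) (w : GolayPt → ℤ) = -32) :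
    ∃ g : Co0, g • v = v ∧ g • w = w ∧ orderOf g = 2 ∧
      ∀ x ∈ {x : leechLattice | sqNorm (x : GolayPt → ℤ) = 32 ∧
        dotInt (v : GolayPt → ℤ) (x : GolayPt → ℤ) = 24 ∧
        dotInt (w : GolayPt → ℤ) (x : GolayPt → ℤ) = -24}, g • x ≠ x := by
  obtain ⟨h1, h2, -⟩ := LeechHS.pair_facts hv hw hvw
  obtain ⟨g, g1, g2, g3, g4⟩ := exists_fixfree v (v + w) hv h1 h2
  refine ⟨g, g1, ?_, g3, fun x hx => g4 x ((LeechHS.mem_pts_iff hv).1 hx)⟩
  rw [smul_add', g1] at g2
  exact add_left_cancel g2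

end CfsgLib.Sporadic.LeechFixFree
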