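import Cfsg.Agent.Lib.Sporadic.LeechSubTools
import Cfsg.Agent.Lib.Sporadic.LeechMcLOrbits
import Cfsg.Agent.Lib.Sporadic.LeechCo3Suborbits

/-!
The rank 4 action of the McLaughlin group on 2025 minimal vectors: suborbits of sizes 1, 330, 462, 1232.
-/

set_option autoImplicit false
set_option maxRecDepth 10000

namespace CfsgLib.Sporadic.LeechMcLSuborbits

open Cfsg CfsgLib.SmallGroups.Golay CfsgLib.SmallGroups.LeechOrbit CfsgLib.SmallGroups.LeechEnum
  CfsgLib.SmallGroups.LeechLists CfsgLib.SmallGroups.LeechVectorStab CfsgLib.SmallGroups.LeechPairs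
open CfsgLib.SmallGroups CfsgLib.SmallGroups.LeechParamCount LeechSuborbits LeechSubTools
open scoped Pointwise

/-- The 2025 vectors of the base configuration. -/
def pts : Set leechLattice :=
  {y | sqNorm (y : GolayPt → ℤ) = 32 ∧ dotInt (v48 : GolayPt → ℤ) (y : GolayPt → ℤ) = 16 ∧
    dotInt (vV : GolayPt → ℤ) (y : GolayPt → ℤ) = 0}

theorem finite_pts : pts.Finite :=
  Set.Finite.of_finite_image (LeechHS.finite32.subset (by
    rintro _ ⟨x, hx, rfl⟩
    exact ⟨x.2, hx.1⟩)) Subtype.val_injective.injOn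

/-- The vectors of the base set with two given inner products. -/
def other (d e : ℤ) : Set leechLattice :=
  {y | y ∈ at' v48 16 ∧ dotInt (LeechHS.vZ : GolayPt → ℤ) (y : GolayPt → ℤ) = d ∧
    dotInt (vV : GolayPt → ℤ) (y : GolayPt → ℤ) = e}

theorem other_lower {root : ℕ} {T : VTree} {n : ℕ} {d e : ℤ}
    (hc : cert LeechHSData.gens5 [kU, LeechHS.kZ, kV] root T = true) (hcan : canon T = true)
    (hlen : T.keys.length = n)
    (hf : LeechReach.okGood (dig root 23) (Pk root) = true ∧ dotK root root = 32 ∧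
      dotK kU root = 16 ∧ dotK LeechHS.kZ root = d ∧ dotK kV root = e) :
    n ≤ (other d e).ncard := by
  obtain ⟨hr, hsub, hn, -⟩ := LeechCo3Suborbits.class_sub hc hcan hlen hf
  rw [← hn]
  refine Set.ncard_le_ncard (fun y hy => ⟨⟨(hsub hy).1.1, (hsub hy).1.2.1⟩, (hsub hy).1.2.2, (hsub hy).2⟩) ?_
  exact (Set.finite_of_ncard_ne_zero (by rw [ncard_at16_base]; norm_num)).subset fun y hy => hy.1

theorem ncard_pts_le : pts.ncard ≤ 2025 := by
  have l0 := other_lower (d := (-8 : ℤ)) (e := (8 : ℤ)) LeechCo3OrbitsA.cert176a LeechCo3OrbitsA.canon176a LeechCo3OrbitsA.length176a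
    (by decide +kernel)
  have l1 := other_lower (d := (-8 : ℤ)) (e := (16 : ℤ)) LeechCo3OrbitsA.cert176b LeechCo3OrbitsA.canon176b LeechCo3OrbitsA.length176b
    (by decide +kernel)
  have l2 := other_lower (d := (0 : ℤ)) (e := (8 : ℤ)) LeechCo3OrbitsB.cert2640 LeechCo3OrbitsB.canon2640 LeechCo3OrbitsB.length2640
    (by decide +kernel)
  have l3 := other_lower (d := (0 : ℤ)) (e := (16 : ℤ)) LeechCo3OrbitsA.cert1155 LeechCo3OrbitsA.canon1155 LeechCo3OrbitsA.length1155
    (by decide +kernel)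
  have l4 := other_lower (d := (8 : ℤ)) (e := (8 : ℤ)) LeechCo3OrbitsC.cert3696 LeechCo3OrbitsC.canon3696 LeechCo3OrbitsC.length3696
    (by decide +kernel)
  have l5 := other_lower (d := (8 : ℤ)) (e := (16 : ℤ)) LeechCo3OrbitsA.cert672 LeechCo3OrbitsA.canon672 LeechCo3OrbitsA.length672
    (by decide +kernel)
  have l6 := other_lower (d := (16 : ℤ)) (e := (8 : ℤ)) LeechCo3OrbitsA.cert616 LeechCo3OrbitsA.canon616 LeechCo3OrbitsA.length616
    (by decide +kernel)
  have l7 := other_lower (d := (16 : ℤ)) (e := (16 : ℤ)) LeechCo3OrbitsA.cert22 LeechCo3OrbitsA.canon22 LeechCo3OrbitsA.length22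
    (by decide +kernel)
  have hfin : (at' v48 16).Finite := Set.finite_of_ncard_ne_zero (by rw [ncard_at16_base]; norm_num)
  have fp : pts.Finite := hfin.subset fun y hy => ⟨hy.1, hy.2.1⟩
  have fo : ∀ d e, (other d e).Finite := fun d e => hfin.subset fun y hy => hy.1
  have hd : ∀ d e d' e' : ℤ, (d, e) ≠ (d', e') → Disjoint (other d e) (other d' e') := fun d e d' e' h =>
    Set.disjoint_left.2 fun y hy hy' =>
      h (Prod.ext (hy.2.1.symm.trans hy'.2.1) (hy.2.2.symm.trans hy'.2.2))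
  have hp : ∀ d e : ℤ, e ≠ 0 → Disjoint pts (other d e) := fun d e h =>
    Set.disjoint_left.2 fun y hy hy' => h (hy'.2.2.symm.trans hy.2.2)
  have hsub : pts ∪ other (-8) (8) ∪ other (-8) (16) ∪ other (0) (8) ∪ other (0) (16) ∪ other (8) (8) ∪ other (8) (16) ∪ other (16) (8) ∪ other (16) (16) ⊆ at' v48 16 := by
    intro y hy
    simp only [Set.mem_union] at hy
    rcases hy with (((((((hy | hy) | hy) | hy) | hy) | hy) | hy) | hy) | hy <;>
      first | exact hy.1 | exact ⟨hy.1, hy.2.1⟩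
  have h := Set.ncard_le_ncard hsub hfin
  rw [Set.ncard_union_eq ?_ (((((((fp.union (fo _ _)).union (fo _ _)).union (fo _ _)).union (fo _ _)).union (fo _ _)).union (fo _ _)).union (fo _ _)) (fo _ _),
    Set.ncard_union_eq ?_ ((((((fp.union (fo _ _)).union (fo _ _)).union (fo _ _)).union (fo _ _)).union (fo _ _)).union (fo _ _)) (fo _ _),
    Set.ncard_union_eq ?_ (((((fp.union (fo _ _)).union (fo _ _)).union (fo _ _)).union (fo _ _)).union (fo _ _)) (fo _ _),
    Set.ncard_union_eq ?_ ((((fp.union (fo _ _)).union (fo _ _)).union (fo _ _)).union (fo _ _)) (fo _ _),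
    Set.ncard_union_eq ?_ (((fp.union (fo _ _)).union (fo _ _)).union (fo _ _)) (fo _ _),
    Set.ncard_union_eq ?_ ((fp.union (fo _ _)).union (fo _ _)) (fo _ _),
    Set.ncard_union_eq ?_ (fp.union (fo _ _)) (fo _ _),
    Set.ncard_union_eq ?_ fp (fo _ _), ncard_at16_base] at h
  · omega
  all_goals
    simp (disch := decide) only [Set.disjoint_union_left, hd, hp, and_self]

theorem vZ_mem_pts : LeechHS.vZ ∈ pts := by
  refine ⟨LeechHS.norm_vZ, by rw [coe_v48, LeechHS.coe_vZ, dotK_eq, LeechHS.facts.2.1], ?_⟩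
  rw [coe_vV, LeechHS.coe_vZ, dot_comm, dotK_eq, LeechHS.facts.2.2.2.1]

/-- The stabiliser of the pair is transitive on the 2025 vectors. -/
theorem orbit_pts :
    MulAction.orbit ↥(MulAction.stabilizer Co0 v48 ⊓ MulAction.stabilizer Co0 vV) LeechHS.vZ = pts ∧
      pts.ncard = 2025 := by
  set H := MulAction.stabilizer Co0 v48 ⊓ MulAction.stabilizer Co0 vV
  have hsub : MulAction.orbit H LeechHS.vZ ⊆ pts := by
    rintro _ ⟨⟨g, g1, g2⟩, rfl⟩
    refine ⟨(norm_smul g _).trans vZ_mem_pts.1, ?_, ?_⟩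
    · have h := dot_smul g v48 LeechHS.vZ
      rw [show g • v48 = v48 from g1] at h
      exact h.trans vZ_mem_pts.2.1
    · have h := dot_smul g vV LeechHS.vZ
      rw [show g • vV = vV from g2] at h
      exact h.trans vZ_mem_pts.2.2
  have h := LeechMcL.card_mul H LeechHS.vZ (MulAction.orbit H LeechHS.vZ) fun x =>
    ⟨fun ⟨g, hg⟩ => ⟨g.1, g.2, hg⟩, fun ⟨g, hg, e⟩ => ⟨⟨g, hg⟩, e⟩⟩
  rw [show Nat.card H = 898128000 from LeechMcL.card_G2,
    show H ⊓ MulAction.stabilizer Co0 LeechHS.vZ =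
      LeechTwoPoint.G2 LeechHS.vZ ⊓ MulAction.stabilizer Co0 vV from inf_right_comm _ _ _,
    LeechHS.card_stab3] at h
  have hn : (MulAction.orbit H LeechHS.vZ).ncard = 2025 :=
    Nat.eq_of_mul_eq_mul_right (show 0 < 443520 by norm_num) (h.trans (by norm_num))
  have e := Set.eq_of_subset_of_ncard_le hsub (by rw [hn]; exact ncard_pts_le) finite_pts
  exact ⟨e, e ▸ hn⟩

/-- The part at inner product `d` with the base point. -/
def part (d : ℤ) : Set leechLattice :=
  {y | y ∈ pts ∧ dotInt (LeechHS.vZ : GolayPt → ℤ) (y : GolayPt → ℤ) = d}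

theorem part_lower {root : ℕ} {T : VTree} {n : ℕ} {d : ℤ}
    (hc : cert LeechHSData.gens5 [kU, LeechHS.kZ, kV] root T = true) (hcan : canon T = true)
    (hlen : T.keys.length = n)
    (hfacts : LeechReach.okGood (dig root 23) (Pk root) = true ∧ T.has root = true ∧ dotK root root = 32 ∧
      dotK kU root = 16 ∧ dotK kV root = 0 ∧ dotK LeechHS.kZ root = d) :
    n ≤ (part d).ncard := by
  obtain ⟨hg, hh, hnorm, hU, hV, hZ⟩ := hfacts
  have hr : Pk root ∈ leechLattice := LeechBasic.mem_lattice.2 (LeechReach.good_of_ok hg)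
  rw [← hlen, ← ncard_vecs hc hr hcan]
  exact Set.ncard_le_ncard (fun y hy => ⟨⟨norm_of_mem hc hr hy hnorm,
    dot_of_mem hc hr hy (List.mem_cons_self ..) coe_v48 hU,
    dot_of_mem hc hr hy (List.mem_cons_of_mem _ (List.mem_cons_of_mem _ (List.mem_cons_self ..))) coe_vV hV⟩,
    dot_of_mem hc hr hy (List.mem_cons_of_mem _ (List.mem_cons_self ..)) LeechHS.coe_vZ hZ⟩)
    (finite_pts.subset fun y hy => hy.1)

theorem part_orbit {root : ℕ} {T : VTree} {n : ℕ} {d : ℤ}
    (hc : cert LeechHSData.gens5 [kU, LeechHS.kZ, kV] root T = true) (hcan : canon T = true)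
    (hlen : T.keys.length = n) (hcnt : (part d).ncard ≤ n)
    (hfacts : LeechReach.okGood (dig root 23) (Pk root) = true ∧ T.has root = true ∧ dotK root root = 32 ∧
      dotK kU root = 16 ∧ dotK kV root = 0 ∧ dotK LeechHS.kZ root = d) :
    ∃ r : leechLattice,
      MulAction.orbit ↥(MulAction.stabilizer Co0 v48 ⊓ MulAction.stabilizer Co0 vV ⊓
        MulAction.stabilizer Co0 LeechHS.vZ) r = part d ∧ r ∈ pts ∧ (part d).ncard = n := by
  obtain ⟨hg, hh, hnorm, hU, hV, hZ⟩ := hfacts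
  have hr : Pk root ∈ leechLattice := LeechBasic.mem_lattice.2 (LeechReach.good_of_ok hg)
  have hsub : vecs T ⊆ part d := fun y hy => ⟨⟨norm_of_mem hc hr hy hnorm,
    dot_of_mem hc hr hy (List.mem_cons_self ..) coe_v48 hU,
    dot_of_mem hc hr hy (List.mem_cons_of_mem _ (List.mem_cons_of_mem _ (List.mem_cons_self ..))) coe_vV hV⟩,
    dot_of_mem hc hr hy (List.mem_cons_of_mem _ (List.mem_cons_self ..)) LeechHS.coe_vZ hZ⟩
  have hfin : (part d).Finite := finite_pts.subset fun y hy => hy.1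
  have e : vecs T = part d :=
    Set.eq_of_subset_of_ncard_le hsub (by rw [ncard_vecs hc hr hcan, hlen]; exact hcnt) hfin
  have hroot : (⟨Pk root, hr⟩ : leechLattice) ∈ part d := e ▸ ⟨root, VTree.find_mem _ _ hh, rfl⟩
  refine ⟨⟨Pk root, hr⟩, ?_, hroot.1, by rw [← e, ncard_vecs hc hr hcan, hlen]⟩
  ext y
  constructor
  · rintro ⟨⟨g, ⟨g1, g2⟩, g3⟩, rfl⟩
    have key : ∀ a : leechLattice, g • a = a → dotInt (a : GolayPt → ℤ)
        ((g • (⟨Pk root, hr⟩ : leechLattice) : leechLattice) : GolayPt → ℤ) =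
          dotInt (a : GolayPt → ℤ) (Pk root) := fun a ha => by
      have h := dot_smul g a ⟨Pk root, hr⟩
      rwa [ha] at h
    exact ⟨⟨(norm_smul g _).trans hroot.1.1, (key _ g1).trans hroot.1.2.1, (key _ g2).trans hroot.1.2.2⟩,
      (key _ g3).trans hroot.2⟩
  · intro hy
    rw [← e] at hy
    obtain ⟨g, hfix, hg⟩ := transitive_vecs hc hr (x := ⟨Pk root, hr⟩)
      ⟨root, VTree.find_mem _ _ hh, rfl⟩ hy
    exact ⟨⟨g, ⟨hfix kU (List.mem_cons_self ..) v48 coe_v48,
      hfix kV (List.mem_cons_of_mem _ (List.mem_cons_of_mem _ (List.mem_cons_self ..))) vV coe_vV⟩,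
      hfix LeechHS.kZ (List.mem_cons_of_mem _ (List.mem_cons_self ..)) LeechHS.vZ LeechHS.coe_vZ⟩, hg⟩

/-- A root. -/
def rootA : ℕ := 42255020007616689108775774888

/-- A root. -/
def rootB : ℕ := 51539570302248561866231548550

/-- A root. -/
def rootC : ℕ := 46876672895321563189466478999

theorem facts : (LeechReach.okGood (dig rootA 23) (Pk rootA) = true ∧ LeechMcLOrbits.tree330.has rootA = true ∧
      dotK rootA rootA = 32 ∧ dotK kU rootA = 16 ∧ dotK kV rootA = 0 ∧ dotK LeechHS.kZ rootA = 0) ∧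
    (LeechReach.okGood (dig rootB 23) (Pk rootB) = true ∧ LeechMcLOrbits.tree462.has rootB = true ∧
      dotK rootB rootB = 32 ∧ dotK kU rootB = 16 ∧ dotK kV rootB = 0 ∧ dotK LeechHS.kZ rootB = 16) ∧
    LeechReach.okGood (dig rootC 23) (Pk rootC) = true ∧ LeechMcLOrbits.tree1232.has rootC = true ∧
      dotK rootC rootC = 32 ∧ dotK kU rootC = 16 ∧ dotK kV rootC = 0 ∧ dotK LeechHS.kZ rootC = 8 := by
  decide +kernel

theorem part_counts : (part 0).ncard = 330 ∧ (part 16).ncard = 462 ∧ (part 8).ncard = 1232 := by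
  obtain ⟨fA, fB, fC⟩ := facts
  have l1 := part_lower LeechMcLOrbits.cert330 LeechMcLOrbits.canon330 LeechMcLOrbits.length330 fA
  have l2 := part_lower LeechMcLOrbits.cert462 LeechMcLOrbits.canon462 LeechMcLOrbits.length462 fB
  have l3 := part_lower LeechMcLOrbits.cert1232 LeechMcLOrbits.canon1232 LeechMcLOrbits.length1232 fC
  have hpf : ∀ d, (part d).Finite := fun d => finite_pts.subset fun y hy => hy.1
  have hd : ∀ d d' : ℤ, d ≠ d' → Disjoint (part d) (part d') := fun d d' h =>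
    Set.disjoint_left.2 fun y hy hy' => h (hy.2.symm.trans hy'.2)
  have hZd : dotInt (LeechHS.vZ : GolayPt → ℤ) (LeechHS.vZ : GolayPt → ℤ) = 32 := by
    rw [← sqNorm_eq]; exact LeechHS.norm_vZ
  have hdz : ∀ d : ℤ, d ≠ 32 → LeechHS.vZ ∉ part d := fun d h hy => h (hy.2.symm.trans hZd)
  have hsub : {LeechHS.vZ} ∪ part 0 ∪ part 16 ∪ part 8 ⊆ pts := by
    rintro y (((rfl | hy) | hy) | hy)
    exacts [vZ_mem_pts, hy.1, hy.1, hy.1]
  have h := Set.ncard_le_ncard hsub finite_pts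
  have f0 := Set.finite_singleton LeechHS.vZ
  rw [Set.ncard_union_eq ?_ ((f0.union (hpf _)).union (hpf _)) (hpf _),
    Set.ncard_union_eq ?_ (f0.union (hpf _)) (hpf _),
    Set.ncard_union_eq ?_ f0 (hpf _), Set.ncard_singleton, orbit_pts.2] at h
  · omega
  all_goals
    simp (disch := norm_num) [Set.disjoint_union_left, Set.disjoint_singleton_left, hd, hdz]

/-- The configuration below a pair at inner product `-8`. -/
def cfg (v w : leechLattice) : Set leechLattice :=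
  {x | sqNorm (x : GolayPt → ℤ) = 32 ∧ dotInt (v : GolayPt → ℤ) (x : GolayPt → ℤ) = 0 ∧
    dotInt (w : GolayPt → ℤ) (x : GolayPt → ℤ) = 16}

theorem cfg_base : cfg vV (v48 - vV) = pts := by
  ext x
  simp only [cfg, pts, Set.mem_ofPred_eq, AddSubgroupClass.coe_sub, sub_eq_add_neg,
    AddSubgroup.coe_add, NegMemClass.coe_neg]
  rw [LeechHS.dot_add_left, dot_comm (-(vV : GolayPt → ℤ)), dot_neg, dot_comm (x : GolayPt → ℤ) (vV : GolayPt → ℤ)]
  constructor <;> rintro ⟨a, b, c⟩ <;> exact ⟨a, by omega, by omega⟩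

theorem exists_base (v w : leechLattice) (hv : sqNorm (v : GolayPt → ℤ) = 32)
    (hw : sqNorm (w : GolayPt → ℤ) = 32) (hvw : dotInt (v : GolayPt → ℤ) (w : GolayPt → ℤ) = -8) :
    ∃ g : Co0, g • vV = v ∧ g • (v48 - vV) = w := by
  obtain ⟨g, g1, g2⟩ := LeechPairs.exists_map (v + w) v
    (by rw [AddSubgroup.coe_add, sqNorm_add, hv, hw, hvw]; norm_num)
    ⟨hv, by rw [AddSubgroup.coe_add, add_sub_cancel_left]; exact hw⟩
  exact ⟨g, g2, by rw [sub_eq_add_neg, smul_add', smul_neg', g1, g2, add_comm v, add_neg_cancel_right]⟩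

theorem smul_mem_cfg (g : Co0) (v w y : leechLattice) : g • y ∈ cfg (g • v) (g • w) ↔ y ∈ cfg v w := by
  simp only [cfg, Set.mem_ofPred_eq, norm_smul, dot_smul]

/-- Transport of orbits along an automorphism. -/
theorem orbit_smul (c : Co0) {H H' : Subgroup Co0} (h : ∀ g, g ∈ H ↔ c * g * c⁻¹ ∈ H') (y : leechLattice) :
    MulAction.orbit H' (c • y) = (c • ·) '' MulAction.orbit H y := by
  have e := orbit_transport c h (-y)
  rw [smul_neg', neg_neg] at e
  rw [e]
  ext z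
  constructor
  · rintro ⟨_, ⟨g, rfl⟩, rfl⟩
    refine ⟨g • y, ⟨g, rfl⟩, ?_⟩
    show c • g.1 • y = -(c • g.1 • -y)
    rw [smul_neg', smul_neg', neg_neg]
  · rintro ⟨_, ⟨g, rfl⟩, rfl⟩
    refine ⟨g • -y, ⟨g, rfl⟩, ?_⟩
    show -(c • g.1 • -y) = c • g.1 • y
    rw [smul_neg', smul_neg', neg_neg]

theorem main (v w : leechLattice) (hv : sqNorm (v : GolayPt → ℤ) = 32)
    (hw : sqNorm (w : GolayPt → ℤ) = 32) (hvw : dotInt (v : GolayPt → ℤ) (w : GolayPt → ℤ) = -8) :
    (cfg v w).ncard = 2025 ∧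
      (∀ x ∈ cfg v w, ∀ x' ∈ cfg v w, ∃ g : Co0, g • v = v ∧ g • w = w ∧ g • x = x') ∧
      ∀ x ∈ cfg v w, ∃ y₁ ∈ cfg v w, ∃ y₂ ∈ cfg v w, ∃ y₃ ∈ cfg v w,
        let H := MulAction.stabilizer Co0 v ⊓ MulAction.stabilizer Co0 w ⊓ MulAction.stabilizer Co0 x
        (MulAction.orbit H y₁).ncard = 330 ∧ (MulAction.orbit H y₂).ncard = 462 ∧
          (MulAction.orbit H y₃).ncard = 1232 := by
  obtain ⟨a, rfl, rfl⟩ := exists_base v w hv hw hvw
  have hto : ∀ x ∈ cfg (a • vV) (a • (v48 - vV)), ∃ b : Co0, b • vV = a • vV ∧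
      b • (v48 - vV) = a • (v48 - vV) ∧ b • LeechHS.vZ = x := by
    intro x hx
    obtain ⟨y, rfl⟩ : ∃ y, a • y = x := ⟨a⁻¹ • x, smul_inv_smul a x⟩
    rw [smul_mem_cfg, cfg_base, ← orbit_pts.1] at hx
    obtain ⟨⟨g, g1, g2⟩, hg⟩ := hx
    refine ⟨a * g, ?_, ?_, by rw [mul_smul]; exact congrArg (a • ·) hg⟩
    · rw [mul_smul, show g • vV = vV from g2]
    · rw [mul_smul, sub_eq_add_neg v48 vV, smul_add' g, smul_neg', show g • v48 = v48 from g1,
        show g • vV = vV from g2]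
  refine ⟨?_, ?_, ?_⟩
  · rw [LeechMcL.ncard_transport (g := a) (s := cfg vV (v48 - vV)) fun y => smul_mem_cfg a vV _ y, cfg_base,
      orbit_pts.2]
  · intro x hx x' hx'
    obtain ⟨b, b1, b2, b3⟩ := hto x hx
    obtain ⟨c, c1, c2, c3⟩ := hto x' hx'
    refine ⟨c * b⁻¹, ?_, ?_, ?_⟩
    · rw [mul_smul, inv_smul_eq_iff.2 b1.symm, c1]
    · rw [mul_smul, inv_smul_eq_iff.2 b2.symm, c2]
    · rw [mul_smul, inv_smul_eq_iff.2 b3.symm, c3]
  · intro x hx
    obtain ⟨b, b1, b2, b3⟩ := hto x hx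
    obtain ⟨fA, fB, fC⟩ := facts
    obtain ⟨r₁, e1, m1, n1⟩ := part_orbit LeechMcLOrbits.cert330 LeechMcLOrbits.canon330
      LeechMcLOrbits.length330 part_counts.1.le fA
    obtain ⟨r₂, e2, m2, n2⟩ := part_orbit LeechMcLOrbits.cert462 LeechMcLOrbits.canon462
      LeechMcLOrbits.length462 part_counts.2.1.le fB
    obtain ⟨r₃, e3, m3, n3⟩ := part_orbit LeechMcLOrbits.cert1232 LeechMcLOrbits.canon1232
      LeechMcLOrbits.length1232 part_counts.2.2.le fC
    have hH : ∀ g, g ∈ MulAction.stabilizer Co0 v48 ⊓ MulAction.stabilizer Co0 vV ⊓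
        MulAction.stabilizer Co0 LeechHS.vZ ↔ b * g * b⁻¹ ∈ MulAction.stabilizer Co0 (a • vV) ⊓
          MulAction.stabilizer Co0 (a • (v48 - vV)) ⊓ MulAction.stabilizer Co0 x := by
      intro g
      rw [← b1, ← b2, ← b3]
      simp only [Subgroup.mem_inf, MulAction.mem_stabilizer_iff, mul_smul, inv_smul_smul, smul_left_cancel_iff]
      rw [sub_eq_add_neg, smul_add', smul_neg']
      constructor
      · rintro ⟨⟨p, q⟩, r⟩; exact ⟨⟨q, by rw [p, q]⟩, r⟩
      · rintro ⟨⟨q, p⟩, r⟩; exact ⟨⟨by rw [q] at p; exact add_right_cancel p, q⟩, r⟩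
    have hm : ∀ r ∈ pts, b • r ∈ cfg (a • vV) (a • (v48 - vV)) := fun r hr => by
      rw [← b1, ← b2, smul_mem_cfg, cfg_base]; exact hr
    refine ⟨_, hm r₁ m1, _, hm r₂ m2, _, hm r₃ m3, ?_⟩
    dsimp only
    rw [orbit_smul b hH, orbit_smul b hH, orbit_smul b hH,
      Set.ncard_image_of_injective _ (MulAction.injective b),
      Set.ncard_image_of_injective _ (MulAction.injective b),
      Set.ncard_image_of_injective _ (MulAction.injective b), e1, e2, e3]
    exact ⟨n1, n2, n3⟩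

end CfsgLib.Sporadic.LeechMcLSuborbits
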