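import Cfsg.Agent.Lib.SmallGroups.LeechBasic

/-!
The rank 24 lattice is generated by its minimal vectors.
-/

set_option autoImplicit false

namespace CfsgLib.Sporadic.LeechMinimal

open Cfsg CfsgLib.SmallGroups

/-- The subgroup generated by the minimal vectors. -/
def M : AddSubgroup (GolayPt → ℤ) :=
  AddSubgroup.closure {x | x ∈ leechLattice ∧ sqNorm x = 32}

theorem mem_M {x : GolayPt → ℤ} (hx : LeechBasic.Good x) (h : sqNorm x = 32) : x ∈ M :=
  AddSubgroup.subset_closure ⟨LeechBasic.mem_lattice.2 hx, h⟩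

theorem le_lattice : M ≤ leechLattice :=
  (AddSubgroup.closure_le _).2 fun _ h => h.1

theorem pair_mem {i j : GolayPt} (hij : i ≠ j) {s : ℤ} (hs : s = 4 ∨ s = -4) :
    (Pi.single i 4 + Pi.single j s : GolayPt → ℤ) ∈ M := by
  refine mem_M ⟨0, fun k => ?_, ?_, ?_⟩ ?_
  · rw [Int.modEq_iff_dvd]
    simp only [Pi.add_apply, Pi.single_apply]
    split <;> split <;> omega
  · simp only [Pi.add_apply, Finset.sum_add_distrib, Finset.sum_pi_single', Finset.mem_univ, if_true]
    rw [Int.modEq_iff_dvd]
    omega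
  · have : LeechBasic.wd (Pi.single i 4 + Pi.single j s : GolayPt → ℤ) 0 = 0 := by
      funext k
      simp only [LeechBasic.wd, Pi.add_apply, Pi.single_apply, Pi.zero_apply,
        ZMod.intCast_zmod_eq_zero_iff_dvd]
      split <;> split <;> omega
    rw [this]
    exact zero_mem _
  · rw [sqNorm, ← Finset.sum_subset (Finset.subset_univ {i, j}) (fun k _ hk => by
      simp only [Finset.mem_insert, Finset.mem_singleton, not_or] at hk
      simp [hk.1, hk.2]), Finset.sum_pair hij]
    rcases hs with rfl | rfl <;> simp [hij, hij.symm]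

theorem four_mem (z : GolayPt → ℤ) (hz : (2 : ℤ) ∣ ∑ i, z i) : (4 : ℤ) • z ∈ M := by
  obtain ⟨t, ht⟩ := hz
  have key : ∀ i : GolayPt, (Pi.single i 4 - Pi.single none 4 : GolayPt → ℤ) ∈ M := by
    intro i
    rcases eq_or_ne i none with rfl | h
    · simp
    · have := pair_mem h (s := -4) (Or.inr rfl)
      rwa [Pi.single_neg, ← sub_eq_add_neg] at this
  have h8 : (Pi.single none 8 : GolayPt → ℤ) ∈ M := by
    have h := AddSubgroup.sub_mem M (pair_mem (i := none) (j := some 0) (by simp) (Or.inl rfl))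
      (key (some 0))
    have e : (Pi.single none 8 : GolayPt → ℤ) =
        Pi.single none 4 + Pi.single (some 0) 4 - (Pi.single (some 0) 4 - Pi.single none 4) := by
      rw [show (8 : ℤ) = 4 + 4 by norm_num, Pi.single_add]; abel
    rwa [e]
  have e : (4 : ℤ) • z = ∑ i, z i • (Pi.single i 4 - Pi.single none 4 : GolayPt → ℤ) +
      t • (Pi.single none 8 : GolayPt → ℤ) := by
    funext k
    simp only [Pi.add_apply, Finset.sum_apply, Pi.smul_apply, Pi.sub_apply, Pi.single_apply,
      smul_eq_mul, mul_sub, Finset.sum_sub_distrib, mul_ite, mul_zero]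
    rw [Finset.sum_ite_eq, if_pos (Finset.mem_univ k)]
    split
    · rw [← Finset.sum_mul, ht]; ring
    · simp; ring
  rw [e]
  exact add_mem (sum_mem fun i _ => AddSubgroup.zsmul_mem _ (key i) _) (AddSubgroup.zsmul_mem _ h8 _)

/-- A lift of a code word to the even part. -/
def HasLift (w : GolayPt → ZMod 2) : Prop :=
  ∃ y : GolayPt → ℤ, (2 : ℤ) • y ∈ M ∧ (4 : ℤ) ∣ ∑ i, y i ∧ (fun i => (y i : ZMod 2)) = w

theorem pc_bas : ∀ i < 12, Golay.pc (Golay.bas i) = 8 := by decide +kernel

theorem hasLift {w : GolayPt → ZMod 2} (hw : w ∈ golayCode) : HasLift w := by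
  refine GolayOctads.code_induction (P := HasLift) ⟨0, by simp, by simp, by funext i; simp⟩ ?_ ?_ hw
  · intro k hk
    let y : GolayPt → ℤ := fun i => if i ∈ Golay.toSet (Golay.bas k) then 1 else 0
    have hw' : (fun i => (y i : ZMod 2)) = Golay.word (Golay.bas k) := by
      funext i
      simp only [y, Golay.mem_toSet, Golay.word]
      split <;> simp
    have hsum : ∑ i, y i = 8 := by
      simp only [y, Finset.sum_boole, Finset.filter_univ_mem, Golay.card_toSet, pc_bas k hk]
      rfl
    refine ⟨y, mem_M ⟨0, fun i => ?_, ?_, ?_⟩ ?_, by omega, hw'⟩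
    · simp [Int.modEq_iff_dvd]
    · simp only [Pi.smul_apply, smul_eq_mul, ← Finset.mul_sum, hsum]
      rfl
    · have : LeechBasic.wd ((2 : ℤ) • y) 0 = Golay.word (Golay.bas k) := by
        rw [← hw']
        funext i
        simp [LeechBasic.wd]
      rw [this]
      exact Golay.word_bas_mem hk
    · have : sqNorm ((2 : ℤ) • y) = 4 * ∑ i, y i := by
        rw [sqNorm, Finset.mul_sum]
        refine Finset.sum_congr rfl fun i _ => ?_
        simp only [y, Pi.smul_apply, smul_eq_mul]
        split <;> norm_num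
      rw [this, hsum]
      norm_num
  · rintro v w ⟨y, h1, h2, rfl⟩ ⟨y', h1', h2', rfl⟩
    refine ⟨y + y', by rw [smul_add]; exact add_mem h1 h1', ?_, by funext i; simp⟩
    simp only [Pi.add_apply, Finset.sum_add_distrib]
    omega

/-- The odd minimal vector. -/
def odd : GolayPt → ℤ := fun i => if i = none then -3 else 1

theorem odd_mem : odd ∈ M := by
  refine mem_M ⟨1, ?_, ?_, ?_⟩ ?_
  · intro i
    unfold odd
    split <;> simp [Int.modEq_iff_dvd]
  · rw [Fintype.sum_option]
    simp [odd, Int.modEq_iff_dvd]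
  · have : LeechBasic.wd odd 1 = 0 := by
      funext i
      simp only [LeechBasic.wd, odd, Pi.zero_apply]
      split
      · decide
      · simp
    rw [this]
    exact zero_mem _
  · rw [sqNorm, Fintype.sum_option]
    simp [odd]

theorem eq_lattice : M = leechLattice := by
  refine le_antisymm le_lattice fun x hx => ?_
  obtain ⟨m, y, hm, hxy, hs, hc⟩ := LeechBasic.exists_halves (LeechBasic.mem_lattice.1 hx)
  have hx' : x - m • odd ∈ leechLattice :=
    sub_mem hx (AddSubgroup.zsmul_mem _ (le_lattice odd_mem) _)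
  suffices h : x - m • odd ∈ M by simpa using add_mem h (AddSubgroup.zsmul_mem _ odd_mem m)
  obtain ⟨m', y', hm', hxy', hs', hc'⟩ := LeechBasic.exists_halves (LeechBasic.mem_lattice.1 hx')
  have hm0 : m' = 0 := by
    have h := hxy' (some 0)
    have h0 := hxy (some 0)
    simp only [Pi.sub_apply, Pi.smul_apply, smul_eq_mul, odd, reduceCtorEq, if_false, mul_one] at h
    omega
  subst hm0
  obtain ⟨y'', h1, h2, h3⟩ := hasLift hc'
  have hev : ∀ i, (2 : ℤ) ∣ y' i - y'' i := by
    intro i
    have := congrFun h3 i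
    rwa [eq_comm, ← sub_eq_zero, ← Int.cast_sub, ZMod.intCast_zmod_eq_zero_iff_dvd] at this
  choose z hz using hev
  have e : x - m • odd = (2 : ℤ) • y'' + (4 : ℤ) • z := by
    funext i
    rw [hxy' i]
    simp only [Pi.add_apply, Pi.smul_apply, smul_eq_mul]
    have := hz i
    omega
  rw [e]
  refine add_mem h1 (four_mem z ?_)
  have : ∑ i, y' i - ∑ i, y'' i = 2 * ∑ i, z i := by
    rw [← Finset.sum_sub_distrib, Finset.mul_sum]
    exact Finset.sum_congr rfl fun i _ => hz i
  omega

end CfsgLib.Sporadic.LeechMinimal
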