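import Cfsg.Agent.Lib.SmallGroups.LeechGroup

/-!
# Normal forms of short vectors under the monomial subgroup

`Reach x T` says that a monomial automorphism carries `x` to `T`.  The normal forms of the vectors
with square norm 64 are the classes of the monomial subgroup on them.
-/

set_option autoImplicit false
set_option maxRecDepth 10000
set_option linter.unusedSimpArgs false

namespace CfsgLib.Sporadic.LeechMonoReach

open Cfsg CfsgLib.SmallGroups.Golay CfsgLib.SmallGroups.GolayOctads CfsgLib.SmallGroups.M24Group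
  CfsgLib.SmallGroups.LeechBasic CfsgLib.SmallGroups.Mathieu CfsgLib.SmallGroups
  CfsgLib.Sporadic CfsgLib.Sporadic.M24Orbits CfsgLib.ThreeTransp
open CfsgLib.SmallGroups.LeechGroup (monoSub mono_mem)
open CfsgLib.SmallGroups.LeechReach (insideOK spans dot_spans okGood good_of_ok dot_flip pv pos_bpt bpt_pos
  five five_spec five_inside empty_mem_CS)
open CfsgLib.SmallGroups.LeechShapes (sv Shape absOf abs_sv shape_perm stdOK exists_octad_pos smul_compl
  smul_empty out_q in_q tgt_out_one tgt_out_two tgt_in_one std_facts exists_dodecad_pos co16 gens16 negs16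
  negs16_spec negs16_ok toSet_co16 flip_neg)
open scoped Pointwise

/-- An element of the monomial subgroup carries `x` to `T`. -/
def Reach (x T : GolayPt → ℤ) : Prop :=
  ∀ hx : x ∈ leechLattice,
    ∃ g ∈ monoSub, ((g • (⟨x, hx⟩ : leechLattice) : leechLattice) : GolayPt → ℤ) = T

theorem Reach.refl (x : GolayPt → ℤ) : Reach x x := fun _ => ⟨1, one_mem _, rfl⟩

theorem Reach.trans {x y z : GolayPt → ℤ} (h : Reach x y) (h' : Reach y z) : Reach x z := by
  intro hx
  obtain ⟨g, hgm, hg⟩ := h hx
  obtain ⟨g', hgm', hg'⟩ := h' (hg ▸ SetLike.coe_mem _)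
  refine ⟨g' * g, mul_mem hgm' hgm, ?_⟩
  rw [← hg', mul_smul]
  congr 2
  exact Subtype.ext hg

theorem Reach.mem {x T : GolayPt → ℤ} (h : Reach x T) (hx : x ∈ leechLattice) : T ∈ leechLattice := by
  obtain ⟨g, -, hg⟩ := h hx
  exact hg ▸ SetLike.coe_mem _

theorem Reach.good {x T : GolayPt → ℤ} (h : Reach x T) (hx : Good x) : Good T :=
  mem_lattice.1 (h.mem (mem_lattice.2 hx))

theorem Reach.of_good {x T : GolayPt → ℤ} (h : Good x → Reach x T) : Reach x T :=
  fun hx => h (mem_lattice.1 hx) hx

theorem reach_mono {σ : Equiv.Perm GolayPt} (hσ : σ ∈ M24) {c : Finset GolayPt}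
    (hc : c ∈ LeechMonomial.CS) {x T : GolayPt → ℤ} (h : signedPerm σ c x = T) : Reach x T :=
  fun _ => ⟨LeechMonomial.mono (⟨σ, hσ⟩, ⟨c, hc⟩), mono_mem _,
    (LeechMonomial.mono_apply _ _).trans h⟩

theorem reach_perm {σ : Equiv.Perm GolayPt} (hσ : σ ∈ M24) (x : GolayPt → ℤ) :
    Reach x fun q => x (σ.symm q) :=
  reach_mono hσ empty_mem_CS (funext fun _ => by simp [signedPerm])

theorem reach_sign {c : Finset GolayPt} (hc : c ∈ LeechMonomial.CS) (x : GolayPt → ℤ) :
    Reach x fun q => if q ∈ c then -x q else x q :=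
  reach_mono (one_mem _) hc rfl

theorem reach_signs {x T : GolayPt → ℤ} (h : ∀ i, |x i| = |T i|) (S : ℕ) (gens : List ℕ)
    (hS : ∀ i, T i ≠ 0 → S.testBit (idx i) = true) (hok : insideOK S gens = true)
    (hdot : ∀ g ∈ gens, ∑ i, LeechReach.flip x T i * word g i = 0) : Reach x T := by
  obtain ⟨c, hc, hcv⟩ := GolayUnique.golay_isDE.extend (toSet S)ᶜ (LeechReach.flip x T) fun d hd hd0 => by
    obtain ⟨k, hk, rfl⟩ := mem_code_iff.1 hd
    have hsub : toSet (enc k) ⊆ toSet S := fun p hp => by
      by_contra hne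
      have := hd0 p (Finset.mem_compl.2 hne)
      rw [mem_toSet] at hp
      simp [word, hp] at this
    rw [M24Config.subset_iff (enc_lt k hk).1, Nat.and_comm] at hsub
    have := List.all_eq_true.1 hok _ (mem_cw.2 ⟨k, hk, rfl⟩)
    rw [Bool.or_eq_true, bne_iff_ne, List.contains_iff_mem] at this
    exact dot_spans _ gens hdot _ (this.resolve_left fun hne => hne hsub)
  refine reach_mono (one_mem _) (c := support₂ c) (mem_supports_word hc) (funext fun i => ?_)
  show (if i ∈ support₂ c then -x i else x i) = T i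
  by_cases hT : T i = 0
  · have : x i = 0 := by simpa [hT] using h i
    simp [hT, this]
  · have hi : i ∉ (toSet S)ᶜ := by simpa using hS i hT
    have e := hcv i hi
    simp only [support₂, Finset.mem_filter, Finset.mem_univ, true_and, e, LeechReach.flip]
    rcases abs_eq_abs.1 (h i) with he | he
    · simp [he]
    · have hne : x i ≠ T i := by omega
      simp [hne, he]

theorem reach_list (x : GolayPt → ℤ) (c : ℤ) (l : List GolayPt) (hnd : l.Nodup) (hlen : l.length ≤ 5)
    (hoff : ∀ q, q ∉ l → x q = c) : Reach x (pv c (l.map x)) := by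
  obtain ⟨a, ha, hax⟩ := M24Config.exists_to_points hlen l.get hnd.injective_get
  refine (reach_perm ha x).trans ?_
  convert Reach.refl _ using 1
  funext q
  simp only [pv, List.getD_eq_getElem?_getD, List.getElem?_map]
  by_cases hj : base.idxOf (idx q) < l.length
  · have e : a.symm q = l.get ⟨_, hj⟩ := by
      rw [Equiv.symm_apply_eq, hax]
      exact (bpt_pos q (by omega)).symm
    simp [hj, e]
  · rw [List.getElem?_eq_none (by omega)]
    refine (hoff _ fun hmem => ?_).symm
    obtain ⟨i, hi⟩ := List.get_of_mem hmem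
    have := hax i
    rw [hi, Equiv.apply_symm_apply] at this
    have h7 : (i : ℕ) < 7 := by have := i.2; omega
    rw [this, pos_bpt _ h7] at hj
    exact hj i.2

theorem reach_pv_abs {L L' : List ℤ} (h : L.map (|·|) = L'.map (|·|)) (hlen : L'.length ≤ 5) :
    Reach (pv 0 L) (pv 0 L') := by
  refine reach_signs (fun q => ?_) five [] (fun q hq => five_spec q ?_) five_inside (by simp)
  · simp only [pv]
    have e := fun l : List ℤ => List.getD_map (l := l) (d := 0) (n := base.idxOf (idx q)) (|·|)
    simp only [abs_zero] at e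
    rw [← e, ← e, h]
  · by_contra hge
    exact hq (by simp [pv, List.getD_eq_getElem?_getD, List.getElem?_eq_none (show L'.length ≤ base.idxOf (idx q) by omega)])

theorem reach_levels {x : GolayPt → ℤ} {c u v : ℤ} {A B : Finset GolayPt} (hd : Disjoint A B)
    (hA : ∀ q ∈ A, x q = u) (hB : ∀ q ∈ B, x q = v) (hoff : ∀ q, q ∉ A → q ∉ B → x q = c)
    (hlen : A.card + B.card ≤ 5) :
    Reach x (pv c (List.replicate A.card u ++ List.replicate B.card v)) := by
  have h := reach_list x c (A.toList ++ B.toList)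
    (List.nodup_append'.2 ⟨A.nodup_toList, B.nodup_toList, fun q hq hq' =>
      Finset.disjoint_left.1 hd (Finset.mem_toList.1 hq) (Finset.mem_toList.1 hq')⟩)
    (by simpa using hlen) (fun q hq => by
      simp only [List.mem_append, Finset.mem_toList, not_or] at hq
      exact hoff q hq.1 hq.2)
  convert h using 2
  rw [List.map_append]
  congr 1 <;> refine (List.eq_replicate_iff.2 ⟨by simp, ?_⟩).symm <;> simp only [List.mem_map, Finset.mem_toList] <;> rintro _ ⟨q, hq, rfl⟩
  · exact hA q hq
  · exact hB q hq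

theorem reach_levels_abs {x : GolayPt → ℤ} {u v : ℤ} (hu : 0 ≤ u) (hv : 0 ≤ v) {A B : Finset GolayPt}
    (hd : Disjoint A B) (hA : ∀ q ∈ A, |x q| = u) (hB : ∀ q ∈ B, |x q| = v)
    (hoff : ∀ q, q ∉ A → q ∉ B → x q = 0) (hlen : A.card + B.card ≤ 5) :
    Reach x (pv 0 (List.replicate A.card u ++ List.replicate B.card v)) := by
  refine (reach_list x 0 (A.toList ++ B.toList)
    (List.nodup_append'.2 ⟨A.nodup_toList, B.nodup_toList, fun q hq hq' =>
      Finset.disjoint_left.1 hd (Finset.mem_toList.1 hq) (Finset.mem_toList.1 hq')⟩)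
    (by simpa using hlen) (fun q hq => by
      simp only [List.mem_append, Finset.mem_toList, not_or] at hq
      exact hoff q hq.1 hq.2)).trans (reach_pv_abs ?_ (by simpa using hlen))
  simp only [List.map_append, List.map_map, List.map_replicate, abs_of_nonneg hu, abs_of_nonneg hv]
  congr 1 <;> refine List.eq_replicate_iff.2 ⟨by simp, ?_⟩ <;> simp only [List.mem_map, Finset.mem_toList, Function.comp_apply] <;> rintro _ ⟨q, hq, rfl⟩
  · exact hA q hq
  · exact hB q hq

/-- A shape with sign classes determined by its odd part. -/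
theorem reach_shape {x : GolayPt → ℤ} {O A2 A3 : Finset GolayPt} {o a2 a3 neg : ℕ}
    (h : Shape x O A2 A3) {σ : Equiv.Perm GolayPt} (hσ : σ ∈ M24) (hO : σ • O = toSet o)
    (h2 : σ • A2 = toSet a2) (h3 : σ • A3 = toSet a3) (hT : stdOK o a2 a3 neg = true)
    (hok : insideOK (o ||| a2) [o] = true) : Reach x (sv o a2 a3 neg) := by
  refine (reach_perm hσ x).trans (Reach.of_good fun hx => ?_)
  simp only [stdOK, Bool.and_eq_true, decide_eq_true_eq] at hT
  have habs : ∀ q, |x (σ.symm q)| = |sv o a2 a3 neg q| := fun q => by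
    rw [abs_sv, shape_perm h σ q, hO, h2, h3]
  refine reach_signs habs (o ||| a2) [o] (fun q => (hT.2 q).2.2) hok fun g hg => ?_
  obtain rfl := List.mem_singleton.1 hg
  exact dot_flip hx (good_of_ok hT.1) (fun q => (hT.2 q).1) habs fun q => (hT.2 q).2.1

theorem reach_octad_out_two {x : GolayPt → ℤ} {O A : Finset GolayPt} (hO : O ∈ octads)
    (hA : A.card = 2) (hd : Disjoint O A) (h : Shape x O A ∅) : Reach x (sv octB 6 0 0) := by
  obtain ⟨σ, hσ, h1, h2⟩ :=
    exists_octad_pos LeechShapeData.certOutTwo tgt_out_two hO hA (out_q hd)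
  exact reach_shape h hσ h1 h2 (smul_empty σ) std_facts.2.2.2.1.1 std_facts.2.2.2.1.2

theorem reach_octad_in_one {x : GolayPt → ℤ} {O A : Finset GolayPt} (hO : O ∈ octads)
    (hA : A.card = 1) (hs : A ⊆ O) (h : Shape x O ∅ A) : Reach x (sv octB 0 1 1) := by
  obtain ⟨σ, hσ, h1, h2⟩ :=
    exists_octad_pos LeechShapeData.certInOne tgt_in_one hO hA (in_q hs)
  exact reach_shape h hσ h1 (smul_empty σ) h2 std_facts.2.2.2.2.1.1 std_facts.2.2.2.2.1.2

theorem reach_dodecad_out_one {x : GolayPt → ℤ} {O A : Finset GolayPt} (hO : O ∈ dodecads)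
    (hA : A.card = 1) (hd : Disjoint O A) (h : Shape x O A ∅) : Reach x (sv dodB 4 0 1) := by
  obtain ⟨σ, hσ, h1, h2⟩ := exists_dodecad_pos hO hA hd
  exact reach_shape h hσ h1 h2 (smul_empty σ) std_facts.2.2.2.2.2.1 std_facts.2.2.2.2.2.2

theorem reach_sixteen {x : GolayPt → ℤ} (hgood : Good x) {O : Finset GolayPt} (hO : Oᶜ ∈ octads)
    (h : Shape x O ∅ ∅) :
    Reach x (sv co16 0 0 0) ∨ Reach x (sv co16 0 0 (2 + 4)) := by
  obtain ⟨g, hg, hgO⟩ := exists_to_octB hO
  rw [smul_compl] at hgO
  have hgO' : g • O = toSet co16 := by rw [toSet_co16, ← hgO, compl_compl]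
  have hr := reach_perm hg x
  have hy : Good fun q => x (g.symm q) := hr.good hgood
  set y := fun q => x (g.symm q) with hy'
  have habs : ∀ q, |y q| = |sv co16 0 0 0 q| := fun q => by
    rw [abs_sv, hy', shape_perm h g q, hgO', smul_empty]
  have hdot : ∀ n : ℕ, stdOK co16 0 0 n = true → (∀ q, |y q| = |sv co16 0 0 n q|) →
      ∑ i, LeechReach.flip y (sv co16 0 0 n) i * word co16 i = 0 := fun n hn he => by
    simp only [stdOK, Bool.and_eq_true, decide_eq_true_eq] at hn
    exact dot_flip hy (good_of_ok hn.1) (fun q => (hn.2 q).1) he fun q => (hn.2 q).2.1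
  obtain ⟨n, hn, ha, hb, hc, hd⟩ := negs16_spec
    (∑ i, LeechReach.flip y (sv co16 0 0 0) i * word 10558 i) (∑ i, LeechReach.flip y (sv co16 0 0 0) i * word 36294 i)
    (∑ i, LeechReach.flip y (sv co16 0 0 0) i * word 525274 i) (∑ i, LeechReach.flip y (sv co16 0 0 0) i * word 1050548 i)
  obtain ⟨hstd, hsub, hlt⟩ := negs16_ok.1 n hn
  have habs' : ∀ q, |y q| = |sv co16 0 0 n q| := fun q => by rw [habs, abs_sv, abs_sv]
  have hflip := flip_neg hsub hlt habs
  have hsum : ∀ m : ℕ, ∑ i, LeechReach.flip y (sv co16 0 0 0) i * word m i = ((pc (n &&& m) : ℕ) : ZMod 2) →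
      ∑ i, LeechReach.flip y (sv co16 0 0 n) i * word m i = 0 := fun m hm => by
    simp only [hflip, Pi.add_apply, add_mul, Finset.sum_add_distrib, hm, dot_word]
    exact CharTwo.add_self_eq_zero _
  have hn' : Reach y (sv co16 0 0 n) := by
    refine reach_signs habs' co16 (co16 :: gens16) (fun q hq => ?_) negs16_ok.2.1 fun m hm => ?_
    · by_contra hne
      exact hq (by simp [sv, hne])
    · simp only [gens16, List.mem_cons, List.not_mem_nil, or_false] at hm
      rcases hm with rfl | rfl | rfl | rfl | rfl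
      exacts [hdot n hstd habs', hsum _ ha.symm, hsum _ hb.symm, hsum _ hc.symm, hsum _ hd.symm]
  rcases negs16_ok.2.2 n hn with rfl | hpair
  · exact Or.inl (hr.trans hn')
  · refine Or.inr ((hr.trans hn').trans ?_)
    obtain ⟨σ, hσ, hfix, he⟩ := orbit_transitive LeechShapeData.certOutTwo hpair tgt_out_two
    have ho : σ • toSet co16 = toSet co16 := by
      rw [toSet_co16, smul_compl, hfix octB List.mem_cons_self]
    convert reach_perm hσ (sv co16 0 0 n) using 1
    funext q
    have e : ∀ m m' : ℕ, σ • toSet m = toSet m' → (m'.testBit (idx q) = m.testBit (idx (σ.symm q))) := by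
      intro m m' hm
      rw [Bool.eq_iff_iff, ← mem_toSet, ← mem_toSet, ← hm]
      conv_lhs => rw [← σ.apply_symm_apply q]
      exact mem_smul_iff
    simp only [sv, e _ _ he, e _ _ ho, Nat.zero_testBit]

/-- The exceptional positions of a vector with odd coordinates. -/
theorem reach_odd {x : GolayPt → ℤ} (hgood : Good x) {Q : ℕ} (hN : sqNorm x = 24 + 8 * (Q : ℤ))
    (hQ : Q ≤ 5) (hodd : x none % 2 = 1) :
    ∃ a b : ℕ, a + 3 * b = Q ∧ b = (Finset.univ.filter fun q => |x q| = 5).card ∧
      Reach x (pv 1 (List.replicate a (-3) ++ List.replicate b 5)) := by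
  obtain ⟨m, h1, h2, h3⟩ := mem_leechSet_iff.2 hgood
  have hxodd : ∀ q, x q % 2 = 1 := fun q => by
    have := (h1 q).dvd
    have := (h1 none).dvd
    omega
  set c := Finset.univ.filter fun q => x q ≡ 3 [ZMOD 4] with hc
  have hr := reach_sign (h3 3) x
  set y := fun q => if q ∈ c then -x q else x q with hy
  have hy4 : ∀ q, y q % 4 = 1 := fun q => by
    have := hxodd q
    simp only [hy]
    split_ifs with hq
    · have h3' : x q % 4 = 3 % 4 := (Finset.mem_filter.1 hq).2
      omega
    · have h3' : ¬ x q % 4 = 3 % 4 := fun h => hq (Finset.mem_filter.2 ⟨Finset.mem_univ _, h⟩)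
      omega
  have hyabs : ∀ q, |y q| = |x q| := fun q => by
    simp only [hy]
    split_ifs <;> simp
  set z : GolayPt → ℤ := fun q => y q / 4 with hz
  have hyz : ∀ q, y q = 1 + 4 * z q := fun q => by have := hy4 q; simp only [hz]; omega
  have hsum : ∑ q, (2 * z q ^ 2 + z q) = (Q : ℤ) := by
    have e : sqNorm x = 24 + 8 * ∑ q, (2 * z q ^ 2 + z q) := by
      rw [sqNorm, Finset.mul_sum, show (24 : ℤ) = ∑ _q : GolayPt, 1 by
        rw [Finset.sum_const, Finset.card_univ, card_golayPt]; simp, ← Finset.sum_add_distrib]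
      refine Finset.sum_congr rfl fun q _ => ?_
      rw [← sq_abs, ← hyabs, sq_abs, hyz]
      ring
    omega
  have hf : ∀ t : ℤ, 0 ≤ 2 * t ^ 2 + t := fun t => by
    rcases le_or_gt 0 t with ht | ht
    · positivity
    · nlinarith
  have hz3 : ∀ q, z q = 0 ∨ z q = -1 ∨ z q = 1 := fun q => by
    have h := Finset.single_le_sum (f := fun q => 2 * z q ^ 2 + z q) (fun q _ => hf _) (Finset.mem_univ q)
    rw [hsum] at h
    have h5 : 2 * z q ^ 2 + z q ≤ 5 := h.trans (by exact_mod_cast hQ)
    have h1 : -2 ≤ z q := by nlinarith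
    have h2 : z q ≤ 1 := by nlinarith
    interval_cases z q <;> omega
  set A := Finset.univ.filter fun q => z q = -1 with hA
  set B := Finset.univ.filter fun q => z q = 1 with hB
  have hAB : (A.card : ℤ) + 3 * B.card = Q := by
    rw [← hsum, hA, hB, ← Finset.sum_boole, ← Finset.sum_boole, Finset.mul_sum,
      ← Finset.sum_add_distrib]
    refine Finset.sum_congr rfl fun q _ => ?_
    rcases hz3 q with h | h | h <;> simp [h]
  refine ⟨A.card, B.card, by exact_mod_cast hAB, ?_, hr.trans ?_⟩
  · refine congrArg Finset.card (Finset.filter_congr fun q _ => ?_)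
    rw [← hyabs q, hyz q]
    rcases hz3 q with h | h | h <;> simp [h]
  · refine reach_levels (Finset.disjoint_filter.2 fun q _ h => by omega)
      (fun q hq => ?_) (fun q hq => ?_) (fun q hq hq' => ?_) (by omega)
    · rw [hyz q, (Finset.mem_filter.1 hq).2]; norm_num
    · rw [hyz q, (Finset.mem_filter.1 hq).2]; norm_num
    · simp only [hA, hB, Finset.mem_filter, Finset.mem_univ, true_and] at hq hq'
      rcases hz3 q with h | h | h <;> first | contradiction | (rw [hyz q, h]; norm_num)

/-- A vector with all coordinates divisible by four. -/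
theorem reach_four {x : GolayPt → ℤ} (hN : sqNorm x ≤ 64) (h4 : ∀ q, (4 : ℤ) ∣ x q) :
    ∃ a b : ℕ, sqNorm x = 16 * (a : ℤ) + 64 * b ∧ b = (Finset.univ.filter fun q => |x q| = 8).card ∧
      Reach x (pv 0 (List.replicate a 4 ++ List.replicate b 8)) := by
  have hval : ∀ q, |x q| = 0 ∨ |x q| = 4 ∨ |x q| = 8 := fun q => by
    obtain ⟨t, ht⟩ := h4 q
    have h := Finset.single_le_sum (f := fun q => x q ^ 2) (fun q _ => sq_nonneg _) (Finset.mem_univ q)
    have h1 : x q ^ 2 ≤ 64 := h.trans hN
    rw [ht] at h1 ⊢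
    have h2 : -2 ≤ t := by nlinarith
    have h3 : t ≤ 2 := by nlinarith
    interval_cases t <;> simp
  set A := Finset.univ.filter fun q => |x q| = 4 with hA
  set B := Finset.univ.filter fun q => |x q| = 8 with hB
  have e : sqNorm x = 16 * (A.card : ℤ) + 64 * B.card := by
    rw [sqNorm, hA, hB, ← Finset.sum_boole, ← Finset.sum_boole, Finset.mul_sum, Finset.mul_sum,
      ← Finset.sum_add_distrib]
    refine Finset.sum_congr rfl fun q _ => ?_
    rw [← sq_abs]
    rcases hval q with h | h | h <;> simp [h]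
  refine ⟨A.card, B.card, e, rfl, reach_levels_abs (by norm_num) (by norm_num)
    (Finset.disjoint_filter.2 fun q _ h => by omega) (fun q hq => (Finset.mem_filter.1 hq).2)
    (fun q hq => (Finset.mem_filter.1 hq).2) (fun q hq hq' => ?_) (by omega)⟩
  simp only [hA, hB, Finset.mem_filter, Finset.mem_univ, true_and] at hq hq'
  rcases hval q with h | h | h <;> first | exact abs_eq_zero.1 h | contradiction

end CfsgLib.Sporadic.LeechMonoReach
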