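import Cfsg.Prelude.Def_SporadicCombinatorics
import Cfsg.Agent.Lib.SmallGroups.LeechCenter
import Cfsg.Agent.Lib.Sporadic.LeechMinimal

/-!
The stabiliser of the standard cross in the automorphism group of the lattice is the monomial group
of the code.
-/

set_option autoImplicit false

namespace CfsgLib.Sporadic.LeechMonomial

open Cfsg CfsgLib.SmallGroups
open scoped Pointwise

/-- The supports of the code words. -/
abbrev CS : Set (Finset GolayPt) := supports (golayCode : Set (GolayPt → ZMod 2))

/-- `g` preserves the standard cross. -/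
abbrev Pres (g : Co0) : Prop :=
  ∀ v : leechLattice, (v : GolayPt → ℤ) ∈ stdCross →
    ((g • v : leechLattice) : GolayPt → ℤ) ∈ stdCross

theorem signedPerm_single (σ : Equiv.Perm GolayPt) (c : Finset GolayPt) (i : GolayPt) (t : ℤ) :
    signedPerm σ c (Pi.single i t) = Pi.single (σ i) (if σ i ∈ c then -t else t) := by
  funext k
  rcases eq_or_ne k (σ i) with rfl | h
  · simp [signedPerm]
  · have : σ.symm k ≠ i := fun e => h (by rw [← e, Equiv.apply_symm_apply])
    simp [signedPerm, h, this]

/-- A monomial automorphism. -/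
noncomputable def mono (p : M24 × CS) : Co0 :=
  ⟨LeechCenter.signLat p.2 p.2.2 *
      LeechCenter.permLat (p.1 : Equiv.Perm GolayPt)⁻¹ (inv_mem p.1.2),
    mul_mem (LeechCenter.signLat_mem _ p.2.2) (LeechCenter.permLat_mem _ _)⟩

theorem mono_apply (p : M24 × CS) (v : leechLattice) :
    ((mono p • v : leechLattice) : GolayPt → ℤ) = signedPerm (p.1 : Equiv.Perm GolayPt) p.2 v := rfl

theorem mono_pres (p : M24 × CS) : Pres (mono p) := by
  rintro v ⟨i, t, ht, hv⟩
  rw [mono_apply, hv, signedPerm_single]
  refine ⟨_, _, ?_, rfl⟩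
  split <;> omega

theorem mono_injective : Function.Injective mono := by
  rintro ⟨σ, c⟩ ⟨σ', c'⟩ h
  have hu : ∀ i, (σ : Equiv.Perm GolayPt) i = (σ' : Equiv.Perm GolayPt) i ∧
      ((σ : Equiv.Perm GolayPt) i ∈ (c : Finset GolayPt) ↔
        (σ : Equiv.Perm GolayPt) i ∈ (c' : Finset GolayPt)) := by
    intro i
    have h1 := congrArg (fun g : Co0 => ((g • LeechCenter.unitVec i : leechLattice) : GolayPt → ℤ)) h
    simp only [mono_apply] at h1
    change signedPerm _ _ (Pi.single i 8) = signedPerm _ _ (Pi.single i 8) at h1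
    rw [signedPerm_single, signedPerm_single] at h1
    have he : (σ : Equiv.Perm GolayPt) i = (σ' : Equiv.Perm GolayPt) i := by
      by_contra hne
      have h2 := congrFun h1 ((σ : Equiv.Perm GolayPt) i)
      rw [Pi.single_eq_same, Pi.single_eq_of_ne hne] at h2
      split at h2 <;> omega
    refine ⟨he, ?_⟩
    have h2 := congrFun h1 ((σ : Equiv.Perm GolayPt) i)
    rw [← he, Pi.single_eq_same, Pi.single_eq_same] at h2
    split at h2 <;> split at h2 <;> first | omega | tauto
  refine Prod.ext (Subtype.ext (Equiv.ext fun i => (hu i).1)) (Subtype.ext (Finset.ext fun k => ?_))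
  simpa using (hu ((σ : Equiv.Perm GolayPt).symm k)).2

theorem exists_mono {g : Co0} (hg : Pres g) : ∃ p, mono p = g := by
  have hu : ∀ i, ∃ (j : GolayPt) (t : ℤ), (t = 8 ∨ t = -8) ∧
      ((g • LeechCenter.unitVec i : leechLattice) : GolayPt → ℤ) = Pi.single j t :=
    fun i => hg _ ⟨i, 8, Or.inl rfl, rfl⟩
  choose π s hs hπ using hu
  let F : leechLattice →+ leechLattice := AddMonoidHom.mk' (g : Equiv.Perm leechLattice) g.2.1
  have hinj : Function.Injective π := by
    intro i j hij
    by_contra hne
    have hF : Function.Injective F := (g : Equiv.Perm leechLattice).injective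
    have key : ∀ w : leechLattice, F w = F (LeechCenter.unitVec j) →
        (w : GolayPt → ℤ) j = 8 := fun w hw => by rw [hF hw]; simp [LeechCenter.unitVec]
    rcases (by have := hs i; have := hs j; omega : s i = s j ∨ s i = -s j) with h | h
    · have := key (LeechCenter.unitVec i)
        (Subtype.ext ((hπ i).trans (by rw [hij, h]; exact (hπ j).symm)))
      simp [LeechCenter.unitVec, Ne.symm hne] at this
    · have := key (-LeechCenter.unitVec i) (Subtype.ext (by
        rw [map_neg, AddSubgroup.coe_neg]
        show -((g • LeechCenter.unitVec i : leechLattice) : GolayPt → ℤ) = _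
        rw [hπ i, hij, h, ← Pi.single_neg, neg_neg]
        exact (hπ j).symm))
      simp [LeechCenter.unitVec, Ne.symm hne] at this
  let σ : Equiv.Perm GolayPt := Equiv.ofBijective π (Finite.injective_iff_bijective.1 hinj)
  let c : Finset GolayPt := Finset.univ.filter fun k => s (σ.symm k) = -8
  have hlin : ∀ v : leechLattice,
      ((g • v : leechLattice) : GolayPt → ℤ) = signedPerm σ c v := by
    intro v
    have hv : (8 : ℤ) • v = ∑ j, ((v : GolayPt → ℤ) j) • LeechCenter.unitVec j := by
      refine Subtype.ext (funext fun k => ?_)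
      simp only [AddSubgroup.coe_zsmul, AddSubgroup.val_finsetSum, Finset.sum_apply, Pi.smul_apply,
        smul_eq_mul, LeechCenter.unitVec]
      rw [Finset.sum_eq_single k (fun j _ hj => by simp [Ne.symm hj]) (by simp), Pi.single_eq_same]
      ring
    funext k
    have h := congrArg (fun w : leechLattice => ((F w : leechLattice) : GolayPt → ℤ) k) hv
    simp only [map_zsmul, map_sum, AddSubgroup.coe_zsmul, AddSubgroup.val_finsetSum,
      Finset.sum_apply, Pi.smul_apply, smul_eq_mul] at h
    have hFu : ∀ j, ((F (LeechCenter.unitVec j) : leechLattice) : GolayPt → ℤ) k =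
        (Pi.single (π j) (s j) : GolayPt → ℤ) k := fun j => congrFun (hπ j) k
    simp only [hFu] at h
    rw [Finset.sum_eq_single (σ.symm k) (fun j _ hj => by
      rw [Pi.single_eq_of_ne, mul_zero]
      exact fun e => hj ((Equiv.eq_symm_apply σ).2 e.symm)) (by simp)] at h
    rw [show π (σ.symm k) = k from σ.apply_symm_apply k, Pi.single_eq_same] at h
    change 8 * ((g • v : leechLattice) : GolayPt → ℤ) k = _ at h
    simp only [signedPerm, c, Finset.mem_filter, Finset.mem_univ, true_and]
    rcases hs (σ.symm k) with e | e <;> rw [e] at h ⊢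
    · rw [if_neg (by norm_num)]; omega
    · rw [if_pos rfl]; omega
  have hσ : σ ∈ M24 := by
    rw [← inv_mem_iff]
    refine M24Group.mem_M24_of_forall fun w hw => ?_
    obtain ⟨y, hy, -, rfl⟩ := LeechMinimal.hasLift hw
    obtain ⟨m, z, hm, hz, -, hc⟩ := LeechBasic.exists_halves (LeechBasic.mem_lattice.1
      (g • (⟨_, LeechMinimal.le_lattice hy⟩ : leechLattice)).2)
    rw [hlin] at hz
    have e : (fun i => (z i : ZMod 2)) = fun p => ((y (σ.symm p) : ℤ) : ZMod 2) := by
      funext i
      have hi := hz i
      simp only [signedPerm, Pi.smul_apply, smul_eq_mul] at hi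
      rw [ZMod.intCast_eq_intCast_iff_dvd_sub]
      split at hi <;> omega
    rw [e] at hc
    exact hc
  have hc : c ∈ CS := by
    obtain ⟨m, -, -, h3⟩ := LeechBasic.mem_leechSet_iff.2 (LeechBasic.mem_lattice.1
      (g • (⟨_, LeechMinimal.le_lattice LeechMinimal.odd_mem⟩ : leechLattice)).2)
    convert h3 3 using 1
    ext k
    rw [hlin]
    simp only [Finset.mem_filter, Finset.mem_univ, true_and, signedPerm, LeechMinimal.odd,
      Int.modEq_iff_dvd]
    by_cases hk : k ∈ c <;> simp only [hk, if_true, if_false] <;> split <;> simp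
  exact ⟨(⟨σ, hσ⟩, ⟨c, hc⟩), Subtype.ext (Equiv.ext fun v => Subtype.ext
    ((mono_apply _ v).trans (hlin v).symm))⟩

theorem card_CS : Nat.card CS = 4096 := by
  show Nat.card (support₂ '' (golayCode : Set (GolayPt → ZMod 2))) = 4096
  rw [← Nat.card_congr (Equiv.Set.image support₂ (golayCode : Set (GolayPt → ZMod 2))
    MathieuSets.support₂_injective)]
  exact (Module.natCard_eq_pow_finrank (K := ZMod 2) (V := golayCode)).trans
    (by rw [Golay.finrank_code, Nat.card_zmod]; norm_num)

theorem monomial {g : Co0} (hg : Pres g) :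
    ∃ f ∈ golayMonomialMaps, ∀ v : leechLattice,
      ((g • v : leechLattice) : GolayPt → ℤ) = f v := by
  obtain ⟨⟨σ, c⟩, rfl⟩ := exists_mono hg
  exact ⟨_, ⟨σ, σ.2, c, c.2, rfl⟩, mono_apply _⟩

theorem card_stabilizer : Nat.card {g : Co0 // Pres g} = 4096 * 244823040 := by
  let Φ : M24 × CS → {g : Co0 // Pres g} := fun p => ⟨mono p, mono_pres p⟩
  rw [← Nat.card_eq_of_bijective Φ ⟨fun a b h => mono_injective (congrArg Subtype.val h),
    fun g => (exists_mono g.2).imp fun p hp => Subtype.ext hp⟩, Nat.card_prod, card_CS,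
    M24Group.card_M24, mul_comm]

end CfsgLib.Sporadic.LeechMonomial
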