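import Cfsg.Agent.Lib.Sporadic.LeechSuborbits
import Cfsg.Agent.Lib.SmallGroups.LeechGroup

/-!
The stabiliser of a minimal vector is transitive on the minimal vectors orthogonal to it: the sum and
the difference of two orthogonal minimal vectors are orthogonal members of one cross.
-/

set_option autoImplicit false
set_option maxRecDepth 10000

namespace CfsgLib.Sporadic.LeechOrthPairs

open Cfsg CfsgLib.SmallGroups.Golay CfsgLib.SmallGroups.LeechEnum CfsgLib.SmallGroups.LeechPairs
open CfsgLib.SmallGroups CfsgLib.Sporadic.LeechSuborbits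
open scoped Pointwise

theorem smul_sub' (g : Co0) (a b : leechLattice) : g • (a - b) = g • a - g • b := by
  rw [sub_eq_add_neg, smul_add', smul_neg', ← sub_eq_add_neg]

theorem exists_word (i : GolayPt) (hi : i ≠ none) {s : ℤ} (hs : s = 8 ∨ s = -8) :
    ∃ c ∈ LeechMonomial.CS, none ∉ c ∧ (if i ∈ c then (-8 : ℤ) else 8) = s := by
  rcases hs with rfl | rfl
  · exact ⟨∅, LeechReach.empty_mem_CS, Finset.notMem_empty _, if_neg (Finset.notMem_empty i)⟩
  · obtain ⟨c, hc, h1, h2⟩ := LeechCenter.separates none i (Ne.symm hi)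
    exact ⟨c, hc, h2, if_pos h1⟩

/-- All orthogonal pairs of minimal vectors are images of one pair of opposite unit vectors. -/
theorem exists_map0 (v w : leechLattice) (hv : sqNorm (v : GolayPt → ℤ) = 32)
    (hw : sqNorm (w : GolayPt → ℤ) = 32) (hd : dotInt (v : GolayPt → ℤ) (w : GolayPt → ℤ) = 0) :
    ∃ g : Co0, g • LeechOrder.base8 = v + w ∧ g • LeechCenter.unitVec (some 0) = v - w := by
  have hp : sqNorm ((v + w : leechLattice) : GolayPt → ℤ) = 64 := by
    rw [AddSubgroup.coe_add, sqNorm_add, hv, hw, hd]; norm_num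
  obtain ⟨g, hg⟩ := LeechTransitive.transitive64 LeechOrder.base8 (v + w) LeechOrder.norm_base8 hp
  set y := g⁻¹ • (v - w) with hy
  have hyn : sqNorm (y : GolayPt → ℤ) = 64 := by
    rw [hy, norm_smul, AddSubgroupClass.coe_sub, sqNorm_sub, hv, hw, hd]; norm_num
  have hyd : dotInt (LeechOrder.base8 : GolayPt → ℤ) (y : GolayPt → ℤ) = 0 := by
    rw [← dot_smul g, hy, smul_inv_smul, hg]
    simp only [AddSubgroup.coe_add, AddSubgroupClass.coe_sub, dotInt, Pi.add_apply, Pi.sub_apply,
      add_mul, mul_sub, Finset.sum_add_distrib, Finset.sum_sub_distrib]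
    have e1 : ∀ f : GolayPt → ℤ, ∑ x, f x * f x = sqNorm f := fun f => by simp [sqNorm, sq]
    have e2 : ∑ x, (w : GolayPt → ℤ) x * (v : GolayPt → ℤ) x =
        ∑ x, (v : GolayPt → ℤ) x * (w : GolayPt → ℤ) x := Finset.sum_congr rfl fun _ _ => mul_comm _ _
    rw [e1, e1, hv, hw, e2]
    ring
  have hmem : (y : GolayPt → ℤ) ∈ stdCross := by
    rw [← LeechOrder.cross_base8]
    refine ⟨y.2, hyn.trans LeechOrder.norm_base8.symm, ((g⁻¹ • w : leechLattice) : GolayPt → ℤ),
      (g⁻¹ • w).2, ?_⟩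
    have e : LeechOrder.base8 - y = 2 • (g⁻¹ • w) := by
      rw [hy, ← inv_smul_smul g LeechOrder.base8, hg, ← smul_sub', two_nsmul, ← smul_add']
      congr 1
      abel
    exact congrArg (Subtype.val) e
  obtain ⟨i, s, hs, e⟩ := hmem
  have hi : i ≠ none := by
    rintro rfl
    rw [e, LeechOrder.coe_base8, dotInt, Finset.sum_eq_single none
      (fun q _ hq => by simp [hq]) (by simp), Pi.single_eq_same, Pi.single_eq_same] at hyd
    omega
  obtain ⟨a, ha, hax⟩ := M24Config.exists_to_points (n := 2) (by norm_num) ![none, i] fun x x' h => by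
    fin_cases x <;> fin_cases x' <;> simp_all [eq_comm]
  have h0 : a none = none := by rw [← M24Config.bpt_zero]; exact hax 0
  have h1 : a i = some 0 := by rw [← M24Config.bpt_one]; exact hax 1
  obtain ⟨c, hc, hcn, hcs⟩ := exists_word i hi hs
  set m := LeechMonomial.mono (⟨a⁻¹, inv_mem ha⟩, ⟨c, hc⟩) with hm
  have hm0 : m • LeechOrder.base8 = LeechOrder.base8 :=
    (LeechOrder.mono_fix_iff _).2 ⟨by rw [Equiv.Perm.inv_eq_iff_eq]; exact h0.symm, hcn⟩
  have hm1 : m • LeechCenter.unitVec (some 0) = y := by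
    refine Subtype.ext ?_
    rw [hm, LeechGroup.smul_unit, e]
    simp only [show a⁻¹ (some 0) = i from Equiv.Perm.inv_eq_iff_eq.2 h1.symm, hcs]
  refine ⟨g * m, by rw [mul_smul, hm0, hg], ?_⟩
  rw [mul_smul, hm1, hy, smul_inv_smul]

/-- The stabiliser of a minimal vector is transitive at inner product `0`. -/
theorem transitive_zero (v w w' : leechLattice) (hv : sqNorm (v : GolayPt → ℤ) = 32)
    (hw : sqNorm (w : GolayPt → ℤ) = 32) (hw' : sqNorm (w' : GolayPt → ℤ) = 32)
    (hd : dotInt (v : GolayPt → ℤ) (w : GolayPt → ℤ) = 0)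
    (hd' : dotInt (v : GolayPt → ℤ) (w' : GolayPt → ℤ) = 0) :
    ∃ g : Co0, g • v = v ∧ g • w = w' := by
  obtain ⟨g, g1, g2⟩ := exists_map0 v w hv hw hd
  obtain ⟨g', g1', g2'⟩ := exists_map0 v w' hv hw' hd'
  have k1 : (g' * g⁻¹) • (v + w) = v + w' := by rw [mul_smul, inv_smul_eq_iff.2 g1.symm, g1']
  have k2 : (g' * g⁻¹) • (v - w) = v - w' := by rw [mul_smul, inv_smul_eq_iff.2 g2.symm, g2']
  rw [smul_add'] at k1
  rw [smul_sub'] at k2
  have key : ∀ a b : leechLattice, a + a = b + b → a = b := fun a b h => Subtype.ext <| funext fun q => by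
    have := congrArg (fun x : leechLattice => (x : GolayPt → ℤ) q) h
    simp only [AddSubgroup.coe_add, Pi.add_apply] at this
    omega
  have k3 : (g' * g⁻¹) • v = v := key _ _ (by
    have := congrArg₂ (· + ·) k1 k2
    simpa [add_add_sub_cancel] using this)
  refine ⟨g' * g⁻¹, k3, ?_⟩
  rw [k3] at k1
  exact add_left_cancel k1

end CfsgLib.Sporadic.LeechOrthPairs
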