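import Cfsg.Agent.Lib.SmallGroups.LeechOrbit

/-!
# Quick checks of words on code numbers

A step is checked digit by digit on natural numbers; the intermediate code numbers are computed
first and brought to numerals, so that each digit of them is read off a numeral.
-/

set_option autoImplicit false

namespace CfsgLib.Sporadic.LeechStepFast

open CfsgLib.SmallGroups.Golay CfsgLib.SmallGroups.LeechOrbit

/-- A digit of a code number. -/
def digN (n i : ℕ) : ℕ := Nat.mod (Nat.shiftRight n (Nat.mul 4 i)) 16

theorem dig_eq (n i : ℕ) : dig n i = (digN n i : ℤ) - 8 := by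
  have h : digN n i = n / 16 ^ i % 16 := by
    show (n >>> (4 * i)) % 16 = _
    rw [Nat.shiftRight_eq_div_pow, pow_mul]
    norm_num
  rw [h]; rfl

/-- Feed a numeral to a function. -/
noncomputable def forced {α : Type} (g : ℕ → α) (n : ℕ) : α :=
  Nat.rec (motive := fun _ => α) (g 0) (fun k _ => g (k + 1)) n

theorem forced_eq {α : Type} (g : ℕ → α) (n : ℕ) : forced g n = g n := by
  cases n <;> rfl

/-- A bit of a number. -/
def bit (c i : ℕ) : Bool := Nat.beq (Nat.mod (Nat.shiftRight c i) 2) 1

theorem bit_eq (c i : ℕ) : bit c i = c.testBit i := by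
  rw [Nat.testBit_eq_decide_div_mod_eq, bit]
  show Nat.beq ((c >>> i) % 2) 1 = _
  rw [Nat.shiftRight_eq_div_pow]
  rcases Nat.mod_two_eq_zero_or_one (c / 2 ^ i) with h | h <;> rw [h] <;> rfl

/-- The digit wanted at a position after a monomial step. -/
def monoDig (c n i a : ℕ) : ℕ := bif bit c i then Nat.sub 16 (digN n a) else digN n a

/-- A monomial step on a code number, from position `i` on. -/
noncomputable def monoVal (c n : ℕ) (l : List ℕ) : ℕ → ℕ :=
  List.rec (motive := fun _ => ℕ → ℕ) (fun _ => 0)
    (fun a _ ih i => Nat.add (Nat.shiftLeft (monoDig c n i a) (Nat.mul 4 i)) (ih (Nat.succ i))) l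

/-- The check of a monomial step, from position `i` on. -/
noncomputable def monoEq (c n m : ℕ) (l : List ℕ) : ℕ → Bool :=
  List.rec (motive := fun _ => ℕ → Bool) (fun i => Nat.beq i 24)
    (fun a _ ih i => Nat.beq (digN m i) (monoDig c n i a) &&
      Nat.blt (monoDig c n i a) 16 && ih (Nat.succ i)) l

theorem monoEq_spec (c n m : ℕ) : ∀ (l : List ℕ) (i : ℕ), monoEq c n m l i = true →
    i + l.length = 24 ∧ ∀ k < l.length, digN m (i + k) = monoDig c n (i + k) (l.getD k 0) := by
  intro l
  induction l with
  | nil =>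
    intro i h
    exact ⟨by simpa [monoEq] using h, fun k hk => absurd hk (Nat.not_lt_zero k)⟩
  | cons a t ih =>
    intro i h
    change (Nat.beq (digN m i) (monoDig c n i a) && Nat.blt (monoDig c n i a) 16 &&
      monoEq c n m t (Nat.succ i)) = true at h
    simp only [Bool.and_eq_true, Nat.beq_eq] at h
    obtain ⟨h1, h2⟩ := ih _ h.2
    refine ⟨by rw [List.length_cons]; omega, fun k hk => ?_⟩
    rcases k with _ | k
    · exact h.1.1
    · rw [List.length_cons] at hk
      have h3 := h2 k (by omega)
      rw [show i + (k + 1) = Nat.succ i + k by omega, List.getD_cons_succ]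
      exact h3

/-- Half the digit sum of a tetrad. -/
def half (n a b c d : ℕ) : ℕ :=
  Nat.shiftRight (Nat.add (Nat.add (digN n a) (digN n b)) (Nat.add (digN n c) (digN n d))) 1

/-- The check of the involution at a position outside the first tetrad. -/
def posEq (n m h i : ℕ) : Bool := Nat.beq (Nat.add (digN m i) h) (Nat.add (digN n i) 16)

/-- The check of the involution at a position in the first tetrad. -/
def negEq (n m h i : ℕ) : Bool := Nat.beq (Nat.add (digN m i) (digN n i)) h

/-- The value of the involution at a position outside the first tetrad. -/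
def posVal (n h i : ℕ) : ℕ := Nat.shiftLeft (Nat.sub (Nat.add (digN n i) 16) h) (Nat.mul 4 i)

/-- The value of the involution at a position in the first tetrad. -/
def negVal (n h i : ℕ) : ℕ := Nat.shiftLeft (Nat.sub h (digN n i)) (Nat.mul 4 i)

/-- The involution on a tetrad. -/
noncomputable def tetEq (n m : ℕ) (eq : ℕ → ℕ → ℕ → ℕ → Bool) (a b c d : ℕ) : Bool :=
  forced (fun h => eq n m h a && eq n m h b && eq n m h c && eq n m h d) (half n a b c d)

/-- The involution on a tetrad, as a value. -/
noncomputable def tetVal (n : ℕ) (val : ℕ → ℕ → ℕ → ℕ) (a b c d : ℕ) : ℕ :=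
  forced (fun h => Nat.add (Nat.add (val n h a) (val n h b)) (Nat.add (val n h c) (val n h d)))
    (half n a b c d)

/-- The involution on a code number. -/
noncomputable def xiVal (n : ℕ) : ℕ :=
  tetVal n negVal 0 1 2 23 + tetVal n posVal 3 5 14 17 + tetVal n posVal 4 13 16 22 +
    tetVal n posVal 6 7 19 21 + tetVal n posVal 8 11 12 18 + tetVal n posVal 9 10 15 20

/-- The check of the involution. -/
noncomputable def xiEq (n m : ℕ) : Bool :=
  tetEq n m negEq 0 1 2 23 && tetEq n m posEq 3 5 14 17 && tetEq n m posEq 4 13 16 22 &&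
    tetEq n m posEq 6 7 19 21 && tetEq n m posEq 8 11 12 18 && tetEq n m posEq 9 10 15 20

theorem xiEq_spec {n m : ℕ} (h : xiEq n m = true) :
    ∀ i < 24, dig m i = stepFun .xi n i := by
  simp only [xiEq, tetEq, forced_eq, half, posEq, negEq, Bool.and_eq_true, Nat.beq_eq,
    Nat.shiftRight_eq, Nat.shiftRight_eq_div_pow, Nat.add_eq] at h
  intro i hi
  interval_cases i <;> simp [stepFun, blk, xsgn, dig_eq] <;> omega

/-- A step on a code number. -/
noncomputable def stepVal : Step → ℕ → ℕ
  | .mono _ s k, n => forced (fun c => monoVal c n s 0) (enc k)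
  | .xi, n => xiVal n

/-- The check of a step. -/
noncomputable def stepEq : Step → ℕ → ℕ → Bool
  | .mono _ s k, n, m => forced (fun c => monoEq c n m s 0) (enc k)
  | .xi, n, m => xiEq n m

theorem stepEq_spec {st : Step} {n m : ℕ} (h : stepEq st n m = true) :
    ∀ i < 24, dig m i = stepFun st n i := by
  cases st with
  | xi => exact xiEq_spec h
  | mono t s k =>
    simp only [stepEq, forced_eq] at h
    obtain ⟨h1, h2⟩ := monoEq_spec _ _ _ _ _ h
    intro i hi
    have h3 := h2 i (by omega)
    rw [Nat.zero_add] at h3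
    rw [dig_eq, h3, monoDig, bit_eq]
    simp only [stepFun, dig_eq]
    have h4 : digN n (s.getD i 0) < 16 := Nat.mod_lt _ (by norm_num)
    cases (enc k).testBit i
    · simp
    · simp only [cond_true, if_true, Nat.sub_eq]
      omega

theorem encK_dig_aux (m : ℕ) : ∀ (j s acc : ℕ),
    (List.range' s j).foldr (fun i r => (dig m i + 8).toNat * 16 ^ i + r) acc =
      acc + (m / 16 ^ s % 16 ^ j) * 16 ^ s := by
  intro j
  induction j with
  | zero => intro s acc; simp [Nat.mod_one]
  | succ j ih =>
    intro s acc
    have e : (dig m s + 8).toNat = m / 16 ^ s % 16 := by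
      rw [show dig m s + 8 = ((m / 16 ^ s % 16 : ℕ) : ℤ) by simp [dig], Int.toNat_natCast]
    rw [List.range'_succ, List.foldr_cons, ih, e, pow_succ, pow_succ' 16 j,
      Nat.mod_mul, Nat.div_div_eq_div_mul]
    ring

theorem encK_dig {m : ℕ} (h : m < 16 ^ 24) : encK (dig m) = m := by
  rw [encK, List.range_eq_range', encK_dig_aux, pow_zero, Nat.div_one, Nat.mod_eq_of_lt h]
  omega

theorem encK_congr {f g : ℕ → ℤ} (h : ∀ i < 24, f i = g i) : encK f = encK g := by
  have key : ∀ l : List ℕ, (∀ i ∈ l, i < 24) →
      l.foldr (fun i acc => (f i + 8).toNat * 16 ^ i + acc) 0 =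
        l.foldr (fun i acc => (g i + 8).toNat * 16 ^ i + acc) 0 := by
    intro l
    induction l with
    | nil => intro _; rfl
    | cons a t ih =>
      intro hl
      rw [List.foldr_cons, List.foldr_cons, h a (hl a List.mem_cons_self),
        ih fun i hi => hl i (List.mem_cons_of_mem _ hi)]
  exact key _ fun i hi => List.mem_range.1 hi

theorem pack_of_eq {f : ℕ → ℤ} {m : ℕ} (hm : m < 16 ^ 24) (h : ∀ i < 24, dig m i = f i) :
    pack f = some m := by
  have e : encK f = m := (encK_congr h).symm.trans (encK_dig hm)
  simp only [pack, e]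
  rw [if_pos (List.all_eq_true.2 fun i hi => beq_iff_eq.2 (h i (List.mem_range.1 hi)))]

/-- The check that a word sends `n` to `t`. -/
noncomputable def runEq (w : List Step) : ℕ → ℕ → Bool :=
  List.rec (motive := fun _ => ℕ → ℕ → Bool) (fun n t => Nat.beq n t)
    (fun s _ ih n t => forced (fun m => stepEq s n m && Nat.blt m (16 ^ 24) && ih m t) (stepVal s n)) w

theorem runEq_spec : ∀ {w : List Step} {n t : ℕ}, runEq w n t = true → run w n = some t := by
  intro w
  induction w with
  | nil => intro n t h; simp only [runEq, Nat.beq_eq] at h; rw [h]; rfl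
  | cons s w ih =>
    intro n t h
    change forced (fun m => stepEq s n m && Nat.blt m (16 ^ 24) && runEq w m t) (stepVal s n) = true at h
    rw [forced_eq] at h
    simp only [Bool.and_eq_true, Nat.blt_eq] at h
    rw [run, pack_of_eq h.1.2 (stepEq_spec h.1.1)]
    exact ih h.2

end CfsgLib.Sporadic.LeechStepFast
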