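import Cfsg.Agent.Lib.Sporadic.LeechSuborbits

/-!
Tools for suborbits given by certified orbits: exact orbits from a bound on their number, and their transport
along automorphisms and the negation.
-/

set_option autoImplicit false
set_option maxRecDepth 10000

namespace CfsgLib.Sporadic.LeechSubTools

open Cfsg CfsgLib.SmallGroups.Golay CfsgLib.SmallGroups.LeechOrbit CfsgLib.SmallGroups.LeechEnum
  CfsgLib.SmallGroups.LeechLists CfsgLib.SmallGroups.LeechVectorStab CfsgLib.SmallGroups.LeechPairs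
open CfsgLib.SmallGroups CfsgLib.SmallGroups.LeechParamCount
open scoped Pointwise

/-- Both tests at once. -/
def andTest (t t' : Test) : Test where
  pair i j a b := t.pair i j a b && t'.pair i j a b
  oct o k n := t.oct o k n && t'.oct o k n
  oddPre c := t.oddPre c && t'.oddPre c
  odd c p := t.odd c p && t'.odd c p

theorem sound_and {t t' : Test} {P P' : (GolayPt → ℤ) → Prop} (h : Sound t P) (h' : Sound t' P') :
    Sound (andTest t t') fun x => P x ∧ P' x := by
  refine ⟨fun i j a b hi hj hij hP => ?_, fun o n k ho hs hk hP => ?_, fun c p hp hP => ?_⟩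
  · simp only [andTest, Bool.and_eq_true]
    exact ⟨h.pair i j a b hi hj hij hP.1, h'.pair i j a b hi hj hij hP.2⟩
  · simp only [andTest, Bool.and_eq_true]
    exact ⟨h.oct o n k ho hs hk hP.1, h'.oct o n k ho hs hk hP.2⟩
  · simp only [andTest, Bool.and_eq_true]
    exact ⟨⟨(h.odd c p hp hP.1).1, (h'.odd c p hp hP.2).1⟩, (h.odd c p hp hP.1).2, (h'.odd c p hp hP.2).2⟩

/-- The test for the inner product `d` with a stored vector. -/
def testDot (k : ℕ) (d : ℤ) : Test where
  pair i j a b := ((List.range 24).map fun l => pairF i j a b l * dig k l).sum == d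
  oct o _ n := ((List.range 24).map fun l => octF o n l * dig k l).sum == d
  oddPre _ := true
  odd c p := ((List.range 24).map fun l => oddF c p l * dig k l).sum == d

theorem sound_dot (k : ℕ) (d : ℤ) : Sound (testDot k d) fun x => dotInt x (Pk k) = d := by
  have key : ∀ f : ℕ → ℤ, dotInt (ofPos f) (Pk k) = d →
      (((List.range 24).map fun l => f l * dig k l).sum == d) = true := fun f h => by
    rw [beq_iff_eq, ← h, ← sum_range_eq]
    rfl
  exact ⟨fun i j a b _ _ _ h => key _ h, fun o n m _ _ _ h => key _ h, fun c p _ h => ⟨rfl, key _ h⟩⟩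

/-- A certified orbit is the whole of a set cut out by inner products once it is large enough. -/
theorem orbit_eq {gens : List (List Step)} {kA kB root : ℕ} {T : VTree} {n : ℕ}
    (hc : cert gens [kA, kB] root T = true) (hr : Pk root ∈ leechLattice) (hcan : canon T = true)
    (hlen : T.keys.length = n) (hroot : T.has root = true) (hn : dotK root root = 32)
    {a b : leechLattice} (ha : (a : GolayPt → ℤ) = Pk kA) (hb : (b : GolayPt → ℤ) = Pk kB)
    {p q : ℤ} (hp : dotK kA root = p) (hq : dotK kB root = q) (hfin :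
      {y : leechLattice | sqNorm (y : GolayPt → ℤ) = 32 ∧ dotInt (a : GolayPt → ℤ) (y : GolayPt → ℤ) = p ∧
        dotInt (b : GolayPt → ℤ) (y : GolayPt → ℤ) = q}.ncard ≤ n) :
    MulAction.orbit ↥(MulAction.stabilizer Co0 a ⊓ MulAction.stabilizer Co0 b) (⟨Pk root, hr⟩ : leechLattice) =
      {y : leechLattice | sqNorm (y : GolayPt → ℤ) = 32 ∧ dotInt (a : GolayPt → ℤ) (y : GolayPt → ℤ) = p ∧
        dotInt (b : GolayPt → ℤ) (y : GolayPt → ℤ) = q} := by
  set S := {y : leechLattice | sqNorm (y : GolayPt → ℤ) = 32 ∧ dotInt (a : GolayPt → ℤ) (y : GolayPt → ℤ) = p ∧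
    dotInt (b : GolayPt → ℤ) (y : GolayPt → ℤ) = q}
  have hS : S.Finite := Set.Finite.of_finite_image (LeechHS.finite32.subset (by
    rintro _ ⟨x, hx, rfl⟩
    exact ⟨x.2, hx.1⟩)) Subtype.val_injective.injOn
  have hroot' : (⟨Pk root, hr⟩ : leechLattice) ∈ S :=
    ⟨by rw [sqNorm_eq, dotK_eq, hn], by rw [ha, dotK_eq, hp], by rw [hb, dotK_eq, hq]⟩
  have hsub : vecs T ⊆ S := fun y hy => ⟨norm_of_mem hc hr hy hn,
    dot_of_mem hc hr hy (List.mem_cons_self ..) ha hp,
    dot_of_mem hc hr hy (List.mem_cons_of_mem _ (List.mem_cons_self ..)) hb hq⟩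
  have e : vecs T = S := Set.eq_of_subset_of_ncard_le hsub
    (by rw [ncard_vecs hc hr hcan, hlen]; exact hfin) hS
  ext y
  constructor
  · rintro ⟨⟨g, hga, hgb⟩, rfl⟩
    refine ⟨(norm_smul g _).trans hroot'.1, ?_, ?_⟩
    · have h := dot_smul g a ⟨Pk root, hr⟩
      rw [show g • a = a from hga] at h
      exact h.trans hroot'.2.1
    · have h := dot_smul g b ⟨Pk root, hr⟩
      rw [show g • b = b from hgb] at h
      exact h.trans hroot'.2.2
  · intro hy
    rw [← e] at hy
    obtain ⟨g, hfix, hg⟩ := transitive_vecs hc hr (x := ⟨Pk root, hr⟩)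
      ⟨root, VTree.find_mem _ _ hroot, rfl⟩ hy
    exact ⟨⟨g, hfix kA (List.mem_cons_self ..) a ha,
      hfix kB (List.mem_cons_of_mem _ (List.mem_cons_self ..)) b hb⟩, hg⟩

theorem stab_neg (x : leechLattice) : MulAction.stabilizer Co0 (-x) = MulAction.stabilizer Co0 x := by
  ext g
  simp [MulAction.mem_stabilizer_iff, LeechSuborbits.smul_neg', neg_inj]

/-- Transport of orbits along an automorphism followed by the negation. -/
theorem orbit_transport (c : Co0) {H H' : Subgroup Co0} (h : ∀ g, g ∈ H ↔ c * g * c⁻¹ ∈ H')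
    (y : leechLattice) :
    MulAction.orbit H' (-(c • y)) = (fun z => -(c • z)) '' MulAction.orbit H y := by
  ext z
  constructor
  · rintro ⟨⟨g, hg⟩, rfl⟩
    refine ⟨(c⁻¹ * g * c) • y, ⟨⟨c⁻¹ * g * c, (h _).2 (by rwa [show c * (c⁻¹ * g * c) * c⁻¹ = g by group])⟩,
      rfl⟩, ?_⟩
    show -(c • (c⁻¹ * g * c) • y) = g • -(c • y)
    rw [LeechSuborbits.smul_neg', ← mul_smul, ← mul_smul]
    congr 2
    group
  · rintro ⟨_, ⟨⟨g, hg⟩, rfl⟩, rfl⟩
    refine ⟨⟨c * g * c⁻¹, (h g).1 hg⟩, ?_⟩
    show (c * g * c⁻¹) • -(c • y) = -(c • g • y)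
    rw [LeechSuborbits.smul_neg', ← mul_smul, ← mul_smul]
    congr 2
    group

end CfsgLib.Sporadic.LeechSubTools
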