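import Cfsg.Agent.Lib.Sporadic.LeechUnitaryFourData
import Cfsg.Agent.Lib.Sporadic.LeechStepFast
import Cfsg.Agent.Lib.SmallGroups.LeechMcL
import Cfsg.Agent.Lib.Schur.PSUFourThree.Main

/-!
# The point stabiliser in the McLaughlin group is U4(3)

Five automorphisms fixing the three vectors permute the 112 vectors of the suborbit, and products of
them permute these as the two generators of the unitary group permute its 112 totally isotropic
lines.  The order of the stabiliser is that of U4(3).
-/

set_option autoImplicit false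
set_option maxRecDepth 100000

namespace CfsgLib.Sporadic.LeechUnitaryFour

open Cfsg CfsgLib.SmallGroups CfsgLib.SmallGroups.Golay CfsgLib.SmallGroups.LeechOrbit
  CfsgLib.SmallGroups.LeechLists CfsgLib.SmallGroups.LeechPairs CfsgLib.SmallGroups.LeechVectorStab
open scoped Pointwise

/-- The code number of a vector of the list. -/
def xc (j : ℕ) : ℕ := Nat.mod (Nat.shiftRight xBits (Nat.mul 96 j)) 79228162514264337593543950336

/-- The image of an index under an automorphism. -/
def pj (i j : ℕ) : ℕ := Nat.mod (Nat.shiftRight (permBits.getD i 0) (Nat.mul 7 j)) 128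

/-- The image of an index under a product of automorphisms. -/
def pjs (L : List ℕ) (j : ℕ) : ℕ := L.foldl (fun a i => pj i a) j

theorem gens_ok : gensOK words [kU, kV, LeechMcL.kX] = true := by decide +kernel

/-- An automorphism maps the vectors as listed. -/
noncomputable def runOK (i : ℕ) : Bool :=
  Sporadic.OutCert.allF (fun j => LeechStepFast.runEq (words.getD i []) (xc j) (xc (pj i j)) &&
    Nat.blt (pj i j) 112) 112

theorem run_ok : ∀ i < 5, runOK i = true := by decide +kernel

theorem keys_ok : ∀ j < 112, LeechMcLData.tree112.has (xc j) = true := by decide +kernel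

theorem xc_nodup : ((List.range 112).map xc).Nodup := by decide +kernel

theorem gen_ok : ∀ m < 2, (genWords.getD m []).all (fun i => decide (i < 5)) = true ∧
    ∀ j < 112, Sporadic.OutCert.lk 7 (Schur.PSUFourThree.baseK.getD m 0) j =
      pjs (genWords.getD m []) j := by
  decide +kernel

theorem vec_mem {j : ℕ} (hj : j < 112) : xc j ∈ LeechMcLData.tree112.keys :=
  VTree.find_mem _ _ (keys_ok j hj)

/-- A vector of the list. -/
noncomputable def vec (j : Fin 112) : leechLattice :=
  ⟨Pk (xc j), mem_lattice_keys LeechMcLData.cert112 LeechMcL.kA_mem (vec_mem j.2)⟩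

theorem vec_injective : Function.Injective vec := fun a b h =>
  Fin.ext (List.inj_on_of_nodup_map xc_nodup (List.mem_range.2 a.2) (List.mem_range.2 b.2)
    (Pk_inj LeechMcLData.canon112 (vec_mem a.2) (vec_mem b.2) (congrArg Subtype.val h)))

/-- The stabiliser of the three vectors. -/
noncomputable abbrev stab0 : Subgroup Co0 :=
  MulAction.stabilizer Co0 v48 ⊓ MulAction.stabilizer Co0 vV ⊓
    MulAction.stabilizer Co0 LeechMcL.vX

theorem exists_word (i : ℕ) (hi : i < 5) : ∃ g ∈ stab0, ∀ (j : Fin 112) (k : Fin 112),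
    pj i j = k → g • vec j = vec k := by
  have hlen : i < words.length := by
    have : words.length = 5 := by decide +kernel
    omega
  have hw := List.all_eq_true.1 gens_ok (words.getD i [])
    (by rw [List.getD_eq_getElem _ _ hlen]; exact List.getElem_mem hlen)
  rw [Bool.and_eq_true] at hw
  obtain ⟨g, hg⟩ := run_sound hw.1
  have hfix : ∀ f ∈ [kU, kV, LeechMcL.kX], ∀ v : leechLattice, (v : GolayPt → ℤ) = Pk f → g • v = v :=
    fun f hf v hv => Subtype.ext
      ((hg f f (beq_iff_eq.1 (List.all_eq_true.1 hw.2 f hf)) v hv).trans hv.symm)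
  refine ⟨g, ⟨⟨hfix _ (by simp) v48 coe_v48, hfix _ (by simp) vV coe_vV⟩,
    hfix _ (by simp) LeechMcL.vX LeechMcL.coe_vX⟩, fun j k hjk => Subtype.ext ?_⟩
  have h := Sporadic.OutCert.allF_iff.1 (run_ok i hi) j j.2
  simp only [Bool.and_eq_true, hjk] at h
  exact hg _ _ (LeechStepFast.runEq_spec h.1) (vec j) rfl

theorem exists_product : ∀ (L : List ℕ), (∀ i ∈ L, i < 5) → ∃ g ∈ stab0, ∀ (j k : Fin 112),
    pjs L j = k → g • vec j = vec k
  | [], _ => ⟨1, one_mem _, fun j k h => by rw [one_smul, Fin.ext (show (j : ℕ) = k from h)]⟩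
  | i :: L, hL => by
    obtain ⟨g, hg, hgv⟩ := exists_word i (hL i List.mem_cons_self)
    obtain ⟨g', hg', hgv'⟩ := exists_product L fun x hx => hL x (List.mem_cons_of_mem _ hx)
    refine ⟨g' * g, mul_mem hg' hg, fun j k h => ?_⟩
    have hb := Sporadic.OutCert.allF_iff.1 (run_ok i (hL i List.mem_cons_self)) j j.2
    simp only [Bool.and_eq_true, Nat.blt_eq] at hb
    rw [mul_smul, hgv j ⟨pj i j, hb.2⟩ rfl]
    exact hgv' ⟨pj i j, hb.2⟩ k h

/-- The elements permuting the listed vectors. -/
noncomputable def permuting : Subgroup stab0 where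
  carrier := {g | ∃ π : Equiv.Perm (Fin 112), ∀ p, (g : Co0) • vec p = vec (π p)}
  one_mem' := ⟨1, fun p => by rw [Subgroup.coe_one, one_smul]; rfl⟩
  mul_mem' := fun {a b} ⟨π, hπ⟩ ⟨σ, hσ⟩ => ⟨π * σ, fun p => by
    rw [Subgroup.coe_mul, mul_smul, hσ, hπ]; rfl⟩
  inv_mem' := fun {a} ⟨π, hπ⟩ => ⟨π⁻¹, fun p => by
    rw [Subgroup.coe_inv, inv_smul_eq_iff, hπ]
    rw [← Equiv.Perm.mul_apply, mul_inv_cancel]
    rfl⟩

/-- The permutation of the vectors. -/
noncomputable def toPerm : permuting →* Equiv.Perm (Fin 112) where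
  toFun g := g.2.choose
  map_one' := Equiv.ext fun p => vec_injective (by
    rw [← (1 : permuting).2.choose_spec p, Subgroup.coe_one, Subgroup.coe_one, one_smul]; rfl)
  map_mul' a b := Equiv.ext fun p => vec_injective (by
    rw [← (a * b).2.choose_spec p, Subgroup.coe_mul, Subgroup.coe_mul, mul_smul,
      b.2.choose_spec, a.2.choose_spec]
    rfl)

theorem range_le : Schur.PSUFourThree.phi.range ≤ toPerm.range := by
  rw [MonoidHom.range_eq_map, ← Schur.PSUFourThree.gen_closure, MonoidHom.map_closure,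
    Subgroup.closure_le]
  rintro _ ⟨_, ⟨m, rfl⟩, rfl⟩
  obtain ⟨hlt, him⟩ := gen_ok m m.2
  obtain ⟨g, hg, hgv⟩ := exists_product (genWords.getD m [])
    fun i hi => of_decide_eq_true (List.all_eq_true.1 hlt i hi)
  have hmap : ∀ p : Fin 112, g • vec p = vec (Schur.PSUFourThree.phi (Schur.PSUFourThree.gen m) p) :=
    fun p => hgv p _ (by rw [← him p p.2]; exact Schur.PSUFourThree.gen_rep m p)
  let k' : permuting := ⟨⟨g, hg⟩, _, hmap⟩
  refine ⟨k', Equiv.ext fun p => vec_injective ?_⟩
  rw [← hmap p]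
  exact (k'.2.choose_spec p).symm

theorem card_stab0 : Nat.card stab0 = 3265920 := by
  have h := LeechMcL.card_mul (MulAction.stabilizer Co0 v48 ⊓ MulAction.stabilizer Co0 vV)
    LeechMcL.vX (LeechMcL.pts v48 vV) fun x =>
    ⟨fun hx => by
      obtain ⟨g, h1, h2, h3⟩ := LeechMcL.transitive_pts v48 vV norm_v48 vV_mem LeechMcL.vX x
        LeechMcL.vX_mem hx
      exact ⟨g, ⟨h1, h2⟩, h3⟩,
    fun ⟨g, hg, hx⟩ => by
      have h := (LeechMcL.smul_mem_pts g v48 vV LeechMcL.vX).2 LeechMcL.vX_mem
      rwa [show g • v48 = v48 from hg.1, show g • vV = vV from hg.2, hx] at h⟩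
  rw [LeechMcL.ncard_pts v48 vV norm_v48 vV_mem] at h
  have hG : Nat.card ↥(MulAction.stabilizer Co0 v48 ⊓ MulAction.stabilizer Co0 vV) = 898128000 :=
    LeechMcL.card_G2
  rw [hG] at h
  change 275 * Nat.card stab0 = 898128000 at h
  omega

theorem iso_base : Nonempty (stab0 ≃* Schur.PSUFourThree.G) := by
  have := Schur.PSUFourThree.finite_G
  have hfin : Finite stab0 := Nat.finite_of_card_ne_zero (by rw [card_stab0]; norm_num)
  have hc : Nat.card Schur.PSUFourThree.phi.range = 3265920 := by
    rw [← Nat.card_congr (MonoidHom.ofInjective Schur.PSUFourThree.phi_injective).toEquiv]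
    exact Schur.PSUFourThree.card_G
  have h1 : Nat.card toPerm.range ≤ Nat.card permuting :=
    Nat.card_le_card_of_surjective _ toPerm.rangeRestrict_surjective
  have h2 : Nat.card permuting ≤ Nat.card stab0 := Subgroup.card_le_card_group _
  have h3 : 3265920 ≤ Nat.card toPerm.range := hc ▸ Subgroup.card_le_of_le range_le
  rw [card_stab0] at h2
  have htop : permuting = ⊤ := Subgroup.eq_top_of_le_card _ (by rw [card_stab0]; omega)
  have hr : toPerm.range = Schur.PSUFourThree.phi.range :=
    (Subgroup.eq_of_le_of_card_ge range_le (by rw [hc]; omega)).symm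
  have hb : Function.Bijective toPerm.rangeRestrict :=
    (Nat.bijective_iff_surjective_and_card _).2 ⟨toPerm.rangeRestrict_surjective, by omega⟩
  exact ⟨((Subgroup.topEquiv.symm.trans (MulEquiv.subgroupCongr htop.symm)).trans
    (MulEquiv.ofBijective _ hb)).trans ((MulEquiv.subgroupCongr hr).trans
      (MonoidHom.ofInjective Schur.PSUFourThree.phi_injective).symm)⟩

/-- The statement of S1582. -/
theorem stab_iso (u v x : leechLattice) (hu : sqNorm (u : GolayPt → ℤ) = 48) (hv : v ∈ vset u)
    (hx : x ∈ LeechMcL.pts u v) (F : Type) [Field F] [Fintype F] (hF : Fintype.card F = 9) :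
    Nonempty (↥(MulAction.stabilizer Co0 u ⊓ MulAction.stabilizer Co0 v ⊓
      MulAction.stabilizer Co0 x) ≃* Cfsg.PSU 4 F 3) := by
  obtain ⟨g, e1, e2, e3⟩ := LeechMcL.exists_map3 u v x hu hv hx
  have hmap : stab0.map (MulAut.conj g).toMonoidHom = MulAction.stabilizer Co0 u ⊓
      MulAction.stabilizer Co0 v ⊓ MulAction.stabilizer Co0 x := by
    rw [Subgroup.map_inf_eq _ _ _ (MulAut.conj g).injective,
      Subgroup.map_inf_eq _ _ _ (MulAut.conj g).injective,
      ← MulAction.stabilizer_smul_eq_stabilizer_map_conj,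
      ← MulAction.stabilizer_smul_eq_stabilizer_map_conj,
      ← MulAction.stabilizer_smul_eq_stabilizer_map_conj, e1, e2, e3]
  obtain ⟨i⟩ := iso_base
  exact ⟨((MulEquiv.subgroupCongr hmap.symm).trans
    (stab0.equivMapOfInjective _ (MulAut.conj g).injective).symm).trans
      (i.trans (Schur.PSUFourThree.psuEquiv (FiniteField.ringEquivOfCardEq
        (CfsgLib.Chevalley.G2Two.F9.card_F9.trans hF.symm))))⟩

end CfsgLib.Sporadic.LeechUnitaryFour
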