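import Cfsg.Agent.Lib.Sporadic.LeechUnitarySixChecks
import Cfsg.Agent.Lib.Sporadic.LeechSuborbits
import Cfsg.Agent.Lib.SmallGroups.LeechCensus
import Cfsg.Agent.Lib.Sporadic.FiUnitaryModel
import Cfsg.Agent.Lib.Chevalley.G2Two.Transfer

/-!
# The stabiliser of two minimal vectors with inner product `-16` is U6(2)

Eight automorphisms fixing the two vectors permute 891 further vectors, and so 693 sets of 27 of
them, as the generators of the unitary group permute the isotropic points.  The subgroup they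
generate therefore has at least the order of U6(2), which is the order of the stabiliser.
-/

set_option autoImplicit false
set_option maxRecDepth 100000

namespace CfsgLib.Sporadic.LeechUnitarySix

open Cfsg CfsgLib.SmallGroups CfsgLib.SmallGroups.Golay CfsgLib.SmallGroups.LeechOrbit
  CfsgLib.SmallGroups.LeechLists CfsgLib.SmallGroups.LeechEnum CfsgLib.SmallGroups.LeechVectorStab
  CfsgLib.Sporadic.CosetCert
open scoped Pointwise

/-- The first vector. -/
noncomputable def v0 : leechLattice :=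
  ⟨Pk vCode, LeechBasic.mem_lattice.2 (LeechReach.good_of_ok start_ok.1)⟩

/-- The second vector. -/
noncomputable def w0 : leechLattice :=
  ⟨Pk wCode, LeechBasic.mem_lattice.2 (LeechReach.good_of_ok start_ok.2.1)⟩

theorem vec_mem {j : ℕ} (hj : j < 891) : Pk (xc j) ∈ leechLattice := by
  have h := of_allBelow vecs_good j hj
  simp only [vecOK, Bool.and_eq_true, Bool.or_eq_true] at h
  rcases h.1.1 with h' | h' <;> exact LeechBasic.mem_lattice.2 (LeechReach.good_of_ok h')

theorem xc_lt : ∀ {j k : ℕ}, j < k → k < 891 → xc j < xc k := by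
  intro j k hjk hk
  induction k with
  | zero => omega
  | succ k ih =>
    have h := of_allBelow vecs_good (k + 1) hk
    simp only [vecOK, Bool.and_eq_true, Bool.or_eq_true, beq_iff_eq, decide_eq_true_eq,
      Nat.succ_ne_zero, false_or, Nat.add_sub_cancel] at h
    rcases Nat.lt_or_eq_of_le (Nat.le_of_lt_succ hjk) with h' | rfl
    · exact lt_trans (ih h' (by omega)) h.2
    · exact h.2

theorem xc_inj {j k : ℕ} (hj : j < 891) (hk : k < 891) (h : Pk (xc j) = Pk (xc k)) : j = k := by
  have hd : ∀ i < 24, dig (xc j) i = dig (xc k) i := fun i hi => by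
    have := congrFun h (pt i)
    simpa [Pk, idx_pt hi] using this
  have he : encK (dig (xc j)) = encK (dig (xc k)) := by
    have key : ∀ l : List ℕ, (∀ i ∈ l, i < 24) →
        l.foldr (fun i acc => (dig (xc j) i + 8).toNat * 16 ^ i + acc) 0 =
          l.foldr (fun i acc => (dig (xc k) i + 8).toNat * 16 ^ i + acc) 0 := by
      intro l
      induction l with
      | nil => intro _; rfl
      | cons a t ih =>
        intro hl
        rw [List.foldr_cons, List.foldr_cons, hd a (hl a List.mem_cons_self),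
          ih fun i hi => hl i (List.mem_cons_of_mem _ hi)]
    exact key _ fun i hi => List.mem_range.1 hi
  have h1 := of_allBelow vecs_good j hj
  have h2 := of_allBelow vecs_good k hk
  simp only [vecOK, Bool.and_eq_true, beq_iff_eq] at h1 h2
  rw [h1.1.2, h2.1.2] at he
  rcases lt_trichotomy j k with hlt | heq | hlt
  · exact absurd he (xc_lt hlt hk).ne
  · exact heq
  · exact absurd he (xc_lt hlt hj).ne'

theorem fl_bound {p j : ℕ} (hp : p < 694) (hj : j ∈ fl p) : j < 891 := by
  have h := List.all_eq_true.1 (of_allBelow fl_lt p hp) j hj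
  simpa using h

/-- The set of vectors of a point. -/
def omega (p : Fin FiP.NU) : Set leechLattice :=
  {x | ∃ j ∈ fl p, (x : GolayPt → ℤ) = Pk (xc j)}

theorem omega_injective : Function.Injective omega := by
  intro p q h
  have sub : ∀ {a b : Fin FiP.NU}, omega a = omega b → ∀ j ∈ fl a, j ∈ fl b := by
    intro a b hab j hj
    have hm : (⟨Pk (xc j), vec_mem (fl_bound a.2 hj)⟩ : leechLattice) ∈ omega b :=
      hab ▸ ⟨j, hj, rfl⟩
    obtain ⟨k, hk, e⟩ := hm
    exact (xc_inj (fl_bound a.2 hj) (fl_bound b.2 hk) e) ▸ hk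
  have hmsk : msk (fl p) = msk (fl q) := Nat.eq_of_testBit_eq fun j =>
    Bool.eq_iff_iff.2 (by rw [mem_msk, mem_msk]; exact ⟨sub h j, sub h.symm j⟩)
  apply Fin.ext
  exact msk_inj p.2 q.2 hmsk

/-- The unitary generators on the points. -/
noncomputable def tau (i : ℕ) : Equiv.Perm (Fin FiP.NU) := FiP.actU (FiP.genU i)

theorem tau_apply {i : ℕ} (hi : i < 9) (p : Fin FiP.NU) :
    ((tau i p : Fin FiP.NU) : ℕ) = FiUnitaryData.table.img i p :=
  FiP.actU_acts.img_eq i hi p

theorem exists_word (i : ℕ) (hi : i < 8) : ∃ g : Co0, g • v0 = v0 ∧ g • w0 = w0 ∧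
    ∀ p : Fin FiP.NU, g • omega p = omega (tau (i + 1) p) := by
  have hlen : i < words.length := by
    have : words.length = 8 := by decide +kernel
    omega
  have hw := List.all_eq_true.1 gens_ok (words.getD i [])
    (by rw [List.getD_eq_getElem _ _ hlen]; exact List.getElem_mem hlen)
  rw [Bool.and_eq_true] at hw
  obtain ⟨g, hg⟩ := run_sound hw.1
  have hfix : ∀ f ∈ [vCode, wCode], ∀ v : leechLattice, (v : GolayPt → ℤ) = Pk f → g • v = v :=
    fun f hf v hv => Subtype.ext
      ((hg f f (beq_iff_eq.1 (List.all_eq_true.1 hw.2 f hf)) v hv).trans hv.symm)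
  have hstep : ∀ j < 891, ∀ x : leechLattice, (x : GolayPt → ℤ) = Pk (xc j) →
      ((g • x : leechLattice) : GolayPt → ℤ) = Pk (xc (pj i j)) ∧ pj i j < 891 := by
    intro j hj x hx
    have h := of_allBelow (run_ok i hi) j hj
    simp only [runOK, Bool.and_eq_true, Nat.blt_eq] at h
    exact ⟨hg _ _ (LeechStepFast.runEq_spec h.1) x hx, h.2⟩
  refine ⟨g, hfix vCode List.mem_cons_self v0 rfl,
    hfix wCode (List.mem_cons_of_mem _ List.mem_cons_self) w0 rfl, fun p => ?_⟩
  have hp : (p : ℕ) < 694 := p.2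
  have hm : ∀ j, j ∈ fl (tau (i + 1) p : Fin FiP.NU) ↔ ∃ k ∈ fl p, pj i k = j := by
    intro j
    have h := Nat.eq_of_beq_eq_true (of_allBelow (set_ok i hi) p hp)
    rw [tau_apply (by omega), ← mem_msk, ← h, mem_msk, List.mem_map]
  ext y
  rw [Set.mem_smul_set]
  constructor
  · rintro ⟨x, ⟨k, hk, hx⟩, rfl⟩
    exact ⟨pj i k, (hm _).2 ⟨k, hk, rfl⟩, (hstep k (fl_bound hp hk) x hx).1⟩
  · rintro ⟨j, hj, hy⟩
    obtain ⟨k, hk, rfl⟩ := (hm _).1 hj
    refine ⟨⟨Pk (xc k), vec_mem (fl_bound hp hk)⟩, ⟨k, hk, rfl⟩, Subtype.ext ?_⟩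
    rw [(hstep k (fl_bound hp hk) _ rfl).1, hy]

/-- The joint stabiliser of the two vectors. -/
noncomputable abbrev stab0 : Subgroup Co0 :=
  MulAction.stabilizer Co0 v0 ⊓ MulAction.stabilizer Co0 w0

/-- The elements acting on the sets as permutations of the points. -/
noncomputable def permuting : Subgroup stab0 where
  carrier := {g | ∃ π : Equiv.Perm (Fin FiP.NU), ∀ p, (g : Co0) • omega p = omega (π p)}
  one_mem' := ⟨1, fun p => by rw [Subgroup.coe_one, one_smul]; rfl⟩
  mul_mem' := fun {a b} ⟨π, hπ⟩ ⟨σ, hσ⟩ => ⟨π * σ, fun p => by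
    rw [Subgroup.coe_mul, mul_smul, hσ, hπ]; rfl⟩
  inv_mem' := fun {a} ⟨π, hπ⟩ => ⟨π⁻¹, fun p => by
    rw [Subgroup.coe_inv, inv_smul_eq_iff, hπ]
    rw [← Equiv.Perm.mul_apply, mul_inv_cancel]
    rfl⟩

/-- The permutation of the points. -/
noncomputable def toPerm : permuting →* Equiv.Perm (Fin FiP.NU) where
  toFun g := g.2.choose
  map_one' := Equiv.ext fun p => omega_injective (by
    rw [← (1 : permuting).2.choose_spec p, Subgroup.coe_one, Subgroup.coe_one, one_smul]; rfl)
  map_mul' a b := Equiv.ext fun p => omega_injective (by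
    rw [← (a * b).2.choose_spec p, Subgroup.coe_mul, Subgroup.coe_mul, mul_smul,
      b.2.choose_spec, a.2.choose_spec]
    rfl)

theorem tau_mem_range (i : ℕ) (hi : i < 9) : tau i ∈ toPerm.range := by
  rcases i with _ | i
  · rw [show tau 0 = 1 from Equiv.ext fun p => Fin.ext (by
      rw [tau_apply hi]
      exact Nat.eq_of_beq_eq_true (of_allBelow gen_zero p p.2))]
    exact one_mem _
  · obtain ⟨g, h1, h2, h3⟩ := exists_word i (by omega)
    let k : stab0 := ⟨g, Subgroup.mem_inf.2 ⟨h1, h2⟩⟩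
    let k' : permuting := ⟨k, tau (i + 1), h3⟩
    refine ⟨k', Equiv.ext fun p => omega_injective ?_⟩
    rw [← h3 p]
    exact (k'.2.choose_spec p).symm

theorem suRange_le : FiP.suAct.range ≤ toPerm.range := by
  rw [← FiP.actU_range]
  rintro _ ⟨⟨h, hh⟩, rfl⟩
  have key : h ∈ (toPerm.range.comap FiP.actU).map FiP.grpH.subtype := by
    refine (Subgroup.closure_le _).2 ?_ hh
    rintro _ ⟨r, hr, rfl⟩
    obtain ⟨i, hi, rfl⟩ := List.mem_iff_getElem.1 hr
    refine ⟨FiP.genU i, tau_mem_range i hi, ?_⟩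
    simp [FiP.genU, dif_pos hi]
  obtain ⟨⟨h', hh'⟩, hm, e⟩ := key
  simp only [Subgroup.coe_subtype] at e
  subst e
  exact hm

theorem card_stab0 : Nat.card stab0 = 9196830720 := by
  have hfin : Finite Co0 := Nat.finite_of_card_ne_zero (by rw [LeechOrder.card_Co0]; norm_num)
  have hv : sqNorm (v0 : GolayPt → ℤ) = 32 := by
    show sqNorm (Pk vCode) = 32
    rw [sqNorm_eq, dotK_eq, start_ok.2.2.1]
  have hw : sqNorm (w0 : GolayPt → ℤ) = 32 := by
    show sqNorm (Pk wCode) = 32
    rw [sqNorm_eq, dotK_eq, start_ok.2.2.2.1]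
  have hd : dotInt (v0 : GolayPt → ℤ) (w0 : GolayPt → ℤ) = -16 := by
    show dotInt (Pk vCode) (Pk wCode) = -16
    rw [dotK_eq, start_ok.2.2.2.2]
  have hA : Nat.card (MulAction.stabilizer Co0 v0) = 42305421312000 := by
    have h := card_stab_mul v0 hv
      (fun w hw => LeechTransitive.transitive32 v0 w hv hw) LeechCo2.count32
    omega
  have horb : MulAction.orbit (MulAction.stabilizer Co0 v0) w0 =
      {x : leechLattice | sqNorm (x : GolayPt → ℤ) = 32 ∧
        dotInt (v0 : GolayPt → ℤ) (x : GolayPt → ℤ) = -16} := by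
    ext x
    rw [MulAction.mem_orbit_iff]
    constructor
    · rintro ⟨⟨g, hg⟩, rfl⟩
      refine ⟨(norm_smul g w0).trans hw, ?_⟩
      show dotInt _ ((g • w0 : leechLattice) : GolayPt → ℤ) = -16
      conv_lhs => rw [← MulAction.mem_stabilizer_iff.1 hg]
      rw [dot_smul, hd]
    · rintro ⟨h1, h2⟩
      obtain ⟨g, g1, g2⟩ := LeechSuborbits.transitive_minus16 v0 w0 x hv hw h1 hd h2
      exact ⟨⟨g, g1⟩, g2⟩
  have hcard : (MulAction.orbit (MulAction.stabilizer Co0 v0) w0).ncard = 4600 := by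
    rw [horb, ← (LeechCensus.census (v0 : GolayPt → ℤ) v0.2 hv).1, ← Set.ncard_image_of_injective _ Subtype.val_injective]
    congr 1
    ext x
    simp only [Set.mem_image, Set.mem_ofPred_eq]
    constructor
    · rintro ⟨y, hy, rfl⟩
      exact ⟨y.2, hy⟩
    · rintro ⟨h1, h2⟩
      exact ⟨⟨x, h1⟩, h2, rfl⟩
  have h := Nat.card_congr (MulAction.orbitProdStabilizerEquivGroup
    (MulAction.stabilizer Co0 v0) w0)
  rw [Nat.card_prod, Nat.card_coe_set_eq, hcard, hA] at h
  have he : Nat.card stab0 = Nat.card (MulAction.stabilizer (MulAction.stabilizer Co0 v0) w0) :=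
    Nat.card_congr
      { toFun := fun g => ⟨⟨g.1, g.2.1⟩, g.2.2⟩
        invFun := fun g => ⟨g.1.1, g.1.2, g.2⟩
        left_inv := fun _ => rfl
        right_inv := fun _ => rfl }
  omega

theorem iso_base : Nonempty (stab0 ≃* Cfsg.PSU 6 FieldFour 2) := by
  have hfin : Finite stab0 := Nat.finite_of_card_ne_zero (by rw [card_stab0]; norm_num)
  have h1 : Nat.card toPerm.range ≤ Nat.card permuting :=
    Nat.card_le_card_of_surjective _ toPerm.rangeRestrict_surjective
  have h2 : Nat.card permuting ≤ Nat.card stab0 := Subgroup.card_le_card_group _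
  have h3 : 9196830720 ≤ Nat.card toPerm.range :=
    FiP.card_suAct_range ▸ Subgroup.card_le_of_le suRange_le
  rw [card_stab0] at h2
  have htop : permuting = ⊤ := Subgroup.eq_top_of_le_card _ (by rw [card_stab0]; omega)
  have hr : toPerm.range = FiP.suAct.range :=
    (Subgroup.eq_of_le_of_card_ge suRange_le (by rw [FiP.card_suAct_range]; omega)).symm
  have hb : Function.Bijective toPerm.rangeRestrict :=
    (Nat.bijective_iff_surjective_and_card _).2 ⟨toPerm.rangeRestrict_surjective, by omega⟩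
  exact ⟨((Subgroup.topEquiv.symm.trans (MulEquiv.subgroupCongr htop.symm)).trans
    (MulEquiv.ofBijective _ hb)).trans (((MulEquiv.subgroupCongr hr).trans
      (QuotientGroup.quotientKerEquivRange FiP.suAct).symm).trans
      (QuotientGroup.quotientMulEquivOfEq FiP.suAct_ker))⟩

/-- The projective unitary groups over isomorphic fields. -/
theorem psu_congr {F F₀ : Type*} [Field F] [Field F₀] (e : F ≃+* F₀) (n q : ℕ) :
    Nonempty (Cfsg.PSU n F q ≃* Cfsg.PSU n F₀ q) := by
  refine ⟨QuotientGroup.congr _ _ (Chevalley.G2Two.suCongr e n q) ?_⟩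
  ext y
  constructor
  · rintro ⟨x, hx, rfl⟩
    rw [Subgroup.mem_center_iff]
    intro g
    obtain ⟨h, rfl⟩ := (Chevalley.G2Two.suCongr e n q).surjective g
    show Chevalley.G2Two.suCongr e n q h * Chevalley.G2Two.suCongr e n q x = _ * _
    rw [← map_mul, Subgroup.mem_center_iff.1 hx h, map_mul]
    rfl
  · intro hy
    refine ⟨(Chevalley.G2Two.suCongr e n q).symm y, Subgroup.mem_center_iff.2 fun g => ?_,
      (Chevalley.G2Two.suCongr e n q).apply_symm_apply y⟩
    apply (Chevalley.G2Two.suCongr e n q).injective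
    simpa using Subgroup.mem_center_iff.1 hy (Chevalley.G2Two.suCongr e n q g)

/-- The statement of S1577. -/
theorem stab_iso (v w : leechLattice) (hv : sqNorm (v : GolayPt → ℤ) = 32)
    (hw : sqNorm (w : GolayPt → ℤ) = 32)
    (hd : dotInt (v : GolayPt → ℤ) (w : GolayPt → ℤ) = -16) (F : Type) [Field F] [Fintype F]
    (hF : Fintype.card F = 4) :
    Nonempty (↥(MulAction.stabilizer Co0 v ⊓ MulAction.stabilizer Co0 w) ≃* Cfsg.PSU 6 F 2) := by
  have hv0 : sqNorm (v0 : GolayPt → ℤ) = 32 := by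
    show sqNorm (Pk vCode) = 32
    rw [sqNorm_eq, dotK_eq, start_ok.2.2.1]
  have hw0 : sqNorm (w0 : GolayPt → ℤ) = 32 := by
    show sqNorm (Pk wCode) = 32
    rw [sqNorm_eq, dotK_eq, start_ok.2.2.2.1]
  have hd0 : dotInt (v0 : GolayPt → ℤ) (w0 : GolayPt → ℤ) = -16 := by
    show dotInt (Pk vCode) (Pk wCode) = -16
    rw [dotK_eq, start_ok.2.2.2.2]
  obtain ⟨a, ha⟩ := LeechTransitive.transitive32 v0 v hv0 hv
  obtain ⟨b, hb1, hb2⟩ := LeechSuborbits.transitive_minus16 v (a • w0) w hv
    ((norm_smul a w0).trans hw0) hw (by rw [← ha, dot_smul, hd0]) hd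
  have e1 : (b * a) • v0 = v := by rw [mul_smul, ha, hb1]
  have e2 : (b * a) • w0 = w := by rw [mul_smul, hb2]
  have hmap : stab0.map (MulAut.conj (b * a)).toMonoidHom =
      MulAction.stabilizer Co0 v ⊓ MulAction.stabilizer Co0 w := by
    rw [Subgroup.map_inf_eq _ _ _ (MulAut.conj (b * a)).injective,
      ← MulAction.stabilizer_smul_eq_stabilizer_map_conj,
      ← MulAction.stabilizer_smul_eq_stabilizer_map_conj, e1, e2]
  obtain ⟨i⟩ := iso_base
  obtain ⟨j⟩ := psu_congr (FiniteField.ringEquivOfCardEq (K := FieldFour) (K' := F) (by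
    rw [FieldFour.card_eq, hF])) 6 2
  exact ⟨((MulEquiv.subgroupCongr hmap.symm).trans
    (stab0.equivMapOfInjective _ (MulAut.conj (b * a)).injective).symm).trans (i.trans j)⟩

end CfsgLib.Sporadic.LeechUnitarySix
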