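import Cfsg.Agent.Lib.Sporadic.LeechUnitarySixData
import Cfsg.Agent.Lib.Sporadic.LeechSuborbits
import Cfsg.Agent.Lib.Sporadic.LeechStepFast
import Cfsg.Agent.Lib.Sporadic.CosetCertApply
import Cfsg.Agent.Lib.Sporadic.CosetCertBelow
import Cfsg.Agent.Lib.Sporadic.FiUnitaryData.FiUnitaryTable

/-!
# Checks on the data for the stabiliser of two minimal vectors
-/

set_option autoImplicit false
set_option maxRecDepth 100000

namespace CfsgLib.Sporadic.LeechUnitarySix

open Cfsg CfsgLib.SmallGroups CfsgLib.SmallGroups.Golay CfsgLib.SmallGroups.LeechOrbit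
  CfsgLib.SmallGroups.LeechLists CfsgLib.SmallGroups.LeechEnum
  CfsgLib.Sporadic.CosetCert

/-- The code number of a vector of the list. -/
def xc (j : ℕ) : ℕ := Nat.mod (Nat.shiftRight xBits (Nat.mul 96 j)) 79228162514264337593543950336

/-- The indices of a point. -/
def fl (p : ℕ) : List ℕ :=
  if p < 693 then (List.range 27).map fun k =>
    Nat.mod (Nat.shiftRight setBits (Nat.add (Nat.mul 270 p) (Nat.mul 10 k))) 1024 else []

/-- The image of an index under an automorphism. -/
def pj (i j : ℕ) : ℕ := Nat.mod (Nat.shiftRight (permBits.getD i 0) (Nat.mul 10 j)) 1024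

/-- The mask of a list of indices. -/
def msk : List ℕ → ℕ
  | [] => 0
  | j :: l => (1 <<< j) ||| msk l

theorem mem_msk : ∀ {l : List ℕ} {j : ℕ}, (msk l).testBit j = true ↔ j ∈ l
  | [], j => by simp [msk]
  | a :: l, j => by
    rw [msk, Nat.testBit_or, Bool.or_eq_true, mem_msk (l := l), List.mem_cons,
      Nat.one_shiftLeft, Nat.testBit_two_pow, decide_eq_true_eq, eq_comm (a := a)]

/-- One vector of the list is in the lattice and canonical. -/
def vecOK (j : ℕ) : Bool :=
  (LeechReach.okGood 0 (Pk (xc j)) || LeechReach.okGood 1 (Pk (xc j))) &&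
    encK (dig (xc j)) == xc j && (j == 0 || decide (xc (j - 1) < xc j))

theorem vecs_lo : allBelow vecOK 450 = true := by decide +kernel

theorem vecs_hi : allBelow (fun j => vecOK (j + 450)) 441 = true := by decide +kernel

theorem allBelow_split {p : ℕ → Bool} {a : ℕ} (h : allBelow p a = true) :
    ∀ b, allBelow (fun j => p (j + a)) b = true → allBelow p (b + a) = true := by
  intro b
  induction b with
  | zero => intro _; rw [Nat.zero_add]; exact h
  | succ b ih =>
    intro hb
    rw [Nat.add_right_comm]
    change (p (b + a) && allBelow p (b + a)) = true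
    change (p (b + a) && allBelow (fun j => p (j + a)) b) = true at hb
    rw [Bool.and_eq_true] at hb ⊢
    exact ⟨hb.1, ih hb.2⟩

theorem vecs_good : allBelow vecOK 891 = true :=
  allBelow_split vecs_lo 441 vecs_hi

theorem gens_ok : gensOK words [vCode, wCode] = true := by decide +kernel

/-- An automorphism maps a vector as listed. -/
noncomputable def runOK (i j : ℕ) : Bool :=
  LeechStepFast.runEq (words.getD i []) (xc j) (xc (pj i j)) && Nat.blt (pj i j) 891

theorem run_ok0 : allBelow (runOK 0) 891 = true := by decide +kernel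
theorem run_ok1 : allBelow (runOK 1) 891 = true := by decide +kernel
theorem run_ok2 : allBelow (runOK 2) 891 = true := by decide +kernel
theorem run_ok3 : allBelow (runOK 3) 891 = true := by decide +kernel
theorem run_ok4 : allBelow (runOK 4) 891 = true := by decide +kernel
theorem run_ok5 : allBelow (runOK 5) 891 = true := by decide +kernel
theorem run_ok6 : allBelow (runOK 6) 891 = true := by decide +kernel
theorem run_ok7 : allBelow (runOK 7) 891 = true := by decide +kernel

theorem run_ok : ∀ i < 8, allBelow (runOK i) 891 = true := by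
  intro i hi
  interval_cases i
  exacts [run_ok0, run_ok1, run_ok2, run_ok3, run_ok4, run_ok5, run_ok6, run_ok7]

/-- An automorphism maps the set of a point as the unitary generator maps the point. -/
noncomputable def setOK (i : ℕ) : Bool :=
  allBelow (fun p => Nat.beq (msk ((fl p).map (pj i)))
    (msk (fl (FiUnitaryData.table.img (i + 1) p)))) 694

theorem set_ok0 : setOK 0 = true := by decide +kernel
theorem set_ok1 : setOK 1 = true := by decide +kernel
theorem set_ok2 : setOK 2 = true := by decide +kernel
theorem set_ok3 : setOK 3 = true := by decide +kernel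
theorem set_ok4 : setOK 4 = true := by decide +kernel
theorem set_ok5 : setOK 5 = true := by decide +kernel
theorem set_ok6 : setOK 6 = true := by decide +kernel
theorem set_ok7 : setOK 7 = true := by decide +kernel

theorem set_ok : ∀ i < 8, setOK i = true := by
  intro i hi
  interval_cases i
  exacts [set_ok0, set_ok1, set_ok2, set_ok3, set_ok4, set_ok5, set_ok6, set_ok7]

theorem gen_zero : allBelow (fun p => Nat.beq (FiUnitaryData.table.img 0 p) p) 694 = true := by
  decide +kernel

theorem fl_lt : allBelow (fun p => (fl p).all fun j => Nat.blt j 891) 694 = true := by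
  decide +kernel

/-- The point at a position in the order of the sets. -/
def atPos (k : ℕ) : ℕ := Nat.mod (Nat.shiftRight orderBits (Nat.mul 10 k)) 1024

/-- The position of a point in the order of the sets. -/
def posOf (p : ℕ) : ℕ := Nat.mod (Nat.shiftRight rankBits (Nat.mul 10 p)) 1024

theorem pos_ok : allBelow (fun p => Nat.beq (atPos (posOf p)) p && Nat.blt (posOf p) 694) 694 = true := by
  decide +kernel

theorem order_ok :
    allBelow (fun k => Nat.blt (msk (fl (atPos k))) (msk (fl (atPos (k + 1))))) 693 = true := by
  decide +kernel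

theorem msk_lt : ∀ {j k : ℕ}, j < k → k < 694 → msk (fl (atPos j)) < msk (fl (atPos k)) := by
  intro j k hjk hk
  induction k with
  | zero => omega
  | succ k ih =>
    have h : msk (fl (atPos k)) < msk (fl (atPos (k + 1))) := by
      simpa using of_allBelow order_ok k (Nat.lt_of_succ_lt_succ hk)
    rcases Nat.lt_or_eq_of_le (Nat.le_of_lt_succ hjk) with h' | rfl
    · exact lt_trans (ih h' (by omega)) h
    · exact h

theorem msk_inj {p q : ℕ} (hp : p < 694) (hq : q < 694) (h : msk (fl p) = msk (fl q)) : p = q := by
  have key : ∀ r < 694, atPos (posOf r) = r ∧ posOf r < 694 := fun r hr => by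
    simpa using of_allBelow pos_ok r hr
  obtain ⟨ep, lp⟩ := key p hp
  obtain ⟨eq', lq⟩ := key q hq
  rw [← ep, ← eq'] at h
  rcases lt_trichotomy (posOf p) (posOf q) with hlt | he | hlt
  · exact absurd h (msk_lt hlt lq).ne
  · rw [← ep, he, eq']
  · exact absurd h (msk_lt hlt lp).ne'

theorem start_ok : LeechReach.okGood 0 (Pk vCode) = true ∧ LeechReach.okGood 0 (Pk wCode) = true ∧
    dotK vCode vCode = 32 ∧ dotK wCode wCode = 32 ∧ dotK vCode wCode = -16 := by decide +kernel

end CfsgLib.Sporadic.LeechUnitarySix
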