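import Cfsg.Agent.Lib.Sporadic.LeechUnitaryThreeChecks
import Cfsg.Agent.Lib.SmallGroups.LeechHS
import Cfsg.Agent.Lib.KnownC.PSUThreeFiveIndex
import Cfsg.Agent.Lib.Chevalley.G2Two.Transfer

/-!
# The 352 vectors of the Higman-Sims group and their stabiliser U3(5)
-/

set_option autoImplicit false
set_option maxRecDepth 100000

namespace CfsgLib.Sporadic.LeechUnitaryThree

open Cfsg CfsgLib.SmallGroups CfsgLib.SmallGroups.Golay CfsgLib.SmallGroups.LeechOrbit
  CfsgLib.SmallGroups.LeechLists CfsgLib.SmallGroups.LeechPairs CfsgLib.SmallGroups.LeechVectorStab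
  CfsgLib.SmallGroups.LeechEnum CfsgLib.SmallGroups.LeechParamCount
open scoped Pointwise

/-- The base point among the 352 vectors. -/
noncomputable def vX0 : leechLattice :=
  ⟨Pk kX0, LeechBasic.mem_lattice.2 (LeechReach.good_of_ok start_ok.1.1)⟩

/-- The 352 vectors of the base pair. -/
def base : Set leechLattice :=
  {x | sqNorm (x : GolayPt → ℤ) = 32 ∧ dotInt (v48 : GolayPt → ℤ) (x : GolayPt → ℤ) = 16 ∧
    dotInt (LeechHS.vZ : GolayPt → ℤ) (x : GolayPt → ℤ) = -8}

theorem kZ_apply : ∀ q, Pk LeechHS.kZ q = if q = none then 4 else if q = some 0 then -4 else 0 := by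
  decide +kernel

theorem dot_vZ (x : GolayPt → ℤ) :
    dotInt (LeechHS.vZ : GolayPt → ℤ) x = 4 * (x none - x (some 0)) := by
  rw [dotInt, LeechHS.coe_vZ]
  simp only [kZ_apply, ite_mul, zero_mul]
  rw [← Finset.sum_subset (Finset.subset_univ ({none, some 0} : Finset GolayPt)) fun r _ hr => by
      simp only [Finset.mem_insert, Finset.mem_singleton, not_or] at hr
      simp [hr.1, hr.2],
    Finset.sum_pair (by simp)]
  simp
  ring

theorem base_sub : vecs tree352 ⊆ base := by
  intro y hy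
  have hr : Pk kX0 ∈ leechLattice := vX0.2
  exact ⟨norm_of_mem cert352 hr hy start_ok.2.1,
    dot_of_mem cert352 hr hy (List.mem_cons_self ..) coe_v48 start_ok.2.2.1,
    dot_of_mem cert352 hr hy (List.mem_cons_of_mem _ (List.mem_cons_self ..)) LeechHS.coe_vZ
      start_ok.2.2.2⟩

theorem base_eq : base = vecs tree352 ∧ base.ncard = 352 := by
  have hr : Pk kX0 ∈ leechLattice := vX0.2
  have hfin : base.Finite := Set.Finite.of_finite_image (LeechHS.finite32.subset (by
    rintro _ ⟨x, hx, rfl⟩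
    exact ⟨x.2, hx.1⟩)) Subtype.val_injective.injOn
  have hle : base.ncard ≤ 352 := by
    rw [← count_base, ← Set.ncard_image_of_injective base Subtype.val_injective]
    refine le_trans (Set.ncard_le_ncard ?_ (LeechHS.finite32.subset ?_))
      (ncard_le (LeechSubTools.sound_and sound_testZ (sound48 16)))
    · rintro _ ⟨x, ⟨h1, h2, h3⟩, rfl⟩
      refine ⟨LeechBasic.mem_lattice.1 x.2, h1, (dot_vZ _).symm.trans h3, ?_⟩
      rw [show LeechReach.pv 1 [5] = (v48 : GolayPt → ℤ) from rfl]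
      exact h2
    · rintro x ⟨h1, h2, -⟩
      exact ⟨LeechBasic.mem_lattice.2 h1, h2⟩
  have hn : (vecs tree352).ncard = 352 := by
    rw [ncard_vecs cert352 hr canon352, length352]
  have e := (Set.eq_of_subset_of_ncard_le base_sub (by rw [hn]; exact hle) hfin).symm
  exact ⟨e, by rw [e, hn]⟩

theorem vX0_mem : vX0 ∈ base :=
  base_sub ⟨kX0, VTree.find_mem _ _ start_ok.1.2, rfl⟩

theorem transitive_base {y : leechLattice} (hy : y ∈ base) :
    ∃ g : Co0, g • v48 = v48 ∧ g • LeechHS.vZ = LeechHS.vZ ∧ g • vX0 = y := by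
  rw [base_eq.1] at hy
  obtain ⟨g, hfix, hg⟩ := transitive_vecs cert352 vX0.2 (x := vX0)
    ⟨kX0, VTree.find_mem _ _ start_ok.1.2, rfl⟩ hy
  exact ⟨g, hfix kU (List.mem_cons_self ..) v48 coe_v48,
    hfix LeechHS.kZ (List.mem_cons_of_mem _ (List.mem_cons_self ..)) LeechHS.vZ LeechHS.coe_vZ, hg⟩

/-- The stabiliser of the base pair and the base point. -/
noncomputable abbrev stab0 : Subgroup Co0 :=
  MulAction.stabilizer Co0 v48 ⊓ MulAction.stabilizer Co0 LeechHS.vZ ⊓ MulAction.stabilizer Co0 vX0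

theorem card_stab0 : Nat.card stab0 = 126000 := by
  have h := LeechMcL.card_mul (MulAction.stabilizer Co0 v48 ⊓ MulAction.stabilizer Co0 LeechHS.vZ)
    vX0 base fun y =>
    ⟨fun hy => by
      obtain ⟨g, h1, h2, h3⟩ := transitive_base hy
      exact ⟨g, ⟨h1, h2⟩, h3⟩,
    fun ⟨g, hg, hy⟩ => by
      obtain ⟨a, b, c⟩ := vX0_mem
      rw [← hy]
      refine ⟨(norm_smul g _).trans a, ?_, ?_⟩
      · rw [← show g • v48 = v48 from hg.1, dot_smul]; exact b
      · rw [← show g • LeechHS.vZ = LeechHS.vZ from hg.2, dot_smul]; exact c⟩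
  rw [base_eq.2, show Nat.card ↥(MulAction.stabilizer Co0 v48 ⊓
    MulAction.stabilizer Co0 LeechHS.vZ) = 44352000 from LeechHS.card_G2] at h
  change 352 * Nat.card stab0 = 44352000 at h
  omega

theorem qc_mem {j : ℕ} (hj : j < 252) : Pk (qc j) ∈ leechLattice := by
  have h := qc_good j hj
  rw [Bool.or_eq_true] at h
  rcases h with h' | h' <;> exact LeechBasic.mem_lattice.2 (LeechReach.good_of_ok h')

theorem qc_inj {j k : ℕ} (hj : j < 252) (hk : k < 252) (h : Pk (qc j) = Pk (qc k)) : j = k := by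
  have hd : ∀ i < 24, dig (qc j) i = dig (qc k) i := fun i hi => by
    have := congrFun h (pt i)
    simpa [Pk, idx_pt hi] using this
  have e := LeechStepFast.encK_congr hd
  rw [LeechStepFast.encK_dig (qc_lt j hj), LeechStepFast.encK_dig (qc_lt k hk)] at e
  exact List.inj_on_of_nodup_map qc_nodup (List.mem_range.2 hj) (List.mem_range.2 hk) e

/-- The pair of vectors of a point. -/
def omega (p : Fin 126) : Set leechLattice :=
  {x | ∃ j < 252, j / 2 = (p : ℕ) ∧ (x : GolayPt → ℤ) = Pk (qc j)}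

theorem omega_injective : Function.Injective omega := by
  intro a b h
  have hj : 2 * (a : ℕ) < 252 := by omega
  have hm : (⟨Pk (qc (2 * a)), qc_mem hj⟩ : leechLattice) ∈ omega b :=
    h ▸ ⟨2 * a, hj, by omega, rfl⟩
  obtain ⟨k, hk, hkb, e⟩ := hm
  have := qc_inj hj hk e
  exact Fin.ext (by omega)

theorem exists_word (i : ℕ) (hi : i < 5) : ∃ g ∈ stab0, ∀ p q : Fin 126,
    ptImg i p = q → g • omega p = omega q := by
  have hlen : i < words.length := by
    have : words.length = 5 := by decide +kernel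
    omega
  have hw := List.all_eq_true.1 gens_ok (words.getD i [])
    (by rw [List.getD_eq_getElem _ _ hlen]; exact List.getElem_mem hlen)
  rw [Bool.and_eq_true] at hw
  obtain ⟨g, hg⟩ := run_sound hw.1
  have hfix : ∀ f ∈ [kU, LeechHS.kZ, kX0], ∀ v : leechLattice, (v : GolayPt → ℤ) = Pk f → g • v = v :=
    fun f hf v hv => Subtype.ext
      ((hg f f (beq_iff_eq.1 (List.all_eq_true.1 hw.2 f hf)) v hv).trans hv.symm)
  have hok : runOK i = true := by
    interval_cases i
    exacts [run_ok0, run_ok1, run_ok2, run_ok3, run_ok4]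
  have hstep : ∀ j < 252, ∀ x : leechLattice, (x : GolayPt → ℤ) = Pk (qc j) →
      ((g • x : leechLattice) : GolayPt → ℤ) = Pk (qc (qImg i j)) ∧ qImg i j < 252 := by
    intro j hj x hx
    have h := CosetCert.of_allBelow hok j hj
    simp only [Bool.and_eq_true, Nat.blt_eq] at h
    exact ⟨hg _ _ (LeechStepFast.runEq_spec h.1) x hx, h.2⟩
  refine ⟨g, ⟨⟨hfix _ (by simp) v48 coe_v48, hfix _ (by simp) LeechHS.vZ LeechHS.coe_vZ⟩,
    hfix _ (by simp) vX0 rfl⟩, fun p q hpq => ?_⟩
  obtain ⟨ha, hb, hne, -⟩ := pair_ok i hi p p.2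
  rw [hpq] at ha hb
  ext y
  rw [Set.mem_smul_set]
  constructor
  · rintro ⟨x, ⟨j, hj, hjp, hx⟩, rfl⟩
    obtain ⟨h1, h2⟩ := hstep j hj x hx
    refine ⟨qImg i j, h2, ?_, h1⟩
    rcases (show j = 2 * (p : ℕ) ∨ j = 2 * (p : ℕ) + 1 by omega) with rfl | rfl
    exacts [ha, hb]
  · rintro ⟨j, hj, hjq, hy⟩
    obtain ⟨k, hk, hkp, hkj⟩ : ∃ k, k < 252 ∧ k / 2 = (p : ℕ) ∧ qImg i k = j := by
      rcases (show j = qImg i (2 * (p : ℕ)) ∨ j = qImg i (2 * (p : ℕ) + 1) by omega) with h | h
      · exact ⟨_, by omega, by omega, h.symm⟩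
      · exact ⟨_, by omega, by omega, h.symm⟩
    refine ⟨⟨Pk (qc k), qc_mem hk⟩, ⟨k, hk, hkp, rfl⟩, Subtype.ext ?_⟩
    rw [(hstep k hk _ rfl).1, hkj, hy]

/-- The elements permuting the pairs. -/
noncomputable def permuting : Subgroup stab0 where
  carrier := {g | ∃ π : Equiv.Perm (Fin 126), ∀ p, (g : Co0) • omega p = omega (π p)}
  one_mem' := ⟨1, fun p => by rw [Subgroup.coe_one, one_smul]; rfl⟩
  mul_mem' := fun {a b} ⟨π, hπ⟩ ⟨σ, hσ⟩ => ⟨π * σ, fun p => by
    rw [Subgroup.coe_mul, mul_smul, hσ, hπ]; rfl⟩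
  inv_mem' := fun {a} ⟨π, hπ⟩ => ⟨π⁻¹, fun p => by
    rw [Subgroup.coe_inv, inv_smul_eq_iff, hπ]
    rw [← Equiv.Perm.mul_apply, mul_inv_cancel]
    rfl⟩

/-- The permutation of the points. -/
noncomputable def toPerm : permuting →* Equiv.Perm (Fin 126) where
  toFun g := g.2.choose
  map_one' := Equiv.ext fun p => omega_injective (by
    rw [← (1 : permuting).2.choose_spec p, Subgroup.coe_one, Subgroup.coe_one, one_smul]; rfl)
  map_mul' a b := Equiv.ext fun p => omega_injective (by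
    rw [← (a * b).2.choose_spec p, Subgroup.coe_mul, Subgroup.coe_mul, mul_smul,
      b.2.choose_spec, a.2.choose_spec]
    rfl)

/-- The map of points of an automorphism, made total. -/
noncomputable def ptFun (i : ℕ) (p : Fin 126) : Fin 126 :=
  if h : ptImg i p < 126 then ⟨ptImg i p, h⟩ else p

theorem ptFun_val {i : ℕ} (hi : i < 5) (p : Fin 126) : ((ptFun i p : Fin 126) : ℕ) = ptImg i p := by
  rw [ptFun, dif_pos (pair_ok i hi p p.2).2.2.2]

theorem exists_perm (i : ℕ) (hi : i < 5) : ∃ σ : Equiv.Perm (Fin 126),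
    (∀ p, ((σ p : Fin 126) : ℕ) = ptImg i p) ∧ σ ∈ toPerm.range := by
  obtain ⟨g, hg, hgo⟩ := exists_word i hi
  have hmap : ∀ p, g • omega p = omega (ptFun i p) := fun p => hgo p _ (ptFun_val hi p).symm
  have hinj : Function.Injective (ptFun i) := fun a b e => omega_injective (MulAction.injective g
    (show g • omega a = g • omega b by rw [hmap, hmap, e]))
  let σ := Equiv.ofBijective (ptFun i) (Finite.injective_iff_bijective.1 hinj)
  refine ⟨σ, fun p => ptFun_val hi p, ?_⟩
  let k' : permuting := ⟨⟨g, hg⟩, σ, hmap⟩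
  refine ⟨k', Equiv.ext fun p => omega_injective ?_⟩
  exact (k'.2.choose_spec p).symm.trans (hmap p)

/-- The permutation of the points under an automorphism. -/
noncomputable def sigma (i : ℕ) : Equiv.Perm (Fin 126) :=
  if h : i < 5 then (exists_perm i h).choose else 1

theorem sigma_val {i : ℕ} (hi : i < 5) (p : Fin 126) : ((sigma i p : Fin 126) : ℕ) = ptImg i p := by
  rw [sigma, dif_pos hi]
  exact (exists_perm i hi).choose_spec.1 p

/-- The group generated by the five permutations. -/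
noncomputable abbrev K0 : Subgroup (Equiv.Perm (Fin 126)) := Subgroup.closure (sigma '' Set.Iio 5)

theorem K0_le_toPerm : K0 ≤ toPerm.range := by
  rw [Subgroup.closure_le]
  rintro _ ⟨i, hi, rfl⟩
  rw [SetLike.mem_coe, sigma, dif_pos (show i < 5 from hi)]
  exact (exists_perm i hi).choose_spec.2

theorem K0_le_psi : K0 ≤ psi.range := by
  rw [Subgroup.closure_le]
  rintro _ ⟨i, hi, rfl⟩
  exact gen_mem_range i hi _ (sigma_val hi)

/-- A product of the permutations, applied from the left end. -/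
noncomputable def prodOf : List ℕ → Equiv.Perm (Fin 126)
  | [] => 1
  | i :: L => prodOf L * sigma i

theorem prodOf_spec : ∀ L : List ℕ, (L.all fun i => decide (i < 5)) = true →
    prodOf L ∈ K0 ∧ ∀ p : Fin 126, ((prodOf L p : Fin 126) : ℕ) = ptImgs L p
  | [], _ => ⟨one_mem _, fun _ => rfl⟩
  | i :: L, h => by
    rw [List.all_cons, Bool.and_eq_true, decide_eq_true_eq] at h
    obtain ⟨h1, h2⟩ := prodOf_spec L h.2
    refine ⟨mul_mem h1 (Subgroup.subset_closure ⟨i, h.1, rfl⟩), fun p => ?_⟩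
    show ((prodOf L (sigma i p) : Fin 126) : ℕ) = _
    rw [h2, sigma_val h.1]
    rfl

theorem card_K0 : 15750 ≤ Nat.card K0 := by
  let A : Fin 126 → Equiv.Perm (Fin 126) := fun p => prodOf (toPoint.getD p [])
  let B : Fin 125 → Equiv.Perm (Fin 126) := fun q => prodOf (toSecond.getD q [])
  have hA : ∀ p, A p ∈ K0 ∧ A p 0 = p := fun p => by
    obtain ⟨h1, h2⟩ := toPoint_ok p p.2
    obtain ⟨h3, h4⟩ := prodOf_spec _ h1
    exact ⟨h3, Fin.ext ((h4 0).trans h2)⟩
  have hB : ∀ q : Fin 125, B q ∈ K0 ∧ B q 0 = 0 ∧ ((B q 1 : Fin 126) : ℕ) = q + 1 := fun q => by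
    obtain ⟨h1, h2, h2'⟩ := toSecond_ok q q.2
    obtain ⟨h3, h4⟩ := prodOf_spec _ h1
    exact ⟨h3, Fin.ext ((h4 0).trans h2), (h4 1).trans h2'⟩
  let f : Fin 126 × Fin 125 → K0 := fun x =>
    ⟨A x.1 * B x.2, mul_mem (hA x.1).1 (hB x.2).1⟩
  have hf : Function.Injective f := by
    intro x y e
    have e' : A x.1 * B x.2 = A y.1 * B y.2 := congrArg Subtype.val e
    have h0 := Equiv.congr_fun e' 0
    rw [Equiv.Perm.mul_apply, Equiv.Perm.mul_apply, (hB _).2.1, (hB _).2.1, (hA _).2, (hA _).2] at h0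
    have h1 := Equiv.congr_fun e' 1
    rw [Equiv.Perm.mul_apply, Equiv.Perm.mul_apply, h0] at h1
    have h2 := congrArg Fin.val ((A y.1).injective h1)
    rw [(hB _).2.2, (hB _).2.2] at h2
    exact Prod.ext h0 (Fin.ext (by omega))
  have h := Nat.card_le_card_of_injective f hf
  rwa [Nat.card_prod, Nat.card_fin, Nat.card_fin] at h

theorem psi_injective : Function.Injective psi := by
  have := simple_G3
  rw [← MonoidHom.ker_eq_bot_iff]
  refine (psi.normal_ker.eq_bot_or_eq_top).resolve_right fun h => ?_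
  have hb : psi.range = ⊥ := by
    rw [eq_bot_iff]
    rintro _ ⟨g, rfl⟩
    exact Subgroup.mem_bot.2 (MonoidHom.mem_ker.1 (h ▸ Subgroup.mem_top g))
  have hle := K0_le_psi
  rw [hb, le_bot_iff] at hle
  have hc := card_K0
  rw [hle, Subgroup.card_bot] at hc
  omega

theorem psi_range_eq : psi.range = K0 := by
  have hG : Finite G3 := Nat.finite_of_card_ne_zero (by rw [card_G3]; norm_num)
  refine le_antisymm ?_ K0_le_psi
  have htop : K0.comap psi = ⊤ := by
    by_contra hne
    have h50 := CfsgLib.KnownC.PSUThreeFive.fifty_le_index (F := F25) card_F25 (K0.comap psi) hne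
    have hc : Nat.card (K0.comap psi) = Nat.card K0 := by
      rw [← Subgroup.card_map_of_injective psi_injective,
        Subgroup.map_comap_eq_self K0_le_psi]
    have hm := (K0.comap psi).card_mul_index
    rw [card_G3, hc] at hm
    have := card_K0
    have : 15750 * 50 ≤ Nat.card K0 * (K0.comap psi).index := Nat.mul_le_mul this h50
    omega
  rintro _ ⟨g, rfl⟩
  exact (htop ▸ Subgroup.mem_top g : g ∈ K0.comap psi)

theorem iso_base : Nonempty (stab0 ≃* G3) := by
  have hfin : Finite stab0 := Nat.finite_of_card_ne_zero (by rw [card_stab0]; norm_num)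
  have hc : Nat.card psi.range = 126000 := by
    rw [← Nat.card_congr (MonoidHom.ofInjective psi_injective).toEquiv]
    exact card_G3
  have hle : psi.range ≤ toPerm.range := psi_range_eq.le.trans K0_le_toPerm
  have h1 : Nat.card toPerm.range ≤ Nat.card permuting :=
    Nat.card_le_card_of_surjective _ toPerm.rangeRestrict_surjective
  have h2 : Nat.card permuting ≤ Nat.card stab0 := Subgroup.card_le_card_group _
  have h3 : 126000 ≤ Nat.card toPerm.range := hc ▸ Subgroup.card_le_of_le hle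
  rw [card_stab0] at h2
  have htop : permuting = ⊤ := Subgroup.eq_top_of_le_card _ (by rw [card_stab0]; omega)
  have hr : toPerm.range = psi.range :=
    (Subgroup.eq_of_le_of_card_ge hle (by rw [hc]; omega)).symm
  have hb : Function.Bijective toPerm.rangeRestrict :=
    (Nat.bijective_iff_surjective_and_card _).2 ⟨toPerm.rangeRestrict_surjective, by omega⟩
  exact ⟨((Subgroup.topEquiv.symm.trans (MulEquiv.subgroupCongr htop.symm)).trans
    (MulEquiv.ofBijective _ hb)).trans ((MulEquiv.subgroupCongr hr).trans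
      (MonoidHom.ofInjective psi_injective).symm)⟩

/-- The projective unitary groups over isomorphic fields. -/
theorem psu_congr {F F₀ : Type*} [Field F] [Field F₀] (e : F ≃+* F₀) (n q : ℕ) :
    Nonempty (Cfsg.PSU n F q ≃* Cfsg.PSU n F₀ q) := by
  refine ⟨QuotientGroup.congr _ _ (Chevalley.G2Two.suCongr e n q) ?_⟩
  ext y
  constructor
  · rintro ⟨x, hx, rfl⟩
    rw [Subgroup.mem_center_iff]
    intro g
    obtain ⟨h, rfl⟩ := (Chevalley.G2Two.suCongr e n q).surjective g
    show Chevalley.G2Two.suCongr e n q h * Chevalley.G2Two.suCongr e n q x = _ * _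
    rw [← map_mul, Subgroup.mem_center_iff.1 hx h, map_mul]
    rfl
  · intro hy
    refine ⟨(Chevalley.G2Two.suCongr e n q).symm y, Subgroup.mem_center_iff.2 fun g => ?_,
      (Chevalley.G2Two.suCongr e n q).apply_symm_apply y⟩
    apply (Chevalley.G2Two.suCongr e n q).injective
    simpa using Subgroup.mem_center_iff.1 hy (Chevalley.G2Two.suCongr e n q g)

/-- The 352 vectors of a pair. -/
def ptsOf (v w : leechLattice) : Set leechLattice :=
  {x | sqNorm (x : GolayPt → ℤ) = 32 ∧ dotInt (v : GolayPt → ℤ) (x : GolayPt → ℤ) = 16 ∧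
    dotInt (w : GolayPt → ℤ) (x : GolayPt → ℤ) = -24}

theorem neg_sub_mem (v w x : leechLattice) (hw : sqNorm (w : GolayPt → ℤ) = 48)
    (hvw : dotInt (v : GolayPt → ℤ) (w : GolayPt → ℤ) = -32) (hx : x ∈ ptsOf v w) :
    -w - x ∈ ptsOf v w := by
  obtain ⟨h1, h2, h3⟩ := hx
  have e : ((-w - x : leechLattice) : GolayPt → ℤ) = -((w : GolayPt → ℤ) + (x : GolayPt → ℤ)) := by
    simp [sub_eq_add_neg, add_comm]
  have hadd : ∀ a : GolayPt → ℤ, dotInt a ((w : GolayPt → ℤ) + (x : GolayPt → ℤ)) =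
      dotInt a (w : GolayPt → ℤ) + dotInt a (x : GolayPt → ℤ) := fun a => by
    rw [dot_comm, LeechHS.dot_add_left, dot_comm, dot_comm (x : GolayPt → ℤ)]
  refine ⟨?_, ?_, ?_⟩
  · rw [e, LeechSuborbits.sqNorm_neg, sqNorm_add, hw, h1, h3]; norm_num
  · rw [e, LeechSuborbits.dot_neg, hadd, hvw, h2]; norm_num
  · rw [e, LeechSuborbits.dot_neg, hadd, ← sqNorm_eq, hw, h3]; norm_num

theorem pts_base' : ptsOf v48 (LeechHS.vZ - v48) = base := by
  ext x
  have e : dotInt ((LeechHS.vZ - v48 : leechLattice) : GolayPt → ℤ) (x : GolayPt → ℤ) =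
      dotInt (LeechHS.vZ : GolayPt → ℤ) (x : GolayPt → ℤ) -
        dotInt (v48 : GolayPt → ℤ) (x : GolayPt → ℤ) := by
    simp [dotInt, sub_mul, Finset.sum_sub_distrib]
  simp only [ptsOf, base, Set.mem_ofPred_eq, e]
  constructor <;> rintro ⟨a, b, c⟩ <;> exact ⟨a, b, by omega⟩

theorem exists_map_pair (v w : leechLattice) (hv : sqNorm (v : GolayPt → ℤ) = 48)
    (hw : sqNorm (w : GolayPt → ℤ) = 48)
    (hvw : dotInt (v : GolayPt → ℤ) (w : GolayPt → ℤ) = -32) :
    ∃ g : Co0, g • v48 = v ∧ g • (LeechHS.vZ - v48) = w := by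
  obtain ⟨h1, h2, -⟩ := LeechHS.pair_facts hv hw hvw
  obtain ⟨g, hg1, hg2⟩ := LeechHS.exists_map v _ hv h1 h2
  refine ⟨g, hg1, ?_⟩
  rw [sub_eq_add_neg, smul_add', LeechSuborbits.smul_neg', hg1, hg2]
  simp

theorem smul_mem_ptsOf (g : Co0) (v w y : leechLattice) :
    g • y ∈ ptsOf (g • v) (g • w) ↔ y ∈ ptsOf v w := by
  simp only [ptsOf, Set.mem_ofPred_eq, norm_smul, dot_smul]

/-- The statement of S1633. -/
theorem main (v w : leechLattice) (hv : sqNorm (v : GolayPt → ℤ) = 48)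
    (hw : sqNorm (w : GolayPt → ℤ) = 48)
    (hvw : dotInt (v : GolayPt → ℤ) (w : GolayPt → ℤ) = -32) (F : Type) [Field F] [Fintype F]
    (hF : Fintype.card F = 25) :
    (ptsOf v w).ncard = 352 ∧ (∀ x ∈ ptsOf v w, -w - x ∈ ptsOf v w) ∧
      (∀ x ∈ ptsOf v w, ∀ x' ∈ ptsOf v w, ∃ g : Co0, g • v = v ∧ g • w = w ∧ g • x = x') ∧
      ∀ x ∈ ptsOf v w, Nonempty (↥(MulAction.stabilizer Co0 v ⊓ MulAction.stabilizer Co0 w ⊓
        MulAction.stabilizer Co0 x) ≃* Cfsg.PSU 3 F 5) := by
  obtain ⟨g, gv, gw⟩ := exists_map_pair v w hv hw hvw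
  have hback : ∀ x ∈ ptsOf v w, ∃ c : Co0, c • v48 = v ∧ c • (LeechHS.vZ - v48) = w ∧ c • vX0 = x := by
    intro x hx
    have hy : g⁻¹ • x ∈ base := by
      rw [← pts_base']
      refine (smul_mem_ptsOf g _ _ _).1 ?_
      rw [gv, gw, smul_inv_smul]
      exact hx
    obtain ⟨h, h1, h2, h3⟩ := transitive_base hy
    refine ⟨g * h, by rw [mul_smul, h1, gv], ?_, by rw [mul_smul, h3, smul_inv_smul]⟩
    rw [mul_smul, sub_eq_add_neg, smul_add', LeechSuborbits.smul_neg', h1, h2, ← sub_eq_add_neg, gw]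
  refine ⟨?_, fun x hx => neg_sub_mem v w x hw hvw hx, fun x hx x' hx' => ?_, fun x hx => ?_⟩
  · rw [← gv, ← gw, LeechMcL.ncard_transport fun y => smul_mem_ptsOf g _ _ y, pts_base', base_eq.2]
  · obtain ⟨a, a1, a2, a3⟩ := hback x hx
    obtain ⟨b, b1, b2, b3⟩ := hback x' hx'
    refine ⟨b * a⁻¹, ?_, ?_, ?_⟩
    · rw [mul_smul, inv_smul_eq_iff.2 a1.symm, b1]
    · rw [mul_smul, inv_smul_eq_iff.2 a2.symm, b2]
    · rw [mul_smul, inv_smul_eq_iff.2 a3.symm, b3]
  · obtain ⟨c, c1, c2, c3⟩ := hback x hx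
    have c2' : c • LeechHS.vZ = v + w := by
      have h := smul_add' c (LeechHS.vZ - v48) v48
      rw [sub_add_cancel, c1, c2] at h
      rw [h, add_comm]
    have hmap : stab0.map (MulAut.conj c).toMonoidHom = MulAction.stabilizer Co0 v ⊓
        MulAction.stabilizer Co0 w ⊓ MulAction.stabilizer Co0 x := by
      rw [Subgroup.map_inf_eq _ _ _ (MulAut.conj c).injective,
        Subgroup.map_inf_eq _ _ _ (MulAut.conj c).injective,
        ← MulAction.stabilizer_smul_eq_stabilizer_map_conj,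
        ← MulAction.stabilizer_smul_eq_stabilizer_map_conj,
        ← MulAction.stabilizer_smul_eq_stabilizer_map_conj, c1, c2', c3]
      ext k
      simp only [Subgroup.mem_inf, MulAction.mem_stabilizer_iff, smul_add']
      constructor
      · rintro ⟨⟨e1, e2⟩, e3⟩
        rw [e1] at e2
        exact ⟨⟨e1, add_left_cancel e2⟩, e3⟩
      · rintro ⟨⟨e1, e2⟩, e3⟩
        exact ⟨⟨e1, by rw [e1, e2]⟩, e3⟩
    obtain ⟨i⟩ := iso_base
    obtain ⟨j⟩ := psu_congr (FiniteField.ringEquivOfCardEq (K := F25) (K' := F)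
      (card_F25.trans hF.symm)) 3 5
    exact ⟨((MulEquiv.subgroupCongr hmap.symm).trans
      (stab0.equivMapOfInjective _ (MulAut.conj c).injective).symm).trans (i.trans j)⟩

end CfsgLib.Sporadic.LeechUnitaryThree
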