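import Cfsg.Agent.Lib.Sporadic.LeechUnitaryThreeData
import Cfsg.Agent.Lib.Classical.HermMatrix
import Cfsg.Agent.S0280
import Cfsg.Agent.S0283
import Cfsg.Prelude.Def_Classical
import Mathlib.Algebra.QuadraticAlgebra.Basic

/-!
# U3(5) on the 126 isotropic points

The five matrices of the data generate a subgroup that is transitive on ordered pairs of points.
-/

set_option autoImplicit false
set_option maxRecDepth 100000

namespace CfsgLib.Sporadic.LeechUnitaryThree

open Matrix

/-- The integers modulo five form a field. -/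
instance fact_prime_five : Fact (Nat.Prime 5) := ⟨by norm_num⟩

/-- Three is not a square modulo five. -/
instance fact_nonsquare : Fact (∀ r : ZMod 5, r ^ 2 ≠ 3 + 0 * r) := ⟨by decide⟩

/-- The field with twenty-five elements. -/
abbrev F25 : Type := QuadraticAlgebra (ZMod 5) 3 0

/-- The finiteness of the field. -/
noncomputable instance fintypeF25 : Fintype F25 :=
  Fintype.ofEquiv (ZMod 5 × ZMod 5) (QuadraticAlgebra.equivProd (3 : ZMod 5) 0).symm

theorem card_F25 : Fintype.card F25 = 25 := by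
  rw [Fintype.ofEquiv_card, Fintype.card_prod, ZMod.card]

theorem card_sq : Fintype.card F25 = 5 ^ 2 := by rw [card_F25]; norm_num

/-- The element of a code. -/
def ofCode (k : ℕ) : F25 := ⟨((Nat.mod k 5 : ℕ) : ZMod 5), ((Nat.div k 5 : ℕ) : ZMod 5)⟩

/-- The code of an element. -/
def toCode (x : F25) : ℕ := x.re.val + 5 * x.im.val

theorem ofCode_toCode (x : F25) : ofCode (toCode x) = x := by
  obtain ⟨a, b⟩ := x
  have key : ∀ a b : ZMod 5, ((Nat.mod (a.val + 5 * b.val) 5 : ℕ) : ZMod 5) = a ∧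
      ((Nat.div (a.val + 5 * b.val) 5 : ℕ) : ZMod 5) = b := by decide
  obtain ⟨h1, h2⟩ := key a b
  exact QuadraticAlgebra.ext h1 h2

theorem toCode_lt (x : F25) : toCode x < 25 := by
  have h1 := x.re.val_lt
  have h2 := x.im.val_lt
  unfold toCode
  omega

/-- Vectors. -/
abbrev VecThree : Type := Fin 3 → F25

/-- The representative vector of a point. -/
def isoVec (p : ℕ) : VecThree :=
  ![ofCode (Nat.mod (Nat.shiftRight isoBits (Nat.mul 15 p)) 32),
    ofCode (Nat.mod (Nat.shiftRight isoBits (Nat.add (Nat.mul 15 p) 5)) 32),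
    ofCode (Nat.mod (Nat.shiftRight isoBits (Nat.add (Nat.mul 15 p) 10)) 32)]

/-- The first nonzero coordinate of a point. -/
def leadPos (p : ℕ) : Fin 3 := Fin.ofNat 3 (Nat.mod (Nat.shiftRight leadBits (Nat.mul 2 p)) 4)

/-- An entry of the table of normalised vectors. -/
def place (k : ℕ) : ℕ := Nat.mod (Nat.shiftRight placeBits (Nat.mul 7 k)) 128

/-- A point as a permutation sees it. -/
def ptImg (i p : ℕ) : ℕ := Nat.mod (Nat.shiftRight (pointBits.getD i 0) (Nat.mul 7 p)) 128

/-- An entry of a matrix of the data. -/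
def matF (i : ℕ) : Matrix (Fin 3) (Fin 3) F25 :=
  Matrix.of fun a b => ofCode ((matCodes.getD i []).getD (3 * a.val + b.val) 0)

/-- The form on a vector and itself. -/
def nrm (a b c : F25) : F25 :=
  a * (a * a * (a * a) * a) + b * (b * b * (b * b) * b) + c * (c * c * (c * c) * c)

theorem pow_five (a : F25) : a ^ 5 = a * a * (a * a) * a := by ring

theorem herm_self (w : VecThree) : Cfsg.hermForm 3 F25 5 w w = nrm (w 0) (w 1) (w 2) := by
  simp only [Cfsg.hermForm, Fin.sum_univ_three, nrm, pow_five]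

/-- A normalised isotropic vector is the vector of its table entry. -/
def coverA (k : ℕ) : Bool :=
  !(decide (nrm 1 (ofCode (k / 25)) (ofCode (k % 25)) = 0)) ||
    (decide (place k < 126) && decide (isoVec (place k) 0 = 1) &&
      decide (isoVec (place k) 1 = ofCode (k / 25)) && decide (isoVec (place k) 2 = ofCode (k % 25)))

/-- The same with first coordinate zero. -/
def coverB (k : ℕ) : Bool :=
  !(decide (nrm 0 1 (ofCode k) = 0)) ||
    (decide (place (625 + k) < 126) && decide (isoVec (place (625 + k)) 0 = 0) &&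
      decide (isoVec (place (625 + k)) 1 = 1) && decide (isoVec (place (625 + k)) 2 = ofCode k))

theorem coverA_ok : ∀ k < 625, coverA k = true := by decide +kernel

theorem coverB_ok : ∀ k < 25, coverB k = true := by decide +kernel

theorem coverC_ok : nrm 0 0 1 ≠ (0 : F25) := by decide +kernel

theorem iso_facts : ∀ p < 126, nrm (isoVec p 0) (isoVec p 1) (isoVec p 2) = 0 ∧
    isoVec p (leadPos p) = 1 ∧ ∀ k < leadPos p, isoVec p k = 0 := by decide +kernel

theorem place_iso : ∀ p < 126, (if isoVec p 0 = 1 then place (25 * toCode (isoVec p 1) + toCode (isoVec p 2))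
    else place (625 + toCode (isoVec p 2))) = p := by decide +kernel

theorem mat_det : ∀ i < 5, (matF i).det = 1 := by decide +kernel

theorem mat_herm : ∀ i < 5, ∀ a b : Fin 3,
    matF i 0 a * matF i 0 b ^ 5 + matF i 1 a * matF i 1 b ^ 5 + matF i 2 a * matF i 2 b ^ 5 =
      if a = b then 1 else 0 := by decide +kernel

theorem mat_moves : ∀ i < 5, ∀ p < 126, ptImg i p < 126 ∧
    ∃ k < 24, ∀ a : Fin 3, matF i a 0 * isoVec p 0 + matF i a 1 * isoVec p 1 + matF i a 2 * isoVec p 2 =
      ofCode (k + 1) * isoVec (ptImg i p) a := by decide +kernel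

theorem code_ne_zero : ∀ k < 24, ofCode (k + 1) ≠ 0 := by decide +kernel

/-- The special unitary group. -/
abbrev SU3 : Type := ↥(Cfsg.SU 3 F25 5)

/-- The group. -/
abbrev G3 : Type := Cfsg.PSU 3 F25 5

/-- The image vector. -/
def app (g : SU3) (v : VecThree) : VecThree := (g.1 : Matrix (Fin 3) (Fin 3) F25) *ᵥ v

theorem app_mul (g h : SU3) (v : VecThree) : app (g * h) v = app g (app h v) := by
  unfold app
  exact (mulVec_mulVec _ _ _).symm

theorem app_one (v : VecThree) : app 1 v = v := by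
  unfold app
  exact one_mulVec v

theorem exists_point {w : VecThree} (hw : w ≠ 0) (hi : Cfsg.hermForm 3 F25 5 w w = 0) :
    ∃ i : Fin 126, ∃ l : F25, l ≠ 0 ∧ w = l • isoVec i := by
  rw [herm_self] at hi
  have hs : ∀ l a b c : F25, nrm (l * a) (l * b) (l * c) = l * (l * l * (l * l) * l) * nrm a b c := by
    intro l a b c; simp only [nrm]; ring
  by_cases h0 : w 0 = 0
  · by_cases h1 : w 1 = 0
    · have h2 : w 2 ≠ 0 := fun h2 => hw (funext fun k => by fin_cases k <;> assumption)
      have := hs (w 2) 0 0 1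
      rw [mul_zero, mul_one] at this
      rw [h0, h1, this] at hi
      exact absurd hi (mul_ne_zero (mul_ne_zero h2 (mul_ne_zero (mul_ne_zero (mul_ne_zero h2 h2)
        (mul_ne_zero h2 h2)) h2)) coverC_ok)
    · set k := toCode ((w 1)⁻¹ * w 2) with hk
      have e : w 2 = w 1 * ofCode k := by rw [hk, ofCode_toCode, ← mul_assoc, mul_inv_cancel₀ h1, one_mul]
      have := hs (w 1) 0 1 (ofCode k)
      rw [mul_zero, mul_one, ← e] at this
      rw [h0, this] at hi
      have hz : nrm 0 1 (ofCode k) = 0 := (mul_eq_zero.1 hi).resolve_left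
        (mul_ne_zero h1 (mul_ne_zero (mul_ne_zero (mul_ne_zero h1 h1) (mul_ne_zero h1 h1)) h1))
      have h := coverB_ok k (toCode_lt _)
      simp only [coverB, hz, decide_true, Bool.not_true, Bool.false_or, Bool.and_eq_true,
        decide_eq_true_eq] at h
      obtain ⟨⟨⟨hlt, e0⟩, e1⟩, e2⟩ := h
      refine ⟨⟨_, hlt⟩, w 1, h1, funext fun a => ?_⟩
      fin_cases a
      · exact h0.trans (by show 0 = w 1 * isoVec _ 0; rw [e0, mul_zero])
      · show w 1 = w 1 * isoVec _ 1
        rw [e1, mul_one]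
      · show w 2 = w 1 * isoVec _ 2
        rw [e2, ← e]
  · set a := toCode ((w 0)⁻¹ * w 1) with ha
    set b := toCode ((w 0)⁻¹ * w 2) with hb
    have e1' : w 1 = w 0 * ofCode a := by
      rw [ha, ofCode_toCode, ← mul_assoc, mul_inv_cancel₀ h0, one_mul]
    have e2' : w 2 = w 0 * ofCode b := by
      rw [hb, ofCode_toCode, ← mul_assoc, mul_inv_cancel₀ h0, one_mul]
    have hka : (25 * a + b) / 25 = a := by have := toCode_lt ((w 0)⁻¹ * w 2); omega
    have hkb : (25 * a + b) % 25 = b := by have := toCode_lt ((w 0)⁻¹ * w 2); omega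
    have := hs (w 0) 1 (ofCode a) (ofCode b)
    rw [mul_one, ← e1', ← e2'] at this
    rw [this] at hi
    have hz : nrm 1 (ofCode a) (ofCode b) = 0 := (mul_eq_zero.1 hi).resolve_left
      (mul_ne_zero h0 (mul_ne_zero (mul_ne_zero (mul_ne_zero h0 h0) (mul_ne_zero h0 h0)) h0))
    have h := coverA_ok (25 * a + b) (by
      have h1 := toCode_lt ((w 0)⁻¹ * w 1); have h2 := toCode_lt ((w 0)⁻¹ * w 2); omega)
    simp only [coverA, hka, hkb, hz, decide_true, Bool.not_true, Bool.false_or, Bool.and_eq_true,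
      decide_eq_true_eq] at h
    obtain ⟨⟨⟨hlt, e0⟩, e1⟩, e2⟩ := h
    refine ⟨⟨_, hlt⟩, w 0, h0, funext fun c => ?_⟩
    fin_cases c
    · show w 0 = w 0 * isoVec _ 0
      rw [e0, mul_one]
    · show w 1 = w 0 * isoVec _ 1
      rw [e1, ← e1']
    · show w 2 = w 0 * isoVec _ 2
      rw [e2, ← e2']

theorem point_unique {i j : Fin 126} {l m : F25} (hl : l ≠ 0) (hm : m ≠ 0)
    (h : l • isoVec i = m • isoVec j) : i = j := by
  obtain ⟨-, hi1, hi0⟩ := iso_facts i i.2
  obtain ⟨-, hj1, hj0⟩ := iso_facts j j.2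
  have hk : ∀ a, l * isoVec i a = m * isoVec j a := fun a => congrFun h a
  have hle : leadPos i = leadPos j := by
    rcases lt_trichotomy (leadPos i) (leadPos j) with hlt | he | hlt
    · have := hk (leadPos i)
      rw [hi1, hj0 _ hlt, mul_one, mul_zero] at this
      exact absurd this hl
    · exact he
    · have := hk (leadPos j)
      rw [hj1, hi0 _ hlt, mul_one, mul_zero] at this
      exact absurd this.symm hm
  have hlm : l = m := by
    have := hk (leadPos i)
    rwa [hi1, hle, hj1, mul_one, mul_one] at this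
  have hv : isoVec i = isoVec j := funext fun a => mul_left_cancel₀ hl (hlm ▸ hk a)
  apply Fin.ext
  rw [← place_iso i i.2, hv, place_iso j j.2]

theorem exists_image (g : SU3) (i : Fin 126) :
    ∃ j : Fin 126, ∃ l : F25, l ≠ 0 ∧ app g (isoVec i) = l • isoVec j := by
  obtain ⟨hiso, hone, -⟩ := iso_facts i i.2
  refine exists_point (fun h => ?_) ?_
  · have e := congrArg (app g⁻¹) h
    rw [← app_mul, inv_mul_cancel, app_one, show app g⁻¹ 0 = 0 from mulVec_zero _] at e
    have := congrFun e (leadPos i)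
    rw [hone] at this
    exact one_ne_zero this
  · exact (g.2 (isoVec i) (isoVec i)).trans ((herm_self _).trans hiso)

/-- The image of a point. -/
noncomputable def pi (g : SU3) (i : Fin 126) : Fin 126 := (exists_image g i).choose

theorem pi_eq {g : SU3} {i j : Fin 126} {l : F25} (hl : l ≠ 0)
    (h : app g (isoVec i) = l • isoVec j) : pi g i = j := by
  obtain ⟨m, hm, e⟩ := (exists_image g i).choose_spec
  exact point_unique hm hl (e.symm.trans h)

theorem pi_spec (g : SU3) (i : Fin 126) :
    ∃ l : F25, l ≠ 0 ∧ app g (isoVec i) = l • isoVec (pi g i) :=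
  (exists_image g i).choose_spec

theorem pi_one (i : Fin 126) : pi 1 i = i := pi_eq one_ne_zero (by rw [app_one, one_smul])

theorem app_smul (g : SU3) (l : F25) (v : VecThree) : app g (l • v) = l • app g v :=
  mulVec_smul _ _ _

theorem pi_mul (g h : SU3) (i : Fin 126) : pi (g * h) i = pi g (pi h i) := by
  obtain ⟨m, hm, e⟩ := pi_spec h i
  obtain ⟨l, hl, e'⟩ := pi_spec g (pi h i)
  refine pi_eq (mul_ne_zero hm hl) ?_
  rw [app_mul, e, app_smul, e', smul_smul]

/-- The action on the points. -/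
noncomputable def psiSU : SU3 →* Equiv.Perm (Fin 126) where
  toFun g :=
    { toFun := pi g
      invFun := pi g⁻¹
      left_inv := fun i => by rw [← pi_mul, inv_mul_cancel, pi_one]
      right_inv := fun i => by rw [← pi_mul, mul_inv_cancel, pi_one] }
  map_one' := Equiv.ext pi_one
  map_mul' g h := Equiv.ext (pi_mul g h)

theorem center_le_ker : Subgroup.center SU3 ≤ psiSU.ker := by
  intro g hg
  obtain ⟨c, hc⟩ := CfsgLib.Classical.scalar_of_commute card_sq (by norm_num)
    (g.1 : Matrix (Fin 3) (Fin 3) F25) fun x hx hx1 =>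
    congrArg (fun B : SU3 => (B.1 : Matrix (Fin 3) (Fin 3) F25))
      (Subgroup.mem_center_iff.1 hg ⟨⟨(x : Matrix (Fin 3) (Fin 3) F25), congrArg Units.val hx1⟩, hx⟩).symm
  have hc0 : c ≠ 0 := fun h => by
    have hd := g.1.2
    rw [hc, h] at hd
    simp at hd
  refine MonoidHom.mem_ker.2 (Equiv.ext fun i => pi_eq hc0 ?_)
  show app g (isoVec i) = _
  rw [app, hc, smul_mulVec, one_mulVec]
  rfl

/-- The action of the projective group on the points. -/
noncomputable def psi : G3 →* Equiv.Perm (Fin 126) := QuotientGroup.lift _ psiSU center_le_ker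

theorem card_G3 : Nat.card G3 = 126000 := by
  have h := Cfsg.Agent.S0280.result (F := F25) (q := 5) card_sq 3 (by norm_num)
  norm_num [Finset.prod_range_succ, Nat.even_iff] at h
  show Nat.card (Cfsg.PSU 3 F25 5) = 126000
  omega

theorem simple_G3 : IsSimpleGroup G3 :=
  Cfsg.Agent.S0283.result (F := F25) (q := 5) card_sq 3 (by norm_num) (by norm_num)

theorem mat_mem (i : ℕ) (hi : i < 5) :
    (⟨matF i, mat_det i hi⟩ : SpecialLinearGroup (Fin 3) F25) ∈ Cfsg.SU 3 F25 5 := by
  intro u v
  have : CharP F25 5 := charP_of_card_eq_prime_pow (f := 2) card_sq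
  have : ExpChar F25 5 := ExpChar.prime Fact.out
  show ∑ k, ((matF i).mulVec u) k * ((matF i).mulVec v) k ^ 5 = ∑ k, u k * v k ^ 5
  simp only [Matrix.mulVec, dotProduct, Fin.sum_univ_three, add_pow_char, mul_pow]
  have h := mat_herm i hi
  have e00 := h 0 0; have e01 := h 0 1; have e02 := h 0 2
  have e10 := h 1 0; have e11 := h 1 1; have e12 := h 1 2
  have e20 := h 2 0; have e21 := h 2 1; have e22 := h 2 2
  simp at e00 e01 e02 e10 e11 e12 e20 e21 e22
  linear_combination (u 0 * v 0 ^ 5) * e00 + (u 0 * v 1 ^ 5) * e01 + (u 0 * v 2 ^ 5) * e02 +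
    (u 1 * v 0 ^ 5) * e10 + (u 1 * v 1 ^ 5) * e11 + (u 1 * v 2 ^ 5) * e12 +
    (u 2 * v 0 ^ 5) * e20 + (u 2 * v 1 ^ 5) * e21 + (u 2 * v 2 ^ 5) * e22

theorem gen_mem_range (i : ℕ) (hi : i < 5) (σ : Equiv.Perm (Fin 126))
    (hσ : ∀ p, ((σ p : Fin 126) : ℕ) = ptImg i p) : σ ∈ psi.range := by
  refine ⟨QuotientGroup.mk (⟨_, mat_mem i hi⟩ : SU3), Equiv.ext fun p => ?_⟩
  obtain ⟨-, k, hk, h⟩ := mat_moves i hi p p.2
  refine pi_eq (code_ne_zero k hk) (funext fun a => ?_)
  show (matF i *ᵥ isoVec p) a = ofCode (k + 1) * isoVec ((σ p : Fin 126) : ℕ) a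
  rw [hσ, ← h a]
  simp [Matrix.mulVec, dotProduct, Fin.sum_univ_three]

end CfsgLib.Sporadic.LeechUnitaryThree
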