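import Cfsg.Agent.Lib.Sporadic.LeechUnitaryThreeData
import Cfsg.Agent.Lib.Sporadic.LeechUnitaryThreeModel
import Cfsg.Agent.Lib.Sporadic.LeechStepFast
import Cfsg.Agent.Lib.Sporadic.LeechSubTools
import Cfsg.Agent.Lib.Sporadic.CosetCertBelow
import Cfsg.Agent.Lib.SmallGroups.LeechHS

/-!
# Checks on the data for the 352 vectors of the Higman-Sims group
-/

set_option autoImplicit false
set_option maxRecDepth 100000

namespace CfsgLib.Sporadic.LeechUnitaryThree

open Cfsg CfsgLib.SmallGroups CfsgLib.SmallGroups.Golay CfsgLib.SmallGroups.LeechOrbit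
  CfsgLib.SmallGroups.LeechLists CfsgLib.SmallGroups.LeechPairs CfsgLib.SmallGroups.LeechVectorStab
  CfsgLib.SmallGroups.LeechEnum CfsgLib.SmallGroups.LeechParamCount
open scoped Pointwise

/-- The code number of one of the 252 vectors. -/
def qc (j : ℕ) : ℕ := Nat.mod (Nat.shiftRight qBits (Nat.mul 96 j)) 79228162514264337593543950336

/-- The image of one of the 252 vectors under an automorphism. -/
def qImg (i j : ℕ) : ℕ := Nat.mod (Nat.shiftRight (qPermBits.getD i 0) (Nat.mul 8 j)) 256

/-- The image of a point under a product of automorphisms. -/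
def ptImgs (L : List ℕ) (p : ℕ) : ℕ := L.foldl (fun a i => ptImg i a) p

theorem cert352 : cert LeechHSData.gens4 [kU, LeechHS.kZ] kX0 tree352 = true := by decide +kernel

theorem canon352 : canon tree352 = true := by decide +kernel

theorem length352 : tree352.keys.length = 352 := by decide +kernel

theorem start_ok : (LeechReach.okGood 0 (Pk kX0) = true ∧ tree352.has kX0 = true) ∧
    dotK kX0 kX0 = 32 ∧ dotK kU kX0 = 16 ∧ dotK LeechHS.kZ kX0 = -8 := by decide +kernel

theorem gens_ok : gensOK words [kU, LeechHS.kZ, kX0] = true := by decide +kernel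

theorem qc_good : ∀ j < 252, (LeechReach.okGood 0 (Pk (qc j)) || LeechReach.okGood 1 (Pk (qc j))) = true := by
  decide +kernel

theorem qc_lt : ∀ j < 252, qc j < 16 ^ 24 := fun j _ =>
  lt_of_lt_of_eq (Nat.mod_lt _ (by norm_num)) (by norm_num)

theorem qc_nodup : ((List.range 252).map qc).Nodup := by decide +kernel

/-- An automorphism acts on the 252 vectors and on the points as listed. -/
noncomputable def runOK (i : ℕ) : Bool :=
  CosetCert.allBelow (fun j => LeechStepFast.runEq (words.getD i []) (qc j) (qc (qImg i j)) &&
    Nat.blt (qImg i j) 252) 252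

theorem run_ok0 : runOK 0 = true := by decide +kernel
theorem run_ok1 : runOK 1 = true := by decide +kernel
theorem run_ok2 : runOK 2 = true := by decide +kernel
theorem run_ok3 : runOK 3 = true := by decide +kernel
theorem run_ok4 : runOK 4 = true := by decide +kernel

theorem pair_ok : ∀ i < 5, ∀ p < 126, qImg i (2 * p) / 2 = ptImg i p ∧
    qImg i (2 * p + 1) / 2 = ptImg i p ∧ qImg i (2 * p) ≠ qImg i (2 * p + 1) ∧ ptImg i p < 126 := by
  decide +kernel

theorem toPoint_ok : ∀ p < 126, (toPoint.getD p []).all (fun i => decide (i < 5)) = true ∧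
    ptImgs (toPoint.getD p []) 0 = p := by decide +kernel

theorem toSecond_ok : ∀ q < 125, (toSecond.getD q []).all (fun i => decide (i < 5)) = true ∧
    ptImgs (toSecond.getD q []) 0 = 0 ∧ ptImgs (toSecond.getD q []) 1 = q + 1 := by decide +kernel

/-- The test on the difference of two coordinates. -/
def testZ : Test where
  pair i j a b := 4 * (pairF i j a b 23 - pairF i j a b 0) == -8
  oct o _ n := 4 * (octF o n 23 - octF o n 0) == -8
  oddPre _ := true
  odd c p := 4 * (oddF c p 23 - oddF c p 0) == -8

theorem sound_testZ : Sound testZ fun x => 4 * (x none - x (some 0)) = -8 := by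
  have key : ∀ f : ℕ → ℤ, 4 * (ofPos f none - ofPos f (some 0)) = -8 →
      (4 * (f 23 - f 0) == -8) = true := fun f h => by
    simp only [ofPos, Sporadic.M24Config.idx_none, Sporadic.M24Config.idx_zero] at h
    simpa using h
  exact ⟨fun i j a b _ _ _ h => key _ h, fun o n k _ _ _ h => key _ h,
    fun c p _ h => ⟨rfl, key _ h⟩⟩

/-- Both tests for the base pair. -/
def testBase : Test := LeechSubTools.andTest testZ (test48 16)

theorem count_pair : cntPair testBase = 0 := by decide +kernel

theorem count_oct : cntOct testBase = 176 := by decide +kernel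

theorem count_odd : cntOdd testBase = 176 := by decide +kernel

theorem count_base : cnt testBase = 352 := by rw [cnt, count_pair, count_oct, count_odd]

end CfsgLib.Sporadic.LeechUnitaryThree
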