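import Mathlib.Data.Nat.Notation

/-!
Tables for the double cover of the Mathieu group of degree twelve.
-/

set_option autoImplicit false

namespace CfsgLib.Sporadic.M12Cover

/-- An element of order four in the stabiliser of two points. -/
def uT : List ℕ := [0,1,18,12,4,17,6,20,13,3,15,14,16,2,7,10,9,21,8,22,11,23,19,5]

/-- An element inverting it. -/
def vT : List ℕ := [0,1,16,2,4,20,6,23,3,18,22,17,13,9,5,19,8,7,12,15,21,14,10,11]

/-- A conjugating element. -/
def xT : List ℕ := [0,1,4,3,8,19,2,17,6,12,22,7,18,9,20,5,16,23,13,21,14,15,10,11]

/-- The conjugate. -/
def yT : List ℕ := [0,1,2,18,13,22,9,20,8,4,21,19,3,6,7,11,12,14,16,23,17,10,5,15]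

/-- An involution exchanging the two points. -/
def wT : List ℕ := [1,0,2,18,8,15,6,23,4,16,11,10,12,13,14,5,9,22,3,19,20,21,17,7]

/-- An involution moving the second point. -/
def mT : List ℕ := [0,12,2,6,13,7,3,5,8,16,15,23,1,4,14,10,9,17,18,19,22,21,20,11]

/-- The first of a commuting pair. -/
def pT : List ℕ := [1,0,18,12,6,17,4,14,13,16,19,20,3,8,7,22,9,5,2,10,11,23,15,21]

/-- The second of a commuting pair. -/
def qT : List ℕ := [13,8,6,9,18,21,2,10,1,3,7,15,16,0,19,11,12,23,4,14,22,5,20,17]

/-- Targets and words (`true`: the conjugate) moving the point 2. -/
def move0 : List (ℕ × List Bool) := [(2, []), (3, [false,false,true,false]), (4, [true,false,true,false]), (6, [true,false,false,false]), (8, [false,false]), (9, [false,true,false]), (12, [true,true,false]), (13, [false,false,false]), (16, [true,false]), (18, [false])]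

/-- Targets and words (`true`: the conjugate) moving the point 3. -/
def move1 : List (ℕ × List Bool) := [(3, []), (4, [true,false,false,true,false,false]), (6, [false,false,true,false,false,true]), (8, [false,true,true,false,true,false]), (9, [false,false,true,false,false]), (12, [true,true,true]), (13, [true,true,false,false,true,false,false]), (16, [true,true]), (18, [true])]

/-- Targets and words (`true`: the conjugate) moving the point 4. -/
def move2 : List (ℕ × List Bool) := [(4, []), (6, [false,false,true,false,true,false,false,true,false,true]), (8, [false,true,false,true,true,true,false,false,false]), (9, [false,true,false,true,true,false,true,false,false,false]), (12, [false,false,false,true,false,false,true,false]), (13, [false,true,true,true,false,false,false,true,false,false,false]), (16, [false,true,true,false,true,false,true]), (18, [false,true,true,true,false,true,false,false,false])]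

/-- The dodecad point of each position of the array. -/
def dPt : List ℕ := [0,1,2,3,4,12,13,8,9,18,6,16]

/-- Permutation of the positions and signs (`true`: negate). -/
def uS : List ℕ × List Bool := ([0,1,9,5,4,11,2,6,3,7,10,8], [true,false,true,true,true,false,true,false,true,false,false,false])

/-- Permutation of the positions and signs (`true`: negate). -/
def yS : List ℕ × List Bool := ([0,1,2,9,6,3,10,7,4,11,8,5], [false,true,true,false,false,false,false,false,false,false,false,false])

/-- Permutation of the positions and signs (`true`: negate). -/
def wS : List ℕ × List Bool := ([1,0,2,9,7,5,6,4,11,3,10,8], [true,true,false,false,false,false,false,false,false,false,false,false])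

/-- Permutation of the positions and signs (`true`: negate). -/
def mS : List ℕ × List Bool := ([0,5,2,10,6,1,4,7,11,9,3,8], [false,false,false,true,true,false,true,false,false,false,true,false])

/-- Permutation of the positions and signs (`true`: negate). -/
def pS : List ℕ × List Bool := ([1,0,9,5,10,3,7,6,11,2,4,8], [false,true,true,true,true,false,true,false,true,false,false,false])

/-- Permutation of the positions and signs (`true`: negate). -/
def qS : List ℕ × List Bool := ([6,7,10,8,9,11,0,1,3,4,2,5], [true,true,false,false,true,true,false,false,true,false,true,false])

end CfsgLib.Sporadic.M12Cover
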