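import Cfsg.Agent.Lib.Sporadic.MathieuMultiplier
import Cfsg.Agent.Lib.Sporadic.M12CoverData
import Cfsg.Agent.Lib.Sporadic.M12Sylow
import Cfsg.Agent.Lib.KnownA.M11Multiplier

/-!
Generators of the Mathieu group of degree twelve and of a two point stabiliser.
-/

set_option autoImplicit false
set_option maxRecDepth 100000

open Equiv Subgroup
open scoped Pointwise

namespace CfsgLib.Sporadic.M12Cover

open Cfsg CfsgLib.SmallGroups.Golay CfsgLib.SmallGroups.GolayOctads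
  CfsgLib.SmallGroups.M24Group CfsgLib.Sporadic.MathieuMultiplier
open CfsgLib.Sporadic.M12Sylow (square_mem)

/-- The group. -/
abbrev Q12 : Type := ↥Spor.M12
/-- Its twelve points. -/
abbrev D12 : Finset GolayPt := Spor.squareDodecad

/-- The table of an element of the group. -/
def IsEl (l : List ℕ) : Prop := IsTbl l ∧ Finset.image (tfun l) D12 = D12

instance (l : List ℕ) : Decidable (IsEl l) := inferInstanceAs (Decidable (_ ∧ _))

/-- The element with a given table. -/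
def ofTbl (l : List ℕ) (h : IsEl l) : Q12 :=
  ⟨tperm l h.1, tperm_mem l h.1, h.2⟩

theorem ofTbl_apply (l : List ℕ) (h : IsEl l) (q : GolayPt) :
    (ofTbl l h : Perm GolayPt) q = tfun l q := rfl

theorem ext_el {g g' : Q12} (h : ∀ q, (g : Perm GolayPt) q = (g' : Perm GolayPt) q) : g = g' :=
  Subtype.ext (Equiv.ext h)

theorem tbl_ok : IsEl uT ∧ IsEl vT ∧ IsEl xT ∧ IsEl yT ∧ IsEl wT ∧ IsEl mT ∧ IsEl pT ∧ IsEl qT := by
  decide +kernel

/-- An element of order four. -/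
def eu : Q12 := ofTbl uT tbl_ok.1
/-- An element inverting it. -/
def ev : Q12 := ofTbl vT tbl_ok.2.1
/-- A conjugating element. -/
def ex : Q12 := ofTbl xT tbl_ok.2.2.1
/-- A conjugate. -/
def ey : Q12 := ofTbl yT tbl_ok.2.2.2.1
/-- An involution exchanging two points. -/
def ew : Q12 := ofTbl wT tbl_ok.2.2.2.2.1
/-- An involution fixing the first point. -/
def em : Q12 := ofTbl mT tbl_ok.2.2.2.2.2.1
/-- The first of a commuting pair. -/
def ep : Q12 := ofTbl pT tbl_ok.2.2.2.2.2.2.1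
/-- The second of a commuting pair. -/
def eq' : Q12 := ofTbl qT tbl_ok.2.2.2.2.2.2.2

/-- The stabiliser of a point. -/
def fixPt (p : GolayPt) : Subgroup Q12 :=
  (MulAction.stabilizer (Perm GolayPt) p).comap Spor.M12.subtype

theorem mem_fixPt {p : GolayPt} {g : Q12} : g ∈ fixPt p ↔ (g : Perm GolayPt) p = p := Iff.rfl

theorem apply_mul (g h : Q12) (q : GolayPt) :
    ((g * h : Q12) : Perm GolayPt) q = (g : Perm GolayPt) ((h : Perm GolayPt) q) := rfl

theorem inv_apply_of {g : Q12} {p q : GolayPt} (h : (g : Perm GolayPt) p = q) :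
    ((g⁻¹ : Q12) : Perm GolayPt) q = p := by
  rw [← h]; exact (g : Perm GolayPt).symm_apply_apply p

theorem apply_mem (g : Q12) {p : GolayPt} (hp : p ∈ D12) : (g : Perm GolayPt) p ∈ D12 := by
  have h : (g : Perm GolayPt) • D12 = D12 := g.2.2
  exact Finset.subset_of_eq h (Finset.smul_mem_smul_finset hp)

/-- The product of a word in `eu`, `ey`. -/
def wordEl (w : List Bool) : Q12 := w.foldr (fun b g => (bif b then ey else eu) * g) 1

/-- The map of a word. -/
def wordFun (w : List Bool) (q : GolayPt) : GolayPt :=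
  w.foldr (fun b r => tfun (bif b then yT else uT) r) q

theorem wordEl_apply (w : List Bool) (q : GolayPt) :
    (wordEl w : Perm GolayPt) q = wordFun w q := by
  induction w with
  | nil => rfl
  | cons b w ih =>
    show ((bif b then ey else eu : Q12) : Perm GolayPt) ((wordEl w : Perm GolayPt) q) =
      tfun (bif b then yT else uT) (wordFun w q)
    rw [ih]
    cases b <;> rfl

theorem wordEl_mem (w : List Bool) : wordEl w ∈ closure ({eu, ey} : Set Q12) := by
  induction w with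
  | nil => exact one_mem _
  | cons b w ih =>
    refine mul_mem ?_ ih
    cases b
    · exact subset_closure (Or.inl rfl)
    · exact subset_closure (Or.inr rfl)

theorem move0_ok : ∀ q ∈ D12, q ≠ pt 0 → q ≠ pt 1 → ∃ e ∈ move0, wordFun e.2 (pt 2) = q := by
  decide +kernel

theorem move1_ok : (∀ e ∈ move1, wordFun e.2 (pt 2) = pt 2) ∧
    ∀ q ∈ D12, q ≠ pt 0 → q ≠ pt 1 → q ≠ pt 2 → ∃ e ∈ move1, wordFun e.2 (pt 3) = q := by
  decide +kernel

theorem move2_ok : (∀ e ∈ move2, wordFun e.2 (pt 2) = pt 2 ∧ wordFun e.2 (pt 3) = pt 3) ∧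
    ∀ q ∈ D12, q ≠ pt 0 → q ≠ pt 1 → q ≠ pt 2 → q ≠ pt 3 →
      ∃ e ∈ move2, wordFun e.2 (pt 4) = q := by
  decide +kernel

/-- The first five points. -/
def five (i : Fin 5) : GolayPt := pt i.val

theorem five_ok : Function.Injective five ∧ (∀ i, five i ∈ D12) ∧
    (pt 12 : GolayPt) ∈ D12 ∧ pt 12 ≠ pt 0 ∧ pt 12 ≠ pt 1 := by decide +kernel

theorem pts_mem : pt 0 ∈ D12 ∧ pt 1 ∈ D12 ∧ pt 2 ∈ D12 ∧ pt 3 ∈ D12 ∧ pt 4 ∈ D12 :=
  ⟨five_ok.2.1 0, five_ok.2.1 1, five_ok.2.1 2, five_ok.2.1 3, five_ok.2.1 4⟩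

theorem gens_fix : (eu : Perm GolayPt) (pt 0) = pt 0 ∧ (eu : Perm GolayPt) (pt 1) = pt 1 ∧
    (ey : Perm GolayPt) (pt 0) = pt 0 ∧ (ey : Perm GolayPt) (pt 1) = pt 1 := by
  simp only [eu, ey, ofTbl_apply]; decide +kernel

theorem closure_pair_le : closure ({eu, ey} : Set Q12) ≤ fixPt (pt 0) ⊓ fixPt (pt 1) := by
  rw [closure_le]
  rintro g (rfl | rfl)
  · exact ⟨gens_fix.1, gens_fix.2.1⟩
  · exact ⟨gens_fix.2.2.1, gens_fix.2.2.2⟩

/-- The stabiliser of two points is generated by two elements of order four. -/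
theorem fix_two_eq : fixPt (pt 0) ⊓ fixPt (pt 1) = closure ({eu, ey} : Set Q12) := by
  refine le_antisymm (fun g hg => ?_) closure_pair_le
  obtain ⟨hne0, hne1, hne2, hne3, hne4⟩ : ((pt 2 : GolayPt) ≠ pt 0 ∧ pt 2 ≠ pt 1) ∧
      ((pt 3 : GolayPt) ≠ pt 0 ∧ pt 3 ≠ pt 1 ∧ pt 3 ≠ pt 2) ∧
      ((pt 4 : GolayPt) ≠ pt 0 ∧ pt 4 ≠ pt 1) ∧ (pt 4 : GolayPt) ≠ pt 2 ∧ pt 4 ≠ pt 3 := by
    decide +kernel
  have ne : ∀ (g : Q12) (p q : GolayPt), (g : Perm GolayPt) q = q → p ≠ q →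
      (g : Perm GolayPt) p ≠ q :=
    fun g p q hq hpq e => hpq ((g : Perm GolayPt).injective (e.trans hq.symm))
  -- move the third point back
  obtain ⟨e, -, he⟩ := move0_ok _ (apply_mem g pts_mem.2.2.1) (ne g _ _ hg.1 hne0.1)
    (ne g _ _ hg.2 hne0.2)
  have hw := closure_pair_le (wordEl_mem e.2)
  set g1 := (wordEl e.2)⁻¹ * g with hg1
  have hg1' : g1 ∈ fixPt (pt 0) ⊓ fixPt (pt 1) := mul_mem (inv_mem hw) hg
  have h12 : (g1 : Perm GolayPt) (pt 2) = pt 2 := by
    rw [hg1, apply_mul]; exact inv_apply_of (by rw [wordEl_apply, he])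
  -- the fourth
  obtain ⟨e', hem', he'⟩ := move1_ok.2 _ (apply_mem g1 pts_mem.2.2.2.1)
    (ne g1 _ _ hg1'.1 hne1.1) (ne g1 _ _ hg1'.2 hne1.2.1) (ne g1 _ _ h12 hne1.2.2)
  have hw' := closure_pair_le (wordEl_mem e'.2)
  set g2 := (wordEl e'.2)⁻¹ * g1 with hg2
  have hg2' : g2 ∈ fixPt (pt 0) ⊓ fixPt (pt 1) := mul_mem (inv_mem hw') hg1'
  have h22 : (g2 : Perm GolayPt) (pt 2) = pt 2 := by
    rw [hg2, apply_mul, h12]; exact inv_apply_of (by rw [wordEl_apply, move1_ok.1 e' hem'])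
  have h23 : (g2 : Perm GolayPt) (pt 3) = pt 3 := by
    rw [hg2, apply_mul]; exact inv_apply_of (by rw [wordEl_apply, he'])
  -- the fifth
  obtain ⟨e'', hem'', he''⟩ := move2_ok.2 _ (apply_mem g2 pts_mem.2.2.2.2)
    (ne g2 _ _ hg2'.1 hne2.1) (ne g2 _ _ hg2'.2 hne2.2) (ne g2 _ _ h22 hne3)
    (ne g2 _ _ h23 hne4)
  have hw'' := closure_pair_le (wordEl_mem e''.2)
  set g3 := (wordEl e''.2)⁻¹ * g2 with hg3
  have hg3' : g3 ∈ fixPt (pt 0) ⊓ fixPt (pt 1) := mul_mem (inv_mem hw'') hg2'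
  have h32 : (g3 : Perm GolayPt) (pt 2) = pt 2 := by
    rw [hg3, apply_mul, h22]
    exact inv_apply_of (by rw [wordEl_apply, (move2_ok.1 e'' hem'').1])
  have h33 : (g3 : Perm GolayPt) (pt 3) = pt 3 := by
    rw [hg3, apply_mul, h23]
    exact inv_apply_of (by rw [wordEl_apply, (move2_ok.1 e'' hem'').2])
  have h34 : (g3 : Perm GolayPt) (pt 4) = pt 4 := by
    rw [hg3, apply_mul]; exact inv_apply_of (by rw [wordEl_apply, he''])
  have h1 : g3 = 1 := by
    refine Subtype.ext (CfsgLib.SmallGroups.Mathieu.dodecad_rigid square_mem five_ok.1 five_ok.2.1 g3.2.1 g3.2.2 fun i => ?_)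
    fin_cases i
    · exact hg3'.1
    · exact hg3'.2
    · exact h32
    · exact h33
    · exact h34
  have hgeq : g = wordEl e.2 * (wordEl e'.2 * (wordEl e''.2 * g3)) := by
    simp only [hg3, hg2, hg1, mul_inv_cancel_left]
  rw [hgeq, h1, mul_one]
  exact mul_mem (wordEl_mem _) (mul_mem (wordEl_mem _) (wordEl_mem _))

/-- The two point stabiliser is transitive on the other points. -/
theorem exists_fix_two {t : GolayPt} (ht : t ∈ D12) (h0 : t ≠ pt 0) (h1 : t ≠ pt 1) :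
    ∃ h ∈ fixPt (pt 0) ⊓ fixPt (pt 1), (h : Perm GolayPt) (pt 12) = t := by
  obtain ⟨e, -, he⟩ := move0_ok t ht h0 h1
  obtain ⟨e', -, he'⟩ := move0_ok (pt 12) five_ok.2.2.1 five_ok.2.2.2.1 five_ok.2.2.2.2
  refine ⟨wordEl e.2 * (wordEl e'.2)⁻¹,
    closure_pair_le (mul_mem (wordEl_mem _) (inv_mem (wordEl_mem _))), ?_⟩
  rw [apply_mul, inv_apply_of (p := pt 2) (by rw [wordEl_apply, he']), wordEl_apply, he]

theorem wm_facts : (ew : Perm GolayPt) (pt 0) = pt 1 ∧ (ew : Perm GolayPt) (pt 1) = pt 0 ∧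
    (ew : Perm GolayPt) (pt 2) = pt 2 ∧ (em : Perm GolayPt) (pt 0) = pt 0 ∧
    (em : Perm GolayPt) (pt 2) = pt 2 ∧ (em : Perm GolayPt) (pt 1) = pt 12 := by
  simp only [ew, em, ofTbl_apply]; decide +kernel

/-- The point stabiliser is transitive on the other points. -/
theorem exists_fix_one {t : GolayPt} (ht : t ∈ D12) (h0 : t ≠ pt 0) :
    ∃ h ∈ fixPt (pt 0), (h : Perm GolayPt) (pt 1) = t ∧
      h ∈ closure ({eu, ey, ew, em} : Set Q12) := by
  rcases eq_or_ne t (pt 1) with rfl | h1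
  · exact ⟨1, one_mem _, rfl, one_mem _⟩
  obtain ⟨h, hh, hht⟩ := exists_fix_two ht h0 h1
  refine ⟨h * em, mul_mem hh.1 wm_facts.2.2.2.1, by rw [apply_mul, wm_facts.2.2.2.2.2, hht], ?_⟩
  rw [fix_two_eq] at hh
  refine mul_mem ?_ (subset_closure (by simp))
  exact closure_mono (Set.insert_subset_insert (Set.singleton_subset_iff.2 (by simp))) hh

theorem pt_zero : (pt 0 : GolayPt) = some 0 := by decide +kernel

theorem mem_fix_zero {g : Q12} :
    g ∈ fixPt (pt 0) ↔ (g : Perm GolayPt) (some 0) = some 0 := by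
  rw [mem_fixPt, pt_zero]

theorem top_of_gens : closure ({eu, ey, ew, em} : Set Q12) = ⊤ := by
  have h1 : fixPt (pt 0) ≤ closure ({eu, ey, ew, em} : Set Q12) := by
    intro g hg
    have hne : (g : Perm GolayPt) (pt 1) ≠ pt 0 := fun e =>
      (by decide +kernel : (pt 1 : GolayPt) ≠ pt 0)
        ((g : Perm GolayPt).injective (e.trans hg.symm))
    obtain ⟨h, hh, hht, hcl⟩ := exists_fix_one (apply_mem g pts_mem.2.1) hne
    have hk : h⁻¹ * g ∈ fixPt (pt 0) ⊓ fixPt (pt 1) :=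
      Subgroup.mem_inf.2 ⟨mul_mem (inv_mem hh) hg, mem_fixPt.2 (by rw [apply_mul]; exact inv_apply_of hht)⟩
    rw [fix_two_eq] at hk
    have := mul_mem hcl
      (closure_mono (Set.insert_subset_insert (Set.singleton_subset_iff.2 (by simp))) hk)
    rwa [mul_inv_cancel_left] at this
  rw [eq_top_iff]
  intro g _
  rcases eq_or_ne ((g : Perm GolayPt) (pt 0)) (pt 0) with h0 | h0
  · exact h1 h0
  obtain ⟨h, hh, hht, hcl⟩ := exists_fix_one (apply_mem g pts_mem.1) h0
  have hk : (h * ew)⁻¹ * g ∈ fixPt (pt 0) :=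
    mem_fixPt.2 (by rw [apply_mul]; exact inv_apply_of (by rw [apply_mul, wm_facts.1, hht]))
  have := mul_mem (mul_mem hcl (subset_closure (by simp : ew ∈ ({eu, ey, ew, em} : Set Q12))))
    (h1 hk)
  rwa [mul_inv_cancel_left] at this

/-- The point stabiliser is the smaller group. -/
def equivM11 : fixPt (pt 0) ≃* ↥Spor.M11 where
  toFun g := ⟨g.1.1, g.1.2, mem_fix_zero.1 g.2⟩
  invFun g := ⟨⟨g.1, g.2.1⟩, mem_fix_zero.2 g.2.2⟩
  left_inv _ := rfl
  right_inv _ := rfl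
  map_mul' _ _ := rfl

theorem simple_fix : IsSimpleGroup (fixPt (pt 0)) := by
  let e : ↥(MulAction.stabilizer M24 D12 ⊓ MulAction.stabilizer M24 (some 0 : GolayPt)) ≃*
      ↥(fixPt (pt 0)) :=
    { toFun := fun g => ⟨⟨g.1.1, g.1.2, g.2.1⟩, mem_fix_zero.2 g.2.2⟩
      invFun := fun g => ⟨⟨g.1.1, g.1.2.1⟩, g.1.2.2, mem_fix_zero.1 g.2⟩
      left_inv := fun _ => rfl
      right_inv := fun _ => rfl
      map_mul' := fun _ _ => rfl }
  have : IsSimpleGroup ↥(MulAction.stabilizer M24 D12 ⊓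
      MulAction.stabilizer M24 (some 0 : GolayPt)) :=
    CfsgLib.SmallGroups.MathieuSimple.isSimple_M11 square_mem
      (by rw [← pt_zero]; exact pts_mem.1)
  exact CfsgLib.SmallGroups.MathieuSimple.isSimpleGroup_congr' e

theorem uy_ne : eu * ey ≠ ey * eu := fun h => by
  have : ∀ q, tfun uT (tfun yT q) = tfun yT (tfun uT q) := fun q =>
    Equiv.congr_fun (congrArg Subtype.val h) q
  revert this
  decide +kernel

theorem perfect_fix : commutator (fixPt (pt 0)) = ⊤ := by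
  have := simple_fix
  rcases (inferInstance : (commutator (fixPt (pt 0))).Normal).eq_bot_or_eq_top with h | h
  · exfalso
    have h' := commutator_mem_commutator (mem_top (⟨eu, gens_fix.1⟩ : fixPt (pt 0)))
      (mem_top (⟨ey, gens_fix.2.2.1⟩ : fixPt (pt 0)))
    rw [← commutator_def, h, mem_bot, commutatorElement_eq_one_iff_mul_comm] at h'
    exact uy_ne (congrArg Subtype.val h')
  · exact h

theorem multiplier_fix : Cfsg.HasCyclicSchurMultiplier (fixPt (pt 0)) 1 := by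
  have : Finite ↥Spor.M11 := inferInstance
  exact CfsgLib.Schur.Basic.hasSchurMultiplier_of_mulEquiv equivM11.symm
    CfsgLib.KnownA.M11Multiplier.multiplier_trivial

end CfsgLib.Sporadic.M12Cover
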