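import Cfsg.Agent.Lib.Sporadic.M12CoverBase
import Cfsg.Agent.Lib.Schur.Basic

/-!
A stem extension of the Mathieu group of degree twelve has kernel of order at most two.

The perfect subgroup over a point stabiliser, together with a central element of order at most two
and a lift of an involution moving that point, already fills two double cosets.
-/

set_option autoImplicit false

open Equiv Subgroup
open scoped commutatorElement

namespace CfsgLib.Sporadic.M12Cover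

open Cfsg CfsgLib.SmallGroups.Golay CfsgLib.Sporadic.MathieuMultiplier

universe u

variable {X : Type u} [Group X]

/-- The subgroup lifting a perfect subgroup with trivial multiplier. -/
theorem exists_perfect_lift {Q : Type*} [Group Q] [Finite Q] (ξ : X →* Q)
    (hs : Function.Surjective ξ) (hk : ξ.ker ≤ center X) (H : Subgroup Q)
    (hperf : commutator H = ⊤) (hm : Cfsg.HasCyclicSchurMultiplier H 1) :
    ∃ K : Subgroup X, (∀ k ∈ K, ξ k ∈ H) ∧ (∀ h ∈ H, ∃ k ∈ K, ξ k = h) ∧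
      ∀ k ∈ K, ξ k = 1 → k = 1 := by
  let f : H.comap ξ →* H := (ξ.comp (H.comap ξ).subtype).codRestrict H fun x => x.2
  have hfs : Function.Surjective f := fun t => by
    obtain ⟨x, hx⟩ := hs t
    exact ⟨⟨x, by rw [mem_comap, hx]; exact t.2⟩, Subtype.ext hx⟩
  have hfk : f.ker ≤ center (H.comap ξ) := fun x hx => mem_center_iff.mpr fun y => Subtype.ext
    (mem_center_iff.mp (hk (show ξ x.1 = 1 from congrArg Subtype.val hx)) y.1)
  refine ⟨(commutator (H.comap ξ)).map (H.comap ξ).subtype, ?_, fun h hh => ?_, ?_⟩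
  · rintro _ ⟨x, -, rfl⟩; exact x.2
  · have hmap : (commutator (H.comap ξ)).map f = ⊤ := by
      rw [commutator_def, map_commutator, map_top_of_surjective f hfs, ← commutator_def, hperf]
    obtain ⟨x, hx, hxe⟩ : (⟨h, hh⟩ : H) ∈ (commutator (H.comap ξ)).map f := hmap ▸ mem_top _
    exact ⟨x.1, ⟨x, hx, rfl⟩, congrArg Subtype.val hxe⟩
  · rintro _ ⟨x, hx, rfl⟩ hx1
    have hmem : x ∈ f.ker ⊓ commutator (H.comap ξ) := ⟨Subtype.ext hx1, hx⟩
    rw [CfsgLib.Schur.Basic.ker_inf_commutator_eq_bot hm f hfs hfk, mem_bot] at hmem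
    rw [hmem, map_one]

theorem rel_facts : ew * ew = 1 ∧ ew * em * ew = em * ew * em ∧ ex * eu * ex⁻¹ = ey ∧
    ev * eu * ev⁻¹ = eu⁻¹ ∧ ex ∈ fixPt (pt 0) ⊓ fixPt (pt 1) ∧
    ev ∈ fixPt (pt 0) ⊓ fixPt (pt 1) := by
  refine ⟨ext_el fun q => ?_, ext_el fun q => ?_, ?_, ?_, ⟨?_, ?_⟩, ⟨?_, ?_⟩⟩
  · exact (by decide +kernel : ∀ q, tfun wT (tfun wT q) = q) q
  · exact (by decide +kernel : ∀ q, tfun wT (tfun mT (tfun wT q)) = tfun mT (tfun wT (tfun mT q))) q
  · exact mul_inv_eq_iff_eq_mul.2 (ext_el fun q =>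
      (by decide +kernel : ∀ q, tfun xT (tfun uT q) = tfun yT (tfun xT q)) q)
  · rw [mul_inv_eq_iff_eq_mul, eq_inv_mul_iff_mul_eq]
    exact ext_el fun q => (by decide +kernel : ∀ q, tfun uT (tfun vT (tfun uT q)) = tfun vT q) q
  · exact (by decide +kernel : tfun xT (pt 0) = pt 0)
  · exact (by decide +kernel : tfun xT (pt 1) = pt 1)
  · exact (by decide +kernel : tfun vT (pt 0) = pt 0)
  · exact (by decide +kernel : tfun vT (pt 1) = pt 1)

theorem pt_ne : (pt 1 : GolayPt) ≠ pt 0 ∧ (pt 2 : GolayPt) ≠ pt 0 ∧ (pt 12 : GolayPt) ≠ pt 0 := by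
  decide +kernel

/-- Conjugation by an involution swapping the points preserves the two point stabiliser. -/
theorem conj_fix_two {g : Q12} (hg : g ∈ fixPt (pt 0) ⊓ fixPt (pt 1)) :
    ew * g * ew⁻¹ ∈ fixPt (pt 0) ⊓ fixPt (pt 1) :=
  Subgroup.mem_inf.2 ⟨mem_fixPt.2 (by
      rw [apply_mul, apply_mul, inv_apply_of wm_facts.2.1, mem_fixPt.1 hg.2, wm_facts.2.1]),
    mem_fixPt.2 (by
      rw [apply_mul, apply_mul, inv_apply_of wm_facts.1, mem_fixPt.1 hg.1, wm_facts.1])⟩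

/-- A stem extension has a kernel of order at most two. -/
theorem card_ker_le [Finite X] (ξ : X →* Q12) (hξ : Cfsg.IsStemExtension ξ) : Nat.card ξ.ker ≤ 2 := by
  obtain ⟨hs, hk, hc⟩ := hξ
  have hcen : ∀ {z : X}, ξ z = 1 → ∀ x, x * z = z * x :=
    fun hz x => Subgroup.mem_center_iff.1 (hk hz) x
  have hconjz : ∀ {z : X}, ξ z = 1 → ∀ x a, x * (z * a) * x⁻¹ = z * (x * a * x⁻¹) :=
    fun hz x a => by rw [← mul_assoc x, hcen hz x]; simp only [mul_assoc]
  obtain ⟨K, hKH, hlift, hinj⟩ :=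
    exists_perfect_lift ξ hs hk (fixPt (pt 0)) perfect_fix multiplier_fix
  have heq : ∀ {a b : X}, a ∈ K → b ∈ K → ξ a = ξ b → a = b := fun ha hb e =>
    inv_mul_eq_one.1 (hinj _ (mul_mem (inv_mem ha) hb) (by rw [map_mul, map_inv, e, inv_mul_cancel]))
  obtain ⟨W0, hW0⟩ := hs ew
  -- conjugates of lifts of the two point stabiliser
  have hsplit : ∀ j ∈ K, ξ j ∈ fixPt (pt 1) → ∃ e, ∃ i ∈ K, ξ e = 1 ∧ ξ i ∈ fixPt (pt 1) ∧
      W0 * j * W0⁻¹ = e * i := by
    intro j hj hj1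
    have h := conj_fix_two (Subgroup.mem_inf.2 ⟨hKH j hj, hj1⟩)
    obtain ⟨i, hi, hie⟩ := hlift _ h.1
    refine ⟨W0 * j * W0⁻¹ * i⁻¹, i, hi, ?_, hie ▸ h.2, by rw [inv_mul_cancel_right]⟩
    rw [map_mul, map_mul, map_mul, map_inv, map_inv, hW0, hie, mul_inv_cancel]
  obtain ⟨U, hU, hUe⟩ := hlift eu gens_fix.1
  obtain ⟨ε, U', hU', hε, -, hεU⟩ := hsplit U hU (hUe.symm ▸ gens_fix.2.1)
  -- a conjugate by a lift from the stabiliser has the same defect
  have hconj : ∀ g ∈ fixPt (pt 0) ⊓ fixPt (pt 1), ∀ j ∈ K, ξ j = g * eu * g⁻¹ →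
      ∃ i ∈ K, W0 * j * W0⁻¹ = ε * i := by
    intro g hg j hj hje
    obtain ⟨G, hG, hGe⟩ := hlift g hg.1
    obtain ⟨e, G', hG', he, -, heG⟩ := hsplit G hG (hGe.symm ▸ hg.2)
    have hjG : j = G * U * G⁻¹ := heq hj (mul_mem (mul_mem hG hU) (inv_mem hG))
      (by rw [hje, map_mul, map_mul, map_inv, hGe, hUe])
    refine ⟨G' * U' * G'⁻¹, mul_mem (mul_mem hG' hU') (inv_mem hG'), ?_⟩
    calc W0 * j * W0⁻¹ = (W0 * G * W0⁻¹) * (W0 * U * W0⁻¹) * (W0 * G * W0⁻¹)⁻¹ := by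
          rw [hjG]; group
      _ = e * (G' * (ε * U') * G'⁻¹) * e⁻¹ := by rw [heG, hεU]; group
      _ = G' * (ε * U') * G'⁻¹ := by rw [← hcen he, mul_inv_cancel_right]
      _ = ε * (G' * U' * G'⁻¹) := hconjz hε _ _
  have hε2 : ε * ε = 1 := by
    obtain ⟨i, hi, hie⟩ := hconj ev rel_facts.2.2.2.2.2 U⁻¹ (inv_mem hU)
      (by rw [map_inv, hUe, rel_facts.2.2.2.1])
    have h1 : (ε * U')⁻¹ = ε * i := by rw [← hεU, ← hie]; group
    have h2 : ε * ε = U'⁻¹ * i⁻¹ := by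
      calc ε * ε = ε * (ε * i) * i⁻¹ := by group
        _ = U'⁻¹ * i⁻¹ := by
          rw [← h1, mul_inv_rev, ← mul_assoc ε, ← hcen hε U'⁻¹, mul_inv_cancel_right]
    rw [h2]
    exact hinj _ (mul_mem (inv_mem hU') (inv_mem hi)) (by rw [← h2, map_mul, hε, one_mul])
  have hεinv : ε⁻¹ = ε := inv_eq_of_mul_eq_one_right hε2
  -- the subgroup over the point stabiliser
  let L : Subgroup X :=
    { carrier := {x | x ∈ K ∨ ε * x ∈ K}
      one_mem' := Or.inl (one_mem _)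
      mul_mem' := by
        rintro a b (ha | ha) (hb | hb)
        · exact Or.inl (mul_mem ha hb)
        · exact Or.inr (by rw [← mul_assoc, ← hcen hε a, mul_assoc]; exact mul_mem ha hb)
        · exact Or.inr (by rw [← mul_assoc]; exact mul_mem ha hb)
        · refine Or.inl ?_
          have e1 : ε * a * (ε * b) = a * b := by
            rw [← hcen hε a, mul_assoc, ← mul_assoc ε ε, hε2, one_mul]
          exact e1 ▸ mul_mem ha hb
      inv_mem' := by
        rintro a (ha | ha)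
        · exact Or.inl (inv_mem ha)
        · refine Or.inr ?_
          have e1 : (ε * a)⁻¹ = ε * a⁻¹ := by rw [mul_inv_rev, hεinv, hcen hε]
          exact e1 ▸ inv_mem ha }
  have hKL : ∀ {x}, x ∈ K → x ∈ L := fun h => Or.inl h
  have hεL : ε ∈ L := Or.inr (by rw [hε2]; exact one_mem _)
  have hLH : ∀ {x}, x ∈ L → ξ x ∈ fixPt (pt 0) := by
    rintro x (h | h)
    · exact hKH _ h
    · have := hKH _ h; rwa [map_mul, hε, one_mul] at this
  have hJL : ∀ j ∈ K, ξ j ∈ fixPt (pt 1) → W0 * j * W0⁻¹ ∈ L := by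
    intro j hj hj1
    let S : Subgroup Q12 := (L.comap (MulAut.conj W0).toMonoidHom ⊓ K).map ξ
    have hS : closure ({eu, ey} : Set Q12) ≤ S := by
      rw [closure_le]
      rintro g (rfl | rfl)
      · exact ⟨U, ⟨show W0 * U * W0⁻¹ ∈ L from hεU.symm ▸ mul_mem hεL (hKL hU'), hU⟩, hUe⟩
      · obtain ⟨Y, hY, hYe⟩ := hlift ey gens_fix.2.2.1
        obtain ⟨i, hi, hie⟩ := hconj ex rel_facts.2.2.2.2.1 Y hY
          (by rw [hYe, rel_facts.2.2.1])
        exact ⟨Y, ⟨show W0 * Y * W0⁻¹ ∈ L from hie.symm ▸ mul_mem hεL (hKL hi), hY⟩, hYe⟩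
    obtain ⟨j', hj', hje⟩ := hS (fix_two_eq ▸ Subgroup.mem_inf.2 ⟨hKH j hj, hj1⟩)
    obtain rfl : j' = j := heq hj'.2 hj hje
    exact hj'.1
  -- lifts of the involutions in the perfect subgroup over a third point stabiliser
  obtain ⟨g, hg, hg1, -⟩ := exists_fix_one (t := pt 2) pts_mem.2.2.1 pt_ne.2.1
  obtain ⟨G, hG, hGe⟩ := hlift g hg
  set c := G * W0 with hcdef
  have hc0 : (ξ c : Perm GolayPt) (pt 0) = pt 2 := by
    rw [hcdef, map_mul, hGe, hW0, apply_mul, wm_facts.1, hg1]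
  have hc1 : (ξ c : Perm GolayPt) (pt 1) = pt 0 := by
    rw [hcdef, map_mul, hGe, hW0, apply_mul, wm_facts.2.1, mem_fixPt.1 hg]
  obtain ⟨k, hkK, hke⟩ := hlift ((ξ c)⁻¹ * ew * ξ c) (mem_fixPt.2 (by
    rw [apply_mul, apply_mul, hc0, wm_facts.2.2.1]; exact inv_apply_of hc0))
  have hm01 : (ξ c)⁻¹ * em * ξ c ∈ fixPt (pt 0) ⊓ fixPt (pt 1) :=
    Subgroup.mem_inf.2 ⟨mem_fixPt.2 (by
      rw [apply_mul, apply_mul, hc0, wm_facts.2.2.2.2.1]; exact inv_apply_of hc0),
      mem_fixPt.2 (by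
      rw [apply_mul, apply_mul, hc1, wm_facts.2.2.2.1]; exact inv_apply_of hc1)⟩
  obtain ⟨k', hk'K, hk'e⟩ := hlift _ hm01.1
  set W := c * k * c⁻¹ with hWdef
  set M := c * k' * c⁻¹ with hMdef
  have hW : ξ W = ew := by rw [hWdef, map_mul, map_mul, map_inv, hke]; group
  have hM : ξ M = em := by rw [hMdef, map_mul, map_mul, map_inv, hk'e]; group
  have hWW : W * W = 1 := by
    have h1 : k * k = 1 := hinj _ (mul_mem hkK hkK) (by
      rw [map_mul, hke]
      calc (ξ c)⁻¹ * ew * ξ c * ((ξ c)⁻¹ * ew * ξ c) = (ξ c)⁻¹ * (ew * ew) * ξ c := by group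
        _ = 1 := by rw [rel_facts.1]; group)
    calc W * W = c * (k * k) * c⁻¹ := by rw [hWdef]; group
      _ = 1 := by rw [h1]; group
  have hWM : W * M * W = M * W * M := by
    have h1 : k * k' * k = k' * k * k' :=
      heq (mul_mem (mul_mem hkK hk'K) hkK) (mul_mem (mul_mem hk'K hkK) hk'K) (by
        simp only [map_mul, hke, hk'e]
        calc _ = (ξ c)⁻¹ * (ew * em * ew) * ξ c := by group
          _ = _ := by rw [rel_facts.2.1]; group)
    calc W * M * W = c * (k * k' * k) * c⁻¹ := by rw [hWdef, hMdef]; group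
      _ = M * W * M := by rw [h1, hWdef, hMdef]; group
  have hML : M ∈ L := by
    have e1 : M = G * (W0 * k' * W0⁻¹) * G⁻¹ := by rw [hMdef, hcdef]; group
    rw [e1]
    exact mul_mem (mul_mem (hKL hG) (hJL k' hk'K (hk'e.symm ▸ hm01.2))) (inv_mem (hKL hG))
  have hWinv : W⁻¹ = W := inv_eq_of_mul_eq_one_right hWW
  -- two double cosets
  let P : X → Prop := fun x => x ∈ L ∨ ∃ a ∈ L, ∃ b ∈ L, x = a * W * b
  have hPmul : ∀ a ∈ L, ∀ x, P x → ∀ b ∈ L, P (a * x * b) := by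
    rintro a ha x (hx | ⟨a', ha', b', hb', rfl⟩) b hb
    · exact Or.inl (mul_mem (mul_mem ha hx) hb)
    · exact Or.inr ⟨_, mul_mem ha ha', _, mul_mem hb' hb, by group⟩
  have hJW : ∀ j ∈ K, ξ j ∈ fixPt (pt 1) → W * j * W ∈ L := by
    intro j hj hj1
    have hz : ξ (W * W0⁻¹) = 1 := by rw [map_mul, map_inv, hW, hW0, mul_inv_cancel]
    have e1 : W * j * W⁻¹ = W * W0⁻¹ * (W0 * j * W0⁻¹) * (W * W0⁻¹)⁻¹ := by group
    rw [hWinv, ← hcen hz, mul_inv_cancel_right] at e1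
    exact e1 ▸ hJL j hj hj1
  have hWεW : W * ε * W = ε := by rw [hcen hε, mul_assoc, hWW, mul_one]
  have hKW : ∀ a ∈ K, P (W * a * W) := by
    intro a ha
    by_cases h1 : ξ a ∈ fixPt (pt 1)
    · exact Or.inl (hJW a ha h1)
    have ht0 : (ξ a : Perm GolayPt) (pt 1) ≠ pt 0 := fun e =>
      pt_ne.1 ((ξ a : Perm GolayPt).injective (e.trans (mem_fixPt.1 (hKH a ha)).symm))
    obtain ⟨h, hh, hht⟩ := exists_fix_two (apply_mem (ξ a) pts_mem.2.1) ht0
      (fun e => h1 (mem_fixPt.2 e))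
    obtain ⟨j1, hj1, hj1e⟩ := hlift h hh.1
    obtain ⟨M', hM', hM'e⟩ := hlift em wm_facts.2.2.2.1
    have hj2 : ξ ((j1 * M')⁻¹ * a) ∈ fixPt (pt 1) := mem_fixPt.2 (by
      rw [map_mul, map_inv, map_mul, hj1e, hM'e, apply_mul]
      exact inv_apply_of (by rw [apply_mul, wm_facts.2.2.2.2.2, hht]))
    have hPM : P (W * M' * W) := by
      rcases hML with h' | h'
      · obtain rfl : M = M' := heq h' hM' (by rw [hM, hM'e])
        exact Or.inr ⟨M, hKL hM', M, hKL hM', hWM⟩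
      · obtain rfl : ε * M = M' := heq h' hM' (by rw [map_mul, hε, hM, hM'e, one_mul])
        refine Or.inr ⟨ε * M, hKL h', M, Or.inr h', ?_⟩
        calc W * (ε * M) * W = W * ε * W * (W⁻¹ * M * W) := by group
          _ = ε * (W * M * W) := by rw [hWεW, hWinv]
          _ = ε * M * W * M := by rw [hWM]; group
    have e1 : W * a * W =
        (W * j1 * W) * (W⁻¹ * W⁻¹) * ((W * M' * W) * (W⁻¹ * W⁻¹)) *
          (W * ((j1 * M')⁻¹ * a) * W) := by group
    rw [hWinv, hWW, mul_one, mul_one] at e1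
    rw [e1]
    exact hPmul _ (hJW j1 hj1 (hj1e.symm ▸ hh.2)) _ hPM _
      (hJW _ (mul_mem (inv_mem (mul_mem hj1 hM')) ha) hj2)
  have hLW : ∀ a ∈ L, P (W * a * W) := by
    rintro a (ha | ha)
    · exact hKW a ha
    · have e1 : W * a * W = ε * (W * (ε * a) * W) * 1 := by
        rw [mul_one]
        calc W * a * W = (W * a * W) := rfl
          _ = ε * ε * (W * a * W) := by rw [hε2, one_mul]
          _ = ε * (W * (ε * a) * W) := by rw [← mul_assoc W ε, hcen hε W]; group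
      rw [e1]
      exact hPmul _ hεL _ (hKW _ ha) _ (one_mem _)
  let Y : Subgroup X :=
    { carrier := {x | P x}
      one_mem' := Or.inl (one_mem _)
      mul_mem' := by
        rintro x y (hx | ⟨a, ha, b, hb, rfl⟩) hy
        · simpa using hPmul x hx y hy 1 (one_mem _)
        rcases hy with hy | ⟨a', ha', b', hb', rfl⟩
        · exact Or.inr ⟨a, ha, _, mul_mem hb hy, by group⟩
        · have e1 : a * W * b * (a' * W * b') = a * (W * (b * a') * W) * b' := by group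
          show P _
          rw [e1]
          exact hPmul a ha _ (hLW _ (mul_mem hb ha')) b' hb'
      inv_mem' := by
        rintro x (hx | ⟨a, ha, b, hb, rfl⟩)
        · exact Or.inl (inv_mem hx)
        · exact Or.inr ⟨_, inv_mem hb, _, inv_mem ha, by
            rw [mul_inv_rev, mul_inv_rev, hWinv, ← mul_assoc]⟩ }
  have hWY : W ∈ Y := Or.inr ⟨1, one_mem _, 1, one_mem _, by rw [one_mul, mul_one]⟩
  have hKY : ∀ {x}, x ∈ K → x ∈ Y := fun h => Or.inl (Or.inl h)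
  have hYs : Function.Surjective (ξ.comp Y.subtype) := by
    intro q
    have h : closure ({eu, ey, ew, em} : Set Q12) ≤ Y.map ξ := by
      rw [closure_le]
      rintro g (rfl | rfl | rfl | rfl)
      · exact ⟨U, hKY hU, hUe⟩
      · obtain ⟨V, hV, hVe⟩ := hlift ey gens_fix.2.2.1
        exact ⟨V, hKY hV, hVe⟩
      · exact ⟨W, hWY, hW⟩
      · exact ⟨M, Or.inl hML, hM⟩
    rw [top_of_gens] at h
    obtain ⟨y, hy, hye⟩ := h (mem_top q)
    exact ⟨⟨y, hy⟩, hye⟩
  have hcommY : commutator X ≤ Y :=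
    (CfsgLib.Schur.Basic.commutator_le_map_of_sup_center Y.subtype
      (CfsgLib.Schur.Basic.range_sup_center_eq_top (ξ.comp Y.subtype) hYs ξ hk Y.subtype rfl)).trans
      (by rintro _ ⟨y, -, rfl⟩; exact y.2)
  have hker : (ξ.ker : Set X) ⊆ {1, ε} := by
    intro x hx
    rcases hcommY (hc hx) with (hx' | hx') | ⟨a, ha, b, hb, rfl⟩
    · exact Or.inl (hinj _ hx' hx)
    · refine Or.inr (Set.mem_singleton_iff.2 ?_)
      have h1 := hinj _ hx' (by rw [map_mul, hε, MonoidHom.mem_ker.1 hx, one_mul])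
      exact ((eq_inv_of_mul_eq_one_right h1).trans hεinv)
    · exfalso
      have h1 : ew = (ξ a)⁻¹ * (ξ b)⁻¹ := by
        have := MonoidHom.mem_ker.1 hx
        rw [map_mul, map_mul, hW] at this
        exact eq_inv_mul_iff_mul_eq.2 (eq_inv_of_mul_eq_one_left this)
      have h2 : ew ∈ fixPt (pt 0) := h1 ▸ mul_mem (inv_mem (hLH ha)) (inv_mem (hLH hb))
      exact pt_ne.1 ((wm_facts.1.symm.trans h2))
  calc Nat.card ξ.ker = (ξ.ker : Set X).ncard := Nat.card_coe_set_eq _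
    _ ≤ ({1, ε} : Set X).ncard := Set.ncard_le_ncard hker
    _ ≤ 2 := (Set.ncard_insert_le _ _).trans (by rw [Set.ncard_singleton])

end CfsgLib.Sporadic.M12Cover
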