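import Cfsg.Agent.Lib.Sporadic.TernaryGolay

/-!
The hexads of the length 12 ternary code, and the monomial group of the code.
-/

set_option autoImplicit false
set_option maxRecDepth 20000

namespace CfsgLib.Sporadic.TernaryHexads

open Cfsg CfsgLib.Sporadic.TernaryGolay

/-- Masks of the 132 hexads, each with the number of a code word having that support. -/
def hexTab : List (ℕ × ℕ) := [(63,229),(222,696),(237,289),(243,574),(347,439),(366,318),(373,667),(413,154),(427,61),(438,102),(455,499),(504,594),(591,565),(630,579),(633,379),(667,112),(679,22),(700,117),(725,415),(746,543),(791,97),(813,37),(826,192),(860,711),(867,247),(910,66),(945,163),(969,514),(978,327),(996,252),(1117,604),(1127,259),(1146,354),(1175,187),(1198,39),(1209,190),(1227,301),(1268,657),(1295,49),(1331,85),(1340,144),(1366,417),(1385,541),(1434,219),(1445,10),(1484,279),(1489,325),(1506,489),(1566,156),(1579,34),(1589,100),(1619,652),(1644,306),(16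77,64),(1714,165),(1734,264),(1752,432),(1761,487),(1817,217),(1830,12),(1861,262),(1866,516),(1904,567),(1923,7),(1940,90),(1960,27),(2135,346),(2155,517),(2172,441),(2191,43),(2229,91),(2234,138),(2265,703),(2278,255),(2334,120),(2343,25),(2361,109),(2381,307),(2418,651),(2451,166),(2476,63),(2506,273),(2516,576),(2529,244),(2589,208),(2606,48),(2611,169),(2650,462),(2661,496),(2710,174),(2729,55),(2755,250),(2764,522),(2800,324),(2827,58),(2868,171),(2886,507),(2897,568),(2920,270),(2949,19),(2968,189),(2978,3),(3099,142),(3117,73),(3126,183),(3150,552),(3185,406),(3228,225),(3235,4),(3269,505),(3282,570),(3304,513),(3349,172),(3370,57),(3395,493),(3416,675),(3428,495),(3462,21),(3465,28),(3504,81),(3591,13),(3640,108),(3657,271),(3668,333),(3682,246),(3722,30),(3729,82),(3748,9),(3852,36),(3858,84),(3873,1),(4032,243)]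

/-- Masks of the hexads. -/
def hexList : List ℕ := hexTab.map Prod.fst

/-- The array point at a position. -/
def unpos : Fin 12 → ArrayPt :=
  ![(0, 0), (0, 1), (0, 2), (1, 0), (1, 1), (1, 2), (2, 0), (2, 1), (2, 2), (3, 0), (3, 1), (3, 2)]

theorem unpos_pos : ∀ p, unpos (pos p) = p := by decide

theorem pos_unpos : ∀ i, pos (unpos i) = i := by decide

/-- The array points as numbers below 12. -/
def posEquiv : ArrayPt ≃ Fin 12 := ⟨pos, unpos, unpos_pos, pos_unpos⟩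

/-- The set of array points of a mask. -/
def toSet (m : ℕ) : Finset ArrayPt := Finset.univ.filter fun p => m.testBit (pos p).val = true

/-- The mask of a set of array points. -/
def mask (s : Finset ArrayPt) : ℕ := Nat.ofBits fun i : Fin 12 => decide (unpos i ∈ s)

theorem mask_lt (s : Finset ArrayPt) : mask s < 4096 := Nat.ofBits_lt_two_pow _

theorem testBit_big {n i : ℕ} (hn : n < 4096) (hi : ¬ i < 12) : n.testBit i = false :=
  Nat.testBit_lt_two_pow (lt_of_lt_of_le hn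
    (show 2 ^ 12 ≤ 2 ^ i from Nat.pow_le_pow_right (by norm_num) (not_lt.1 hi)))

theorem testBit_mask (s : Finset ArrayPt) (i : ℕ) (hi : i < 12) :
    (mask s).testBit i = decide (unpos ⟨i, hi⟩ ∈ s) := Nat.testBit_ofBits_lt _ i hi

theorem testBit_mask_pos (s : Finset ArrayPt) (p : ArrayPt) :
    (mask s).testBit (pos p).val = decide (p ∈ s) := by
  rw [testBit_mask s _ (pos p).isLt, unpos_pos]

theorem toSet_mask (s : Finset ArrayPt) : toSet (mask s) = s := by
  ext p; simp [toSet, testBit_mask_pos]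

theorem mask_toSet {m : ℕ} (hm : m < 4096) : mask (toSet m) = m := by
  refine Nat.eq_of_testBit_eq fun i => ?_
  by_cases hi : i < 12
  · rw [testBit_mask _ i hi]
    simp [toSet, pos_unpos]
  · rw [testBit_big (mask_lt _) hi, testBit_big hm hi]

/-- The information coordinates encoded by a number. -/
def dec (n : ℕ) : Fin 6 → ZMod 3 := fun k => ((n / 3 ^ k.val % 3 : ℕ) : ZMod 3)

theorem hexTab_ok : ∀ e ∈ hexTab, e.1 < 4096 ∧ mask (ternarySupport (gen (dec e.2))) = e.1 ∧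
    wt (dec e.2) = 6 := by
  decide +kernel

theorem hexList_complete : ∀ v, wt v = 6 → mask (ternarySupport (gen v)) ∈ hexList := by
  decide +kernel

theorem hexList_nodup : hexList.Nodup := by decide +kernel

theorem hexList_length : hexList.length = 132 := rfl

/-- The hexad system. -/
def hexads : Set (Finset ArrayPt) :=
  {h | ∃ x ∈ ternaryGolayCode, ternarySupport x = h ∧ h.card = 6}

theorem mem_hexads {h : Finset ArrayPt} : h ∈ hexads ↔ mask h ∈ hexList := by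
  constructor
  · rintro ⟨x, hx, rfl, hc⟩
    obtain ⟨v, rfl⟩ := mem_iff.1 hx
    exact hexList_complete v hc
  · intro hm
    obtain ⟨e, he, hh⟩ := List.mem_map.1 hm
    obtain ⟨-, h2, h3⟩ := hexTab_ok e he
    have hs : ternarySupport (gen (dec e.2)) = h := by
      rw [← toSet_mask (ternarySupport (gen (dec e.2))), h2, hh, toSet_mask]
    exact ⟨_, gen_mem _, hs, by rw [← hs]; exact h3⟩

theorem hexList_lt : ∀ m ∈ hexList, m < 4096 := by decide +kernel

theorem ncard_hexads : hexads.ncard = 132 := by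
  have e : hexads = ((hexList.toFinset.image toSet : Finset (Finset ArrayPt)) : Set _) := by
    ext h
    simp only [Finset.coe_image, Set.mem_image, Finset.mem_coe, List.mem_toFinset, mem_hexads]
    exact ⟨fun hm => ⟨_, hm, toSet_mask h⟩, fun ⟨m, hm, hh⟩ => by
      rw [← hh, mask_toSet (hexList_lt m hm)]; exact hm⟩
  rw [e, Set.ncard_coe_finset, Finset.card_image_of_injOn, List.toFinset_card_of_nodup hexList_nodup,
    hexList_length]
  intro a ha b hb hab
  simp only [Finset.mem_coe, List.mem_toFinset] at ha hb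
  rw [← mask_toSet (hexList_lt a ha), hab, mask_toSet (hexList_lt b hb)]

theorem five_unique : ∀ t : Fin 4096, ((List.finRange 12).countP fun i => t.val.testBit i.val) = 5 →
    (hexList.filter fun m => m &&& t.val == t.val).length = 1 := by
  decide +kernel

theorem card_eq_countP (s : Finset ArrayPt) :
    ((List.finRange 12).countP fun i => (mask s).testBit i.val) = s.card := by
  rw [← Finset.card_map posEquiv.toEmbedding, List.countP_eq_length_filter,
    ← List.toFinset_card_of_nodup ((List.nodup_finRange 12).filter _)]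
  congr 1
  ext i
  have hi := testBit_mask_pos s (unpos i)
  rw [pos_unpos] at hi
  simp [posEquiv, Finset.mem_map_equiv, hi]

theorem subset_iff_mask {s b : Finset ArrayPt} : s ⊆ b ↔ mask b &&& mask s = mask s := by
  constructor
  · intro h
    refine Nat.eq_of_testBit_eq fun i => ?_
    rw [Nat.testBit_and]
    by_cases hi : i < 12
    · rw [testBit_mask _ i hi, testBit_mask _ i hi]
      by_cases hs : unpos ⟨i, hi⟩ ∈ s
      · simp [hs, h hs]
      · simp [hs]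
    · rw [testBit_big (mask_lt s) hi]
      simp
  · intro h p hp
    have := congrArg (fun n => n.testBit (pos p).val) h
    simpa [testBit_mask_pos, hp] using this

theorem steiner : IsSteinerSystem 5 6 hexads := by
  refine ⟨fun b hb => hb.choose_spec.2.2, fun s hs => ?_⟩
  obtain ⟨m, hm⟩ := List.length_eq_one_iff.1 (five_unique ⟨mask s, mask_lt s⟩ (by rw [card_eq_countP, hs]))
  have hmm : m ∈ hexList.filter fun m => m &&& mask s == mask s := by rw [hm]; simp
  rw [List.mem_filter, beq_iff_eq] at hmm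
  have hlt := hexList_lt m hmm.1
  refine ⟨toSet m, ⟨mem_hexads.2 (by rw [mask_toSet hlt]; exact hmm.1),
    subset_iff_mask.2 (by rw [mask_toSet hlt]; exact hmm.2)⟩, fun b hb => ?_⟩
  have h2 : mask b ∈ hexList.filter fun m => m &&& mask s == mask s :=
    List.mem_filter.2 ⟨mem_hexads.1 hb.1, beq_iff_eq.2 (subset_iff_mask.1 hb.2)⟩
  rw [hm, List.mem_singleton] at h2
  rw [← toSet_mask b, h2]

/-- The inverse permutations of the transversals: images of the twelve positions, sign masks. -/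
def trTab : Fin 50 → (Fin 12 → Fin 12) × (Fin 12 → Fin 12) × ℕ :=
  ![(![0,1,2,3,4,5,6,7,8,9,10,11], ![0,1,2,3,4,5,6,7,8,9,10,11], 0),(![1,0,2,3,4,5,11,9,10,7,8,6], ![1,0,2,3,4,5,11,9,10,7,8,6], 0),(![2,0,1,3,4,5,8,6,7,10,11,9], ![1,2,0,3,4,5,7,8,6,11,9,10], 0),(![3,0,1,2,4,5,10,7,6,8,9,11], ![1,2,3,0,4,5,8,7,9,10,6,11], 1331),(![4,0,1,2,3,5,6,9,10,11,7,8], ![1,2,3,4,0,5,6,10,11,7,8,9], 1940),(![5,0,1,2,3,4,9,6,8,7,11,10], ![1,2,3,4,5,0,7,9,8,6,11,10], 667),(![6,0,1,2,3,9,5,4,7,10,8,11], ![1,2,3,4,7,6,0,8,10,5,9,11], 1581),(![7,0,1,2,3,11,10,8,9,4,5,6], ![1,2,3,4,9,10,11,0,7,8,6,5], 993),(![8,0,1,2,3,10,7,11,4,6,9,5], ![1,2,3,4,8,11,9,6,0,10,5,7], 1224),(![9,0,1,2,3,6,4,5,11,8,10,7], ![1,2,3,4,6,7,5,11,9,0,10,8], 349),(![10,0,1,2,3,8,11,7,5,9,6,4], ![1,2,3,4,11,8,10,7,5,9,0,6], 1271),(![11,0,1,2,3,7,8,10,6,5,4,9], ![1,2,3,4,10,9,8,5,6,11,7,0], 430),(![0,1,2,3,4,5,6,7,8,9,10,11], ![0,1,2,3,4,5,6,7,8,9,10,11], 0),(![0,2,1,3,4,5,9,10,11,6,7,8],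 ![0,2,1,3,4,5,9,10,11,6,7,8], 0),(![0,3,1,2,4,5,11,8,9,7,6,10], ![0,2,3,1,4,5,10,9,7,8,11,6], 1331),(![0,4,1,2,3,5,8,11,7,9,10,6], ![0,2,3,4,1,5,11,8,6,9,10,7], 1940),(![0,5,1,2,3,4,10,7,11,6,8,9], ![0,2,3,4,5,1,9,7,10,11,6,8], 667),(![0,6,1,2,3,9,11,10,8,4,7,5], ![0,2,3,4,9,11,1,10,8,5,7,6], 1581),(![0,7,1,2,3,11,6,4,5,8,9,10], ![0,2,3,4,7,8,6,1,9,10,11,5], 993),(![0,8,1,2,3,10,5,6,9,11,4,7], ![0,2,3,4,10,6,7,11,1,8,5,9], 1224),(![0,9,1,2,3,6,7,8,10,5,11,4], ![0,2,3,4,11,9,5,6,7,1,8,10], 349),(![0,10,1,2,3,8,4,9,6,7,5,11], ![0,2,3,4,6,10,8,9,5,7,1,11], 1271),(![0,11,1,2,3,7,9,5,4,10,6,8], ![0,2,3,4,8,7,10,5,11,6,9,1], 430),(![0,1,2,3,4,5,6,7,8,9,10,11], ![0,1,2,3,4,5,6,7,8,9,10,11], 0),(![0,1,3,2,4,5,7,6,10,11,8,9], ![0,1,3,2,4,5,7,6,10,11,8,9], 1331),(![0,1,4,2,3,5,9,10,6,8,11,7], ![0,1,3,4,2,5,8,11,9,6,7,10], 1940),(![0,1,5,2,3,4,6,8,9,10,7,11], ![0,1,3,4,5,2,6,10,7,8,9,11], 667),(![0,1,6,2,3,9,4,7,5,11,10,8], ![0,1,3,4,6,8,2,7,11,5,10,9],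 1581),(![0,1,7,2,3,11,8,9,10,6,4,5], ![0,1,3,4,10,11,9,2,6,7,8,5], 993),(![0,1,8,2,3,10,11,4,7,5,6,9], ![0,1,3,4,7,9,10,8,2,11,5,6], 1224),(![0,1,9,2,3,6,5,11,4,7,8,10], ![0,1,3,4,8,6,5,9,10,2,11,7], 349),(![0,1,10,2,3,8,7,5,11,4,9,6], ![0,1,3,4,9,7,11,6,5,10,2,8], 1271),(![0,1,11,2,3,7,10,6,8,9,5,4], ![0,1,3,4,11,10,7,5,8,9,6,2], 430),(![0,1,2,3,4,5,6,7,8,9,10,11], ![0,1,2,3,4,5,6,7,8,9,10,11], 0),(![0,1,2,4,3,5,10,9,11,7,6,8], ![0,1,2,4,3,5,10,9,11,7,6,8], 0),(![0,1,2,5,3,4,8,6,7,11,9,10], ![0,1,2,4,5,3,7,8,6,10,11,9], 0),(![0,1,2,6,3,9,7,4,10,8,5,11], ![0,1,2,4,7,10,3,6,9,5,8,11], 6),(![0,1,2,7,3,11,9,8,4,5,10,6], ![0,1,2,4,8,9,11,3,7,6,10,5], 5),(![0,1,2,8,3,10,4,11,6,9,7,5], ![0,1,2,4,6,11,8,10,3,9,5,7], 3),(![0,1,2,9,3,6,11,5,8,10,4,7], ![0,1,2,4,10,7,5,11,8,3,9,6], 6),(![0,1,2,10,3,8,5,7,9,6,11,4], ![0,1,2,4,11,6,9,7,5,8,3,10], 3),(![0,1,2,11,3,7,6,10,5,4,8,9], ![0,1,2,4,9,8,6,5,10,11,7,3], 5),(![0,1,2,3,4,5,6,7,8,9,10,11],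 ![0,1,2,3,4,5,6,7,8,9,10,11], 0),(![0,1,2,3,5,4,9,11,10,6,8,7], ![0,1,2,3,5,4,9,11,10,6,8,7], 0),(![0,1,2,3,6,9,5,8,11,4,7,10], ![0,1,2,3,9,6,4,10,7,5,11,8], 6),(![0,1,2,3,7,11,10,5,6,8,9,4], ![0,1,2,3,11,7,8,4,9,10,6,5], 5),(![0,1,2,3,8,10,7,9,5,11,4,6], ![0,1,2,3,10,8,11,6,4,7,5,9], 3),(![0,1,2,3,9,6,4,10,7,5,11,8], ![0,1,2,3,6,9,5,8,11,4,7,10], 6),(![0,1,2,3,10,8,11,6,4,7,5,9], ![0,1,2,3,8,10,7,9,5,11,4,6], 3),(![0,1,2,3,11,7,8,4,9,10,6,5], ![0,1,2,3,7,11,10,5,6,8,9,4], 5)]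

theorem trTab_inverse : ∀ n i, (trTab n).2.1 ((trTab n).1 i) = i ∧ (trTab n).1 ((trTab n).2.1 i) = i := by
  decide +kernel

/-- The transversal permutations. -/
def tr (n : Fin 50) : Equiv.Perm ArrayPt where
  toFun p := unpos ((trTab n).1 (pos p))
  invFun p := unpos ((trTab n).2.1 (pos p))
  left_inv p := by simp [pos_unpos, (trTab_inverse n _).1, unpos_pos]
  right_inv p := by simp [pos_unpos, (trTab_inverse n _).2, unpos_pos]

/-- Their signs. -/
def trSign (n : Fin 50) (p : ArrayPt) : (ZMod 3)ˣ :=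
  if ((trTab n).2.2).testBit (pos p).val then -1 else 1

theorem tr_good : ∀ n i, Eqs (monomialMap (tr n) (trSign n) (bvec i)) := by decide +kernel

theorem transversal : ∀ k x : Fin 12, k.val < 5 → k ≤ x → ∃ n,
    (∀ i : Fin 12, i < k → tr n (unpos i) = unpos i) ∧ tr n (unpos k) = unpos x := by
  decide +kernel

/-- The blocks meeting the complement of the first hexad in exactly the two given positions. -/
def pairBlocks (i j : ℕ) : List ℕ := hexList.filter fun m => m &&& 4032 == (1 <<< i ||| 1 <<< j)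

/-- Compatibility of a pair of positions with a pair of images. -/
def pairOK (i j a b : ℕ) : Bool :=
  (pairBlocks i j).all fun m => hexList.contains ((m &&& 63) ||| 1 <<< a ||| 1 <<< b)

/-- The complement of the first hexad. -/
def comp : List ℕ := [6, 7, 8, 9, 10, 11]

/-- The exhaustive search. -/
def rigidCheck : Bool :=
  comp.all fun a =>
    comp.all fun b => (a == b || !(pairOK 6 7 a b)) ||
    comp.all fun c => (a == c || b == c || !(pairOK 6 8 a c) || !(pairOK 7 8 b c)) ||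
    comp.all fun d => (a == d || b == d || c == d || !(pairOK 6 9 a d) || !(pairOK 7 9 b d) || !(pairOK 8 9 c d)) ||
    comp.all fun e => (a == e || b == e || c == e || d == e || !(pairOK 6 10 a e) || !(pairOK 7 10 b e) || !(pairOK 8 10 c e) || !(pairOK 9 10 d e)) ||
    comp.all fun f => (a == f || b == f || c == f || d == f || e == f || !(pairOK 6 11 a f) || !(pairOK 7 11 b f) || !(pairOK 8 11 c f) || !(pairOK 9 11 d f) || !(pairOK 10 11 e f)) ||
    (a == 6 && b == 7 && c == 8 && d == 9 && e == 10 && f == 11)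

theorem rigidCheck_eq : rigidCheck = true := by decide +kernel

theorem rigid {a b c d e f : ℕ} (ha : a ∈ comp) (hb : b ∈ comp) (hc : c ∈ comp) (hd : d ∈ comp)
    (he : e ∈ comp) (hf : f ∈ comp)
    (n01 : a ≠ b) (p01 : pairOK 6 7 a b = true)
    (n02 : a ≠ c) (p02 : pairOK 6 8 a c = true)
    (n12 : b ≠ c) (p12 : pairOK 7 8 b c = true)
    (n03 : a ≠ d) (p03 : pairOK 6 9 a d = true)
    (n13 : b ≠ d) (p13 : pairOK 7 9 b d = true)
    (n23 : c ≠ d) (p23 : pairOK 8 9 c d = true)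
    (n04 : a ≠ e) (p04 : pairOK 6 10 a e = true)
    (n14 : b ≠ e) (p14 : pairOK 7 10 b e = true)
    (n24 : c ≠ e) (p24 : pairOK 8 10 c e = true)
    (n34 : d ≠ e) (p34 : pairOK 9 10 d e = true)
    (n05 : a ≠ f) (p05 : pairOK 6 11 a f = true)
    (n15 : b ≠ f) (p15 : pairOK 7 11 b f = true)
    (n25 : c ≠ f) (p25 : pairOK 8 11 c f = true)
    (n35 : d ≠ f) (p35 : pairOK 9 11 d f = true)
    (n45 : e ≠ f) (p45 : pairOK 10 11 e f = true) :
    a = 6 ∧ b = 7 ∧ c = 8 ∧ d = 9 ∧ e = 10 ∧ f = 11 := by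
  have h1 := List.all_eq_true.1 rigidCheck_eq a ha
  have h2 := List.all_eq_true.1 h1 b hb
  simp only [beq_eq_false_iff_ne.2 n01, p01, Bool.not_true, Bool.or_false, Bool.false_or] at h2
  have h3 := List.all_eq_true.1 h2 c hc
  simp only [beq_eq_false_iff_ne.2 n02, beq_eq_false_iff_ne.2 n12, p02, p12, Bool.not_true, Bool.or_false, Bool.false_or] at h3
  have h4 := List.all_eq_true.1 h3 d hd
  simp only [beq_eq_false_iff_ne.2 n03, beq_eq_false_iff_ne.2 n13, beq_eq_false_iff_ne.2 n23, p03, p13, p23, Bool.not_true, Bool.or_false, Bool.false_or] at h4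
  have h5 := List.all_eq_true.1 h4 e he
  simp only [beq_eq_false_iff_ne.2 n04, beq_eq_false_iff_ne.2 n14, beq_eq_false_iff_ne.2 n24, beq_eq_false_iff_ne.2 n34, p04, p14, p24, p34, Bool.not_true, Bool.or_false, Bool.false_or] at h5
  have h6 := List.all_eq_true.1 h5 f hf
  simp only [beq_eq_false_iff_ne.2 n05, beq_eq_false_iff_ne.2 n15, beq_eq_false_iff_ne.2 n25, beq_eq_false_iff_ne.2 n35, beq_eq_false_iff_ne.2 n45, p05, p15, p25, p35, p45, Bool.not_true, Bool.or_false, Bool.false_or] at h6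
  simpa [and_assoc] using h6

/-- The first hexad. -/
theorem first_hexad : toSet 63 ∈ hexads ∧ ∀ i : Fin 12, unpos i ∈ toSet 63 ↔ i.val < 6 := by
  constructor
  · rw [mem_hexads, mask_toSet (by norm_num)]
    decide +kernel
  · decide +kernel

end CfsgLib.Sporadic.TernaryHexads
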