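import Cfsg.Agent.Lib.Sporadic.M12CoverBase
import Cfsg.Agent.Lib.Sporadic.TernaryHexads
import Cfsg.Agent.S1594

/-!
The signed permutations preserving the ternary code as a double cover of the Mathieu group.
-/

set_option autoImplicit false
set_option maxRecDepth 100000

open Equiv Subgroup
open scoped commutatorElement

namespace CfsgLib.Sporadic.M12Cover

open Cfsg CfsgLib.SmallGroups.Golay CfsgLib.Sporadic.MathieuMultiplier
  CfsgLib.Sporadic.TernaryGolay CfsgLib.Sporadic.TernaryHexads
open Cfsg.Agent.S1594 (P P_mul P_one P_of_basis)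

/-- The words on the array. -/
abbrev V12 : Type := ArrayPt → ZMod 3

/-- The dodecad point of a position. -/
def dpt (p : ArrayPt) : GolayPt := CfsgLib.SmallGroups.Golay.pt (dPt.getD (pos p).val 0)

theorem dpt_ok : Function.Injective dpt ∧ ∀ q ∈ D12, ∃ p, dpt p = q := by decide +kernel

/-- The permutation of a list of positions. -/
def sfun (s : List ℕ) (p : ArrayPt) : ArrayPt := unpos (Fin.ofNat 12 (s.getD (pos p).val 0))

/-- The inverse list. -/
def sinv (s : List ℕ) : List ℕ := (List.range 12).map fun i => s.idxOf i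

/-- The list is a permutation. -/
def IsS (s : List ℕ) : Prop :=
  ∀ p, sfun (sinv s) (sfun s p) = p ∧ sfun s (sfun (sinv s) p) = p

instance (s : List ℕ) : Decidable (IsS s) := inferInstanceAs (Decidable (∀ _, _))

/-- The permutation of a list. -/
def sperm (s : List ℕ) (h : IsS s) : Perm ArrayPt :=
  ⟨sfun s, sfun (sinv s), fun p => (h p).1, fun p => (h p).2⟩

/-- The signs of a list. -/
def sgn (c : List Bool) (p : ArrayPt) : (ZMod 3)ˣ := bif c.getD (pos p).val false then -1 else 1

/-- A signed list is compatible with a table and preserves the code. -/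
def Compat (l : List ℕ) (d : List ℕ × List Bool) : Prop :=
  IsS d.1 ∧ (∀ p, tfun l (dpt p) = dpt (sfun d.1 p)) ∧
    ∀ i, Eqs fun p => (sgn d.2 p : ZMod 3) * bvec i (sfun (sinv d.1) p)

instance (l : List ℕ) (d : List ℕ × List Bool) : Decidable (Compat l d) :=
  inferInstanceAs (Decidable (_ ∧ _ ∧ _))

theorem compat_ok : Compat uT uS ∧ Compat yT yS ∧ Compat wT wS ∧ Compat mT mS ∧ Compat pT pS ∧
    Compat qT qS := by
  decide +kernel

/-- A monomial map as a permutation of the words. -/
def monoPerm (σ : Perm ArrayPt) (c : ArrayPt → (ZMod 3)ˣ) : Perm V12 where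
  toFun x := monomialMap σ c x
  invFun y q := ((c (σ q))⁻¹ : (ZMod 3)ˣ) * y (σ q)
  left_inv x := funext fun q => by
    show (((c (σ q))⁻¹ : (ZMod 3)ˣ) : ZMod 3) * ((c (σ q) : ZMod 3) * x (σ.symm (σ q))) = x q
    rw [← mul_assoc, Units.inv_mul, one_mul, σ.symm_apply_apply]
  right_inv y := funext fun q => by
    show (c q : ZMod 3) *
      ((((c (σ (σ.symm q)))⁻¹ : (ZMod 3)ˣ) : ZMod 3) * y (σ (σ.symm q))) = y q
    rw [σ.apply_symm_apply, ← mul_assoc, Units.mul_inv, one_mul]

/-- Pairs of an element of the group and a signed permutation preserving the code over it. -/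
def coverMonoid : Submonoid (Q12 × Perm V12) where
  carrier := {x | ∃ σ c, P σ c ∧ (∀ p, (x.1 : Perm GolayPt) (dpt p) = dpt (σ p)) ∧
    ∀ v, x.2 v = monomialMap σ c v}
  one_mem' := ⟨1, fun _ => 1, P_one, fun _ => rfl, fun v => by
    funext p; simp [monomialMap, Equiv.Perm.one_def]⟩
  mul_mem' := by
    rintro x y ⟨σ, c, hc, hx, hx'⟩ ⟨τ, d, hd, hy, hy'⟩
    refine ⟨σ * τ, _, P_mul hc hd, fun p => ?_, fun v => ?_⟩
    · rw [Prod.fst_mul, apply_mul, hy, hx]; rfl
    · rw [Prod.snd_mul, Perm.mul_apply, hy', hx']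
      funext p
      simp [monomialMap, Equiv.Perm.mul_def, mul_assoc]

/-- The double cover. -/
def cover : Subgroup (Q12 × Perm V12) :=
  { coverMonoid with
    inv_mem' := fun {x} hx => Submonoid.powers_le.2 hx
      ((isOfFinOrder_of_finite x).mem_powers_iff_mem_zpowers.2 (inv_mem (mem_zpowers x))) }

/-- The projection. -/
def coverMap : cover →* Q12 := (MonoidHom.fst _ _).comp cover.subtype

/-- An element of the cover from its table and signed list. -/
def liftTbl (l : List ℕ) (h : IsEl l) (d : List ℕ × List Bool) (hd : Compat l d) : cover :=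
  ⟨(ofTbl l h, monoPerm (sperm d.1 hd.1) (sgn d.2)), sperm d.1 hd.1, sgn d.2,
    P_of_basis fun i => hd.2.2 i, hd.2.1, fun _ => rfl⟩

theorem coverMap_lift (l : List ℕ) (h : IsEl l) (d : List ℕ × List Bool) (hd : Compat l d) :
    coverMap (liftTbl l h d hd) = ofTbl l h := rfl

/-- Negation. -/
def negEl : cover :=
  ⟨(1, Equiv.neg V12), 1, fun _ => -1, fun x hx => by
      convert neg_mem hx using 1
      funext p; simp [monomialMap, Equiv.Perm.one_def],
    fun _ => rfl, fun v => by funext p; simp [monomialMap, Equiv.Perm.one_def]⟩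

theorem ker_coverMap {x : cover} (hx : coverMap x = 1) : x = 1 ∨ x = negEl := by
  obtain ⟨σ, c, hc, hp, hv⟩ := x.2
  have hσ : σ = 1 := Equiv.ext fun p => (dpt_ok.1 ((hp p).symm.trans (by
    rw [show x.1.1 = 1 from hx]; rfl)))
  subst hσ
  rcases Cfsg.Agent.S1593.result c hc with h | h
  · refine Or.inl (Subtype.ext (Prod.ext hx (Equiv.ext fun v => (hv v).trans ?_)))
    funext p; simp [monomialMap, Equiv.Perm.one_def, h]
  · refine Or.inr (Subtype.ext (Prod.ext hx (Equiv.ext fun v => (hv v).trans ?_)))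
    funext p; simp [monomialMap, Equiv.Perm.one_def, negEl, h]

theorem negEl_central (y : cover) : y * negEl = negEl * y := by
  obtain ⟨σ, c, -, -, hv⟩ := y.2
  refine Subtype.ext (Prod.ext ?_ (Equiv.ext fun v => ?_))
  · simp [negEl]
  · show y.1.2 (-v) = -(y.1.2 v)
    rw [hv, hv]
    funext p; simp [monomialMap]

theorem negEl_ne : negEl ≠ 1 := fun h => by
  have := congrFun (congrArg (fun x : cover => x.1.2 (fun _ => 1)) h) (0, 0)
  revert this
  show (-1 : ZMod 3) = 1 → False
  decide

theorem card_ker : Nat.card coverMap.ker = 2 := by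
  have hset : (coverMap.ker : Set cover) = {1, negEl} := by
    ext x
    refine ⟨fun hx => ker_coverMap hx, ?_⟩
    rintro (rfl | rfl)
    · exact one_mem _
    · rfl
  rw [← SetLike.coe_sort_coe, Nat.card_coe_set_eq, hset, Set.ncard_pair negEl_ne.symm]

/-- The first lift of the commuting pair. -/
def liftP : cover := liftTbl pT tbl_ok.2.2.2.2.2.2.1 pS compat_ok.2.2.2.2.1
/-- The second lift of the commuting pair. -/
def liftQ : cover := liftTbl qT tbl_ok.2.2.2.2.2.2.2 qS compat_ok.2.2.2.2.2

theorem pair_facts : (∀ q, tfun pT (tfun qT q) = tfun qT (tfun pT q)) ∧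
    ∀ p, sfun (sinv qS.1) (sfun (sinv pS.1) p) = sfun (sinv pS.1) (sfun (sinv qS.1) p) ∧
      (sgn pS.2 p : ZMod 3) * (sgn qS.2 (sfun (sinv pS.1) p) : ZMod 3) =
        -((sgn qS.2 p : ZMod 3) * (sgn pS.2 (sfun (sinv qS.1) p) : ZMod 3)) := by
  decide +kernel

theorem negEl_comm : ⁅liftP, liftQ⁆ = negEl := by
  have h : liftP * liftQ = negEl * (liftQ * liftP) := by
    refine Subtype.ext (Prod.ext ?_ (Equiv.ext fun v => funext fun p => ?_))
    · exact (ext_el fun q => pair_facts.1 q).trans (one_mul _).symm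
    · show (sgn pS.2 p : ZMod 3) *
          ((sgn qS.2 (sfun (sinv pS.1) p) : ZMod 3) * v (sfun (sinv qS.1) (sfun (sinv pS.1) p))) =
        -((sgn qS.2 p : ZMod 3) *
          ((sgn pS.2 (sfun (sinv qS.1) p) : ZMod 3) * v (sfun (sinv pS.1) (sfun (sinv qS.1) p))))
      rw [← mul_assoc, (pair_facts.2 p).2, (pair_facts.2 p).1]
      ring
  rw [commutatorElement_def, h, ← mul_assoc, mul_inv_cancel_right, mul_inv_cancel_right]

theorem cover_stem : Cfsg.IsStemExtension coverMap := by
  refine ⟨?_, fun x hx => Subgroup.mem_center_iff.2 fun y => ?_, fun x hx => ?_⟩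
  · rw [← MonoidHom.range_eq_top, eq_top_iff, ← top_of_gens, closure_le]
    rintro g (rfl | rfl | rfl | rfl)
    · exact ⟨liftTbl uT tbl_ok.1 uS compat_ok.1, rfl⟩
    · exact ⟨liftTbl yT tbl_ok.2.2.2.1 yS compat_ok.2.1, rfl⟩
    · exact ⟨liftTbl wT tbl_ok.2.2.2.2.1 wS compat_ok.2.2.1, rfl⟩
    · exact ⟨liftTbl mT tbl_ok.2.2.2.2.2.1 mS compat_ok.2.2.2.1, rfl⟩
  · rcases ker_coverMap hx with rfl | rfl
    · rw [mul_one, one_mul]
    · exact negEl_central y
  · rcases ker_coverMap hx with rfl | rfl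
    · exact one_mem _
    · rw [← negEl_comm]; exact commutator_mem_commutator (mem_top _) (mem_top _)

end CfsgLib.Sporadic.M12Cover
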