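import Cfsg.Agent.Lib.Sporadic.M23CocodeData

/-!
# A non-split extension of the Mathieu group of degree 23 by its cocode module

The group consists of the pairs of a permutation and a function on the code words vanishing at the extra point whose
coboundary measures the change of the factor set under the permutation.
-/

set_option autoImplicit false

namespace CfsgLib.Sporadic.M23Cocode

open Cfsg CfsgLib.SmallGroups.Golay CfsgLib.SmallGroups.GolayOctads CfsgLib.SmallGroups.M24Group
open scoped Pointwise

/-- Short name of the group. -/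
abbrev G23 : Type := ↥Cfsg.Spor.M23

theorem g23_none (g : G23) : (g : Equiv.Perm GolayPt) none = none :=
  MulAction.mem_stabilizer_iff.1 (Subgroup.mem_inf.1 g.2).2

theorem g23_mem (g : G23) : (g : Equiv.Perm GolayPt) ∈ M24 := (Subgroup.mem_inf.1 g.2).1

theorem code_comp {g : Equiv.Perm GolayPt} (hg : g ∈ M24) {w : GolayPt → ZMod 2} (hw : w ∈ golayCode) :
    (fun p => w (g p)) ∈ golayCode := by
  obtain ⟨u, hu, he⟩ := (smul_mem_supports (inv_mem hg) ⟨w, hw, rfl⟩ :
    g⁻¹ • support₂ w ∈ supports (golayCode : Set (GolayPt → ZMod 2)))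
  rw [← support₂_comp] at he
  have : u = fun p => w (g p) := funext fun p => by
    have h := Finset.ext_iff.1 he p
    simp only [support₂, Finset.mem_filter, Finset.mem_univ, true_and] at h
    generalize u p = a at h ⊢
    generalize w (g p) = b at h ⊢
    revert a b; decide
  exact this ▸ hu

theorem iota_comp_mem (g : G23) (x : V) :
    (fun p => iota x ((g : Equiv.Perm GolayPt) p)) ∈ golayCode ∧ iota x ((g : Equiv.Perm GolayPt) none) = 0 :=
  ⟨code_comp (g23_mem g) (iota_mem x), by rw [g23_none, iota_none]⟩

/-- The right action on coordinates. -/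
def Q (g : G23) (x : V) : V := res fun p => iota x ((g : Equiv.Perm GolayPt) p)

theorem iota_Q (g : G23) (x : V) (p : GolayPt) : iota (Q g x) p = iota x ((g : Equiv.Perm GolayPt) p) :=
  congrFun (iota_res (iota_comp_mem g x).1 (iota_comp_mem g x).2) p

theorem Q_add (g : G23) (x y : V) : Q g (x + y) = Q g x + Q g y := by
  funext k
  simp [Q, res]

theorem Q_zero (g : G23) : Q g 0 = 0 := by
  funext k
  simp [Q, res]

theorem Q_one (x : V) : Q 1 x = x := res_iota x

theorem Q_mul (a b : G23) (x : V) : Q (a * b) x = Q b (Q a x) := by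
  funext k
  simp [Q, res]
  exact (iota_Q a x _).symm

theorem A_Q (g : G23) (x y z : V) : A (Q g x) (Q g y) (Q g z) = A x y z := by
  simp only [A, iota_Q]
  exact Equiv.sum_comp (g : Equiv.Perm GolayPt) fun p => iota x p * iota y p * iota z p

theorem qw_Q (g : G23) (x : V) : qw (Q g x) = qw x := by
  rw [qw, qw, wt_eq, wt_eq]
  simp only [iota_Q]
  rw [Equiv.sum_comp (g : Equiv.Perm GolayPt) fun p => (iota x p).val]

/-- The change of the factor set. -/
def D (g : G23) (x y : V) : ZMod 2 := theta (Q g x) (Q g y) + theta x y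

theorem D_self (g : G23) (x : V) : D g x x = 0 := by
  rw [D, theta_self, theta_self, qw_Q]
  generalize qw x = a
  revert a; decide

theorem D_comm (g : G23) (x y : V) : D g x y = D g y x := by
  have h1 := theta_comm (Q g x) (Q g y)
  rw [← Q_add, qw_Q, qw_Q, qw_Q, ← theta_comm] at h1
  simp only [D]
  revert h1
  generalize theta (Q g x) (Q g y) = a
  generalize theta (Q g y) (Q g x) = b
  generalize theta x y = c
  generalize theta y x = d
  revert a b c d; decide

theorem D_zero (g : G23) (y : V) : D g 0 y = 0 := by simp [D, Q_zero, theta_zero_left]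

theorem D_cocycle (g : G23) (x y z : V) : D g y z + D g (x + y) z + D g x (y + z) + D g x y = 0 := by
  have h1 := theta_deriv (Q g x) (Q g y) (Q g z)
  have h2 := theta_deriv x y z
  rw [A_Q, ← h2] at h1
  simp only [D, Q_add, theta_add₂] at h1 ⊢
  revert h1
  generalize theta (Q g x + Q g y) (Q g z) = a
  generalize theta (x + y) z = b
  generalize theta (Q g y) (Q g z) = c
  generalize theta y z = d
  generalize theta (Q g x) (Q g y) = e
  generalize theta (Q g x) (Q g z) = f
  generalize theta x y = u
  generalize theta x z = v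
  revert a b c d e f u v
  decide +kernel

/-- The twisted sum of `V` and the field. -/
@[ext] structure Tw (E : V → V → ZMod 2) : Type where
  /-- Vector part. -/
  v : V
  /-- Scalar part. -/
  s : ZMod 2

/-- A symmetric cocycle with zero diagonal is a coboundary. -/
theorem exists_coboundary (E : V → V → ZMod 2) (hs : ∀ x, E x x = 0) (hc : ∀ x y, E x y = E y x)
    (h0 : ∀ y, E 0 y = 0) (hco : ∀ x y z, E y z + E (x + y) z + E x (y + z) + E x y = 0) :
    ∃ f : V → ZMod 2, ∀ x y, f x + f y + f (x + y) = E x y := by
  have h2 : ∀ a : ZMod 2, a + a = 0 := by decide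
  have hv2 : ∀ a : V, a + a = 0 := fun a => funext fun k => h2 _
  letI : Add (Tw E) := ⟨fun a b => ⟨a.v + b.v, a.s + b.s + E a.v b.v⟩⟩
  letI : Zero (Tw E) := ⟨⟨0, 0⟩⟩
  letI : Neg (Tw E) := ⟨fun a => a⟩
  have add_v : ∀ a b : Tw E, (a + b).v = a.v + b.v := fun _ _ => rfl
  have add_s : ∀ a b : Tw E, (a + b).s = a.s + b.s + E a.v b.v := fun _ _ => rfl
  have neg_eq : ∀ a : Tw E, -a = a := fun _ => rfl
  have zero_eq : (0 : Tw E) = ⟨0, 0⟩ := rfl
  letI : AddCommGroup (Tw E) :=
  { add_assoc := fun a b c => by
      ext1
      · simp [add_v, add_assoc]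
      · simp only [add_s, add_v]
        have := hco a.v b.v c.v
        revert this
        generalize E b.v c.v = u
        generalize E (a.v + b.v) c.v = u'
        generalize E a.v (b.v + c.v) = u''
        generalize E a.v b.v = u'''
        generalize a.s = x
        generalize b.s = y
        generalize c.s = z
        revert u u' u'' u''' x y z
        decide +kernel
    zero_add := fun a => by ext1 <;> simp [add_v, add_s, zero_eq, h0]
    add_zero := fun a => by ext1 <;> simp [add_v, add_s, zero_eq, h0, hc a.v 0]
    nsmul := nsmulRec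
    zsmul := zsmulRec
    neg_add_cancel := fun a => by ext1 <;> simp [add_v, add_s, neg_eq, zero_eq, hs, h2, hv2]
    add_comm := fun a b => by ext1 <;> simp [add_v, add_s, add_comm, hc a.v b.v] }
  letI : Module (ZMod 2) (Tw E) := AddCommGroup.zmodModule fun a => by
    rw [two_nsmul]
    ext1 <;> simp [add_v, add_s, zero_eq, hs, h2, hv2]
  let π : Tw E →ₗ[ZMod 2] V := AddMonoidHom.toZModLinearMap 2 { toFun := Tw.v, map_zero' := rfl, map_add' := add_v }
  obtain ⟨s, hsec⟩ := π.exists_rightInverse_of_surjective
    (LinearMap.range_eq_top.2 fun x => ⟨⟨x, 0⟩, rfl⟩)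
  have hv : ∀ x, (s x).v = x := fun x => LinearMap.congr_fun hsec x
  refine ⟨fun x => (s x).s, fun x y => ?_⟩
  have := congrArg Tw.s (map_add s x y)
  rw [add_s, hv, hv] at this
  beta_reduce
  rw [this]
  generalize (s x).s = a
  generalize (s y).s = b
  generalize E x y = c
  revert a b c; decide

/-- The action on functions. -/
def actHom : G23 →* MulAut (Multiplicative (V → ZMod 2)) where
  toFun g :=
    { toFun := fun f => Multiplicative.ofAdd fun x => f.toAdd (Q g x)
      invFun := fun f => Multiplicative.ofAdd fun x => f.toAdd (Q g⁻¹ x)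
      left_inv := fun f => by
        refine Multiplicative.toAdd.injective (funext fun x => ?_)
        simp [← Q_mul, Q_one]
      right_inv := fun f => by
        refine Multiplicative.toAdd.injective (funext fun x => ?_)
        simp [← Q_mul, Q_one]
      map_mul' := fun f f' => rfl }
  map_one' := by
    refine MulEquiv.ext fun f => Multiplicative.toAdd.injective (funext fun x => ?_)
    simp [Q_one]
  map_mul' a b := by
    refine MulEquiv.ext fun f => Multiplicative.toAdd.injective (funext fun x => ?_)
    simp [Q_mul]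

/-- The ambient semidirect product. -/
abbrev Amb : Type := Multiplicative (V → ZMod 2) ⋊[actHom] G23

/-- The value of an element at a vector. -/
def val (a : Amb) (x : V) : ZMod 2 := a.left.toAdd x

theorem val_mul (a b : Amb) (x : V) : val (a * b) x = val a x + val b (Q a.right x) := rfl

theorem val_one (x : V) : val 1 x = 0 := rfl

/-- The extension. -/
def extGroup : Subgroup Amb where
  carrier := {a | ∀ x y, val a x + val a y + val a (x + y) = D a.right x y}
  one_mem' x y := by
    simp only [val_one, SemidirectProduct.one_right, D, Q_one]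
    generalize theta x y = a
    revert a; decide
  mul_mem' {a b} ha hb x y := by
    simp only [val_mul, SemidirectProduct.mul_right, D, Q_mul, Q_add]
    have h1 := ha x y
    have h2 := hb (Q a.right x) (Q a.right y)
    simp only [D] at h1 h2
    revert h1 h2
    generalize val a x = t1
    generalize val a y = t2
    generalize val a (x + y) = t3
    generalize val b (Q a.right x) = t4
    generalize val b (Q a.right y) = t5
    generalize val b (Q a.right x + Q a.right y) = t6
    generalize theta (Q b.right (Q a.right x)) (Q b.right (Q a.right y)) = t7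
    generalize theta (Q a.right x) (Q a.right y) = t8
    generalize theta x y = t9
    revert t1 t2 t3 t4 t5 t6 t7 t8 t9
    decide +kernel
  inv_mem' {a} ha x y := by
    have hx : ∀ z, val a⁻¹ z = val a (Q a⁻¹.right z) := fun z => by
      have := val_mul a⁻¹ a z
      rw [inv_mul_cancel, val_one] at this
      revert this
      generalize val a⁻¹ z = u
      generalize val a (Q a⁻¹.right z) = w
      revert u w; decide
    have h1 := ha (Q a⁻¹.right x) (Q a⁻¹.right y)
    simp only [hx, Q_add] at h1 ⊢
    rw [h1]
    simp only [D, ← Q_mul, SemidirectProduct.inv_right, inv_mul_cancel, Q_one]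
    ring

theorem exists_lift (g : G23) : ∃ a ∈ extGroup, a.right = g := by
  obtain ⟨f, hf⟩ := exists_coboundary (D g) (D_self g) (D_comm g) (D_zero g) (D_cocycle g)
  exact ⟨⟨Multiplicative.ofAdd f, g⟩, hf, rfl⟩

/-- The map onto the group. -/
def proj : extGroup →* G23 := SemidirectProduct.rightHom.comp extGroup.subtype

theorem proj_surjective : Function.Surjective proj := fun g => by
  obtain ⟨a, ha, he⟩ := exists_lift g
  exact ⟨⟨a, ha⟩, he⟩

/-- The functional of a word. -/
def lam (w : GolayPt → ZMod 2) : V → ZMod 2 := fun x => ∑ p, w p * iota x p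

theorem lam_add (w w' : GolayPt → ZMod 2) : lam (w + w') = lam w + lam w' := by
  funext x
  simp [lam, add_mul, Finset.sum_add_distrib]

theorem lam_mem (w : GolayPt → ZMod 2) : (⟨Multiplicative.ofAdd (lam w), 1⟩ : Amb) ∈ extGroup := fun x y => by
  simp only [val, toAdd_ofAdd, lam, map_add, Pi.add_apply, mul_add, Finset.sum_add_distrib, D, Q_one]
  generalize (∑ p, w p * iota x p) = a
  generalize (∑ p, w p * iota y p) = b
  generalize theta x y = c
  revert a b c; decide

theorem lam_eq_zero (w : GolayPt → ZMod 2) :
    lam w = 0 ↔ (w ∈ golayCode ∨ w + Pi.single none 1 ∈ golayCode) := by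
  constructor
  · intro h
    let s := ∑ p, w p * word (bas 0) p
    have hs : w + s • Pi.single none 1 ∈ golayCode := by
      refine mem_of_orth fun c hc => ?_
      rw [code_split hc]
      have h' := congrFun h (res (c + c none • word (bas 0)))
      simp only [lam, Pi.zero_apply] at h'
      have hb : word (bas 0) none = 1 := by decide +kernel
      simp only [Pi.add_apply, Pi.smul_apply, smul_eq_mul, mul_add, add_mul, Finset.sum_add_distrib, h',
        Pi.single_apply, mul_ite, mul_one, mul_zero, ite_mul, zero_mul, Finset.sum_ite_eq', Finset.mem_univ, if_true,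
        iota_none, hb]
      have : ∑ p, w p * (c none * word (bas 0) p) = c none * s := by
        simp only [s, Finset.mul_sum]
        exact Finset.sum_congr rfl fun p _ => by ring
      rw [this]
      generalize c none = a
      generalize s = b
      revert a b; decide
    obtain hc | hc : s = 0 ∨ s = 1 := by generalize s = t; revert t; decide
    · exact Or.inl (by simpa [hc] using hs)
    · exact Or.inr (by simpa [hc] using hs)
  · intro h
    funext x
    rcases h with h | h
    · exact dot_eq_zero h (iota_mem x)
    · have := dot_eq_zero h (iota_mem x)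
      simpa [lam, add_mul, Finset.sum_add_distrib, Pi.single_apply, iota_none] using this

theorem lam_surjective (f : V → ZMod 2) (hf : ∀ x y, f (x + y) = f x + f y) : ∃ w, lam w = f := by
  refine ⟨∑ k : Fin 11, Pi.single (pt (k + 1)) (f (Pi.single k 1)), funext fun x => ?_⟩
  have hadd : ∀ a b : V, lam (∑ k : Fin 11, Pi.single (pt (k + 1)) (f (Pi.single k 1))) (a + b) + f (a + b) =
      (lam (∑ k : Fin 11, Pi.single (pt (k + 1)) (f (Pi.single k 1))) a + f a) +
      (lam (∑ k : Fin 11, Pi.single (pt (k + 1)) (f (Pi.single k 1))) b + f b) := fun a b => by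
    simp only [lam, map_add, Pi.add_apply, mul_add, Finset.sum_add_distrib, hf]
    ring
  have hh : ∀ a b : ZMod 2, a + b = 0 → a = b := by decide
  refine hh _ _ (eq_zero_of_single
    (f := fun x => lam (∑ k : Fin 11, Pi.single (pt (k + 1)) (f (Pi.single k 1))) x + f x) hadd (fun i => ?_) x)
  have hlam : lam (∑ k : Fin 11, Pi.single (pt (k + 1)) (f (Pi.single k 1))) (Pi.single i 1) =
      ∑ k : Fin 11, f (Pi.single k 1) * word (bw i) (pt (k + 1)) := by
    simp only [lam, Finset.sum_apply, Finset.sum_mul, iota_single]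
    rw [Finset.sum_comm]
    simp [Pi.single_apply]
  beta_reduce
  rw [hlam]
  simp only [bw_unit, mul_ite, mul_one, mul_zero, Finset.sum_ite_eq, Finset.mem_univ, if_true]
  generalize f (Pi.single i 1) = a
  revert a; decide

/-- The map from the words onto the kernel. -/
def lamHom : (GolayPt → ZMod 2) →+ Additive proj.ker where
  toFun w := Additive.ofMul ⟨⟨⟨Multiplicative.ofAdd (lam w), 1⟩, lam_mem w⟩, rfl⟩
  map_zero' := by
    refine Additive.toMul.injective (Subtype.ext (Subtype.ext (SemidirectProduct.ext ?_ rfl)))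
    exact Multiplicative.toAdd.injective (funext fun x => by simp [lam])
  map_add' w w' := by
    refine Additive.toMul.injective (Subtype.ext (Subtype.ext (SemidirectProduct.ext ?_ ?_)))
    · refine Multiplicative.toAdd.injective (funext fun x => ?_)
      simp [lam_add, Q_one]
    · simp

theorem lamHom_surjective : Function.Surjective lamHom := fun n => by
  obtain ⟨⟨⟨a, ha⟩, hn⟩, rfl⟩ := Additive.ofMul.surjective n
  have hr : a.right = 1 := hn
  obtain ⟨w, hw⟩ := lam_surjective (val a) fun x y => by
    have := ha x y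
    rw [hr] at this
    simp only [D, Q_one] at this
    revert this
    generalize val a x = p
    generalize val a y = q
    generalize val a (x + y) = r
    generalize theta x y = t
    revert p q r t; decide
  exact ⟨w, Additive.toMul.injective (Subtype.ext (Subtype.ext
    (SemidirectProduct.ext (congrArg Multiplicative.ofAdd hw) hr.symm)))⟩

theorem lamHom_toMul (w : GolayPt → ZMod 2) :
    ((lamHom w).toMul : extGroup).1 = ⟨Multiplicative.ofAdd (lam w), 1⟩ := rfl

theorem lamHom_eq_zero (w : GolayPt → ZMod 2) :
    lamHom w = 0 ↔ (w ∈ golayCode ∨ w + Pi.single none 1 ∈ golayCode) := by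
  rw [← lam_eq_zero, ← Additive.toMul.injective.eq_iff]
  rw [toMul_zero, Subtype.ext_iff, Subtype.ext_iff, lamHom_toMul, Subgroup.coe_one, Subgroup.coe_one,
    SemidirectProduct.ext_iff, SemidirectProduct.one_left, SemidirectProduct.one_right]
  exact ⟨fun h => (congrArg Multiplicative.toAdd h.1 : _), fun h => ⟨congrArg Multiplicative.ofAdd h, rfl⟩⟩

theorem lamHom_conj (a : extGroup) (w : GolayPt → ZMod 2) :
    ((lamHom (w ∘ ⇑((a.1.right : Equiv.Perm GolayPt)⁻¹))).toMul : extGroup) = a * ((lamHom w).toMul : extGroup) * a⁻¹ := by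
  rw [eq_mul_inv_iff_mul_eq]
  apply Subtype.ext
  rw [Subgroup.coe_mul, Subgroup.coe_mul, lamHom_toMul, lamHom_toMul]
  generalize (a : Amb) = e
  refine SemidirectProduct.ext (Multiplicative.toAdd.injective (funext fun x => ?_)) ?_
  · have h1 : val (⟨Multiplicative.ofAdd (lam (w ∘ ⇑((e.right : Equiv.Perm GolayPt)⁻¹))), 1⟩ * e) x =
        lam (w ∘ ⇑((e.right : Equiv.Perm GolayPt)⁻¹)) x + val e (Q 1 x) := val_mul _ _ _
    have h2 : val (e * ⟨Multiplicative.ofAdd (lam w), 1⟩) x = val e x + lam w (Q e.right x) := val_mul _ _ _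
    refine h1.trans (Eq.trans ?_ h2.symm)
    rw [Q_one, add_comm]
    refine congrArg (fun t => val e x + t) ?_
    simp only [lam, iota_Q, Function.comp_apply]
    rw [← Equiv.sum_comp (e.right : Equiv.Perm GolayPt)]
    simp
  · simp

/-! ### The obstruction -/

/-- The image table of the first element. -/
def gTbl : List ℕ := [21, 22, 18, 15, 7, 19, 17, 9, 11, 20, 16, 10, 12, 13, 14, 3, 8, 6, 5, 2, 4, 1, 0, 23]
/-- The inverse table of the first element. -/
def gTbl' : List ℕ := [22, 21, 19, 15, 20, 18, 17, 4, 16, 7, 11, 8, 12, 13, 14, 3, 10, 6, 2, 5, 9, 0, 1, 23]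
/-- The image table of the second element. -/
def hTbl : List ℕ := [19, 18, 2, 6, 4, 5, 3, 10, 20, 9, 7, 16, 14, 13, 12, 15, 11, 17, 1, 0, 8, 22, 21, 23]

/-- A permutation from its tables. -/
def permOf (l l' : List ℕ) (h₁ : ∀ p, pt (l'.getD (idx (pt (l.getD (idx p) 0))) 0) = p)
    (h₂ : ∀ p, pt (l.getD (idx (pt (l'.getD (idx p) 0))) 0) = p) : Equiv.Perm GolayPt where
  toFun p := pt (l.getD (idx p) 0)
  invFun p := pt (l'.getD (idx p) 0)
  left_inv := h₁
  right_inv := h₂

theorem permOf_mem {l l' : List ℕ} {h₁ h₂} (hn : pt (l.getD 23 0) = none)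
    (hb : ∀ i < 12, isCW (mask fun p => word (bas i) (pt (l.getD (idx p) 0))) = true) :
    permOf l l' h₁ h₂ ∈ Cfsg.Spor.M23 := by
  refine Subgroup.mem_inf.2 ⟨mem_M24_of_basis (fun _ => rfl) hb, MulAction.mem_stabilizer_iff.2 ?_⟩
  exact hn

/-- The first element. -/
def gEl : G23 := ⟨permOf gTbl gTbl' (by decide +kernel) (by decide +kernel), permOf_mem rfl (by decide +kernel)⟩
/-- The second element. -/
def hEl : G23 := ⟨permOf hTbl hTbl (by decide +kernel) (by decide +kernel), permOf_mem rfl (by decide +kernel)⟩

/-- Vectors by masks. -/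
def vec (n : ℕ) : V := fun k => if n.testBit k then 1 else 0

theorem gh_moves : Q gEl (vec 22) = vec 22 ∧ Q hEl (vec 22) = vec 51 ∧ Q gEl (vec 51) = vec 4 ∧
    Q hEl (vec 4) = vec 33 ∧ Q gEl (vec 33) = vec 33 ∧ Q hEl (vec 33) = vec 4 ∧ Q gEl (vec 4) = vec 51 ∧
    Q hEl (vec 51) = vec 22 := by decide +kernel

theorem gh_word : gEl * gEl * gEl * hEl * gEl * hEl * gEl * hEl * gEl * hEl = 1 := by
  refine Subtype.ext (Equiv.ext ?_)
  decide +kernel

/-- The folded value of the coboundary along a list. -/
def fold (g : G23) : List V → ZMod 2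
  | [] => 0
  | a :: l => D g a l.sum + fold g l

theorem sum_val (a : Amb) (ha : a ∈ extGroup) (l : List V) :
    (l.map (val a)).sum = val a l.sum + fold a.right l := by
  induction l with
  | nil =>
    have := ha 0 0
    rw [D_zero, add_zero] at this
    simp only [List.map_nil, List.sum_nil, fold, add_zero]
    revert this
    generalize val a 0 = t
    revert t; decide
  | cons b l ih =>
    rw [List.map_cons, List.sum_cons, List.sum_cons, fold, ih]
    have := ha b l.sum
    revert this
    generalize val a b = t
    generalize val a l.sum = t'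
    generalize val a (b + l.sum) = t''
    generalize D a.right b l.sum = t'''
    generalize fold a.right l = u
    revert t t' t'' t''' u
    decide +kernel

theorem gh_lists : ([vec 22, vec 22, vec 22, vec 51, vec 33, vec 4] : List V).sum = 0 ∧
    ([vec 22, vec 4, vec 33, vec 51] : List V).sum = 0 ∧
    fold gEl [vec 22, vec 22, vec 22, vec 51, vec 33, vec 4] + fold hEl [vec 22, vec 4, vec 33, vec 51] = 1 := by
  decide +kernel

theorem no_lift {a b : Amb} (ha : a ∈ extGroup) (hb : b ∈ extGroup) (hga : a.right = gEl) (hgb : b.right = hEl) :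
    a * a * a * b * a * b * a * b * a * b ≠ 1 := by
  intro h
  have hv := congrArg (fun e => val e (vec 22)) h
  obtain ⟨m1, m2, m3, m4, m5, m6, m7, m8⟩ := gh_moves
  simp only [val_mul, SemidirectProduct.mul_right, hga, hgb, Q_mul, m1, m2, m3, m4, m5, m6, m7, m8, val_one] at hv
  have e1 := sum_val a ha [vec 22, vec 22, vec 22, vec 51, vec 33, vec 4]
  have e2 := sum_val b hb [vec 22, vec 4, vec 33, vec 51]
  have h0 : ∀ e ∈ extGroup, val e 0 = 0 := fun e he => by
    have := sum_val e he []
    simpa [fold] using this.symm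
  obtain ⟨s1, s2, s3⟩ := gh_lists
  rw [s1, h0 a ha, hga] at e1
  rw [s2, h0 b hb, hgb] at e2
  simp only [List.map_cons, List.map_nil, List.sum_cons, List.sum_nil, add_zero, zero_add] at e1 e2
  revert hv e1 e2 s3
  generalize val a (vec 22) = x1
  generalize val a (vec 51) = x2
  generalize val a (vec 33) = x3
  generalize val a (vec 4) = x4
  generalize val b (vec 22) = y1
  generalize val b (vec 51) = y2
  generalize val b (vec 33) = y3
  generalize val b (vec 4) = y4
  generalize fold gEl [vec 22, vec 22, vec 22, vec 51, vec 33, vec 4] = u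
  generalize fold hEl [vec 22, vec 4, vec 33, vec 51] = v
  revert x1 x2 x3 x4 y1 y2 y3 y4 u v
  decide +kernel

theorem no_complement (H : Subgroup extGroup) (h1 : H ⊓ proj.ker = ⊥) : H ⊔ proj.ker ≠ ⊤ := by
  intro h2
  have hlift : ∀ g, ∃ a ∈ H, proj a = g := fun g => by
    obtain ⟨e, rfl⟩ := proj_surjective g
    obtain ⟨a, ha, n, hn, rfl⟩ := Subgroup.mem_sup_of_normal_right.1
      (show e ∈ H ⊔ proj.ker from h2 ▸ Subgroup.mem_top e)
    exact ⟨a, ha, by rw [map_mul, MonoidHom.mem_ker.1 hn, mul_one]⟩
  obtain ⟨a, ha, hga⟩ := hlift gEl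
  obtain ⟨b, hb, hgb⟩ := hlift hEl
  have hw : a * a * a * b * a * b * a * b * a * b = 1 := by
    rw [← Subgroup.mem_bot, ← h1, Subgroup.mem_inf]
    refine ⟨?_, MonoidHom.mem_ker.2 ?_⟩
    · exact mul_mem (mul_mem (mul_mem (mul_mem (mul_mem (mul_mem (mul_mem (mul_mem (mul_mem ha ha) ha) hb) ha) hb)
        ha) hb) ha) hb
    · simp only [map_mul, hga, hgb, gh_word]
  exact no_lift a.2 b.2 hga hgb (congrArg Subtype.val hw)

end CfsgLib.Sporadic.M23Cocode
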