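import Cfsg.Agent.Lib.SmallGroups.M24Group
import Cfsg.Prelude.Def_Spor_Mathieu

/-!
# A factor set on the code words of the binary Golay code vanishing at one point

The code loop cocycle `θ (x, y) = T (x, x, y)` on the eleven-dimensional space of words vanishing at the extra
point, together with the three identities it satisfies.
-/

set_option autoImplicit false

namespace CfsgLib.Sporadic.M23Cocode

open Cfsg CfsgLib.SmallGroups.Golay CfsgLib.SmallGroups.GolayOctads CfsgLib.SmallGroups.M24Group

/-- The coordinate space. -/
abbrev V : Type := Fin 11 → ZMod 2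

/-- The basis of the words vanishing at the extra point, as masks. -/
def bw (k : Fin 11) : ℕ := bas (k + 1) ^^^ (if (bas (k + 1)).testBit 23 then bas 0 else 0)

/-- The word with given coordinates. -/
def iota : V →ₗ[ZMod 2] (GolayPt → ZMod 2) where
  toFun x p := ∑ k, x k * word (bw k) p
  map_add' x y := by
    funext p
    simp [add_mul, Finset.sum_add_distrib]
  map_smul' c x := by
    funext p
    simp [Finset.mul_sum, mul_assoc]

/-- The coordinates of a word. -/
def res (w : GolayPt → ZMod 2) : V := fun k => w (pt (k + 1))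

theorem bw_unit : ∀ k j : Fin 11, word (bw k) (pt (j + 1)) = if k = j then 1 else 0 := by decide +kernel

theorem res_iota (x : V) : res (iota x) = x := by
  funext j
  simp [res, iota, bw_unit]

theorem iota_none (x : V) : iota x none = 0 := by
  have h : ∀ k : Fin 11, word (bw k) none = 0 := by decide +kernel
  simp [iota, h]

theorem iota_single (i : Fin 11) : iota (Pi.single i 1) = word (bw i) := by
  funext p
  simp [iota, Pi.single_apply]

theorem bw_mem (k : Fin 11) : word (bw k) ∈ golayCode := by
  rw [bw, word_xor]
  refine add_mem (word_bas_mem (by omega)) ?_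
  split
  · exact word_bas_mem (by norm_num)
  · simp [word_zero]

theorem iota_mem (x : V) : iota x ∈ golayCode := by
  have : iota x = ∑ k, x k • word (bw k) := by
    funext p
    simp [iota, Finset.sum_apply]
  rw [this]
  exact Submodule.sum_mem _ fun k _ => Submodule.smul_mem _ _ (bw_mem k)

theorem code_split {w : GolayPt → ZMod 2} (hw : w ∈ golayCode) :
    w = iota (res (w + w none • word (bas 0))) + w none • word (bas 0) := by
  refine code_induction (P := fun w => w = iota (res (w + w none • word (bas 0))) + w none • word (bas 0))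
    ?_ ?_ (fun v v' hv hv' => ?_) hw
  · simp [show res (0 : GolayPt → ZMod 2) = 0 from rfl]
  · decide +kernel
  · have h : res (v + v' + (v + v') none • word (bas 0)) =
        res (v + v none • word (bas 0)) + res (v' + v' none • word (bas 0)) := by
      funext j
      simp only [res, Pi.add_apply, Pi.smul_apply, add_smul]
      ring
    rw [h, map_add]
    conv_lhs => rw [hv, hv']
    simp only [Pi.add_apply, add_smul]
    abel

theorem iota_res {w : GolayPt → ZMod 2} (hw : w ∈ golayCode) (h0 : w none = 0) : iota (res w) = w := by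
  have := code_split hw
  rw [h0, zero_smul, add_zero, add_zero] at this
  exact this.symm

/-- Elimination of the twelve information positions: the code word agreeing with the unit word at a high position on
the twelve high positions. -/
def colKey (j : ℕ) : ℕ := (List.range 12).foldr (fun i acc => (if (bas i).testBit j then 2 ^ i else 0) ||| acc) 0

theorem colKey_spec : ∀ j < 24, 12 ≤ j → enc (colKey j) / 4096 = 2 ^ (j - 12) := by decide +kernel

theorem colKey_high : ∀ j p : Fin 24, 12 ≤ j.val → 12 ≤ p.val →
    word (enc (colKey j)) (pt p) = if j = p then 1 else 0 := by decide +kernel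

theorem mem_of_orth {w : GolayPt → ZMod 2} (h : ∀ c ∈ golayCode, ∑ p, w p * c p = 0) : w ∈ golayCode := by
  let u : GolayPt → ZMod 2 := ∑ i : Fin 12, w (pt i) • word (bas i)
  have hu : u ∈ golayCode := Submodule.sum_mem _ fun i _ => Submodule.smul_mem _ _ (word_bas_mem i.2)
  have hlow : ∀ i : Fin 12, u (pt i) = w (pt i) := fun i => by
    have hb : ∀ a b : Fin 12, word (bas a) (pt b) = if a = b then 1 else 0 := by decide +kernel
    simp [u, Finset.sum_apply, hb]
  suffices hall : w + u = 0 by
    have : w = u := by
      rw [← sub_eq_zero, ZModModule.sub_eq_add]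
      exact hall
    rwa [this]
  have hperp : ∀ c ∈ golayCode, ∑ p, (w + u) p * c p = 0 := fun c hc => by
    simp [add_mul, Finset.sum_add_distrib, h c hc, dot_eq_zero hu hc]
  have hlow' : ∀ p : GolayPt, idx p < 12 → (w + u) p = 0 := fun p hp => by
    have := hlow ⟨idx p, hp⟩
    simp only [pt_idx] at this
    rw [Pi.add_apply, this, ← two_mul, show (2 : ZMod 2) = 0 from rfl, zero_mul]
  funext q
  by_cases hq : idx q < 12
  · exact hlow' q hq
  · have key := hperp _ (word_enc_mem (colKey (idx q)))
    rw [Finset.sum_eq_single q] at key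
    · have := colKey_high ⟨idx q, idx_lt q⟩ ⟨idx q, idx_lt q⟩ (by simp; omega) (by simp; omega)
      simp only [pt_idx, if_pos] at this
      rwa [this, mul_one] at key
    · intro p _ hpq
      by_cases hp : idx p < 12
      · rw [hlow' p hp, zero_mul]
      · have := colKey_high ⟨idx q, idx_lt q⟩ ⟨idx p, idx_lt p⟩ (by simp; omega) (by simp; omega)
        simp only [pt_idx, Fin.mk.injEq] at this
        rw [this, if_neg fun e => hpq (idx_injective e.symm), mul_zero]
    · simp

/-- The table of the trilinear form. -/
def tblM : List (List ℕ) :=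
  [[512, 1668, 538, 804, 580, 712, 1584, 546, 1544, 1534, 834], [0, 4, 2041, 1076, 204, 524, 788, 21, 1092, 101, 269],
   [0, 0, 0, 163, 1091, 330, 50, 1034, 1570, 259, 402], [0, 0, 0, 32, 610, 2007, 432, 100, 1121, 49, 290],
   [0, 0, 0, 0, 64, 1096, 1967, 322, 1728, 329, 356], [0, 0, 0, 0, 0, 0, 29, 265, 1164, 1035, 792],
   [0, 0, 0, 0, 0, 0, 0, 536, 1050, 147, 273], [0, 0, 0, 0, 0, 0, 0, 0, 1072, 1089, 772],
   [0, 0, 0, 0, 0, 0, 0, 0, 1024, 1045, 767], [0, 0, 0, 0, 0, 0, 0, 0, 0, 0, 417],
   [0, 0, 0, 0, 0, 0, 0, 0, 0, 0, 0]]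

/-- Coefficients of the trilinear form. -/
def cof (i j k : Fin 11) : ZMod 2 := if (((tblM.getD i []).getD j 0)).testBit k then 1 else 0

/-- The trilinear form. -/
def T (x y z : V) : ZMod 2 := ∑ i, ∑ j, ∑ k, x i * y j * z k * cof i j k

/-- The factor set. -/
def theta (x y : V) : ZMod 2 := T x x y

/-- The triple intersection number. -/
def A (x y z : V) : ZMod 2 := ∑ p, iota x p * iota y p * iota z p

theorem T_add₁ (x x' y z : V) : T (x + x') y z = T x y z + T x' y z := by
  simp [T, add_mul, Finset.sum_add_distrib]

theorem T_add₂ (x y y' z : V) : T x (y + y') z = T x y z + T x y' z := by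
  simp [T, mul_add, add_mul, Finset.sum_add_distrib]

theorem T_add₃ (x y z z' : V) : T x y (z + z') = T x y z + T x y z' := by
  simp [T, mul_add, add_mul, Finset.sum_add_distrib]

theorem T_single (i j k : Fin 11) : T (Pi.single i 1) (Pi.single j 1) (Pi.single k 1) = cof i j k := by
  simp [T, Pi.single_apply]

/-- An additive function vanishing on the basis vanishes. -/
theorem eq_zero_of_single {f : V → ZMod 2} (hadd : ∀ x y, f (x + y) = f x + f y)
    (h : ∀ i, f (Pi.single i 1) = 0) (x : V) : f x = 0 := by
  have h0 : f 0 = 0 := by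
    have := hadd 0 0
    rwa [add_zero, left_eq_add] at this
  let g : V →+ ZMod 2 := { toFun := f, map_zero' := h0, map_add' := hadd }
  have hx : x = ∑ i, x i • (Pi.single i (1 : ZMod 2) : V) := by
    funext j
    simp [Finset.sum_apply, Pi.single_apply]
  rw [show f x = g x from rfl, hx, map_sum]
  refine Finset.sum_eq_zero fun i _ => ?_
  obtain hc | hc : x i = 0 ∨ x i = 1 := by generalize x i = c; revert c; decide
  · simp [hc]
  · rw [hc, one_smul]; exact h i

theorem cof_symm : ∀ i j k : Fin 11, cof i j k + cof j i k =
    ∑ p, word (bw i) p * word (bw j) p * word (bw k) p := by decide +kernel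

theorem T_symm (x y z : V) : T x y z + T y x z = A x y z := by
  have hh : ∀ a b : ZMod 2, a + b = 0 → a = b := by decide
  refine hh _ _ (eq_zero_of_single (f := fun x => T x y z + T y x z + A x y z) ?_ (fun i => ?_) x)
  · intro a b
    simp [T_add₁, T_add₂, A, add_mul, Finset.sum_add_distrib]
    ring
  refine eq_zero_of_single (f := fun y => T (Pi.single i 1) y z + T y (Pi.single i 1) z + A (Pi.single i 1) y z)
    ?_ (fun j => ?_) y
  · intro a b
    simp [T_add₁, T_add₂, A, add_mul, mul_add, Finset.sum_add_distrib]
    ring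
  refine eq_zero_of_single (f := fun z => T (Pi.single i 1) (Pi.single j 1) z + T (Pi.single j 1) (Pi.single i 1) z +
    A (Pi.single i 1) (Pi.single j 1) z) ?_ (fun k => ?_) z
  · intro a b
    simp [T_add₃, A, mul_add, Finset.sum_add_distrib]
    ring
  · simp only [T_single, cof_symm, A, iota_single, ← two_mul, show (2 : ZMod 2) = 0 from rfl, zero_mul]

theorem theta_add₂ (x y z : V) : theta x (y + z) = theta x y + theta x z := T_add₃ x x y z

theorem theta_deriv (x y z : V) : theta (x + y) z + theta x z + theta y z = A x y z := by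
  rw [← T_symm, theta, theta, theta, T_add₁, T_add₂, T_add₂]
  have : ∀ a b c d : ZMod 2, a + b + (c + d) + a + d = b + c := by decide
  exact this _ _ _ _

theorem theta_zero_left (y : V) : theta 0 y = 0 := by simp [theta, T]

/-- The weight of a word. -/
def wt (x : V) : ℕ := (support₂ (iota x)).card

/-- The quarter weight modulo two. -/
def qw (x : V) : ZMod 2 := ((wt x / 4 : ℕ) : ZMod 2)

theorem four_dvd_wt (x : V) : 4 ∣ wt x := by
  obtain ⟨k, hk, he⟩ := mem_code_iff.1 (iota_mem x)
  rw [wt, ← he, support₂_word, card_toSet]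
  rcases weights (enc k) (mem_cw.2 ⟨k, hk, rfl⟩) with h | h | h | h | h <;> rw [h] <;> norm_num

theorem wt_eq (x : V) : wt x = ∑ p, (iota x p).val := by
  rw [wt, support₂, Finset.card_filter]
  refine Finset.sum_congr rfl fun p _ => ?_
  generalize iota x p = a
  revert a; decide

theorem qw_third (x y z : V) :
    qw (x + y + z) + qw (x + y) + qw (x + z) + qw (y + z) + qw x + qw y + qw z = A x y z := by
  have key : ∀ a b c : ZMod 2, (a + b + c).val + a.val + b.val + c.val =
      (a + b).val + (a + c).val + (b + c).val + 4 * (a * b * c).val := by decide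
  have hsum : wt (x + y + z) + wt x + wt y + wt z =
      wt (x + y) + wt (x + z) + wt (y + z) + 4 * ∑ p, (iota x p * iota y p * iota z p).val := by
    simp only [wt_eq, map_add, Pi.add_apply, Finset.mul_sum, ← Finset.sum_add_distrib]
    exact Finset.sum_congr rfl fun p _ => key _ _ _
  obtain ⟨a₁, h₁⟩ := four_dvd_wt (x + y + z)
  obtain ⟨a₂, h₂⟩ := four_dvd_wt x
  obtain ⟨a₃, h₃⟩ := four_dvd_wt y
  obtain ⟨a₄, h₄⟩ := four_dvd_wt z
  obtain ⟨a₅, h₅⟩ := four_dvd_wt (x + y)
  obtain ⟨a₆, h₆⟩ := four_dvd_wt (x + z)
  obtain ⟨a₇, h₇⟩ := four_dvd_wt (y + z)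
  simp only [qw, A, h₁, h₂, h₃, h₄, h₅, h₆, h₇, Nat.mul_div_cancel_left _ (show 0 < 4 by norm_num)]
  have hn : a₁ + a₂ + a₃ + a₄ = a₅ + a₆ + a₇ + ∑ p, (iota x p * iota y p * iota z p).val := by omega
  have hc := congrArg (fun n : ℕ => (n : ZMod 2)) hn
  simp only [Nat.cast_add, Nat.cast_sum, ZMod.natCast_val, ZMod.cast_id', id_eq] at hc
  rw [show ∀ a b c d e f g : ZMod 2, a + e + f + g + b + c + d = (a + b + c + d) + (e + f + g) from
    fun a b c d e f g => by ring, hc]
  generalize ((a₅ : ZMod 2) + a₆ + a₇) = s
  generalize (∑ p, iota x p * iota y p * iota z p) = t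
  revert s t; decide

theorem theta_third (x y z : V) :
    theta (x + y + z) (x + y + z) + theta (x + y) (x + y) + theta (x + z) (x + z) + theta (y + z) (y + z) +
      theta x x + theta y y + theta z z = A x y z := by
  have hA : ∀ a b c : V, A a b c = A b a c ∧ A a b c = A a c b := fun a b c =>
    ⟨Finset.sum_congr rfl fun p _ => by ring, Finset.sum_congr rfl fun p _ => by ring⟩
  have e1 : A x y z = T x y z + T y x z := (T_symm x y z).symm
  have e2 : A x y z = T x z y + T z x y := by rw [(hA x y z).2]; exact (T_symm x z y).symm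
  have e3 : A x y z = T y z x + T z y x := by
    rw [(hA x y z).1, (hA y x z).2]; exact (T_symm y z x).symm
  have h3 : A x y z = (T x y z + T y x z) + (T x z y + T z x y) + (T y z x + T z y x) := by
    rw [← e1, ← e2, ← e3]
    generalize A x y z = a
    revert a; decide
  rw [h3]
  simp only [theta, T_add₁, T_add₂, T_add₃]
  ring_nf
  simp only [show (2 : ZMod 2) = 0 from rfl, show (3 : ZMod 2) = 1 from rfl, show (4 : ZMod 2) = 0 from rfl,
    show (5 : ZMod 2) = 1 from rfl, show (6 : ZMod 2) = 0 from rfl, show (7 : ZMod 2) = 1 from rfl,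
    mul_zero, zero_add, add_zero, mul_one]

/-- A function with vanishing third difference which vanishes on sums of at most two basis vectors vanishes. -/
theorem eq_zero_of_third {g : V → ZMod 2} (h0 : g 0 = 0)
    (h3 : ∀ x y z, g (x + y + z) + g (x + y) + g (x + z) + g (y + z) + g x + g y + g z = 0)
    (h1 : ∀ i, g (Pi.single i 1) = 0) (h2 : ∀ i j, g (Pi.single i 1 + Pi.single j 1) = 0) (x : V) : g x = 0 := by
  let B : V → V → ZMod 2 := fun a b => g (a + b) + g a + g b
  have hB : ∀ a a' b, B (a + a') b = B a b + B a' b := fun a a' b => by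
    have h := h3 a a' b
    simp only [B]
    revert h
    generalize g (a + a' + b) = u₁
    generalize g (a + a') = u₂
    generalize g (a + b) = u₃
    generalize g (a' + b) = u₄
    generalize g a = u₅
    generalize g a' = u₆
    generalize g b = u₇
    revert u₁ u₂ u₃ u₄ u₅ u₆ u₇
    decide +kernel
  have hs : ∀ a b, B a b = B b a := fun a b => by simp only [B, add_comm a b]; ring
  have hB0 : ∀ a b, B a b = 0 := fun a b => by
    refine eq_zero_of_single (f := fun a => B a b) (fun u v => hB u v b) (fun i => ?_) a
    refine eq_zero_of_single (f := fun b => B (Pi.single i 1) b) (fun u v => ?_) (fun j => ?_) b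
    · rw [hs, hB, hs u, hs v]
    · simp [B, h1, h2]
  refine eq_zero_of_single (f := g) (fun u v => ?_) h1 x
  have := hB0 u v
  simp only [B] at this
  revert this
  generalize g (u + v) = a
  generalize g u = b
  generalize g v = c
  revert a b c
  decide

theorem wt_small : (∀ i : Fin 11, theta (Pi.single i 1) (Pi.single i 1) = qw (Pi.single i 1)) ∧
    ∀ i j : Fin 11, theta (Pi.single i 1 + Pi.single j 1) (Pi.single i 1 + Pi.single j 1) =
      qw (Pi.single i 1 + Pi.single j 1) := by
  have hc : (∀ i : Fin 11, cof i i i = ((pc (bw i) / 4 : ℕ) : ZMod 2)) ∧ ∀ i j : Fin 11,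
      cof i i i + cof i i j + (cof i j i + cof i j j) + (cof j i i + cof j i j + (cof j j i + cof j j j)) =
        ((pc (bw i ^^^ bw j) / 4 : ℕ) : ZMod 2) := by decide +kernel
  have hw : ∀ n, (support₂ (word n)).card = pc n := fun n => by rw [support₂_word, card_toSet]
  refine ⟨fun i => ?_, fun i j => ?_⟩
  · rw [qw, wt, iota_single, hw, theta, T_single, hc.1]
  · rw [qw, wt, map_add, iota_single, iota_single, ← word_xor, hw, ← hc.2]
    simp only [theta, T_add₁, T_add₂, T_add₃, T_single]; ring

theorem theta_self (x : V) : theta x x = qw x := by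
  have hh : ∀ a b : ZMod 2, a + b = 0 ↔ a = b := by decide
  refine (hh _ _).1 (eq_zero_of_third (g := fun x => theta x x + qw x) ?_ (fun a b c => ?_) (fun i => ?_)
    (fun i j => ?_) x)
  · simp [theta_zero_left, qw, wt, support₂]
  · have h1 := theta_third a b c
    have h2 := qw_third a b c
    linear_combination (norm := ring_nf) h1 + h2 + (by generalize A a b c = t; revert t; decide :
      A a b c + A a b c = 0)
  · exact (hh _ _).2 (wt_small.1 i)
  · exact (hh _ _).2 (wt_small.2 i j)

theorem theta_comm (x y : V) : theta x y + theta y x = qw (x + y) + qw x + qw y := by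
  rw [← theta_self, ← theta_self, ← theta_self, theta_add₂]
  have h1 := theta_deriv x y x
  have h2 := theta_deriv x y y
  have hA : A x y x = A x y y := by
    refine Finset.sum_congr rfl fun p _ => ?_
    generalize iota x p = a
    generalize iota y p = b
    revert a b; decide
  rw [hA] at h1
  revert h1 h2
  generalize theta (x + y) x = a
  generalize theta (x + y) y = b
  generalize theta x x = c
  generalize theta y x = d
  generalize theta x y = e
  generalize theta y y = f
  generalize A x y y = g
  revert a b c d e f g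
  decide +kernel

end CfsgLib.Sporadic.M23Cocode
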