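import Cfsg.Agent.Lib.Sporadic.M24Config

/-!
Certified orbit trees of configuration stabilisers in `Cfsg.M24`.
-/

set_option autoImplicit false
set_option maxRecDepth 20000

namespace CfsgLib.Sporadic.M24Certs

open CfsgLib.SmallGroups.Golay CfsgLib.SmallGroups.M24Group CfsgLib.SmallGroups.Mathieu
  CfsgLib.Sporadic.M24Orbits CfsgLib.Sporadic.M24Config

/-- Generators fixing the configuration `Dodecad`. -/
def gensDodecad : List (List ℕ) := [[15, 23, 20, 3, 17, 13, 6, 2, 9, 10, 19, 22, 21, 0, 16, 4, 12, 1, 8, 7, 18, 14, 11, 5], [5, 1, 19, 3, 16, 15, 20, 11, 8, 6, 9, 2, 14, 0, 4, 21, 23, 17, 7, 18, 22, 13, 10, 12], [15, 21, 8, 3, 4, 5, 11, 20, 7, 2, 10, 22, 1, 12, 13, 16, 23, 0, 19, 6, 9, 14, 18, 17], [16, 0, 20, 22, 1, 5, 9, 3, 6, 2, 10, 18, 14, 23, 13, 4, 17, 12, 7, 11, 19, 15, 8, 21]]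

/-- Spanning tree `Dodecad` `12`. -/
def treeDodecad12 : Tree := .leaf

theorem certDodecad12 : cert gensDodecad [dodB] 10743859 treeDodecad12 cwKey enc
    ((cwOfWeight 12).filter fun n => pc (n &&& dodB) == 12) = true := by
  decide +kernel

/-- Spanning tree `Dodecad` `8`. -/
def treeDodecad8 : Tree := (.node 0 11884587 (.node 0 15069480 (.node 0 2194233 (.node 0 6551049 .leaf (.node 1 8511869 (.node 0 1290873 .leaf (.node 3 15934066 .leaf .leaf)) (.node 3 13099110 (.node 0 9517427 (.node 2 14850738 .leaf .leaf) (.node 1 12227731 .leaf (.node 2 11483425 .leaf .leaf))) .leaf))) (.node 1 10548633 (.node 0 2867773 (.node 1 11509880 .leaf .leaf) (.node 2 1307802 (.node 0 11472927 .leaf (.node 1 14895643 .leaf (.node 2 11613723 .leaf .leaf))) (.node 3 14804058 (.node 2 10976280 .leaf (.node 3 14853907 (.node 2 2610325 .leaf .leaf) .leaf)) .leaf))) (.node 2 9400490 (.node 0 10564015 (.node 2 11719082 .leaf .leaf) (.node 1 8837275 (.node 3 6647963 .leaf .leaf) (.node 2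 12202091 (.node 0 10805483 .leaf (.node 2 2284139 .leaf .leaf)) (.node 3 14842025 (.node 1 195645 .leaf .leaf) .leaf)))) (.node 3 14868976 (.node 0 223863 (.node 0 13874243 (.node 2 10984963 .leaf .leaf) (.node 1 10190967 .leaf (.node 3 9908775 .leaf .leaf))) (.node 1 3390737 (.node 0 7262739 .leaf (.node 3 9426002 (.node 0 11211250 .leaf .leaf) .leaf)) (.node 2 1538225 (.node 0 6795527 (.node 1 11167139 .leaf .leaf) (.node 1 12830901 .leaf (.node 2 14201395 (.node 1 6673507 .leaf .leaf) .leaf))) .leaf))) .leaf)))) (.node 1 12644542 (.node 0 11741245 (.node 0 5697579 (.node 0 10856731 .leaf (.node 1 6472891 .leaf .leaf)) (.node 1 13348909 (.node 1 11457577 .leaf (.node 2 8884587 .leaf .leaf)) (.node 2 12768057 (.node 0 2338362 (.node 3 13014071 .leaf .leaf) (.node 3 6386038 (.node 1 10085651 .leaf .leaf) .leaf)) (.node 3 16748578 (.node 0 10779058 .leaf (.node 2 11485795 .leaf (.node 3 2808241 (.node 2 5366003 .leaf .leaf) .leaf))) .leaf)))) (.node 1 2743323 (.node 0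 15454360 .leaf (.node 1 10838590 (.node 1 9023707 .leaf (.node 2 11170108 .leaf (.node 3 15900839 (.node 1 6994979 .leaf .leaf) .leaf))) (.node 3 4713491 (.node 0 13342995 (.node 1 10966310 .leaf .leaf) (.node 1 10684087 .leaf .leaf)) .leaf))) (.node 2 3617082 (.node 1 12837259 (.node 1 10624315 .leaf (.node 2 12038281 .leaf .leaf)) (.node 2 11031227 (.node 2 3334270 .leaf .leaf) (.node 3 13291747 (.node 1 3595314 .leaf (.node 2 3647587 (.node 3 9409201 .leaf .leaf) .leaf)) .leaf))) (.node 3 15753531 (.node 0 8907305 (.node 1 10653949 .leaf (.node 3 15151284 (.node 0 3307815 .leaf .leaf) .leaf)) (.node 1 4306235 .leaf (.node 2 2552504 .leaf (.node 3 15311203 (.node 0 8452849 .leaf (.node 2 11000032 (.node 1 11729044 .leaf .leaf) .leaf)) .leaf)))) .leaf)))) (.node 2 15393322 (.node 0 8481979 (.node 1 8493631 (.node 1 11128942 .leaf (.node 3 7815223 .leaf .leaf)) (.node 2 15905848 (.node 3 15258930 (.node 3 2157939 .leaf .leaf) .leaf) (.node 3 15148075 (.node 1 8566443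 .leaf (.node 3 14914977 .leaf .leaf)) .leaf))) (.node 2 2584685 (.node 1 10150073 .leaf (.node 2 8976683 (.node 1 2412863 .leaf (.node 2 6533354 .leaf (.node 3 15034481 (.node 3 10986402 .leaf .leaf) .leaf))) (.node 3 13890208 (.node 0 2440247 .leaf .leaf) .leaf))) (.node 3 14727477 (.node 0 7531057 (.node 3 9285942 .leaf .leaf) (.node 1 2749733 (.node 0 3797649 .leaf (.node 1 11330353 .leaf .leaf)) (.node 2 4706738 (.node 0 10697494 (.node 1 9138503 .leaf .leaf) (.node 2 12394675 .leaf .leaf)) (.node 3 11911538 (.node 3 2794227 .leaf .leaf) .leaf)))) .leaf))) (.node 3 7332001 (.node 0 129431 (.node 0 15962645 (.node 1 15430752 .leaf (.node 2 8897303 .leaf (.node 3 3920150 (.node 2 10576851 .leaf .leaf) .leaf))) (.node 1 11094327 .leaf (.node 2 15839634 (.node 0 10902069 (.node 3 3535014 .leaf .leaf) (.node 2 12014226 .leaf .leaf)) (.node 3 9920603 .leaf .leaf)))) (.node 1 10923185 (.node 0 4907319 (.node 0 9677459 .leaf (.node 1 3114291 .leaf .leaf)) (.node 1 2341541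 (.node 0 7402519 .leaf (.node 1 11200613 (.node 3 11909680 .leaf .leaf) (.node 2 13750567 .leaf .leaf))) (.node 2 6018097 (.node 0 3127442 .leaf (.node 1 15189552 .leaf (.node 2 8758899 .leaf (.node 3 752946 .leaf .leaf)))) (.node 3 10851514 (.node 2 12272698 .leaf .leaf) .leaf)))) (.node 2 10350689 (.node 0 2470385 (.node 0 2290517 .leaf (.node 1 11659681 .leaf (.node 2 10082482 .leaf .leaf))) (.node 1 16044209 (.node 3 2744762 .leaf .leaf) (.node 2 9157218 (.node 0 14693619 .leaf (.node 1 11980871 .leaf .leaf)) (.node 3 11233968 .leaf .leaf)))) (.node 3 8632760 (.node 0 6435391 (.node 0 11725835 .leaf (.node 1 779371 .leaf .leaf)) (.node 1 10737933 .leaf (.node 2 13832379 (.node 1 12835882 .leaf .leaf) (.node 3 15093882 (.node 0 10709354 .leaf (.node 3 6353827 .leaf .leaf)) .leaf)))) .leaf)))) .leaf)))) (.node 1 13267995 (.node 0 11241643 (.node 1 10926126 (.node 2 7033131 (.node 1 8840506 .leaf (.node 3 4454753 .leaf .leaf)) .leaf) (.node 2 15974505 (.node 0 391290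 (.node 3 13001395 (.node 0 8629543 .leaf .leaf) .leaf) (.node 3 7058224 (.node 2 8737015 .leaf (.node 3 8575350 (.node 3 3437171 .leaf .leaf) .leaf)) .leaf)) (.node 3 6789177 (.node 0 6486298 (.node 3 12906835 .leaf .leaf) (.node 2 13484091 (.node 3 6498739 .leaf .leaf) .leaf)) .leaf))) (.node 1 480827 (.node 0 11253002 (.node 2 10704075 (.node 1 9599546 .leaf .leaf) (.node 3 14867537 (.node 0 7063666 .leaf (.node 1 3372596 .leaf (.node 3 2488082 (.node 2 11105430 .leaf .leaf) .leaf))) .leaf)) (.node 1 8635130 (.node 0 8598654 (.node 1 10211851 .leaf (.node 3 15881763 .leaf .leaf)) (.node 1 11769946 .leaf .leaf)) (.node 2 11052095 (.node 1 2994731 .leaf (.node 2 2348408 (.node 0 2847322 .leaf .leaf) (.node 3 15830067 (.node 0 13563952 .leaf (.node 1 14792230 .leaf .leaf)) .leaf))) (.node 3 4420775 (.node 1 9096755 (.node 0 13345970 .leaf (.node 1 2593398 .leaf .leaf)) (.node 2 11842851 (.node 2 2872994 .leaf (.node 3 11126001 .leaf .leaf)) (.node 3 9663785 .leaf .leaf)))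 .leaf)))) (.node 2 2536539 (.node 0 11190619 (.node 2 2353369 (.node 0 4444255 .leaf .leaf) (.node 3 6404691 (.node 2 15063062 .leaf .leaf) .leaf)) (.node 1 3367595 (.node 0 8778767 (.node 3 15950993 .leaf .leaf) (.node 1 12757115 .leaf (.node 2 11596333 (.node 0 3531833 .leaf .leaf) .leaf))) (.node 3 12703379 (.node 0 11246644 (.node 0 8024242 .leaf (.node 1 11530756 .leaf .leaf)) (.node 1 10575474 (.node 1 9564758 .leaf (.node 3 2549287 .leaf .leaf)) (.node 2 12035094 (.node 0 10375475 .leaf .leaf) (.node 3 2319647 (.node 1 9118523 .leaf .leaf) .leaf)))) .leaf))) (.node 3 14777603 (.node 0 15325729 (.node 0 6421680 (.node 1 10612245 .leaf (.node 2 13988914 .leaf .leaf)) (.node 1 10810484 (.node 0 3891569 .leaf (.node 3 11593394 .leaf .leaf)) (.node 3 2615604 (.node 0 5468947 .leaf (.node 3 9875698 .leaf .leaf)) .leaf))) (.node 1 8419127 (.node 0 12297761 (.node 1 15118945 .leaf (.node 2 8640101 .leaf .leaf)) (.node 1 643955 .leaf (.node 2 2274742 (.node 0 12214807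 .leaf (.node 2 3233203 .leaf .leaf)) (.node 3 11625575 (.node 2 10682144 .leaf .leaf) .leaf)))) (.node 2 15135874 (.node 1 2260627 (.node 0 15451143 .leaf .leaf) (.node 2 4158467 (.node 0 11391363 .leaf (.node 2 11073091 .leaf .leaf)) .leaf)) (.node 3 11003201 (.node 1 11678641 (.node 2 1233591 .leaf .leaf) (.node 2 9174145 (.node 0 6918327 .leaf .leaf) (.node 3 10729168 (.node 0 2774135 .leaf (.node 1 11762241 .leaf (.node 3 10671646 .leaf .leaf))) .leaf))) .leaf)))) .leaf)))) (.node 2 10908427 (.node 0 10602283 (.node 0 9041464 (.node 0 2831545 .leaf (.node 1 10867289 (.node 1 11628792 .leaf (.node 2 9168926 .leaf (.node 3 6546070 .leaf .leaf))) (.node 3 14838838 (.node 0 14379043 .leaf .leaf) .leaf))) (.node 1 10531706 (.node 0 10643065 .leaf (.node 2 2316478 .leaf (.node 3 14729847 (.node 3 3253047 .leaf .leaf) .leaf))) (.node 2 10740908 (.node 0 1667135 .leaf (.node 1 11188761 .leaf .leaf)) (.node 3 6530165 (.node 0 1767507 (.node 0 15171795 .leaf (.node 3 9271827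 .leaf .leaf)) (.node 2 8772913 (.node 1 10605492 .leaf (.node 3 2581746 .leaf .leaf)) (.node 3 9672498 (.node 0 11417138 .leaf .leaf) .leaf))) .leaf)))) (.node 1 160251 (.node 0 10723919 (.node 0 9491579 (.node 3 6907443 .leaf .leaf) .leaf) (.node 1 1296699 (.node 0 13087258 .leaf (.node 1 14909758 (.node 2 10961337 .leaf (.node 3 7508339 .leaf .leaf)) (.node 2 14787257 .leaf (.node 3 5189747 (.node 0 10664387 .leaf (.node 1 9946275 .leaf (.node 2 11311219 .leaf (.node 3 8608675 .leaf .leaf)))) .leaf)))) (.node 2 3193019 (.node 0 15130653 (.node 2 1044761 .leaf .leaf) (.node 1 6416431 (.node 3 14131505 .leaf .leaf) (.node 2 7459386 .leaf .leaf))) (.node 3 12677739 (.node 0 10599529 .leaf (.node 3 14902053 (.node 0 1179171 .leaf (.node 1 9090417 .leaf (.node 2 8843685 .leaf (.node 3 11776356 .leaf .leaf)))) .leaf)) .leaf)))) (.node 2 2814095 (.node 0 11649183 (.node 0 9949244 .leaf (.node 1 15284282 (.node 3 15124771 .leaf .leaf) (.node 3 8101915 .leaf .leaf))) (.node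 1 3041339 (.node 2 6877305 .leaf (.node 3 12957859 (.node 1 10542247 .leaf .leaf) .leaf)) (.node 2 3273035 (.node 2 10615434 (.node 1 10516575 .leaf .leaf) (.node 3 13361745 (.node 0 236787 .leaf (.node 1 11998321 .leaf .leaf)) .leaf)) (.node 3 13760537 (.node 1 14767165 (.node 0 3930152 .leaf (.node 3 7595298 .leaf .leaf)) (.node 3 15687954 .leaf .leaf)) .leaf)))) (.node 3 14807237 (.node 0 3266677 (.node 0 7860304 (.node 0 2578771 (.node 2 15263891 .leaf .leaf) .leaf) (.node 2 12708658 (.node 0 12795441 .leaf .leaf) (.node 3 2089522 (.node 3 9058487 .leaf .leaf) .leaf))) (.node 1 12090417 (.node 1 4583989 (.node 3 9658806 .leaf .leaf) (.node 2 4388466 (.node 0 11218003 .leaf .leaf) (.node 3 11398178 .leaf .leaf))) (.node 2 9959682 (.node 0 15012659 (.node 2 11452598 .leaf (.node 3 2343399 .leaf .leaf)) (.node 1 14832023 (.node 0 11782694 .leaf (.node 2 3596691 .leaf .leaf)) (.node 2 15413891 (.node 1 8813667 .leaf .leaf) (.node 3 11432145 .leaf .leaf)))) (.node 3 11789080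 (.node 1 14889305 .leaf (.node 3 15380566 .leaf .leaf)) .leaf)))) .leaf)))) (.node 3 16445697 (.node 0 2476723 (.node 0 12842260 (.node 0 3873331 (.node 3 1038375 .leaf .leaf) (.node 1 11228945 (.node 2 8578263 .leaf .leaf) (.node 2 8861075 (.node 0 11178791 .leaf .leaf) (.node 3 11695442 .leaf .leaf)))) (.node 1 10594550 (.node 0 13791349 (.node 2 441139 .leaf .leaf) (.node 2 15948080 (.node 0 6781474 .leaf (.node 3 3076450 .leaf .leaf)) (.node 3 11960891 .leaf .leaf))) (.node 2 16375860 (.node 1 15578129 (.node 1 10843809 .leaf .leaf) (.node 2 8876912 (.node 0 2307939 .leaf (.node 1 9687505 .leaf (.node 3 10646246 .leaf .leaf))) (.node 3 12233010 .leaf .leaf))) (.node 3 499903 (.node 0 9613599 (.node 2 2331547 .leaf (.node 3 16339027 .leaf .leaf)) (.node 2 12161337 .leaf .leaf)) .leaf)))) (.node 1 6714673 (.node 0 2878211 (.node 1 10887543 (.node 0 9626467 .leaf (.node 1 1814947 .leaf (.node 3 11637475 .leaf .leaf))) (.node 3 8894549 (.node 1 12275877 .leaf .leaf)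 .leaf)) (.node 1 255921 (.node 0 767511 .leaf (.node 1 10718065 .leaf (.node 2 9548981 (.node 0 4108341 .leaf .leaf) .leaf))) (.node 2 849075 (.node 0 11248021 .leaf (.node 2 3781746 (.node 1 16114179 .leaf .leaf) .leaf)) (.node 3 8517090 (.node 0 11088501 (.node 0 3339489 .leaf .leaf) (.node 1 11590419 (.node 3 3006551 .leaf .leaf) (.node 2 11746466 (.node 1 12777991 .leaf .leaf) .leaf))) .leaf)))) (.node 2 520899 (.node 0 10589527 (.node 0 12243568 (.node 3 2685494 .leaf .leaf) (.node 1 12153634 .leaf (.node 2 10734994 (.node 0 13324854 .leaf .leaf) (.node 3 3393107 .leaf .leaf)))) (.node 1 11684083 (.node 1 5486646 .leaf .leaf) (.node 2 12171271 (.node 1 15495207 .leaf (.node 2 14930754 (.node 2 10971271 .leaf .leaf) (.node 3 12568593 .leaf .leaf))) (.node 3 8614557 (.node 0 3380271 (.node 0 12382234 .leaf .leaf) (.node 1 9132153 .leaf .leaf)) .leaf)))) (.node 3 11139408 (.node 0 6509297 (.node 0 2358342 (.node 3 9893393 .leaf .leaf) (.node 1 9694320 .leaf (.node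 2 9758775 .leaf (.node 3 258862 .leaf .leaf)))) (.node 1 11890965 (.node 0 3658529 (.node 2 9036455 .leaf (.node 3 782580 .leaf .leaf)) (.node 1 13201841 .leaf (.node 2 9106322 .leaf (.node 3 12312770 .leaf .leaf)))) (.node 2 12810450 (.node 0 14882919 (.node 0 15792226 .leaf (.node 1 10155046 .leaf .leaf)) (.node 1 9657367 .leaf (.node 2 16136211 .leaf .leaf))) (.node 3 10938962 (.node 0 12797299 .leaf (.node 1 3354839 .leaf (.node 2 7043093 (.node 0 7592067 .leaf (.node 1 9397301 .leaf .leaf)) (.node 3 10793623 (.node 0 11715893 .leaf (.node 1 2717923 .leaf .leaf)) .leaf)))) .leaf)))) .leaf)))) .leaf))))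

theorem certDodecad8 : cert gensDodecad [dodB] 15953934 treeDodecad8 cwKey enc
    ((cwOfWeight 12).filter fun n => pc (n &&& dodB) == 8) = true := by
  decide +kernel

/-- Spanning tree `Dodecad` `6`. -/
def treeDodecad6 : Tree := (.node 0 3529112 (.node 0 6771484 (.node 0 3366666 (.node 0 15554058 (.node 0 11099560 .leaf (.node 1 8681178 .leaf (.node 2 11428942 (.node 3 15777409 .leaf .leaf) (.node 3 6483333 (.node 1 2764597 .leaf (.node 2 5633409 (.node 0 2988821 .leaf (.node 1 14700465 .leaf .leaf)) .leaf)) .leaf)))) (.node 1 12739422 (.node 0 9637483 (.node 0 13415530 .leaf .leaf) (.node 1 1774939 (.node 0 11440842 .leaf (.node 1 14107434 .leaf (.node 3 4939331 .leaf .leaf))) (.node 2 2505117 (.node 3 14012618 .leaf .leaf) (.node 3 15741767 (.node 0 11849313 .leaf (.node 2 2546566 .leaf (.node 3 12174149 .leaf .leaf))) .leaf)))) (.node 2 14706319 (.node 0 10079277 (.node 1 15503932 (.node 3 7391670 .leaf .leaf) .leaf) (.node 2 3601676 (.node 1 6972313 .leaf (.node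 3 14218448 (.node 0 3082485 .leaf .leaf) .leaf)) (.node 3 15836429 (.node 0 1890873 .leaf (.node 2 8902536 .leaf .leaf)) .leaf))) (.node 3 5174341 (.node 1 4081329 (.node 0 1041798 (.node 0 10032023 .leaf (.node 2 12137921 .leaf .leaf)) (.node 1 4696816 (.node 1 11766981 .leaf .leaf) (.node 2 1631861 .leaf (.node 3 638126 .leaf .leaf)))) (.node 2 900419 (.node 1 11813799 .leaf .leaf) (.node 3 9535376 .leaf .leaf))) .leaf)))) (.node 1 9135576 (.node 0 725743 (.node 0 11580622 (.node 0 12337277 .leaf (.node 1 7895563 (.node 2 6615630 .leaf .leaf) .leaf)) (.node 1 10405994 (.node 0 12919290 (.node 0 8534893 .leaf .leaf) (.node 2 7023209 .leaf (.node 3 7092913 (.node 2 6082678 .leaf .leaf) .leaf))) (.node 2 11569519 (.node 0 13951608 .leaf (.node 2 6540200 .leaf (.node 3 8225393 (.node 2 9292404 .leaf .leaf) .leaf))) .leaf))) (.node 1 9902873 (.node 0 6723370 (.node 1 2287562 .leaf (.node 3 4249077 .leaf .leaf)) (.node 1 12800492 (.node 0 3226222 .leaf (.node 1 10149144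 .leaf (.node 3 7500648 .leaf .leaf))) (.node 2 13271711 (.node 1 3087466 .leaf (.node 3 7411999 (.node 2 14992282 .leaf .leaf) .leaf)) .leaf))) (.node 2 9583833 (.node 0 7241839 (.node 1 4105386 .leaf (.node 2 3000681 (.node 1 11837884 .leaf .leaf) (.node 3 5348273 (.node 0 6733332 .leaf .leaf) .leaf))) (.node 2 5414427 (.node 3 5068055 (.node 2 11314642 .leaf .leaf) .leaf) .leaf)) (.node 3 14827082 (.node 1 1209935 (.node 3 14251525 (.node 2 8828742 .leaf .leaf) .leaf) (.node 2 6708239 (.node 0 16369930 .leaf .leaf) (.node 3 14997253 (.node 0 3788592 (.node 2 12674804 .leaf .leaf) (.node 1 2652144 (.node 0 2844357 .leaf .leaf) (.node 3 3270100 .leaf .leaf))) .leaf))) .leaf)))) (.node 2 9200031 (.node 0 9667501 (.node 0 1357374 .leaf (.node 3 8065148 (.node 1 14672904 .leaf .leaf) .leaf)) (.node 1 858555 (.node 0 14857100 (.node 0 3165759 .leaf .leaf) (.node 1 8767918 (.node 0 13710140 .leaf .leaf) (.node 2 16285946 (.node 3 6851387 .leaf .leaf) (.node 3 4671723 (.node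 0 12695886 .leaf (.node 2 16558121 (.node 2 5231208 .leaf .leaf) .leaf)) .leaf)))) (.node 2 3846616 (.node 0 2507487 (.node 0 9684302 .leaf .leaf) (.node 1 7825673 (.node 1 12723645 .leaf (.node 2 13431433 .leaf (.node 3 13611456 (.node 2 10426563 .leaf .leaf) .leaf))) (.node 2 1137371 (.node 0 15176780 .leaf (.node 2 15772190 .leaf .leaf)) .leaf))) (.node 3 15804619 (.node 0 12900461 (.node 0 7448952 (.node 3 13534066 .leaf .leaf) (.node 1 3724476 .leaf (.node 2 5220650 .leaf .leaf))) (.node 1 13646895 (.node 3 16598305 .leaf .leaf) (.node 3 15696649 (.node 0 57274 .leaf (.node 1 10892776 (.node 2 1727659 .leaf .leaf) .leaf)) .leaf))) .leaf)))) (.node 3 5435846 (.node 0 11864663 (.node 0 14079328 (.node 0 2960242 (.node 3 8817383 .leaf .leaf) (.node 1 7526288 .leaf (.node 2 994979 .leaf .leaf))) (.node 2 15387412 (.node 3 3455318 (.node 2 6904722 .leaf (.node 3 10273491 .leaf .leaf)) .leaf) (.node 3 4162183 (.node 0 9754006 .leaf (.node 1 15608034 .leaf (.node 3 1808541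 (.node 3 6248474 .leaf .leaf) .leaf))) .leaf))) (.node 1 8015123 (.node 1 4663094 (.node 0 10108675 .leaf (.node 1 9144259 .leaf .leaf)) (.node 2 6612689 (.node 0 773461 .leaf (.node 1 3223281 .leaf (.node 2 1965076 .leaf .leaf))) .leaf)) (.node 2 3488643 (.node 1 12610023 (.node 2 7780768 .leaf (.node 3 11871081 (.node 3 15434468 .leaf .leaf) .leaf)) (.node 3 9421005 (.node 2 10201417 .leaf (.node 3 7551640 .leaf .leaf)) .leaf)) (.node 3 9991001 (.node 0 2590441 (.node 0 587102 .leaf (.node 1 11709160 .leaf (.node 3 4429500 (.node 2 9766207 .leaf .leaf) .leaf))) (.node 1 5591417 (.node 0 2603848 .leaf (.node 1 13747640 .leaf (.node 3 4940770 .leaf .leaf))) (.node 2 178910 .leaf (.node 3 15297094 (.node 1 10237015 .leaf (.node 3 11971333 .leaf .leaf)) .leaf)))) .leaf)))) .leaf)))) (.node 1 14772636 (.node 0 5462573 (.node 0 7715850 (.node 0 15489305 (.node 1 357820 (.node 0 3879693 .leaf .leaf) (.node 3 6678978 .leaf .leaf)) .leaf) (.node 1 13288572 (.node 0 1779962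 (.node 0 12988623 .leaf (.node 2 15735417 .leaf .leaf)) (.node 1 4167192 (.node 1 15164104 .leaf (.node 2 8996447 .leaf (.node 3 4906134 .leaf .leaf))) (.node 2 470393 (.node 3 13047522 .leaf .leaf) (.node 3 7356210 (.node 1 4319047 (.node 1 12060531 .leaf (.node 3 9643861 .leaf .leaf)) (.node 2 6575798 .leaf (.node 3 9225575 (.node 1 3969970 .leaf .leaf) .leaf))) .leaf)))) (.node 2 12886831 (.node 0 9482041 (.node 0 5154361 .leaf (.node 3 15533174 .leaf .leaf)) (.node 1 2659819 (.node 0 11068124 .leaf (.node 2 3263722 .leaf (.node 3 4312697 .leaf .leaf))) (.node 3 15794677 (.node 0 1505892 .leaf (.node 3 3900266 (.node 3 4889205 .leaf .leaf) .leaf)) .leaf))) (.node 3 6254884 (.node 2 9188323 (.node 1 1366499 .leaf (.node 2 3840230 .leaf .leaf)) (.node 3 10123744 (.node 2 5389027 .leaf (.node 3 11303528 .leaf .leaf)) .leaf)) .leaf)))) (.node 1 8994077 (.node 0 8032937 (.node 0 2419870 .leaf (.node 1 6745192 (.node 0 4811099 .leaf (.node 1 3319453 .leaf (.node 2 5078057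 (.node 0 6928777 .leaf .leaf) (.node 3 12892080 (.node 2 2036918 .leaf .leaf) .leaf)))) (.node 3 4839740 (.node 1 11388188 (.node 3 7515346 .leaf .leaf) (.node 3 5663090 .leaf .leaf)) .leaf))) (.node 1 9261869 (.node 1 9228792 (.node 0 2302972 .leaf .leaf) (.node 2 9085422 (.node 0 9446143 .leaf (.node 1 4102411 .leaf (.node 2 3348969 .leaf .leaf))) (.node 3 7563492 (.node 1 14330901 .leaf .leaf) .leaf))) (.node 2 12752346 (.node 0 11143806 (.node 1 2076750 .leaf (.node 2 6441341 .leaf (.node 3 7641639 (.node 0 16051472 .leaf .leaf) .leaf))) (.node 3 6313819 (.node 0 11259464 .leaf .leaf) .leaf)) (.node 3 16206914 (.node 0 13457762 (.node 3 2517985 .leaf .leaf) (.node 1 13776534 (.node 0 12454951 .leaf (.node 2 3544855 .leaf (.node 3 12080399 .leaf .leaf))) (.node 2 15625729 (.node 1 407285 .leaf (.node 3 10861956 .leaf .leaf)) (.node 3 3061633 (.node 0 2672535 (.node 0 10208916 .leaf .leaf) (.node 2 1692871 .leaf .leaf)) .leaf)))) .leaf)))) (.node 2 14053784 (.node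 0 2558767 (.node 0 13694730 (.node 0 11341369 .leaf (.node 3 15230293 .leaf .leaf)) (.node 2 15253933 (.node 0 1174204 .leaf (.node 1 2932024 .leaf (.node 2 1565160 .leaf .leaf))) (.node 3 5738725 (.node 1 16436384 .leaf (.node 2 10324771 (.node 1 14979558 .leaf .leaf) (.node 3 1790904 .leaf .leaf))) .leaf))) (.node 1 4414873 (.node 1 8605500 (.node 0 5977642 .leaf .leaf) (.node 2 13935771 .leaf (.node 3 4683082 (.node 0 11082571 .leaf (.node 1 9586587 .leaf (.node 2 11287691 .leaf (.node 3 12744641 (.node 0 2723431 .leaf .leaf) .leaf)))) .leaf))) (.node 2 1979035 (.node 0 10913167 (.node 1 2767786 .leaf (.node 3 7443673 .leaf .leaf)) (.node 2 3707487 (.node 0 11977944 .leaf .leaf) (.node 3 13195407 (.node 0 15833260 .leaf .leaf) .leaf))) (.node 3 15233482 (.node 1 1342747 (.node 1 4277183 .leaf (.node 2 6862490 .leaf (.node 3 13460675 (.node 2 12500032 .leaf .leaf) .leaf))) (.node 2 3569866 (.node 1 5400735 .leaf .leaf) (.node 3 14740297 (.node 1 3159421 (.node 3 14272098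 .leaf .leaf) (.node 3 15049556 .leaf .leaf)) .leaf))) .leaf)))) (.node 3 16163146 (.node 0 8670075 (.node 0 12822376 (.node 1 11704137 .leaf (.node 3 14817140 .leaf .leaf)) (.node 1 1151486 .leaf (.node 2 6990012 (.node 3 13932858 (.node 3 7094771 .leaf .leaf) .leaf) .leaf))) (.node 1 7484811 (.node 0 11323919 (.node 2 7070028 .leaf (.node 3 7710869 .leaf .leaf)) (.node 1 4353835 (.node 2 6599853 .leaf (.node 3 12924261 .leaf .leaf)) (.node 2 3462795 (.node 3 4842653 .leaf .leaf) (.node 3 13227337 (.node 0 2726648 .leaf (.node 2 8891594 .leaf (.node 3 6516560 .leaf .leaf))) .leaf)))) (.node 2 3103369 (.node 1 8808700 .leaf (.node 2 14213199 (.node 3 16329489 .leaf .leaf) (.node 3 4716684 .leaf .leaf))) (.node 3 15242193 (.node 0 2281204 (.node 0 5989462 (.node 2 10764113 .leaf .leaf) (.node 1 3910228 .leaf (.node 2 5336373 .leaf .leaf))) (.node 1 3505504 (.node 1 13689749 (.node 0 1543733 .leaf .leaf) (.node 3 9365216 .leaf .leaf)) (.node 2 1558742 .leaf (.node 3 2214750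 (.node 0 13850200 .leaf (.node 1 12132702 .leaf (.node 3 5677655 .leaf .leaf))) .leaf)))) .leaf)))) .leaf)))) (.node 2 14246554 (.node 0 8854701 (.node 0 7909678 (.node 0 11823769 .leaf (.node 1 7136523 (.node 2 3011784 .leaf (.node 3 12692945 .leaf .leaf)) (.node 2 2446314 (.node 0 10581836 (.node 2 8551822 .leaf .leaf) (.node 2 12085422 .leaf .leaf)) (.node 3 14207345 .leaf .leaf)))) (.node 1 9099948 (.node 0 7414974 .leaf (.node 1 3070044 (.node 0 7553498 .leaf (.node 1 4153500 .leaf (.node 3 5569170 (.node 1 6376663 .leaf (.node 2 8204822 .leaf .leaf)) .leaf))) (.node 2 5448047 (.node 2 10787753 .leaf (.node 3 14357345 .leaf .leaf)) (.node 3 7632956 (.node 2 5010234 .leaf (.node 3 14475682 .leaf .leaf)) .leaf)))) (.node 2 14320939 (.node 0 9218746 (.node 3 14944447 .leaf .leaf) (.node 3 6888817 (.node 0 7011008 .leaf (.node 1 9824036 .leaf (.node 2 12897522 .leaf (.node 3 511842 .leaf .leaf)))) .leaf)) .leaf))) (.node 1 12917851 (.node 0 15374696 (.node 0 6318842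 (.node 0 12807245 .leaf .leaf) (.node 3 6609776 (.node 3 320502 .leaf .leaf) .leaf)) (.node 1 9524910 (.node 0 12399660 (.node 0 3961257 .leaf .leaf) (.node 2 11675438 (.node 2 2250669 .leaf (.node 3 16290917 .leaf .leaf)) (.node 3 8021037 (.node 2 325481 .leaf .leaf) .leaf))) (.node 2 15633434 (.node 1 2569870 .leaf (.node 2 7291993 (.node 0 776650 .leaf (.node 1 9905848 .leaf (.node 2 9235545 .leaf .leaf))) (.node 3 6593939 .leaf .leaf))) (.node 3 6768515 (.node 0 9035526 .leaf (.node 1 8531954 (.node 2 7478453 .leaf (.node 3 10753647 .leaf .leaf)) (.node 2 12379269 (.node 2 1832768 (.node 0 2954963 .leaf .leaf) .leaf) (.node 3 243149 .leaf .leaf)))) .leaf)))) (.node 2 11940444 (.node 0 3556715 (.node 2 2682537 .leaf (.node 3 4830945 (.node 0 2669781 .leaf (.node 2 9804902 .leaf .leaf)) .leaf)) (.node 1 5992649 (.node 0 2463951 .leaf (.node 1 14044217 .leaf (.node 2 9747019 .leaf (.node 3 13335304 (.node 1 8803677 (.node 3 7435970 .leaf .leaf) .leaf) .leaf)))) (.node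 2 678687 (.node 0 15959690 (.node 2 12011021 .leaf .leaf) (.node 1 999806 (.node 1 10453402 .leaf .leaf) (.node 2 6332895 (.node 0 9620061 .leaf (.node 1 3747115 .leaf .leaf)) (.node 3 5601351 (.node 2 15514370 .leaf (.node 3 10445697 .leaf .leaf)) .leaf)))) (.node 3 16306822 (.node 0 11881652 .leaf (.node 1 7109714 (.node 0 15419841 .leaf .leaf) (.node 2 3629894 (.node 0 9787203 .leaf (.node 1 14295507 .leaf (.node 3 10138309 .leaf .leaf))) (.node 3 3729693 .leaf .leaf)))) .leaf)))) (.node 3 15345935 (.node 0 13683371 (.node 0 12954684 (.node 1 11114125 .leaf .leaf) (.node 3 7151933 (.node 3 13863394 .leaf .leaf) .leaf)) (.node 1 931119 (.node 1 967595 (.node 1 2525690 (.node 2 7948473 .leaf .leaf) .leaf) .leaf) (.node 2 6738377 (.node 1 3304888 (.node 2 5273273 .leaf .leaf) (.node 2 1960075 .leaf (.node 3 4322264 (.node 1 11619673 .leaf (.node 2 9779358 .leaf .leaf)) .leaf))) (.node 3 16095553 (.node 1 15758756 (.node 0 4024869 .leaf (.node 2 1472418 .leaf .leaf))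 .leaf) .leaf)))) .leaf)))) (.node 3 5169370 (.node 0 8587743 (.node 0 13800046 (.node 1 8049738 (.node 0 11356378 .leaf (.node 2 2453067 .leaf .leaf)) (.node 3 7885621 (.node 0 3665536 .leaf (.node 3 1698150 (.node 3 10365553 .leaf .leaf) .leaf)) .leaf)) (.node 1 10164526 (.node 3 8280161 (.node 1 5694644 .leaf (.node 3 916384 .leaf .leaf)) .leaf) (.node 2 15894937 (.node 0 4639294 (.node 3 5517751 .leaf .leaf) (.node 1 6503724 (.node 1 9103117 .leaf (.node 2 12866987 .leaf .leaf)) (.node 3 7180634 (.node 0 10640344 .leaf (.node 3 4377555 .leaf .leaf)) .leaf))) (.node 3 7803467 (.node 0 10804554 .leaf (.node 1 13788394 (.node 0 9250927 .leaf .leaf) (.node 3 4969349 (.node 0 3251862 .leaf (.node 1 11423088 .leaf (.node 2 9806279 .leaf (.node 3 1276252 .leaf .leaf)))) .leaf))) .leaf)))) (.node 1 3607707 (.node 0 13553934 (.node 0 11602874 (.node 0 13006380 .leaf (.node 2 15876796 .leaf .leaf)) (.node 1 3036570 .leaf (.node 3 7371217 (.node 0 6801989 .leaf .leaf) .leaf)))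 (.node 1 12790446 (.node 1 9083983 (.node 3 7691793 .leaf .leaf) (.node 2 16126253 (.node 3 7983584 .leaf .leaf) .leaf)) (.node 2 16303641 (.node 2 517724 (.node 1 12255961 .leaf .leaf) (.node 3 6925590 (.node 0 14310033 .leaf (.node 1 11347719 (.node 2 11195844 .leaf .leaf) (.node 2 15029712 .leaf (.node 3 9866579 .leaf .leaf)))) .leaf)) (.node 3 5215371 (.node 0 11049374 .leaf (.node 1 10899114 (.node 0 13198638 .leaf .leaf) (.node 2 12420171 (.node 3 7048849 .leaf .leaf) .leaf))) .leaf)))) (.node 2 4012121 (.node 1 13983917 (.node 0 1423661 (.node 2 13210538 .leaf (.node 3 14631152 .leaf .leaf)) (.node 1 13147321 (.node 1 2481708 .leaf (.node 2 5735546 .leaf .leaf)) (.node 2 10400552 (.node 3 15227124 .leaf .leaf) (.node 3 16458152 (.node 0 293551 .leaf (.node 1 13024521 .leaf (.node 2 9851625 .leaf .leaf))) .leaf)))) (.node 2 13163098 (.node 1 3495006 (.node 0 12538184 .leaf .leaf) (.node 3 6581015 (.node 0 13881089 .leaf (.node 1 599543 .leaf .leaf)) .leaf)) (.node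 3 13617794 (.node 0 12656054 (.node 0 16398884 .leaf .leaf) (.node 1 10886358 (.node 0 16400742 .leaf .leaf) (.node 2 16719941 (.node 3 12295040 .leaf .leaf) .leaf))) .leaf))) (.node 3 12598171 (.node 0 14847533 (.node 2 4703533 (.node 1 11175864 .leaf (.node 3 5453296 .leaf .leaf)) (.node 3 7705908 (.node 0 4094736 (.node 2 4747991 .leaf .leaf) (.node 1 15329152 .leaf (.node 2 9258930 .leaf (.node 3 1754610 .leaf .leaf)))) .leaf)) (.node 1 89455 (.node 0 16364104 (.node 0 2383097 .leaf (.node 1 16020553 .leaf .leaf)) (.node 1 10011454 (.node 3 7874679 .leaf .leaf) (.node 3 5727841 (.node 1 13797105 .leaf .leaf) .leaf))) (.node 2 7770270 (.node 0 11946270 .leaf (.node 1 7040138 .leaf (.node 2 4014875 .leaf (.node 3 5820827 (.node 2 3515098 .leaf .leaf) .leaf)))) (.node 3 15024463 (.node 1 9975226 (.node 0 11412141 (.node 2 1757549 .leaf .leaf) (.node 2 3282682 .leaf .leaf)) (.node 2 11463048 (.node 3 14989528 .leaf .leaf) (.node 3 7578561 (.node 2 9820805 .leaf .leaf)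 .leaf))) .leaf)))) .leaf)))) .leaf)))) (.node 1 15492280 (.node 0 747949 (.node 0 5354127 (.node 0 11836445 (.node 0 8307000 (.node 2 877305 .leaf .leaf) (.node 1 6910636 (.node 0 3243149 .leaf (.node 2 9728366 (.node 3 16278241 .leaf .leaf) .leaf)) (.node 2 4966170 (.node 2 10822877 .leaf .leaf) (.node 3 8242322 (.node 0 9394580 .leaf (.node 2 12412496 .leaf (.node 3 699803 .leaf .leaf))) .leaf)))) (.node 1 15223915 (.node 0 13232360 (.node 3 15084344 .leaf .leaf) .leaf) (.node 3 14369053 (.node 1 13571384 (.node 3 6446562 .leaf .leaf) (.node 2 8823769 (.node 3 14750430 .leaf .leaf) (.node 3 8075586 (.node 1 14050567 .leaf .leaf) .leaf))) .leaf))) (.node 1 9341245 (.node 0 5415866 (.node 0 8793631 .leaf (.node 1 6524235 (.node 2 15060105 .leaf (.node 3 4691793 .leaf .leaf)) (.node 2 3478205 (.node 3 6013102 .leaf .leaf) (.node 3 13111679 (.node 1 1955114 .leaf (.node 3 7424867 .leaf .leaf)) .leaf)))) (.node 1 3117484 (.node 0 3175326 .leaf (.node 2 10043883 .leaf (.node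 3 5429496 (.node 1 7588892 .leaf .leaf) .leaf))) (.node 2 4948473 (.node 1 12029224 (.node 2 13321897 .leaf .leaf) (.node 2 9799929 (.node 3 7275194 .leaf .leaf) (.node 3 4397946 (.node 3 4608871 .leaf .leaf) .leaf))) (.node 3 7674098 (.node 0 15104324 (.node 1 1734037 (.node 1 5196593 .leaf .leaf) (.node 2 5142915 .leaf (.node 3 11858880 .leaf .leaf))) (.node 1 13757574 (.node 0 14489653 .leaf (.node 2 16201472 .leaf .leaf)) .leaf)) .leaf)))) (.node 2 13677033 (.node 0 2402941 (.node 0 5432665 (.node 3 13186898 .leaf .leaf) (.node 1 3776749 (.node 0 1372381 .leaf .leaf) (.node 3 13992630 (.node 0 9846068 .leaf (.node 2 12518196 (.node 2 9061365 .leaf .leaf) (.node 3 3801535 .leaf .leaf))) .leaf))) (.node 1 7396649 (.node 0 7203352 (.node 2 13463644 .leaf (.node 3 13019542 (.node 1 2825607 .leaf .leaf) .leaf)) (.node 1 6350652 (.node 1 2729817 .leaf (.node 3 13673846 .leaf .leaf)) (.node 2 4581034 .leaf (.node 3 5105008 (.node 0 736209 (.node 1 9914725 .leaf .leaf) (.node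 1 11896721 .leaf (.node 2 9256176 (.node 2 14294130 .leaf .leaf) .leaf))) .leaf)))) (.node 2 1546922 (.node 0 14955806 (.node 3 15779267 .leaf .leaf) (.node 2 16319023 (.node 0 9764008 .leaf (.node 3 8096037 .leaf .leaf)) .leaf)) (.node 3 15287160 (.node 0 229096 (.node 0 6894671 .leaf .leaf) (.node 1 9811288 (.node 3 15353554 .leaf .leaf) (.node 3 6466406 (.node 0 13659731 .leaf (.node 1 3843399 .leaf (.node 3 9737077 .leaf .leaf))) .leaf))) .leaf)))) (.node 3 14104680 (.node 0 6568299 (.node 1 1107375 .leaf (.node 2 7133354 (.node 3 4516281 .leaf .leaf) (.node 3 12960737 (.node 0 114548 .leaf (.node 1 11574768 .leaf (.node 2 10463396 .leaf .leaf))) .leaf))) (.node 1 13816973 (.node 0 4032574 (.node 3 6195379 .leaf .leaf) (.node 1 6970936 (.node 2 4482175 .leaf (.node 3 4521254 .leaf .leaf)) (.node 2 1550091 (.node 0 9213723 .leaf (.node 3 13309141 .leaf .leaf)) (.node 3 7959832 (.node 3 13299010 .leaf .leaf) .leaf)))) (.node 2 13507115 (.node 1 447726 .leaf (.node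 3 6642085 (.node 0 7469828 (.node 2 12940166 .leaf .leaf) (.node 1 8973748 .leaf .leaf)) .leaf)) (.node 3 15618976 (.node 0 2191270 (.node 3 9872493 .leaf .leaf) (.node 1 458192 (.node 2 5848211 .leaf .leaf) (.node 2 1990887 (.node 2 3717985 .leaf (.node 3 10042025 .leaf .leaf)) (.node 3 2161132 .leaf .leaf)))) .leaf)))) .leaf)))) (.node 1 376473 (.node 0 6984989 (.node 1 3106600 (.node 0 620427 .leaf (.node 2 8942829 (.node 3 15822376 .leaf .leaf) (.node 3 12762340 (.node 1 3857925 .leaf (.node 2 5709091 .leaf .leaf)) .leaf))) (.node 2 378331 (.node 0 9147228 (.node 3 7494230 .leaf .leaf) (.node 2 12168344 .leaf (.node 3 4400859 (.node 3 12785423 .leaf .leaf) .leaf))) (.node 3 5365074 (.node 0 15669840 (.node 1 9925828 .leaf (.node 2 13518935 .leaf .leaf)) (.node 1 15812374 (.node 2 10905492 .leaf .leaf) (.node 3 943955 (.node 1 1508339 .leaf .leaf) .leaf))) .leaf))) (.node 1 10570477 (.node 0 5370988 (.node 2 8732458 (.node 3 15090917 .leaf .leaf) (.node 3 14313264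 (.node 3 11025766 .leaf .leaf) .leaf)) (.node 1 10008700 (.node 0 7741689 (.node 0 452943 .leaf .leaf) .leaf) (.node 2 13822252 (.node 0 5581371 (.node 1 12682479 .leaf (.node 3 13566375 .leaf .leaf)) (.node 2 4666281 (.node 2 10260655 .leaf .leaf) (.node 3 16527728 (.node 2 940786 .leaf (.node 3 11062242 .leaf .leaf)) .leaf))) (.node 3 7840300 (.node 3 14324148 (.node 0 3549878 .leaf (.node 1 7331072 .leaf .leaf)) .leaf) .leaf)))) (.node 2 14259230 (.node 0 12458168 (.node 0 6709678 .leaf (.node 2 5915259 (.node 3 4799271 .leaf .leaf) .leaf)) (.node 2 10946394 (.node 0 9066346 (.node 0 11085546 .leaf (.node 1 1495898 .leaf (.node 3 6323813 .leaf .leaf))) (.node 1 9647050 .leaf (.node 2 11160733 (.node 1 997948 .leaf .leaf) (.node 3 6461127 (.node 0 12110934 .leaf (.node 1 3829346 .leaf (.node 2 3525895 .leaf .leaf))) .leaf)))) .leaf)) (.node 3 13059230 (.node 1 9117338 (.node 0 15340718 .leaf (.node 1 8870478 (.node 0 15799658 .leaf (.node 1 10113246 .leaf .leaf)) (.node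 2 15860831 (.node 3 7968515 (.node 2 10864326 .leaf .leaf) .leaf) .leaf))) (.node 2 12461337 (.node 3 15310018 (.node 1 11828742 .leaf .leaf) .leaf) .leaf)) .leaf)))) (.node 2 1995896 (.node 0 3088843 (.node 0 8442831 (.node 0 11634300 .leaf (.node 1 3692922 .leaf (.node 2 3385742 (.node 3 14585945 .leaf .leaf) .leaf))) (.node 1 9841067 (.node 1 4364719 (.node 1 2805038 .leaf .leaf) (.node 3 15536361 .leaf .leaf)) (.node 2 12114121 (.node 0 6668540 (.node 2 10316088 .leaf .leaf) (.node 2 5499466 (.node 3 13513493 .leaf .leaf) .leaf)) (.node 3 12819145 (.node 2 14125071 (.node 3 8327569 .leaf .leaf) .leaf) .leaf)))) (.node 1 5751449 (.node 0 498974 (.node 0 16388890 (.node 3 6871367 .leaf .leaf) (.node 2 15271323 .leaf (.node 3 5657811 .leaf .leaf))) (.node 1 14879992 (.node 0 4880494 (.node 1 2016287 .leaf .leaf) (.node 1 9682444 .leaf .leaf)) (.node 2 10330653 (.node 0 1480121 (.node 0 3056414 .leaf (.node 2 1672891 .leaf (.node 3 4805882 .leaf .leaf))) (.node 3 16451734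 (.node 0 14047398 .leaf (.node 1 13581318 .leaf (.node 2 16139089 .leaf .leaf))) .leaf)) (.node 3 4927902 (.node 0 11672207 (.node 0 16041006 .leaf .leaf) (.node 1 9391371 (.node 1 8786878 .leaf (.node 3 6765761 .leaf .leaf)) .leaf)) .leaf)))) (.node 2 540283 (.node 0 15377609 (.node 0 575743 .leaf (.node 2 1563721 (.node 3 5207696 .leaf .leaf) (.node 3 14786328 .leaf .leaf))) (.node 1 1426031 (.node 2 11119404 (.node 3 16156788 .leaf .leaf) (.node 3 5972661 (.node 0 1490055 .leaf (.node 1 13601889 (.node 1 11966116 .leaf .leaf) .leaf)) .leaf)) (.node 2 6331518 (.node 0 16410712 (.node 2 4618841 .leaf .leaf) (.node 1 3794446 (.node 0 10310809 .leaf .leaf) (.node 3 5556019 (.node 2 2991796 .leaf .leaf) .leaf))) (.node 3 12930599 (.node 0 14269728 .leaf (.node 1 8951542 (.node 0 12199156 .leaf (.node 2 3345782 .leaf .leaf)) (.node 2 15639844 (.node 0 1600435 .leaf (.node 2 1005025 .leaf .leaf)) (.node 3 3614117 (.node 0 1897223 .leaf (.node 1 13282209 .leaf (.node 3 10196200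 .leaf .leaf))) .leaf)))) .leaf)))) (.node 3 13139618 (.node 0 15281317 (.node 0 5830821 (.node 1 7130165 .leaf (.node 2 5616482 (.node 2 11344550 .leaf .leaf) .leaf)) (.node 1 9223717 (.node 0 7906737 .leaf (.node 1 2937573 .leaf .leaf)) .leaf)) (.node 1 319063 (.node 0 16483664 (.node 3 2793298 .leaf .leaf) (.node 1 3752694 (.node 2 11561844 (.node 2 4357044 .leaf .leaf) (.node 3 1747503 .leaf .leaf)) (.node 3 1402519 (.node 0 10458373 .leaf (.node 1 13175539 .leaf .leaf)) .leaf))) (.node 2 7746662 (.node 0 12347715 (.node 3 11381441 (.node 2 14407748 .leaf .leaf) .leaf) (.node 1 5957251 (.node 0 9276567 .leaf (.node 1 6688371 .leaf (.node 2 3520069 .leaf .leaf))) (.node 2 2907939 (.node 3 388325 .leaf .leaf) (.node 3 10016673 (.node 2 1287910 .leaf (.node 3 2714748 .leaf .leaf)) .leaf)))) (.node 3 10775853 (.node 1 570301 .leaf (.node 3 16098528 .leaf .leaf)) .leaf)))) .leaf)))) (.node 3 14724522 (.node 0 13134397 (.node 0 5483689 (.node 2 13997609 (.node 1 14735080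 .leaf (.node 2 9405998 .leaf .leaf)) .leaf) (.node 1 889981 (.node 1 12436136 (.node 2 10183276 .leaf .leaf) (.node 2 9014650 (.node 0 13251320 .leaf .leaf) (.node 3 5459634 (.node 1 12815958 .leaf .leaf) .leaf))) (.node 2 4632956 (.node 0 3287899 (.node 2 6347421 .leaf (.node 3 13472327 .leaf .leaf)) (.node 1 3917193 (.node 0 905886 .leaf (.node 3 4963416 .leaf .leaf)) (.node 3 13652978 (.node 0 10956388 .leaf .leaf) .leaf))) (.node 3 16066854 (.node 0 13925153 (.node 2 5157542 (.node 1 3067075 .leaf .leaf) (.node 3 11362788 .leaf .leaf)) (.node 1 13153671 (.node 0 12094133 .leaf .leaf) (.node 3 12485089 (.node 2 1821409 .leaf .leaf) .leaf))) .leaf)))) (.node 1 2146063 (.node 1 2646895 (.node 0 9561801 (.node 3 15410716 .leaf .leaf) (.node 1 1876347 .leaf (.node 3 13740645 (.node 0 5553265 .leaf (.node 2 13081380 .leaf .leaf)) .leaf))) (.node 2 6411662 (.node 0 12147228 .leaf (.node 1 11038490 (.node 1 340831 .leaf (.node 3 14986311 .leaf .leaf)) (.node 2 11888010 (.node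 2 12220040 .leaf .leaf) .leaf))) (.node 3 14009429 (.node 0 2070896 (.node 0 6697938 .leaf .leaf) (.node 1 16324272 (.node 1 12975680 .leaf (.node 2 9848438 .leaf .leaf)) (.node 2 9416464 (.node 0 4855731 .leaf .leaf) (.node 3 3876754 (.node 0 9328263 .leaf (.node 1 13052739 .leaf (.node 2 11556565 .leaf .leaf))) .leaf)))) .leaf))) (.node 2 7820456 (.node 0 2980110 (.node 0 15815561 (.node 2 9888398 .leaf .leaf) (.node 3 14084289 (.node 0 4557175 .leaf (.node 2 6273537 .leaf (.node 3 11350936 .leaf .leaf))) .leaf)) (.node 1 12775064 (.node 0 4918335 (.node 0 14334090 .leaf .leaf) (.node 1 2301533 (.node 3 5756422 .leaf .leaf) (.node 2 5714973 (.node 3 14374274 .leaf .leaf) .leaf))) (.node 2 10249771 (.node 0 9282985 .leaf (.node 1 4494075 (.node 0 10661212 .leaf .leaf) .leaf)) (.node 3 4912552 (.node 0 2697887 .leaf (.node 1 2543385 .leaf (.node 2 1389803 (.node 2 12099114 .leaf .leaf) (.node 3 12615032 (.node 3 14968674 .leaf .leaf) .leaf)))) .leaf)))) (.node 3 14976377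 (.node 0 715640 (.node 1 3637597 (.node 3 6001362 .leaf .leaf) (.node 2 4274429 .leaf (.node 3 12860022 (.node 2 7215414 .leaf .leaf) .leaf))) (.node 1 3258280 (.node 0 2913821 .leaf .leaf) (.node 2 1035448 (.node 1 10979996 .leaf (.node 2 14230649 (.node 2 8822392 .leaf (.node 3 15404834 .leaf .leaf)) (.node 3 4603066 (.node 1 249487 .leaf .leaf) .leaf))) (.node 3 6391794 (.node 0 9076308 (.node 0 8062179 .leaf (.node 1 2052693 .leaf .leaf)) (.node 1 11644738 (.node 2 14900868 (.node 0 7953446 .leaf .leaf) (.node 3 11437653 .leaf .leaf)) (.node 3 165759 (.node 2 2198973 .leaf (.node 3 5314167 .leaf .leaf)) .leaf))) .leaf)))) .leaf)))) .leaf)))) (.node 2 9298762 (.node 0 8460281 (.node 0 2799212 (.node 0 3695835 (.node 2 3210840 (.node 3 13428246 .leaf .leaf) (.node 3 13217291 .leaf .leaf)) (.node 1 4121161 (.node 2 653901 (.node 3 14117396 .leaf .leaf) (.node 3 13220500 (.node 1 11361349 .leaf .leaf) .leaf)) (.node 3 13688372 (.node 0 8334384 (.node 1 13084293 .leaf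 (.node 3 9346466 .leaf .leaf)) (.node 1 6936148 (.node 0 3890384 .leaf (.node 2 8744278 .leaf (.node 3 1240854 .leaf .leaf))) (.node 3 3958070 .leaf .leaf))) .leaf))) (.node 1 9558888 (.node 0 6633080 (.node 0 2784585 (.node 1 1467197 .leaf .leaf) (.node 2 9198654 (.node 2 6956410 .leaf .leaf) (.node 3 12765094 .leaf .leaf))) (.node 1 15782236 (.node 0 3623544 .leaf (.node 2 486298 .leaf .leaf)) (.node 3 7234164 (.node 0 1273283 (.node 1 13765431 .leaf .leaf) (.node 3 9485222 (.node 2 7541670 .leaf .leaf) .leaf)) .leaf))) (.node 2 9604286 (.node 0 14557246 (.node 2 3019641 (.node 3 4315878 .leaf .leaf) (.node 3 16259491 (.node 0 15002276 .leaf (.node 2 7783138 .leaf .leaf)) .leaf)) (.node 1 7051790 (.node 0 15752346 .leaf .leaf) (.node 2 7538489 (.node 0 982538 .leaf (.node 2 8701629 (.node 0 1811772 .leaf .leaf) (.node 3 4953446 (.node 1 12502786 .leaf (.node 3 1204081 .leaf .leaf)) .leaf))) (.node 3 8131643 (.node 2 2934394 (.node 3 4239031 .leaf .leaf) .leaf) .leaf))))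 (.node 3 6506094 (.node 0 10058826 (.node 1 13914655 (.node 3 7954823 .leaf .leaf) .leaf) (.node 1 10135130 (.node 0 9307387 (.node 2 3837049 .leaf .leaf) (.node 3 15212055 (.node 1 882278 .leaf .leaf) .leaf)) (.node 3 5420837 (.node 0 3976723 .leaf (.node 1 6997857 .leaf (.node 2 366503 (.node 2 12158374 .leaf (.node 3 1262845 .leaf .leaf)) (.node 3 10048884 (.node 0 4141792 .leaf .leaf) .leaf)))) .leaf))) .leaf)))) (.node 1 11801051 (.node 0 10929004 (.node 0 1140602 (.node 0 9385545 .leaf (.node 1 13730651 .leaf (.node 2 10501820 .leaf (.node 3 13248103 (.node 1 2004579 .leaf (.node 3 11607845 .leaf .leaf)) .leaf)))) (.node 3 7385844 (.node 0 3566677 (.node 0 6275395 .leaf (.node 3 10335874 .leaf .leaf)) (.node 1 7990337 (.node 0 5101777 .leaf .leaf) (.node 2 1399606 (.node 1 13222358 .leaf (.node 2 15213494 .leaf .leaf)) .leaf))) .leaf)) (.node 1 5339562 (.node 0 15022605 (.node 3 16236932 (.node 1 15351184 .leaf .leaf) .leaf) (.node 1 12635423 (.node 0 14387768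 (.node 2 13042301 .leaf .leaf) (.node 1 2692926 .leaf (.node 2 6792600 (.node 1 10694537 .leaf .leaf) (.node 3 7677267 (.node 1 13707171 .leaf (.node 2 11329168 .leaf .leaf)) .leaf)))) (.node 2 16003754 (.node 1 4259019 .leaf (.node 2 4084270 .leaf .leaf)) (.node 3 13525353 (.node 0 109547 (.node 0 12629597 .leaf .leaf) (.node 2 964841 (.node 2 5871723 .leaf (.node 3 12933816 .leaf .leaf)) (.node 3 14760928 .leaf .leaf))) .leaf)))) (.node 2 3852954 (.node 1 6760542 (.node 1 10167439 (.node 3 16456713 .leaf .leaf) (.node 3 14062467 (.node 3 2707933 .leaf .leaf) .leaf)) (.node 2 7430749 (.node 2 8715036 (.node 3 16015574 .leaf .leaf) (.node 3 14394118 (.node 0 9707187 .leaf (.node 1 15603011 .leaf (.node 3 12196181 .leaf .leaf))) .leaf)) (.node 3 5027871 (.node 1 2966703 .leaf (.node 3 13978003 .leaf .leaf)) .leaf))) (.node 3 6931147 (.node 0 8510684 (.node 2 13839642 (.node 2 15079065 .leaf .leaf) (.node 3 7759386 .leaf .leaf)) (.node 1 11807866 (.node 3 15500963 (.node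 1 2408162 .leaf (.node 2 4179044 .leaf .leaf)) .leaf) (.node 2 11921484 (.node 1 16265373 .leaf (.node 3 16687760 (.node 0 413111 .leaf .leaf) .leaf)) (.node 3 4434717 (.node 1 11208045 (.node 0 1635050 .leaf (.node 3 7577184 .leaf .leaf)) (.node 2 12947869 (.node 0 3316540 .leaf .leaf) (.node 3 14094678 (.node 3 3822531 .leaf .leaf) .leaf))) .leaf)))) .leaf)))) (.node 2 11221196 (.node 0 7360751 (.node 1 5827642 (.node 0 13576345 (.node 3 15145354 .leaf .leaf) (.node 1 6653471 (.node 3 5473687 .leaf .leaf) (.node 3 13380915 .leaf .leaf))) (.node 2 3468074 (.node 0 12936985 (.node 0 761641 .leaf (.node 2 9352348 .leaf .leaf)) (.node 3 13410549 (.node 0 1223157 .leaf (.node 1 4037793 .leaf .leaf)) .leaf)) (.node 3 5890857 (.node 2 8762092 .leaf (.node 3 13314420 .leaf .leaf)) .leaf))) (.node 1 10385421 (.node 0 7700907 .leaf (.node 1 5132477 .leaf (.node 2 4895563 (.node 0 10522331 .leaf (.node 3 12671829 .leaf .leaf)) (.node 3 16611456 (.node 1 12876949 (.node 1 614069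 .leaf (.node 2 6206738 .leaf .leaf)) (.node 2 14578242 (.node 2 3029575 .leaf .leaf) .leaf)) .leaf)))) (.node 2 13785419 (.node 0 15043178 (.node 2 15681580 .leaf (.node 3 6718389 (.node 1 2862560 .leaf .leaf) .leaf)) (.node 1 5395774 (.node 0 12528138 (.node 3 15636613 .leaf .leaf) (.node 2 2369467 .leaf (.node 3 5797219 (.node 3 9006945 .leaf .leaf) .leaf))) (.node 2 6728331 (.node 1 2239727 .leaf .leaf) (.node 3 7172929 (.node 0 2219969 .leaf (.node 1 9725425 (.node 2 1752752 .leaf .leaf) (.node 2 9238726 .leaf (.node 3 8645572 .leaf .leaf)))) .leaf)))) (.node 3 16177672 (.node 0 6638906 (.node 1 8497054 (.node 0 10098237 .leaf (.node 2 11736476 .leaf .leaf)) (.node 3 4629987 .leaf .leaf)) (.node 1 6452444 (.node 0 3885135 .leaf (.node 1 1797657 .leaf .leaf)) (.node 2 5202447 (.node 0 9543051 (.node 1 14703406 .leaf .leaf) (.node 2 11317581 (.node 0 3195897 .leaf .leaf) (.node 3 13842821 .leaf .leaf))) (.node 3 7139732 (.node 0 3361685 .leaf (.node 1 2977169 (.node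 1 8727477 .leaf .leaf) (.node 3 9497050 .leaf .leaf))) .leaf)))) .leaf)))) (.node 3 14822101 (.node 0 5426279 (.node 0 14526546 (.node 0 12982769 (.node 1 1301924 .leaf .leaf) (.node 1 16061575 .leaf (.node 3 11406227 (.node 1 473574 .leaf .leaf) .leaf))) (.node 1 8029750 (.node 0 10382482 (.node 2 8009297 .leaf .leaf) (.node 1 7317058 (.node 0 8936915 .leaf (.node 1 11937475 .leaf .leaf)) (.node 2 2443125 (.node 1 10068976 .leaf .leaf) (.node 3 1613111 (.node 1 7193382 .leaf (.node 3 1920115 .leaf .leaf)) .leaf)))) (.node 2 6663969 (.node 0 4783889 .leaf (.node 1 10528741 .leaf (.node 2 13489316 .leaf (.node 3 8881652 (.node 0 1717110 .leaf (.node 2 10161585 .leaf .leaf)) .leaf)))) (.node 3 1914673 .leaf .leaf)))) (.node 1 1784933 (.node 0 8171715 (.node 0 10799573 .leaf (.node 1 7629987 (.node 0 13494533 .leaf .leaf) (.node 2 4053570 (.node 3 977557 .leaf .leaf) (.node 3 9030553 (.node 1 10819964 .leaf .leaf) .leaf)))) (.node 1 14598693 (.node 0 1420722 (.node 1 14781319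 .leaf .leaf) (.node 1 7247088 .leaf (.node 2 1024869 (.node 2 9017829 .leaf (.node 3 9640692 .leaf .leaf)) (.node 3 3750324 .leaf .leaf)))) (.node 2 12623715 (.node 0 15249008 (.node 0 4877553 .leaf (.node 2 4676724 .leaf .leaf)) (.node 1 3200870 .leaf (.node 2 6786214 (.node 0 14186774 .leaf (.node 1 11185798 .leaf .leaf)) .leaf))) (.node 3 10444320 (.node 1 13030100 (.node 2 2042135 .leaf .leaf) (.node 3 3046564 .leaf .leaf)) .leaf)))) (.node 2 5691669 (.node 0 7834386 (.node 0 13000466 .leaf (.node 1 14886342 (.node 0 9984615 .leaf (.node 2 11951489 .leaf .leaf)) (.node 2 15549077 (.node 2 10412372 .leaf .leaf) (.node 3 954839 (.node 0 11699158 .leaf (.node 1 4147618 .leaf .leaf)) .leaf)))) (.node 1 7030196 (.node 0 1800838 .leaf .leaf) (.node 2 5088147 (.node 0 8560533 (.node 1 2841444 .leaf .leaf) (.node 1 10816995 (.node 0 13169508 .leaf .leaf) (.node 2 12423380 .leaf .leaf))) (.node 3 1929682 (.node 0 10949573 (.node 2 10144135 .leaf .leaf) (.node 2 12073682 .leaf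 (.node 3 9071307 .leaf .leaf))) .leaf)))) (.node 3 11899662 (.node 0 11818808 (.node 2 681662 .leaf (.node 3 6874342 .leaf .leaf)) (.node 3 8044757 (.node 2 1436497 (.node 3 9380566 .leaf .leaf) (.node 3 1686298 .leaf .leaf)) .leaf)) .leaf)))) .leaf)))) (.node 3 6023568 (.node 0 4659863 (.node 0 15899910 (.node 0 16534066 (.node 0 13069728 .leaf (.node 1 4568278 (.node 2 12393746 .leaf .leaf) (.node 3 2927015 .leaf .leaf))) (.node 1 6977286 (.node 2 2389447 (.node 2 3734914 .leaf .leaf) (.node 3 9502021 .leaf .leaf)) (.node 3 3986769 (.node 1 7693232 (.node 0 491269 .leaf (.node 2 10252980 .leaf .leaf)) (.node 2 650962 (.node 2 15809620 .leaf .leaf) .leaf)) .leaf))) (.node 1 9129190 (.node 0 14233830 (.node 0 11811045 (.node 0 7659877 .leaf .leaf) (.node 1 14474243 (.node 0 15567280 .leaf .leaf) (.node 2 11934562 (.node 2 6965927 .leaf .leaf) (.node 3 12208937 .leaf .leaf)))) (.node 2 15871329 (.node 0 5040739 (.node 1 3441911 .leaf .leaf) (.node 2 4644513 (.node 2 6136871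 .leaf .leaf) (.node 3 11376480 .leaf .leaf))) (.node 3 3554857 (.node 1 4383469 .leaf (.node 2 4773423 (.node 2 2467182 .leaf .leaf) .leaf)) .leaf))) (.node 2 16548119 (.node 0 9882544 (.node 1 6527444 (.node 1 12283140 .leaf .leaf) (.node 3 2896126 .leaf .leaf)) (.node 1 7157154 (.node 0 11041669 (.node 0 7456421 .leaf .leaf) (.node 1 8712067 (.node 0 13207349 .leaf (.node 1 2104311 .leaf (.node 2 8107140 .leaf .leaf))) (.node 2 12342498 .leaf (.node 3 8572393 (.node 0 4825726 .leaf .leaf) .leaf)))) (.node 2 3130320 (.node 0 219094 (.node 0 12260934 .leaf (.node 2 11546007 .leaf .leaf)) (.node 1 12003792 .leaf (.node 2 10053845 (.node 2 13810512 .leaf .leaf) .leaf))) (.node 3 3770835 (.node 2 15846096 .leaf (.node 3 1018459 (.node 1 11993326 .leaf .leaf) .leaf)) .leaf)))) (.node 3 1528207 (.node 1 13257146 .leaf (.node 2 12100491 (.node 2 3396300 .leaf (.node 3 15304797 .leaf .leaf)) .leaf)) .leaf)))) (.node 1 15142165 (.node 0 5954338 (.node 0 15019666 (.node 0 13262117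 (.node 0 7973538 .leaf (.node 1 972596 .leaf .leaf)) (.node 1 8470215 .leaf (.node 2 16667668 .leaf .leaf))) (.node 1 6735190 (.node 0 10177362 .leaf (.node 3 1095635 .leaf .leaf)) (.node 2 6628071 (.node 1 10005731 .leaf (.node 2 12376356 (.node 3 3991792 .leaf .leaf) .leaf)) (.node 3 817525 (.node 1 1950133 (.node 0 1553300 .leaf .leaf) (.node 2 4766194 .leaf (.node 3 9792226 (.node 1 13670615 .leaf .leaf) .leaf))) .leaf)))) (.node 1 9123748 (.node 0 3684007 .leaf (.node 1 9362241 (.node 1 3559924 .leaf (.node 2 4958407 .leaf (.node 3 2456276 (.node 0 7558469 .leaf .leaf) .leaf))) (.node 2 9573863 (.node 0 12362342 .leaf (.node 2 3313571 .leaf (.node 3 3757673 (.node 3 4976164 .leaf .leaf) .leaf))) (.node 3 11689068 (.node 0 8216682 (.node 0 8747465 .leaf .leaf) (.node 1 5960220 .leaf (.node 3 8189472 .leaf .leaf))) .leaf)))) (.node 2 13550993 (.node 0 756662 (.node 1 11503942 (.node 1 12464518 .leaf (.node 3 3578577 .leaf .leaf)) (.node 3 1448063 (.node 3 6116003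 .leaf .leaf) .leaf)) (.node 1 2564016 (.node 2 14173367 (.node 1 5086770 .leaf .leaf) .leaf) (.node 2 2073809 (.node 1 16190113 .leaf (.node 2 10067537 (.node 1 16077412 .leaf (.node 3 3100182 .leaf .leaf)) .leaf)) (.node 3 2178522 (.node 0 15356493 .leaf (.node 1 9530127 .leaf (.node 3 13026891 (.node 3 6371221 .leaf .leaf) .leaf))) .leaf)))) (.node 3 3642818 (.node 0 11293526 (.node 0 11749344 (.node 2 9596581 .leaf .leaf) (.node 2 2779606 (.node 0 13845191 .leaf .leaf) (.node 3 3205831 .leaf .leaf))) (.node 1 15887234 (.node 1 4341079 (.node 0 16419395 .leaf (.node 1 1787687 .leaf .leaf)) (.node 2 7762565 .leaf .leaf)) (.node 2 12144259 (.node 2 15918660 .leaf (.node 3 3124237 (.node 3 14130320 .leaf .leaf) .leaf)) (.node 3 710361 (.node 0 2852062 .leaf (.node 2 1158239 (.node 3 14616083 .leaf .leaf) (.node 3 4292126 .leaf .leaf))) .leaf)))) .leaf)))) (.node 2 13972177 (.node 0 2530661 (.node 0 7922514 (.node 0 8867537 .leaf (.node 3 8956759 (.node 1 4002151 .leaf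 .leaf) .leaf)) (.node 1 3859364 (.node 1 7252305 (.node 3 8756178 .leaf .leaf) (.node 2 1143781 .leaf .leaf)) (.node 2 4836771 (.node 1 10784566 (.node 1 2732998 .leaf .leaf) .leaf) (.node 3 1431280 (.node 0 3093844 .leaf (.node 2 10038838 .leaf .leaf)) .leaf)))) (.node 1 13720801 (.node 0 7190628 .leaf (.node 2 14069282 (.node 2 7280165 .leaf (.node 3 11277749 .leaf .leaf)) .leaf)) (.node 2 10394134 (.node 0 16123314 (.node 0 9333542 (.node 2 6959589 .leaf .leaf) (.node 1 4439938 (.node 1 10637127 .leaf .leaf) .leaf)) (.node 1 7295174 (.node 0 11622854 .leaf (.node 3 1244041 .leaf .leaf)) (.node 2 7013207 (.node 0 9625282 (.node 2 7548423 .leaf .leaf) (.node 1 10429794 (.node 2 11149025 .leaf .leaf) (.node 3 1284935 (.node 0 16029266 .leaf .leaf) .leaf))) (.node 3 3954839 (.node 1 5073078 .leaf .leaf) .leaf)))) (.node 3 11223950 (.node 2 11690445 (.node 1 5912889 .leaf .leaf) (.node 3 7518285 (.node 3 14537488 .leaf .leaf) .leaf)) .leaf)))) (.node 3 9320794 (.node 0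 14812139 (.node 0 8449646 (.node 3 16000565 (.node 0 2026785 .leaf .leaf) .leaf) (.node 1 1228138 (.node 0 15475291 .leaf (.node 1 7521039 (.node 0 9817626 .leaf (.node 3 5878101 .leaf .leaf)) (.node 2 6364843 (.node 0 15268876 .leaf .leaf) (.node 3 13391473 (.node 2 961654 .leaf .leaf) .leaf)))) (.node 2 3590317 (.node 0 5628190 .leaf (.node 3 6140088 (.node 2 10293882 .leaf .leaf) .leaf)) (.node 3 6394733 (.node 1 12117352 .leaf (.node 3 5489524 (.node 0 1523282 .leaf .leaf) .leaf)) .leaf)))) (.node 2 6953179 (.node 0 14862542 (.node 0 13715582 (.node 3 8266531 .leaf .leaf) (.node 1 3816478 (.node 0 16662667 .leaf .leaf) (.node 3 7648025 (.node 1 6383081 .leaf .leaf) .leaf))) (.node 1 1535022 (.node 0 14496011 .leaf (.node 2 15218473 .leaf (.node 3 14562465 .leaf .leaf))) (.node 2 7653467 (.node 0 13093208 .leaf .leaf) (.node 3 4578059 (.node 1 10503678 (.node 3 7382635 .leaf .leaf) (.node 2 15573134 (.node 0 9460157 .leaf .leaf) (.node 3 4678101 .leaf .leaf))) .leaf))))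 (.node 3 14965443 (.node 0 14798180 (.node 0 5864048 .leaf (.node 1 12105492 .leaf (.node 3 3581808 .leaf .leaf))) (.node 1 1080566 (.node 1 5884439 .leaf .leaf) (.node 2 8316934 (.node 1 7218327 .leaf (.node 3 10271121 .leaf .leaf)) (.node 3 2483085 (.node 0 1169181 .leaf (.node 1 11020793 .leaf (.node 2 10088844 .leaf (.node 3 13869276 .leaf .leaf)))) .leaf)))) .leaf))) .leaf)))) .leaf))))

theorem certDodecad6 : cert gensDodecad [dodB] 8245261 treeDodecad6 cwKey enc
    ((cwOfWeight 12).filter fun n => pc (n &&& dodB) == 6) = true := by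
  decide +kernel

/-- Spanning tree `Dodecad` `4`. -/
def treeDodecad4 : Tree := (.node 0 9869772 (.node 0 7603070 (.node 0 9858888 (.node 0 5048171 (.node 0 8961992 .leaf (.node 1 9734122 .leaf (.node 2 11308268 .leaf (.node 3 4394981 (.node 0 5815878 .leaf (.node 1 10129252 .leaf .leaf)) .leaf)))) (.node 1 5379037 (.node 0 3575374 .leaf (.node 1 5983592 (.node 3 5128032 .leaf .leaf) .leaf)) (.node 2 4865677 (.node 0 7900303 .leaf .leaf) (.node 3 15480516 (.node 0 3689957 (.node 1 6073140 .leaf .leaf) (.node 1 1867457 (.node 1 5524213 .leaf .leaf) (.node 2 1989958 (.node 1 6177686 .leaf (.node 2 6827971 .leaf .leaf)) .leaf))) .leaf)))) (.node 1 5875146 (.node 0 9181917 (.node 0 7505388 .leaf (.node 1 1923308 .leaf .leaf)) (.node 1 15994635 (.node 2 7259788 .leaf (.node 3 7177669 (.node 0 1629140 .leaf (.node 2 10341824 .leaf .leaf)) .leaf)) (.node 2 11869896 (.node 0 7099756 .leaf (.node 1 13662924 (.node 0 7670893 .leaf .leaf) .leaf)) (.node 3 13242201 (.node 0 4886250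 .leaf (.node 1 1513324 .leaf (.node 2 4623581 .leaf .leaf))) .leaf)))) (.node 2 2902972 (.node 0 5465996 (.node 2 9713549 .leaf (.node 3 14300492 .leaf .leaf)) (.node 1 895452 (.node 1 12388749 .leaf (.node 2 14227928 .leaf (.node 3 14027482 .leaf .leaf))) (.node 2 5792252 (.node 1 6130969 (.node 3 5180882 .leaf .leaf) (.node 2 1326072 .leaf .leaf)) (.node 3 5548270 (.node 2 8198952 .leaf (.node 3 14418873 .leaf .leaf)) .leaf)))) (.node 3 5800935 (.node 0 9744084 (.node 0 6161781 (.node 1 6260640 .leaf (.node 3 1646562 .leaf .leaf)) (.node 1 7936709 (.node 0 7658692 .leaf (.node 1 14445668 .leaf .leaf)) .leaf)) (.node 1 8162658 (.node 1 7645062 (.node 0 10243861 .leaf .leaf) (.node 2 7163616 .leaf (.node 3 823281 (.node 2 5868788 .leaf .leaf) .leaf))) (.node 2 3509220 (.node 0 5535572 (.node 0 4132673 .leaf (.node 2 802710 (.node 0 16385925 .leaf .leaf) .leaf)) (.node 1 16296388 .leaf (.node 2 14240676 (.node 1 13409620 .leaf .leaf) .leaf))) (.node 3 1641341 .leaf .leaf))))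 .leaf)))) (.node 1 8018316 (.node 0 7686798 (.node 0 13982988 (.node 3 8283584 (.node 0 871367 .leaf .leaf) .leaf) (.node 1 13118686 (.node 0 14289133 .leaf .leaf) (.node 2 16540428 (.node 0 1396649 (.node 2 14198444 .leaf .leaf) .leaf) (.node 3 6201741 (.node 2 1938377 .leaf .leaf) .leaf)))) (.node 1 5139740 (.node 1 984989 (.node 1 9374696 .leaf (.node 2 9995741 (.node 3 7933530 .leaf .leaf) .leaf)) (.node 2 4994521 (.node 2 1875162 .leaf (.node 3 12668874 (.node 1 9445214 .leaf .leaf) .leaf)) (.node 3 13909442 (.node 1 5267335 .leaf .leaf) .leaf))) (.node 2 5530571 (.node 0 8752973 (.node 1 12063724 (.node 0 3434220 .leaf .leaf) (.node 2 13340044 .leaf (.node 3 7800532 (.node 1 14364352 .leaf .leaf) .leaf))) (.node 1 5246459 (.node 0 13544012 (.node 3 15997844 .leaf .leaf) (.node 1 5345070 .leaf .leaf)) (.node 2 3979916 (.node 3 14469276 .leaf .leaf) (.node 3 13181901 (.node 0 1089261 .leaf (.node 1 10231145 .leaf .leaf)) .leaf)))) (.node 3 6093128 (.node 0 6622169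 (.node 0 4382540 .leaf (.node 1 9514476 .leaf (.node 3 4686798 .leaf .leaf))) (.node 2 5061322 (.node 1 9718991 .leaf (.node 3 12995469 (.node 1 663036 .leaf .leaf) .leaf)) (.node 3 13396944 (.node 1 1383893 .leaf .leaf) .leaf))) .leaf)))) (.node 3 8147672 (.node 0 2575820 (.node 0 5854030 (.node 1 14435674 .leaf (.node 3 5925701 .leaf .leaf)) (.node 1 10103708 (.node 0 5637807 .leaf .leaf) .leaf)) (.node 1 5598424 (.node 1 13700765 (.node 0 6200364 .leaf (.node 1 13180524 .leaf .leaf)) (.node 2 14433816 (.node 1 4544205 (.node 1 9981688 .leaf .leaf) (.node 3 15486342 .leaf .leaf)) (.node 3 13510538 (.node 0 8916911 .leaf (.node 1 401355 .leaf (.node 2 4068557 .leaf .leaf))) .leaf))) (.node 2 1862238 (.node 0 14091721 (.node 0 826222 .leaf (.node 1 13770664 .leaf (.node 3 7018440 .leaf .leaf))) (.node 2 6830940 (.node 1 1926477 .leaf (.node 3 13945670 (.node 2 7285636 .leaf .leaf) .leaf)) (.node 3 14428807 (.node 0 13929893 .leaf (.node 1 4988135 .leaf (.node 2 8295236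 (.node 0 3428306 .leaf .leaf) .leaf))) .leaf))) (.node 3 4778894 (.node 1 2887007 (.node 2 6868440 .leaf (.node 3 5607107 (.node 1 15732454 .leaf .leaf) .leaf)) .leaf) .leaf)))) .leaf))) (.node 1 14486698 (.node 0 13384108 (.node 0 7351213 (.node 0 5565965 (.node 1 6817533 .leaf .leaf) (.node 1 4762989 (.node 0 5810905 .leaf (.node 1 3966765 .leaf (.node 3 13963120 (.node 1 13735876 .leaf (.node 3 3016678 .leaf .leaf)) .leaf))) (.node 2 5559212 (.node 0 3485468 .leaf .leaf) (.node 3 14516588 (.node 1 16553352 .leaf (.node 3 7998448 (.node 1 5745988 .leaf .leaf) .leaf)) .leaf)))) (.node 1 843149 .leaf (.node 2 6164970 (.node 0 10759118 (.node 1 1587663 .leaf .leaf) (.node 1 5688714 (.node 0 13437726 .leaf (.node 1 6426526 .leaf (.node 2 8201865 .leaf .leaf))) (.node 2 3934955 (.node 0 12903884 .leaf (.node 2 7916140 .leaf .leaf)) (.node 3 4742121 (.node 0 6401740 .leaf .leaf) .leaf)))) (.node 3 16009704 (.node 0 4549484 (.node 0 5324617 (.node 0 7118409 .leaf .leaf) (.node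 3 14033892 (.node 0 1322855 .leaf .leaf) .leaf)) (.node 1 5291420 (.node 0 8260125 (.node 3 6134150 .leaf .leaf) (.node 1 6901517 .leaf .leaf)) (.node 2 6187688 (.node 0 4533647 .leaf (.node 2 6042221 .leaf .leaf)) (.node 3 7119848 (.node 0 28637 (.node 3 13968974 .leaf .leaf) (.node 1 3452361 .leaf .leaf)) .leaf)))) .leaf)))) (.node 1 12885646 (.node 0 16256316 (.node 1 5093132 (.node 0 3678105 .leaf (.node 2 9246158 .leaf .leaf)) .leaf) (.node 1 2645710 (.node 0 16336076 (.node 3 8040200 .leaf .leaf) (.node 2 7368014 (.node 0 14502473 .leaf (.node 2 6586248 .leaf (.node 3 14460737 (.node 2 1023684 .leaf (.node 3 11079636 .leaf .leaf)) .leaf))) .leaf)) (.node 2 8324366 (.node 2 11290569 (.node 2 1764556 .leaf .leaf) (.node 3 5938625 (.node 1 7753508 .leaf (.node 3 876376 .leaf .leaf)) .leaf)) (.node 3 7619997 (.node 1 4796344 .leaf (.node 2 1894296 (.node 2 1652444 .leaf .leaf) .leaf)) .leaf)))) (.node 2 16647784 (.node 0 814570 (.node 3 12857065 .leaf .leaf) (.node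 1 5682888 (.node 1 7491273 (.node 0 5098574 .leaf (.node 1 5385852 .leaf .leaf)) (.node 2 1908239 (.node 1 13386478 .leaf (.node 2 15238990 .leaf (.node 3 6245509 .leaf .leaf))) (.node 3 13129628 (.node 0 3870380 .leaf (.node 2 1451486 .leaf .leaf)) .leaf))) (.node 2 937581 (.node 1 1999612 (.node 3 5774014 .leaf .leaf) (.node 3 5586596 (.node 0 8142085 .leaf (.node 1 13160133 .leaf (.node 2 14423846 .leaf .leaf))) .leaf)) (.node 3 6856612 (.node 0 7892628 (.node 1 5058133 (.node 1 10290917 .leaf (.node 3 9899910 .leaf .leaf)) (.node 3 10267918 .leaf .leaf)) (.node 1 2944836 (.node 0 5851089 .leaf (.node 1 3941333 (.node 1 6105569 .leaf .leaf) (.node 2 4816324 .leaf .leaf))) (.node 2 5588454 (.node 0 10304324 .leaf (.node 1 14192530 .leaf (.node 2 12332960 .leaf .leaf))) .leaf))) .leaf)))) (.node 3 7212457 (.node 1 438188 (.node 0 5777183 (.node 2 2398172 .leaf (.node 3 14224711 (.node 0 14457568 .leaf .leaf) .leaf)) (.node 1 2788301 (.node 0 5293790 .leaf (.node 1 4073836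 .leaf (.node 2 5360077 .leaf (.node 3 5610076 .leaf .leaf)))) (.node 2 5838253 .leaf (.node 3 13899004 (.node 1 5889672 .leaf (.node 2 1969978 .leaf (.node 3 7882666 .leaf .leaf))) .leaf)))) (.node 2 6079721 (.node 1 7638712 (.node 2 6112828 (.node 3 5909926 .leaf .leaf) (.node 3 5014974 .leaf .leaf)) (.node 2 1945192 (.node 3 13504180 .leaf .leaf) .leaf)) (.node 3 4562408 (.node 1 11587468 (.node 3 8168540 .leaf .leaf) .leaf) .leaf))) .leaf)))) (.node 2 12356440 (.node 0 4605944 (.node 0 733006 (.node 0 14161611 .leaf (.node 1 10355535 .leaf (.node 2 14687693 (.node 1 1605420 .leaf .leaf) (.node 3 14032453 (.node 1 5920484 (.node 1 6213200 .leaf .leaf) (.node 2 5148423 .leaf (.node 3 4020100 .leaf .leaf))) .leaf)))) (.node 1 1282008 (.node 0 5117534 (.node 0 12193226 .leaf (.node 1 2049738 .leaf .leaf)) (.node 1 15928140 .leaf .leaf)) (.node 2 1846461 (.node 1 5081773 (.node 3 5704124 .leaf .leaf) (.node 2 5805944 (.node 0 3026648 .leaf (.node 3 4738934 (.node 1 1935190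 .leaf .leaf) .leaf)) .leaf)) (.node 3 4208622 (.node 0 12070477 (.node 3 16616964 (.node 3 4099476 .leaf .leaf) .leaf) (.node 1 1625931 (.node 0 13469400 .leaf .leaf) (.node 2 3415470 .leaf (.node 3 13649773 (.node 3 7939940 .leaf .leaf) .leaf)))) .leaf)))) (.node 1 7680460 (.node 0 3431245 (.node 0 7718728 (.node 1 15738840 .leaf (.node 2 9268876 .leaf (.node 3 4892628 (.node 0 1707735 .leaf .leaf) .leaf))) (.node 3 6152900 (.node 1 16518353 .leaf .leaf) .leaf)) (.node 1 14183817 (.node 1 4464445 .leaf (.node 3 15543624 (.node 2 13524168 .leaf (.node 3 15110080 (.node 1 3293124 .leaf .leaf) .leaf)) .leaf)) (.node 2 10247050 (.node 0 15009708 .leaf (.node 1 4479454 (.node 1 1658270 .leaf (.node 2 8137114 .leaf .leaf)) (.node 2 8004302 (.node 1 6171723 .leaf (.node 3 14195469 .leaf .leaf)) (.node 3 7104717 (.node 3 14003080 .leaf .leaf) .leaf)))) (.node 3 14336968 (.node 0 331518 (.node 1 10062542 .leaf .leaf) (.node 1 7740760 (.node 2 5000859 .leaf (.node 3 5035970 .leaf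 .leaf)) (.node 2 1518285 .leaf .leaf))) .leaf)))) (.node 2 4934364 (.node 0 5446862 (.node 0 16521294 (.node 1 6059150 .leaf (.node 3 8178561 (.node 0 4575124 .leaf .leaf) .leaf)) (.node 1 14306830 (.node 2 6694733 .leaf .leaf) (.node 3 6182665 (.node 0 2985866 .leaf (.node 2 829135 .leaf .leaf)) .leaf))) (.node 1 10423388 (.node 1 14619276 .leaf (.node 3 8265346 (.node 1 4615878 .leaf (.node 2 8144455 (.node 3 1683333 .leaf .leaf) .leaf)) .leaf)) (.node 2 13904221 (.node 0 5671785 (.node 0 4501338 .leaf (.node 3 5051380 (.node 2 10226166 .leaf .leaf) .leaf)) (.node 2 5151640 .leaf (.node 3 16581570 (.node 0 8675300 .leaf (.node 2 12470980 .leaf .leaf)) .leaf))) (.node 3 5651214 (.node 1 4867535 .leaf (.node 2 7082895 (.node 2 3981774 .leaf .leaf) (.node 3 14438853 (.node 1 6053296 .leaf (.node 3 3763144 .leaf .leaf)) .leaf))) .leaf)))) (.node 3 7113430 (.node 0 13782484 (.node 0 6228582 (.node 1 14582982 .leaf (.node 3 1973157 .leaf .leaf)) (.node 1 5971732 (.node 1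 13584196 .leaf (.node 2 12847063 .leaf .leaf)) (.node 2 5648273 (.node 2 6067861 .leaf .leaf) (.node 3 3946314 .leaf .leaf)))) (.node 1 4009158 (.node 2 16277312 .leaf (.node 3 10391177 (.node 2 5998157 .leaf (.node 3 7150748 .leaf .leaf)) .leaf)) (.node 2 8210772 (.node 1 14493076 (.node 1 13442945 .leaf (.node 2 10360784 .leaf .leaf)) (.node 3 2010050 (.node 1 7735751 .leaf .leaf) .leaf)) (.node 3 1346463 (.node 0 14059292 (.node 3 7869910 .leaf .leaf) (.node 1 6883822 .leaf .leaf)) .leaf)))) .leaf)))) (.node 3 5966731 (.node 1 12979566 (.node 0 14166890 (.node 1 5543247 .leaf (.node 2 6691564 (.node 2 6048047 .leaf .leaf) (.node 3 15469413 (.node 1 1881572 .leaf (.node 2 5163492 .leaf .leaf)) .leaf))) (.node 1 1742734 (.node 0 12322462 (.node 2 3819356 .leaf .leaf) (.node 1 7228234 (.node 3 4504517 .leaf .leaf) (.node 2 3213263 (.node 0 10278476 .leaf .leaf) (.node 3 5790813 (.node 3 6123266 .leaf .leaf) .leaf)))) (.node 3 7608289 (.node 1 5304288 (.node 1 7376725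 .leaf (.node 3 9185148 .leaf .leaf)) (.node 2 1887910 .leaf (.node 3 641004 .leaf .leaf))) .leaf))) (.node 2 16024269 (.node 0 1363324 (.node 0 6234968 (.node 3 13245382 .leaf .leaf) (.node 3 6039282 (.node 0 9317829 .leaf (.node 2 3939956 .leaf .leaf)) .leaf)) (.node 1 7879912 (.node 2 5529194 (.node 2 7089710 .leaf (.node 3 5007269 .leaf .leaf)) (.node 3 13422376 (.node 2 5186796 .leaf (.node 3 6565364 .leaf .leaf)) .leaf)) (.node 2 2083596 (.node 0 5576602 (.node 0 11411212 .leaf .leaf) (.node 1 15598044 (.node 0 1199086 .leaf (.node 1 2047368 .leaf (.node 2 1984985 .leaf .leaf))) (.node 3 6174932 (.node 2 6036307 .leaf .leaf) .leaf))) (.node 3 7963548 (.node 0 1466012 .leaf (.node 2 9782236 .leaf (.node 3 5933406 .leaf .leaf))) .leaf)))) (.node 3 5183821 (.node 0 7379914 (.node 0 14962268 .leaf (.node 3 5030749 (.node 1 3999224 .leaf (.node 3 5319638 .leaf .leaf)) .leaf)) (.node 1 10372524 (.node 0 1909678 .leaf (.node 2 1714153 .leaf .leaf)) (.node 2 13404619 (.node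 0 12618748 (.node 1 3775820 .leaf .leaf) (.node 2 8358088 (.node 1 16133260 .leaf .leaf) .leaf)) (.node 3 5725120 (.node 0 6627142 (.node 1 9988038 .leaf (.node 3 1492933 .leaf .leaf)) (.node 3 947148 .leaf .leaf)) .leaf)))) .leaf))) .leaf))))

theorem certDodecad4 : cert gensDodecad [dodB] 6095071 treeDodecad4 cwKey enc
    ((cwOfWeight 12).filter fun n => pc (n &&& dodB) == 4) = true := by
  decide +kernel

/-- Spanning tree `Dodecad` `0`. -/
def treeDodecad0 : Tree := .leaf

theorem certDodecad0 : cert gensDodecad [dodB] 6033356 treeDodecad0 cwKey enc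
    ((cwOfWeight 12).filter fun n => pc (n &&& dodB) == 0) = true := by
  decide +kernel

/-- Generators fixing the configuration `Duad`. -/
def gensDuad : List (List ℕ) := [[0, 11, 1, 20, 12, 3, 22, 10, 14, 13, 21, 15, 6, 2, 4, 9, 18, 19, 16, 17, 5, 7, 8, 23], [0, 8, 11, 17, 22, 13, 19, 21, 7, 1, 12, 6, 9, 3, 4, 18, 16, 14, 20, 15, 2, 10, 5, 23]]

/-- Spanning tree `Duad` `A`. -/
def treeDuadA : Tree := (.node 0 9240913 (.node 1 14254209 (.node 0 8783649 (.node 0 11100169 (.node 0 9830549 (.node 0 8983587 .leaf (.node 1 15747077 (.node 0 8421811 (.node 0 8412681 .leaf (.node 1 14950785 (.node 1 11535529 .leaf .leaf) .leaf)) .leaf) .leaf)) (.node 1 8619033 (.node 0 12325377 .leaf .leaf) .leaf)) (.node 1 9465987 (.node 0 8391797 (.node 0 14716939 .leaf (.node 1 13121601 (.node 1 8946281 .leaf .leaf) .leaf)) (.node 1 10486557 (.node 1 12717187 (.node 1 10506593 (.node 1 8922769 (.node 0 10630149 .leaf .leaf) .leaf) .leaf) .leaf) .leaf)) .leaf)) (.node 1 10846245 (.node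 0 8716939 (.node 1 11731203 (.node 0 9193633 (.node 1 11575377 (.node 0 12587685 .leaf .leaf) .leaf) (.node 1 8471941 (.node 0 10765331 .leaf (.node 1 10557585 (.node 1 14747201 .leaf .leaf) .leaf)) .leaf)) .leaf) (.node 1 9776129 .leaf .leaf)) .leaf)) .leaf) (.node 1 9519665 (.node 0 8663097 (.node 0 9506893 (.node 0 13893731 .leaf (.node 1 9112069 (.node 0 9347075 .leaf .leaf) .leaf)) (.node 1 13771273 (.node 0 9969957 (.node 1 8431757 (.node 0 9471495 (.node 0 10496547 (.node 1 8398155 .leaf .leaf) .leaf) (.node 1 10881097 (.node 1 10110017 .leaf .leaf) .leaf)) .leaf) (.node 1 8536111 (.node 0 9963547 (.node 0 9607201 (.node 1 8675909 .leaf .leaf) (.node 1 12747077 (.node 0 13124355 .leaf .leaf) .leaf)) (.node 1 8546577 (.node 0 8966165 (.node 0 8524371 .leaf .leaf) (.node 1 12599513 (.node 0 13636881 .leaf (.node 1 15335473 (.node 0 9048457 .leaf .leaf) .leaf)) .leaf)) .leaf)) .leaf)) .leaf)) (.node 1 12656663 (.node 0 8657159 (.node 0 8505411 (.node 0 12880401 (.node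 0 8499969 .leaf .leaf) .leaf) (.node 1 9440193 (.node 0 12641313 .leaf (.node 1 11010247 (.node 1 11046145 (.node 0 10666625 .leaf (.node 1 8688833 .leaf .leaf)) .leaf) .leaf)) .leaf)) (.node 1 12650793 (.node 0 9748745 .leaf (.node 1 8593633 (.node 0 13370381 .leaf .leaf) .leaf)) .leaf)) .leaf)) .leaf))

theorem certDuadA : cert gensDuad [2 ^ 23, 2 ^ 0] 13062145 treeDuadA cwKey enc
    ((cwOfWeight 8).filter fun n => n.testBit 23 && n.testBit 0) = true := by
  decide +kernel

/-- Spanning tree `Duad` `B`. -/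
def treeDuadB : Tree := (.node 0 8455014 (.node 0 12871690 (.node 0 9537812 (.node 0 8704546 (.node 0 8464984 (.node 1 13303882 (.node 0 14551296 (.node 1 9486564 (.node 0 12584506 .leaf .leaf) .leaf) (.node 1 9158944 .leaf .leaf)) .leaf) (.node 1 9708306 (.node 0 8484900 .leaf (.node 1 13631886 (.node 0 9456930 (.node 1 8401364 (.node 1 15207048 .leaf .leaf) .leaf) (.node 1 10619300 (.node 1 10513600 .leaf .leaf) .leaf)) .leaf)) .leaf)) (.node 1 12912836 (.node 0 12944642 (.node 0 10832640 (.node 0 8773776 (.node 1 16056344 .leaf .leaf) (.node 1 9503954 (.node 0 14949408 .leaf .leaf) .leaf)) (.node 1 9769376 (.node 0 8733800 (.node 1 10170384 .leaf .leaf) (.node 1 11608708 (.node 0 8660134 (.node 1 11548936 .leaf .leaf) (.node 1 10554382 (.node 0 11831426 .leaf .leaf) .leaf)) .leaf)) .leaf)) (.node 1 12126304 (.node 0 13009064 (.node 0 10028808 (.node 1 8622214 (.node 0 9178690 (.node 1 9998658 .leaf .leaf) .leaf) .leaf) (.node 1 11952160 (.node 1 9462812 (.node 1 12720156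 (.node 1 12733024 (.node 0 13148440 .leaf .leaf) .leaf) .leaf) .leaf) .leaf)) (.node 1 9020484 (.node 0 15073798 .leaf .leaf) .leaf)) .leaf)) .leaf)) (.node 1 9568632 (.node 0 14176296 (.node 1 8561204 (.node 0 8925710 .leaf .leaf) .leaf) (.node 1 13262980 (.node 0 9045270 (.node 0 11163650 (.node 1 8439632 (.node 0 14709264 .leaf .leaf) .leaf) (.node 1 12638592 .leaf .leaf)) (.node 1 10537016 (.node 0 9474712 (.node 0 9451104 .leaf .leaf) (.node 1 12985424 (.node 0 15274244 (.node 1 8490656 (.node 0 10790408 .leaf .leaf) .leaf) .leaf) .leaf)) .leaf)) .leaf)) .leaf)) (.node 1 8989058 (.node 0 8834052 (.node 0 11108882 (.node 0 8796800 (.node 1 11551306 .leaf .leaf) .leaf) (.node 1 9721936 (.node 0 12685424 (.node 0 12849992 (.node 1 10093218 (.node 0 9055272 .leaf .leaf) .leaf) (.node 1 13443616 .leaf .leaf)) (.node 1 14156372 (.node 0 12726562 (.node 1 8414120 (.node 1 10625178 (.node 1 14828808 .leaf .leaf) .leaf) .leaf) .leaf) .leaf)) .leaf)) (.node 1 10584520 (.node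 0 13911680 (.node 0 10560816 (.node 0 10768524 (.node 1 11669008 (.node 0 11055264 (.node 0 8521420 .leaf .leaf) (.node 1 12604486 (.node 0 14682450 (.node 1 13108704 .leaf .leaf) .leaf) .leaf)) .leaf) (.node 1 12661896 (.node 0 11797828 (.node 1 9968772 (.node 0 10650722 .leaf (.node 1 10525252 .leaf .leaf)) .leaf) .leaf) .leaf)) (.node 1 11538486 (.node 0 8394986 (.node 0 13667400 (.node 1 9310308 .leaf .leaf) .leaf) (.node 1 12594948 (.node 0 10543366 (.node 0 8407702 (.node 0 8436754 .leaf .leaf) (.node 1 8654232 (.node 1 15864000 .leaf .leaf) .leaf)) .leaf) .leaf)) .leaf)) (.node 1 11469952 (.node 1 11654144 (.node 0 10748656 (.node 1 16262146 .leaf .leaf) (.node 1 8721940 (.node 0 10825794 .leaf (.node 1 13703682 .leaf .leaf)) .leaf)) .leaf) .leaf)) .leaf)) .leaf)) (.node 1 9701932 (.node 0 9543722 (.node 1 8855820 (.node 0 10305542 (.node 0 8849458 (.node 0 9279496 (.node 0 9929280 .leaf .leaf) (.node 1 13721920 (.node 1 8978620 (.node 0 9835530 (.node 1 9589508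 (.node 0 8937586 .leaf .leaf) .leaf) (.node 1 14919680 (.node 0 9208708 .leaf .leaf) .leaf)) .leaf) .leaf)) .leaf) (.node 1 9652360 (.node 0 10257456 (.node 0 10687016 (.node 1 8611330 (.node 0 11282452 .leaf .leaf) .leaf) .leaf) (.node 1 10698836 (.node 0 13373586 (.node 0 8592704 (.node 1 8999616 .leaf .leaf) (.node 1 15762208 .leaf .leaf)) (.node 1 13192208 (.node 0 10916112 .leaf .leaf) .leaf)) .leaf)) .leaf)) .leaf) (.node 1 9578566 (.node 0 13142054 (.node 0 8555274 (.node 0 10021376 (.node 1 8683614 .leaf .leaf) (.node 1 8798658 (.node 1 12075408 (.node 0 8541360 (.node 0 11015256 .leaf .leaf) (.node 1 14714004 (.node 0 10491778 .leaf .leaf) .leaf)) .leaf) .leaf)) (.node 1 8694112 (.node 0 12698124 .leaf (.node 1 10232008 (.node 0 13829156 (.node 0 11272490 (.node 1 9610624 (.node 0 11028004 .leaf .leaf) .leaf) .leaf) (.node 1 12222476 .leaf .leaf)) .leaf)) .leaf)) (.node 1 8931660 (.node 0 13811730 (.node 0 8919856 (.node 0 8581192 (.node 1 9323032 .leaf .leaf)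 (.node 1 12624578 .leaf .leaf)) (.node 1 12861748 (.node 0 8474906 .leaf (.node 1 13641904 (.node 0 8426796 .leaf (.node 1 14688364 .leaf .leaf)) .leaf)) .leaf)) (.node 1 9078992 (.node 0 13276672 (.node 0 11150144 (.node 1 8963210 .leaf .leaf) .leaf) (.node 1 15515712 (.node 0 12780432 (.node 0 9204992 .leaf (.node 1 14762146 .leaf .leaf)) .leaf) .leaf)) .leaf)) .leaf)) .leaf)) .leaf))

theorem certDuadB : cert gensDuad [2 ^ 23, 2 ^ 0] 13938692 treeDuadB cwKey enc
    ((cwOfWeight 8).filter fun n => n.testBit 23 && !n.testBit 0) = true := by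
  decide +kernel

/-- Generators fixing the configuration `Hexad`. -/
def gensHexad : List (List ℕ) := [[0, 13, 21, 19, 8, 3, 9, 1, 10, 15, 4, 2, 12, 7, 14, 6, 18, 16, 17, 5, 20, 11, 22, 23], [0, 4, 2, 1, 19, 13, 8, 9, 7, 6, 5, 20, 18, 15, 22, 10, 12, 16, 17, 3, 11, 21, 14, 23], [0, 2, 10, 13, 8, 21, 11, 4, 3, 1, 15, 19, 18, 7, 17, 9, 16, 12, 22, 5, 20, 6, 14, 23]]

/-- Spanning tree `Hexad` `8`. -/
def treeHexad8 : Tree := .leaf

theorem certHexad8 : cert gensHexad [2 ^ 23, 2 ^ 0, octB] 13062145 treeHexad8 cwKey enc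
    ((cwOfWeight 8).filter fun n => n.testBit 23 && n.testBit 0 && pc (n &&& octB) == 8) = true := by
  decide +kernel

/-- Spanning tree `Hexad` `4`. -/
def treeHexad4 : Tree := (.node 0 8593633 (.node 0 8716939 (.node 1 8524371 .leaf (.node 2 12656663 (.node 0 14950785 (.node 2 12599513 .leaf .leaf) (.node 1 8966165 .leaf (.node 2 8471941 .leaf .leaf))) .leaf)) (.node 1 8499969 (.node 0 8688833 (.node 2 12880401 (.node 1 10110017 .leaf (.node 2 13124355 .leaf .leaf)) .leaf) .leaf) (.node 2 10557585 (.node 0 8657159 (.node 0 10630149 .leaf (.node 1 9830549 (.node 0 11731203 .leaf (.node 1 9112069 .leaf (.node 2 13636881 .leaf .leaf))) (.node 2 13370381 (.node 1 8536111 .leaf (.node 2 12641313 .leaf .leaf)) .leaf))) (.node 1 12325377 (.node 0 9607201 (.node 0 9506893 .leaf (.node 1 9776129 .leaf .leaf)) (.node 1 10881097 .leaf (.node 2 13893731 (.node 0 13771273 .leaf (.node 2 15747077 .leaf .leaf)) .leaf))) .leaf)) .leaf))) (.node 1 8619033 (.node 0 9240913 (.node 0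 8783649 .leaf (.node 1 9048457 .leaf (.node 2 12650793 (.node 1 9465987 .leaf (.node 2 11100169 .leaf .leaf)) .leaf))) (.node 1 8983587 (.node 0 8663097 .leaf (.node 2 10846245 (.node 2 14747201 .leaf .leaf) .leaf)) .leaf)) (.node 2 12587685 (.node 0 14716939 (.node 0 13121601 (.node 1 9748745 .leaf (.node 2 9193633 .leaf .leaf)) .leaf) (.node 1 8675909 (.node 0 10666625 (.node 0 8505411 .leaf .leaf) (.node 1 12747077 (.node 2 8412681 .leaf .leaf) (.node 2 12717187 (.node 1 9519665 .leaf .leaf) .leaf))) (.node 2 10765331 (.node 0 8546577 (.node 1 14254209 .leaf .leaf) (.node 1 15335473 (.node 2 10506593 .leaf .leaf) .leaf)) .leaf))) .leaf)))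

theorem certHexad4 : cert gensHexad [2 ^ 23, 2 ^ 0, octB] 9347075 treeHexad4 cwKey enc
    ((cwOfWeight 8).filter fun n => n.testBit 23 && n.testBit 0 && pc (n &&& octB) == 4) = true := by
  decide +kernel

/-- Spanning tree `Hexad` `2`. -/
def treeHexad2 : Tree := (.node 0 9440193 (.node 0 9471495 .leaf (.node 2 9963547 (.node 0 9969957 (.node 1 8431757 .leaf .leaf) .leaf) .leaf)) (.node 1 11046145 (.node 0 8391797 (.node 0 10486557 (.node 1 11010247 .leaf .leaf) .leaf) (.node 1 11535529 (.node 1 10496547 .leaf .leaf) (.node 2 8946281 (.node 1 8398155 (.node 0 8922769 .leaf (.node 1 8421811 .leaf .leaf)) .leaf) .leaf))) .leaf))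

theorem certHexad2 : cert gensHexad [2 ^ 23, 2 ^ 0, octB] 11575377 treeHexad2 cwKey enc
    ((cwOfWeight 8).filter fun n => n.testBit 23 && n.testBit 0 && pc (n &&& octB) == 2) = true := by
  decide +kernel

/-- Generators fixing the configuration `Heptad22`. -/
def gensHeptad22 : List (List ℕ) := [[0, 8, 20, 11, 19, 6, 17, 16, 4, 3, 14, 10, 12, 13, 9, 18, 5, 7, 22, 21, 15, 1, 2, 23], [0, 11, 22, 17, 21, 10, 16, 8, 19, 4, 9, 6, 12, 2, 1, 15, 14, 7, 13, 3, 18, 5, 20, 23], [0, 19, 20, 1, 21, 3, 10, 14, 16, 8, 5, 7, 15, 12, 4, 13, 9, 11, 22, 6, 2, 17, 18, 23]]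

/-- Spanning tree `Heptad22` `8`. -/
def treeHeptad228 : Tree := .leaf

theorem certHeptad228 : cert gensHeptad22 [2 ^ 23, 2 ^ 0, 13938692] 13938692 treeHeptad228 cwKey enc
    ((cwOfWeight 8).filter fun n => n.testBit 23 && !n.testBit 0 && pc (n &&& 13938692) == 8) = true := by
  decide +kernel

/-- Spanning tree `Heptad22` `4`. -/
def treeHeptad224 : Tree := (.node 0 15762208 (.node 0 8683614 (.node 0 14551296 (.node 0 14714004 .leaf (.node 1 10232008 (.node 2 12604486 .leaf .leaf) .leaf)) (.node 1 14919680 (.node 0 8660134 .leaf (.node 1 9486564 .leaf (.node 2 8796800 (.node 0 12661896 .leaf (.node 1 8401364 .leaf (.node 2 12638592 .leaf .leaf))) .leaf))) (.node 2 16262146 (.node 0 10543366 (.node 0 9708306 .leaf (.node 2 10170384 .leaf .leaf)) (.node 1 9701932 .leaf (.node 2 9310308 (.node 0 15864000 .leaf .leaf) .leaf))) .leaf))) (.node 1 10257456 (.node 0 15515712 (.node 1 9543722 (.node 1 8834052 .leaf (.node 2 8925710 .leaf .leaf)) (.node 2 12985424 (.node 2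 14949408 .leaf .leaf) .leaf)) (.node 1 10790408 (.node 1 8561204 .leaf (.node 2 12726562 (.node 2 9279496 (.node 1 8581192 .leaf .leaf) .leaf) .leaf)) (.node 2 14688364 (.node 2 9835530 .leaf .leaf) .leaf))) (.node 2 8855820 (.node 0 13641904 (.node 0 9020484 (.node 2 9451104 .leaf .leaf) (.node 2 10768524 .leaf .leaf)) (.node 1 13262980 (.node 0 11608708 (.node 1 12861748 .leaf (.node 2 9589508 .leaf .leaf)) (.node 1 13631886 (.node 0 9537812 .leaf .leaf) (.node 2 9721936 (.node 0 13276672 .leaf (.node 1 10825794 .leaf .leaf)) .leaf))) (.node 2 13703682 (.node 0 8426796 .leaf (.node 2 9208708 (.node 1 13148440 .leaf .leaf) .leaf)) .leaf))) .leaf))) (.node 1 12871690 (.node 0 12594948 (.node 0 9462812 (.node 0 10021376 .leaf (.node 2 11538486 (.node 0 9998658 (.node 0 10916112 .leaf .leaf) .leaf) .leaf)) (.node 2 9769376 (.node 0 12685424 .leaf (.node 1 9204992 (.node 0 14709264 .leaf .leaf) (.node 2 12698124 .leaf .leaf))) .leaf)) (.node 1 9578566 (.node 0 9610624 (.node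 0 8773776 .leaf (.node 2 8484900 (.node 2 9474712 .leaf .leaf) .leaf)) (.node 1 12912836 (.node 1 13721920 (.node 2 8721940 .leaf .leaf) (.node 2 13911680 .leaf .leaf)) (.node 2 9968772 (.node 0 11654144 (.node 0 8704546 .leaf .leaf) (.node 1 12849992 .leaf .leaf)) .leaf))) (.node 2 13373586 (.node 0 15274244 (.node 1 14176296 (.node 0 10525252 .leaf .leaf) (.node 2 9929280 .leaf .leaf)) (.node 1 11548936 (.node 0 8436754 (.node 2 11055264 .leaf .leaf) (.node 2 8622214 .leaf .leaf)) .leaf)) .leaf))) (.node 2 14156372 (.node 0 12222476 (.node 0 11831426 (.node 0 12944642 .leaf (.node 1 8694112 .leaf .leaf)) (.node 1 13009064 .leaf .leaf)) (.node 1 16056344 (.node 0 13142054 (.node 1 13667400 .leaf .leaf) (.node 1 11952160 (.node 0 12624578 .leaf (.node 2 12720156 .leaf .leaf)) (.node 2 15073798 .leaf .leaf))) (.node 2 11797828 (.node 0 13811730 (.node 2 11282452 .leaf .leaf) (.node 1 13443616 .leaf (.node 2 13829156 .leaf .leaf))) .leaf))) .leaf)))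

theorem certHeptad224 : cert gensHeptad22 [2 ^ 23, 2 ^ 0, 13938692] 10305542 treeHeptad224 cwKey enc
    ((cwOfWeight 8).filter fun n => n.testBit 23 && !n.testBit 0 && pc (n &&& 13938692) == 4) = true := by
  decide +kernel

/-- Spanning tree `Heptad22` `2`. -/
def treeHeptad222 : Tree := (.node 0 10619300 (.node 0 9503954 (.node 0 9158944 (.node 0 10748656 .leaf (.node 1 8963210 (.node 1 8555274 .leaf .leaf) .leaf)) (.node 1 10832640 (.node 0 12584506 .leaf (.node 1 8937586 (.node 0 11150144 .leaf (.node 1 10554382 .leaf (.node 2 11015256 .leaf .leaf))) .leaf)) (.node 2 11028004 (.node 0 11551306 .leaf (.node 2 9568632 (.node 0 9078992 .leaf .leaf) .leaf)) .leaf))) (.node 1 13108704 (.node 0 10698836 (.node 1 14762146 (.node 1 9456930 .leaf .leaf) (.node 2 11669008 .leaf .leaf)) (.node 1 10028808 (.node 0 10537016 (.node 1 10650722 .leaf (.node 2 10625178 .leaf .leaf)) (.node 1 9323032 .leaf (.node 2 8455014 .leaf .leaf))) (.node 2 8733800 (.node 0 12733024 .leaf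 (.node 1 8611330 .leaf .leaf)) .leaf))) .leaf)) (.node 1 9652360 (.node 0 8490656 (.node 1 8439632 (.node 1 11108882 .leaf (.node 2 10560816 (.node 2 10687016 .leaf .leaf) .leaf)) (.node 2 8414120 (.node 1 9045270 .leaf (.node 2 8474906 (.node 1 11163650 .leaf .leaf) .leaf)) .leaf)) (.node 1 8798658 (.node 0 12780432 (.node 0 8978620 .leaf .leaf) (.node 1 8989058 (.node 1 8931660 .leaf (.node 2 8999616 .leaf .leaf)) (.node 2 13192208 .leaf .leaf))) (.node 2 8407702 (.node 1 14682450 (.node 1 12126304 .leaf (.node 2 11469952 .leaf .leaf)) (.node 2 12075408 (.node 1 11272490 .leaf .leaf) .leaf)) .leaf))) (.node 2 9178690 (.node 0 14828808 (.node 1 10093218 (.node 0 10584520 .leaf (.node 1 8654232 .leaf .leaf)) (.node 2 8849458 (.node 1 10513600 (.node 2 8541360 .leaf .leaf) (.node 2 15207048 .leaf .leaf)) .leaf)) (.node 1 8464984 (.node 0 9055272 (.node 1 8521420 .leaf (.node 2 8394986 (.node 0 8592704 .leaf .leaf) .leaf)) (.node 2 10491778 (.node 1 8919856 .leaf .leaf)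 .leaf)) .leaf)) .leaf)))

theorem certHeptad222 : cert gensHeptad22 [2 ^ 23, 2 ^ 0, 13938692] 13303882 treeHeptad222 cwKey enc
    ((cwOfWeight 8).filter fun n => n.testBit 23 && !n.testBit 0 && pc (n &&& 13938692) == 2) = true := by
  decide +kernel

/-- Generators fixing the configuration `Point`. -/
def gensPoint : List (List ℕ) := [[20, 6, 17, 9, 0, 18, 4, 5, 22, 13, 2, 7, 21, 19, 16, 1, 10, 15, 12, 8, 11, 3, 14, 23], [1, 13, 22, 19, 16, 10, 18, 14, 17, 6, 15, 8, 12, 0, 20, 9, 4, 21, 5, 11, 7, 3, 2, 23]]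

/-- Spanning tree `Point` `A`. -/
def treePointA : Tree := (.node 0 11654144 (.node 0 10554382 (.node 0 8521420 (.node 0 8561204 (.node 0 9347075 (.node 0 9998658 .leaf .leaf) (.node 1 14747201 (.node 0 9462812 (.node 1 14254209 .leaf .leaf) (.node 1 8683614 (.node 0 8524371 (.node 0 11575377 (.node 1 8716939 (.node 0 9451104 .leaf .leaf) .leaf) (.node 1 10825794 (.node 1 8663097 (.node 0 12325377 .leaf .leaf) .leaf) .leaf)) (.node 1 13443616 (.node 0 9204992 (.node 0 15274244 (.node 0 14828808 .leaf .leaf) .leaf) (.node 1 8391797 (.node 1 12944642 (.node 0 12604486 .leaf .leaf) .leaf) .leaf)) .leaf)) .leaf)) .leaf)) (.node 1 15515712 (.node 0 8474906 (.node 1 10170384 .leaf .leaf) (.node 1 9701932 (.node 0 8796800 (.node 0 11055264 (.node 1 8412681 (.node 0 11608708 .leaf .leaf) .leaf) (.node 1 10506593 (.node 0 16056344 .leaf (.node 1 9835530 .leaf .leaf)) .leaf)) (.node 1 13108704 (.node 0 12861748 (.node 1 13829156 .leaf .leaf) (.node 1 8834052 (.node 0 8622214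 .leaf (.node 1 15762208 (.node 0 12871690 .leaf .leaf) .leaf)) .leaf)) .leaf)) .leaf)) .leaf)) (.node 1 13148440 (.node 0 13124355 (.node 0 13721920 (.node 0 13192208 (.node 0 8471941 (.node 1 13811730 (.node 0 8505411 .leaf .leaf) .leaf) (.node 1 9537812 (.node 0 12717187 (.node 0 9486564 (.node 1 13911680 .leaf .leaf) .leaf) (.node 1 12780432 (.node 0 12641313 .leaf (.node 1 10698836 .leaf .leaf)) .leaf)) .leaf)) (.node 1 9830549 (.node 0 9607201 (.node 0 11831426 (.node 0 8394986 .leaf (.node 1 8414120 (.node 1 10110017 .leaf .leaf) .leaf)) (.node 1 10491778 (.node 0 14688364 .leaf (.node 1 8581192 .leaf .leaf)) .leaf)) (.node 1 14762146 (.node 0 8733800 (.node 0 8721940 .leaf .leaf) .leaf) .leaf)) .leaf)) (.node 1 9578566 (.node 0 9078992 (.node 0 8421811 (.node 0 13893731 (.node 1 8660134 .leaf .leaf) (.node 1 8611330 (.node 0 9020484 (.node 0 9045270 .leaf .leaf) .leaf) .leaf)) (.node 1 10832640 (.node 1 9568632 (.node 0 12880401 (.node 0 9465987 .leaf .leaf) (.node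 1 11469952 .leaf .leaf)) .leaf) .leaf)) (.node 1 14950785 (.node 0 14176296 (.node 1 9968772 (.node 0 10619300 .leaf (.node 1 12638592 .leaf .leaf)) .leaf) (.node 1 8536111 (.node 0 9929280 (.node 0 8436754 (.node 1 8499969 .leaf .leaf) (.node 1 10748656 .leaf .leaf)) (.node 1 16262146 (.node 0 8931660 (.node 1 14551296 .leaf .leaf) .leaf) .leaf)) .leaf)) .leaf)) .leaf)) (.node 1 9112069 (.node 0 9610624 (.node 0 13142054 (.node 0 8798658 (.node 0 12685424 .leaf (.node 1 11952160 (.node 0 9279496 .leaf .leaf) .leaf)) (.node 1 12594948 (.node 1 12747077 .leaf .leaf) .leaf)) (.node 1 10666625 (.node 0 9543722 (.node 1 8922769 (.node 0 9969957 .leaf .leaf) .leaf) (.node 1 11551306 .leaf .leaf)) .leaf)) (.node 1 14682450 (.node 0 12599513 (.node 0 9519665 (.node 0 9776129 .leaf (.node 1 9503954 .leaf .leaf)) (.node 1 10305542 (.node 1 13641904 .leaf .leaf) .leaf)) .leaf) .leaf)) .leaf)) .leaf)) (.node 1 9474712 (.node 0 10496547 (.node 0 10232008 (.node 0 8919856 (.node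 1 8592704 (.node 0 14714004 (.node 1 12698124 .leaf .leaf) .leaf) .leaf) (.node 1 9193633 (.node 1 9456930 .leaf .leaf) .leaf)) (.node 1 8398155 (.node 0 14156372 (.node 0 8546577 .leaf (.node 1 12912836 .leaf .leaf)) .leaf) .leaf)) (.node 1 8999616 (.node 0 10560816 (.node 0 13370381 (.node 0 9589508 (.node 0 14919680 (.node 1 10486557 .leaf .leaf) (.node 1 15864000 (.node 0 10537016 .leaf .leaf) .leaf)) .leaf) (.node 1 8619033 (.node 0 9471495 (.node 1 12624578 (.node 0 8937586 .leaf (.node 1 8675909 .leaf .leaf)) .leaf) (.node 1 11108882 (.node 1 8464984 (.node 1 9240913 (.node 0 13636881 .leaf (.node 1 8849458 (.node 0 8688833 .leaf .leaf) .leaf)) .leaf) .leaf) .leaf)) .leaf)) (.node 1 9721936 (.node 0 10557585 (.node 0 11535529 (.node 1 8963210 (.node 0 8455014 (.node 0 12985424 .leaf .leaf) (.node 1 10021376 .leaf .leaf)) .leaf) .leaf) (.node 1 9769376 (.node 0 14949408 (.node 0 10768524 .leaf (.node 1 8426796 (.node 0 15073798 .leaf .leaf) .leaf)) (.node 1 8541360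 (.node 0 10846245 (.node 1 12584506 .leaf .leaf) .leaf) .leaf)) .leaf)) .leaf)) .leaf)) .leaf)) (.node 1 11538486 (.node 0 10881097 (.node 1 11272490 (.node 0 12849992 (.node 0 14709264 (.node 0 11100169 (.node 0 10028808 .leaf (.node 1 9963547 (.node 0 9440193 .leaf (.node 1 8989058 .leaf .leaf)) .leaf)) (.node 1 9506893 (.node 0 11669008 (.node 0 8431757 .leaf (.node 1 10584520 (.node 1 9323032 (.node 1 12126304 (.node 0 8654232 .leaf .leaf) .leaf) .leaf) .leaf)) (.node 1 13373586 (.node 1 8484900 .leaf .leaf) .leaf)) .leaf)) (.node 1 9310308 (.node 0 10916112 (.node 0 14716939 (.node 1 8925710 .leaf .leaf) (.node 1 10687016 (.node 0 10790408 .leaf (.node 1 11015256 .leaf .leaf)) .leaf)) .leaf) .leaf)) (.node 1 9055272 (.node 0 9208708 (.node 0 12726562 (.node 1 10630149 (.node 0 12222476 (.node 1 15207048 .leaf .leaf) .leaf) .leaf) (.node 1 12733024 (.node 0 8773776 (.node 0 8983587 .leaf .leaf) (.node 1 11797828 (.node 0 12720156 .leaf (.node 1 13009064 (.node 0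 8704546 .leaf .leaf) .leaf)) .leaf)) .leaf)) (.node 1 11046145 (.node 0 13631886 (.node 1 13262980 (.node 0 9158944 .leaf (.node 1 15747077 (.node 0 9652360 .leaf .leaf) .leaf)) .leaf) (.node 1 8555274 (.node 1 11150144 .leaf .leaf) .leaf)) .leaf)) .leaf)) .leaf) (.node 1 12661896 (.node 0 11028004 (.node 0 8855820 (.node 0 13276672 (.node 0 10543366 (.node 0 13303882 (.node 0 8439632 (.node 0 12656663 .leaf .leaf) (.node 1 11282452 (.node 0 9048457 .leaf (.node 1 12650793 .leaf .leaf)) .leaf)) (.node 1 13771273 (.node 1 11010247 .leaf .leaf) .leaf)) (.node 1 10525252 .leaf .leaf)) (.node 1 15335473 (.node 0 9748745 (.node 1 10093218 (.node 0 8694112 .leaf .leaf) .leaf) .leaf) .leaf)) (.node 1 13667400 (.node 0 8407702 (.node 0 8593633 (.node 0 10257456 (.node 0 8657159 .leaf (.node 1 8490656 .leaf .leaf)) (.node 1 10765331 .leaf .leaf)) .leaf) .leaf) .leaf)) (.node 1 8966165 (.node 0 11731203 (.node 1 10625178 (.node 0 8946281 (.node 0 9708306 (.node 0 13121601 (.node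 0 12075408 .leaf .leaf) .leaf) (.node 1 9178690 .leaf .leaf)) .leaf) .leaf) (.node 1 13703682 (.node 0 10513600 (.node 0 8978620 (.node 0 8783649 (.node 0 13938692 (.node 0 11163650 (.node 1 11548936 .leaf .leaf) (.node 1 12587685 .leaf .leaf)) (.node 1 10650722 .leaf .leaf)) .leaf) .leaf) (.node 1 8401364 .leaf .leaf)) .leaf)) .leaf)) .leaf)) .leaf))

theorem certPointA : cert gensPoint [2 ^ 23] 13062145 treePointA cwKey enc
    ((cwOfWeight 8).filter fun n => n.testBit 23) = true := by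
  decide +kernel

/-- Spanning tree `Point` `B`. -/
def treePointB : Tree := (.node 0 2704706 (.node 0 4261212 (.node 0 4343317 (.node 0 1302533 (.node 0 1805314 (.node 0 36294 (.node 0 4325622 (.node 0 442481 (.node 1 3474978 .leaf .leaf) (.node 1 6644740 (.node 0 742412 .leaf (.node 1 5275709 (.node 1 4785798 (.node 1 4253780 .leaf .leaf) .leaf) .leaf)) .leaf)) (.node 1 4645632 .leaf .leaf)) (.node 1 2141072 (.node 0 4726955 (.node 0 1852256 (.node 0 4536592 (.node 0 6837377 .leaf .leaf) (.node 1 1445088 (.node 1 2409888 (.node 0 4526126 (.node 1 4731956 .leaf .leaf) .leaf) .leaf) .leaf)) (.node 1 551943 (.node 0 1769924 .leaf (.node 1 5286147 (.node 0 5785794 .leaf .leaf) .leaf)) .leaf)) (.node 1 213833 (.node 0 5350928 .leaf (.node 1 4063314 (.node 0 39257 .leaf (.node 1 2435240 .leaf .leaf)) .leaf)) .leaf)) .leaf)) (.node 1 7340691 (.node 0 1075305 (.node 0 1903248 (.node 0 15777 (.node 0 8126628 (.node 0 416040 (.node 0 6656640 .leaf .leaf) (.node 1 4213932 .leaf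 .leaf)) .leaf) (.node 1 84464 .leaf .leaf)) (.node 1 1836419 (.node 1 190626 (.node 0 884962 (.node 0 267634 .leaf .leaf) (.node 1 3172097 (.node 1 1212619 .leaf .leaf) .leaf)) .leaf) .leaf)) (.node 1 90318 (.node 0 722544 (.node 0 304405 (.node 0 5902343 (.node 1 6305926 .leaf .leaf) (.node 1 4424227 (.node 1 2106966 (.node 0 663645 .leaf .leaf) .leaf) .leaf)) (.node 1 2460752 .leaf .leaf)) (.node 1 6053905 (.node 0 1661185 (.node 0 7409024 (.node 1 180636 .leaf .leaf) .leaf) (.node 1 1116327 .leaf .leaf)) .leaf)) .leaf)) .leaf)) (.node 1 7438406 (.node 1 4465308 (.node 0 684577 (.node 1 3152963 (.node 0 3147996 (.node 1 5063048 (.node 1 1722420 (.node 0 493953 .leaf .leaf) .leaf) .leaf) (.node 1 307594 .leaf .leaf)) .leaf) (.node 1 4800613 (.node 0 1525008 (.node 0 4299781 (.node 0 3294342 .leaf (.node 1 4231958 (.node 0 6447171 (.node 1 3416079 .leaf .leaf) .leaf) .leaf)) (.node 1 3375280 (.node 0 298027 (.node 0 1315526 .leaf .leaf) (.node 1 2180760 (.node 0 75309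 .leaf (.node 1 1687640 .leaf .leaf)) .leaf)) .leaf)) (.node 1 5508118 (.node 0 153797 (.node 1 7622914 (.node 0 6379592 .leaf .leaf) .leaf) .leaf) .leaf)) .leaf)) .leaf) .leaf)) (.node 1 5210132 (.node 0 185603 (.node 1 3322370 (.node 0 2664522 (.node 0 525274 (.node 0 4203377 (.node 1 459847 (.node 0 1217620 .leaf .leaf) .leaf) (.node 1 1009728 (.node 1 3410225 (.node 0 5511305 .leaf (.node 1 198058 (.node 0 4490852 .leaf .leaf) .leaf)) .leaf) .leaf)) (.node 1 797449 (.node 0 5780352 .leaf (.node 1 657763 .leaf .leaf)) .leaf)) (.node 1 2110153 (.node 0 3678776 (.node 1 593097 (.node 1 837906 (.node 1 1256224 .leaf .leaf) .leaf) .leaf) (.node 1 806987 (.node 0 3216208 (.node 0 6302745 (.node 0 1589901 .leaf (.node 1 622863 (.node 0 5375810 .leaf .leaf) .leaf)) (.node 1 463064 (.node 0 2135601 .leaf .leaf) .leaf)) (.node 1 1849378 (.node 0 2890176 .leaf .leaf) .leaf)) .leaf)) .leaf)) .leaf) (.node 1 6359604 (.node 0 418953 (.node 0 1675812 (.node 0 2501890 (.node 0 4755660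 (.node 0 2245426 (.node 0 4563017 .leaf .leaf) .leaf) (.node 1 2269481 (.node 0 6062602 .leaf (.node 1 2754059 .leaf .leaf)) .leaf)) (.node 1 4202192 (.node 0 2121909 (.node 0 2031657 (.node 0 1351424 .leaf (.node 1 2624690 .leaf .leaf)) .leaf) .leaf) .leaf)) (.node 1 3719203 (.node 0 1378634 (.node 1 926128 (.node 0 5017889 .leaf .leaf) .leaf) (.node 1 1060490 (.node 0 535268 .leaf (.node 1 582081 (.node 1 1460739 (.node 0 1161408 .leaf .leaf) .leaf) .leaf)) .leaf)) .leaf)) .leaf) .leaf)) .leaf)) (.node 1 1484824 (.node 0 563843 (.node 0 3154402 (.node 0 4982904 (.node 0 283537 (.node 1 1265762 (.node 1 3421328 (.node 0 2627629 .leaf .leaf) .leaf) .leaf) (.node 1 855332 (.node 0 4593028 (.node 0 6475812 (.node 0 2605066 (.node 0 104010 .leaf .leaf) .leaf) .leaf) (.node 1 4361520 (.node 0 4505735 .leaf (.node 1 2328324 (.node 0 4367374 (.node 1 6857221 .leaf .leaf) (.node 1 6455896 .leaf .leaf)) .leaf)) .leaf)) .leaf)) .leaf) (.node 1 31554 (.node 0 6889680 (.node 0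 542009 (.node 0 5571333 (.node 0 5405696 (.node 0 2738308 (.node 1 5262104 .leaf .leaf) .leaf) .leaf) .leaf) .leaf) (.node 1 1454401 (.node 0 7903248 .leaf (.node 1 2494627 (.node 0 3444840 (.node 1 792232 (.node 1 580704 .leaf .leaf) .leaf) (.node 1 2126890 (.node 0 2949708 (.node 0 145176 .leaf .leaf) (.node 1 1618953 (.node 0 3672838 (.node 0 4336072 (.node 1 3031301 .leaf .leaf) .leaf) .leaf) .leaf)) .leaf)) .leaf)) .leaf)) .leaf)) (.node 1 2687905 (.node 0 5514536 (.node 0 5003780 (.node 0 2322816 (.node 0 6915112 (.node 0 280334 (.node 0 4403780 (.node 0 2810896 .leaf (.node 1 6557781 .leaf .leaf)) (.node 1 5939296 .leaf .leaf)) (.node 1 560668 (.node 0 140167 .leaf .leaf) .leaf)) (.node 1 3297305 (.node 0 3246601 .leaf (.node 1 3739786 (.node 0 2101096 (.node 1 951624 .leaf .leaf) (.node 1 555160 .leaf .leaf)) .leaf)) .leaf)) (.node 1 5249380 (.node 0 6703248 (.node 0 118953 (.node 1 1594898 .leaf .leaf) (.node 1 3227948 (.node 0 4656648 (.node 1 2654580 .leaf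 .leaf) (.node 1 5899416 (.node 0 52005 (.node 0 5709954 .leaf .leaf) .leaf) .leaf)) .leaf)) .leaf) .leaf)) (.node 1 689317 (.node 0 1474854 (.node 0 4626498 (.node 1 2372388 (.node 0 7221256 .leaf (.node 1 4330601 (.node 1 2921478 .leaf .leaf) .leaf)) .leaf) (.node 1 6432416 (.node 0 843820 (.node 0 987906 (.node 1 2242672 .leaf .leaf) (.node 1 5770785 (.node 0 1337732 (.node 0 4921504 .leaf .leaf) .leaf) .leaf)) (.node 1 2147405 .leaf .leaf)) .leaf)) (.node 1 6344194 (.node 1 1090380 (.node 0 4860434 (.node 1 2173253 (.node 1 4587803 .leaf .leaf) .leaf) (.node 1 5112513 .leaf .leaf)) .leaf) .leaf)) .leaf)) (.node 1 150618 (.node 0 99029 (.node 0 1188915 (.node 0 1869893 (.node 0 1186194 (.node 0 6326497 .leaf .leaf) .leaf) (.node 1 2204803 (.node 0 1573998 (.node 1 5024896 (.node 0 545190 .leaf .leaf) .leaf) (.node 1 57883 (.node 0 1647171 (.node 0 1584464 .leaf (.node 1 272595 .leaf .leaf)) .leaf) .leaf)) .leaf)) (.node 1 4538962 (.node 0 95313 (.node 0 3736597 (.node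 0 1182989 (.node 0 5409412 .leaf .leaf) .leaf) (.node 1 1413139 (.node 1 78514 .leaf .leaf) .leaf)) (.node 1 1384564 (.node 1 4523185 (.node 1 115766 .leaf .leaf) .leaf) .leaf)) .leaf)) (.node 1 4038912 (.node 0 4726026 (.node 0 6308804 (.node 0 4415544 (.node 0 902657 (.node 1 1084018 (.node 1 337856 .leaf .leaf) .leaf) .leaf) (.node 1 5652556 (.node 0 252432 .leaf .leaf) .leaf)) (.node 1 702724 (.node 0 6979970 (.node 0 4243818 (.node 1 1975812 .leaf .leaf) (.node 1 2255372 (.node 1 7864649 .leaf .leaf) .leaf)) (.node 1 6429441 (.node 0 7397512 (.node 0 608810 .leaf .leaf) (.node 1 2232654 .leaf .leaf)) .leaf)) .leaf)) (.node 1 133817 (.node 0 1352353 .leaf .leaf) .leaf)) .leaf)) .leaf)) .leaf)) .leaf)) (.node 1 1063445 (.node 0 3811457 (.node 0 1608104 (.node 0 4459426 (.node 0 4485344 (.node 0 2969648 (.node 0 2430217 (.node 0 7345676 .leaf .leaf) (.node 1 1121336 (.node 0 2363013 (.node 0 1192108 (.node 0 3050016 .leaf .leaf) .leaf) (.node 1 628112 (.node 0 6292775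 .leaf .leaf) .leaf)) .leaf)) (.node 1 1332261 (.node 0 3610628 (.node 0 2268296 (.node 1 2675464 (.node 0 6365962 .leaf (.node 1 1710664 .leaf .leaf)) .leaf) (.node 1 6295992 .leaf .leaf)) (.node 1 5280930 (.node 0 2377830 .leaf (.node 1 63108 (.node 0 2826278 .leaf (.node 1 5296705 (.node 0 3237906 .leaf .leaf) .leaf)) .leaf)) .leaf)) .leaf)) (.node 1 157028 (.node 1 7767041 (.node 0 1103886 (.node 0 2296514 (.node 0 42232 (.node 0 786999 (.node 1 4271202 .leaf .leaf) .leaf) (.node 1 2384216 .leaf .leaf)) .leaf) (.node 1 2130606 (.node 0 402026 (.node 0 832080 (.node 0 2634003 .leaf (.node 1 334433 .leaf .leaf)) (.node 1 2892897 (.node 0 1839388 .leaf .leaf) .leaf)) (.node 1 4744776 .leaf .leaf)) .leaf)) .leaf) .leaf)) (.node 1 675712 (.node 0 4301220 (.node 0 5129250 (.node 0 381252 (.node 1 5640752 (.node 0 2422785 (.node 1 1053483 (.node 1 668866 .leaf .leaf) .leaf) .leaf) .leaf) .leaf) .leaf) (.node 1 3328320 (.node 0 4294810 (.node 0 18147 (.node 1 1369154 (.node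 0 596054 (.node 0 2229713 .leaf .leaf) .leaf) .leaf) (.node 1 615188 (.node 0 4924673 (.node 0 5817604 (.node 0 4409606 .leaf .leaf) (.node 1 2263063 .leaf .leaf)) (.node 1 5441617 (.node 0 1100945 (.node 1 1164162 .leaf .leaf) (.node 1 2425238 .leaf .leaf)) .leaf)) .leaf)) (.node 1 3539848 (.node 0 4241960 (.node 0 2908802 .leaf (.node 1 530245 (.node 0 7479572 (.node 0 4900873 .leaf .leaf) .leaf) .leaf)) (.node 1 2769128 (.node 0 361272 (.node 0 4470275 (.node 0 3698756 (.node 0 2820376 .leaf .leaf) .leaf) .leaf) .leaf) .leaf)) .leaf)) .leaf)) .leaf)) (.node 1 2115979 (.node 0 5309160 (.node 0 290352 (.node 0 864389 (.node 0 3806496 (.node 0 6588684 (.node 0 4346506 .leaf (.node 1 4850476 .leaf .leaf)) .leaf) (.node 1 4216883 (.node 0 3489985 (.node 1 1327290 (.node 1 1664160 .leaf .leaf) .leaf) (.node 1 1127686 (.node 0 6949956 .leaf .leaf) .leaf)) .leaf)) (.node 1 1148257 (.node 1 427666 (.node 0 45159 .leaf (.node 1 2220640 .leaf .leaf)) .leaf) .leaf)) (.node 1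 804052 (.node 0 201013 (.node 1 6493202 (.node 1 2207772 (.node 1 4788761 .leaf .leaf) .leaf) .leaf) (.node 1 5621792 (.node 0 351362 (.node 0 2168036 .leaf (.node 1 1110320 (.node 0 7145475 (.node 0 1070536 .leaf (.node 1 10558 .leaf .leaf)) .leaf) .leaf)) (.node 1 1050548 (.node 0 4597797 (.node 0 2019456 (.node 1 3168928 .leaf .leaf) .leaf) (.node 1 4441280 (.node 1 3457556 (.node 0 210955 (.node 0 3704512 .leaf .leaf) .leaf) .leaf) .leaf)) .leaf)) .leaf)) .leaf)) (.node 1 1728778 (.node 0 4819776 (.node 0 4220306 .leaf (.node 1 396116 (.node 0 4370577 (.node 1 2183687 (.node 0 3351624 (.node 1 2916505 .leaf .leaf) (.node 1 5255258 .leaf .leaf)) .leaf) (.node 1 6750560 (.node 0 4510744 .leaf (.node 1 2491452 .leaf .leaf)) .leaf)) .leaf)) .leaf) .leaf)) .leaf)) (.node 1 4264387 (.node 0 7357552 (.node 0 346141 (.node 0 1250945 (.node 0 3189796 (.node 0 919694 (.node 0 168928 (.node 0 6594610 .leaf (.node 1 2512448 .leaf .leaf)) (.node 1 6842656 .leaf .leaf)) (.node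 1 4229001 (.node 0 5268006 (.node 1 5252293 .leaf .leaf) (.node 1 705094 (.node 0 237906 (.node 0 4752467 (.node 0 1065303 .leaf (.node 1 371206 .leaf .leaf)) .leaf) (.node 1 7612992 (.node 1 262637 .leaf .leaf) .leaf)) .leaf)) .leaf)) (.node 1 2150610 (.node 0 2162811 (.node 0 1312345 .leaf (.node 1 861210 .leaf .leaf)) (.node 1 1405448 (.node 0 2702848 (.node 0 2631052 .leaf .leaf) (.node 1 1577201 .leaf .leaf)) .leaf)) .leaf)) (.node 1 5833010 (.node 0 4476225 (.node 0 5329044 (.node 0 2313249 .leaf .leaf) .leaf) (.node 1 208020 (.node 1 6406417 (.node 0 5325835 (.node 1 1613974 (.node 1 4287105 .leaf .leaf) .leaf) (.node 1 1245726 .leaf .leaf)) .leaf) .leaf)) .leaf)) (.node 1 1410188 (.node 0 138790 (.node 0 2531524 (.node 0 692282 (.node 0 2392899 .leaf .leaf) (.node 1 6570537 .leaf .leaf)) (.node 1 6337856 (.node 0 6832158 (.node 1 5842956 (.node 1 4721045 (.node 0 5390753 .leaf .leaf) .leaf) .leaf) (.node 1 430605 (.node 1 6820450 (.node 1 277580 (.node 0 2757268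 .leaf .leaf) .leaf) .leaf) .leaf)) .leaf)) (.node 1 4768432 (.node 0 352547 (.node 0 6100032 (.node 0 2120980 (.node 0 6488205 (.node 0 1230376 .leaf .leaf) (.node 1 5476616 .leaf .leaf)) (.node 1 301236 (.node 1 4282144 .leaf .leaf) .leaf)) .leaf) (.node 1 1134148 (.node 1 5538256 (.node 1 475812 (.node 0 504864 .leaf .leaf) .leaf) .leaf) .leaf)) .leaf)) .leaf)) (.node 1 421910 (.node 0 2854977 (.node 0 3179802 (.node 0 4196943 (.node 0 1204944 (.node 0 632881 (.node 1 69395 .leaf .leaf) .leaf) (.node 1 4989254 .leaf .leaf)) (.node 1 762504 (.node 0 567074 (.node 1 175681 .leaf .leaf) (.node 1 2640465 (.node 0 1122713 (.node 1 737427 .leaf .leaf) .leaf) .leaf)) .leaf)) (.node 1 2365978 (.node 1 602472 (.node 0 7079696 (.node 0 4223245 (.node 0 8077824 (.node 0 126216 (.node 1 1737489 .leaf .leaf) .leaf) .leaf) (.node 1 231532 .leaf .leaf)) (.node 1 924689 (.node 0 3182981 (.node 0 7473194 (.node 0 314056 .leaf .leaf) .leaf) (.node 1 2201890 .leaf .leaf)) .leaf)) .leaf)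 .leaf)) (.node 1 7417889 (.node 0 3951624 (.node 0 72588 (.node 1 4870480 .leaf .leaf) .leaf) (.node 1 5279 (.node 0 3277413 (.node 1 6554826 (.node 0 21116 (.node 0 2564625 .leaf .leaf) .leaf) .leaf) .leaf) .leaf)) .leaf)) .leaf)) .leaf)) .leaf))

theorem certPointB : cert gensPoint [2 ^ 23] 4845570 treePointB cwKey enc
    ((cwOfWeight 8).filter fun n => !n.testBit 23) = true := by
  decide +kernel

/-- Spanning tree `Point` `D`. -/
def treePointD : Tree := (.node 0 11259464 (.node 0 8497054 (.node 0 13248103 (.node 0 10412372 (.node 0 13342995 (.node 0 15779267 (.node 0 13715582 (.node 0 8867537 (.node 0 9548981 (.node 0 12454951 .leaf (.node 1 12703379 (.node 1 9564758 (.node 0 11218003 .leaf .leaf) .leaf) .leaf)) .leaf) (.node 1 14493076 (.node 0 13262117 .leaf .leaf) .leaf)) (.node 1 9888398 (.node 0 9157218 (.node 0 11314642 (.node 0 13111679 (.node 0 16139089 .leaf .leaf) .leaf) (.node 1 10764113 (.node 1 8884587 .leaf .leaf) .leaf)) .leaf) .leaf)) (.node 1 10697494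 (.node 0 15377609 (.node 0 10011454 (.node 0 13052739 (.node 0 14218448 (.node 0 11094327 .leaf .leaf) (.node 1 10887543 (.node 1 15148075 (.node 0 10278476 .leaf (.node 1 11052095 .leaf .leaf)) .leaf) .leaf)) (.node 1 14364352 (.node 0 8973748 (.node 0 13566375 (.node 1 14838838 .leaf .leaf) .leaf) (.node 1 10799573 (.node 1 14107434 .leaf .leaf) .leaf)) .leaf)) (.node 1 11323919 (.node 0 9647050 (.node 0 15249008 (.node 0 9200031 .leaf (.node 1 8752973 .leaf .leaf)) (.node 1 11432145 (.node 0 12161337 .leaf .leaf) .leaf)) (.node 1 14166890 (.node 0 13396944 (.node 0 13201841 (.node 0 16598305 .leaf .leaf) (.node 1 9914725 .leaf .leaf)) (.node 1 9317829 (.node 0 14324148 (.node 1 14900868 .leaf .leaf) (.node 1 15124771 (.node 1 11675438 .leaf .leaf) .leaf)) .leaf)) .leaf)) .leaf)) (.node 1 14889305 (.node 0 16303641 (.node 0 9530127 (.node 1 14295507 (.node 0 14207345 .leaf (.node 1 10971271 .leaf .leaf)) .leaf) (.node 1 10062542 (.node 0 8531954 .leaf .leaf) .leaf))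 (.node 1 11472927 (.node 0 11704137 (.node 1 11440842 .leaf .leaf) (.node 1 15284282 (.node 0 11290569 (.node 0 13710140 .leaf .leaf) (.node 1 8994077 (.node 0 16385925 (.node 0 13822252 (.node 0 13617794 .leaf .leaf) .leaf) .leaf) .leaf)) .leaf)) .leaf)) .leaf)) .leaf)) (.node 1 16190113 (.node 0 9764008 (.node 0 11344550 (.node 0 10892776 (.node 0 15503932 (.node 0 10908427 (.node 0 16364104 .leaf (.node 1 12202091 .leaf .leaf)) (.node 1 13180524 .leaf .leaf)) (.node 1 11457577 (.node 0 11899662 (.node 1 13251320 (.node 1 11361349 .leaf .leaf) .leaf) (.node 1 12099114 (.node 0 10759118 .leaf .leaf) .leaf)) .leaf)) (.node 1 12615032 (.node 0 15549077 (.node 0 9663785 .leaf .leaf) .leaf) .leaf)) (.node 1 10016673 (.node 0 16066854 (.node 0 13524168 (.node 0 10605492 .leaf .leaf) (.node 1 12723645 (.node 0 14598693 (.node 0 9959682 .leaf (.node 1 15732454 .leaf .leaf)) .leaf) .leaf)) (.node 1 9625282 (.node 0 10594550 (.node 0 9307387 (.node 0 9737077 .leaf (.node 1 11398178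 .leaf .leaf)) .leaf) .leaf) .leaf)) .leaf)) (.node 1 10503678 (.node 0 13042301 (.node 0 9893393 .leaf (.node 1 15533174 (.node 0 8803677 (.node 1 16748578 (.node 0 10804554 (.node 1 10400552 .leaf .leaf) (.node 1 10501820 .leaf .leaf)) .leaf) .leaf) .leaf)) (.node 1 14672904 (.node 0 9035526 (.node 0 14886342 (.node 1 15130653 .leaf .leaf) (.node 1 13810512 (.node 0 15263891 (.node 0 10043883 (.node 0 13963120 .leaf .leaf) .leaf) (.node 1 10949573 .leaf .leaf)) .leaf)) .leaf) .leaf)) .leaf)) .leaf)) (.node 1 14986311 (.node 0 10113246 (.node 0 10718065 (.node 0 13935771 (.node 0 9984615 (.node 0 12003792 (.node 0 13147321 (.node 0 11813799 .leaf .leaf) (.node 1 10961337 (.node 1 12272698 (.node 1 12168344 (.node 0 8916911 .leaf .leaf) .leaf) .leaf) .leaf)) (.node 1 13909442 (.node 0 15227124 (.node 1 13982988 .leaf .leaf) (.node 1 8843685 .leaf .leaf)) .leaf)) (.node 1 9036455 (.node 0 10429794 (.node 0 13409620 .leaf .leaf) (.node 1 13659731 (.node 0 10053845 (.node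 1 13978003 .leaf .leaf) (.node 1 9806279 (.node 0 14294130 .leaf .leaf) .leaf)) .leaf)) .leaf)) (.node 1 10946394 (.node 0 12629597 (.node 0 12214807 (.node 0 10201417 (.node 0 14192530 .leaf .leaf) (.node 1 15804619 .leaf .leaf)) (.node 1 13472327 (.node 0 11695442 (.node 0 15304797 (.node 0 9586587 .leaf .leaf) (.node 1 12038281 .leaf .leaf)) (.node 1 12860022 .leaf .leaf)) .leaf)) (.node 1 11509880 (.node 0 9213723 .leaf (.node 1 11341369 (.node 1 9014650 (.node 0 12847063 .leaf .leaf) .leaf) .leaf)) .leaf)) .leaf)) (.node 1 16611456 (.node 0 11099560 (.node 1 10149144 (.node 0 14781319 (.node 0 13788394 (.node 0 9292404 .leaf .leaf) (.node 1 12739422 (.node 1 16719941 (.node 1 14944447 .leaf .leaf) .leaf) .leaf)) (.node 1 12295040 (.node 0 14724522 (.node 0 13386478 (.node 1 14445668 .leaf .leaf) (.node 1 9103117 .leaf .leaf)) (.node 1 10640344 .leaf .leaf)) .leaf)) .leaf) (.node 1 9460157 (.node 1 14374274 (.node 0 14798180 (.node 0 13059230 .leaf (.node 1 14059292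 (.node 1 15434468 (.node 0 8840506 .leaf .leaf) .leaf) .leaf)) (.node 1 11729044 (.node 0 11241643 (.node 1 11038490 .leaf .leaf) (.node 1 15815561 (.node 0 15822376 (.node 1 9995741 .leaf .leaf) .leaf) .leaf)) .leaf)) .leaf) .leaf)) .leaf)) (.node 1 12886831 (.node 0 14578242 (.node 0 11139408 (.node 0 15271323 (.node 0 13649773 (.node 0 14117396 (.node 1 15794677 .leaf .leaf) .leaf) (.node 1 9168926 (.node 0 9144259 .leaf (.node 1 16329489 (.node 0 14183817 .leaf .leaf) .leaf)) .leaf)) (.node 1 9902873 (.node 0 15777409 (.node 0 12085422 .leaf .leaf) (.node 1 11211250 (.node 0 14976377 (.node 0 13914655 (.node 0 11762241 .leaf .leaf) (.node 1 9405998 (.node 0 8828742 .leaf .leaf) .leaf)) (.node 1 10976280 (.node 0 11114125 .leaf .leaf) .leaf)) .leaf)) .leaf)) (.node 1 11811045 (.node 1 12866987 (.node 0 16077412 (.node 1 13899004 (.node 0 10902069 .leaf .leaf) .leaf) (.node 1 10155046 (.node 0 11503942 (.node 0 12752346 .leaf (.node 1 15084344 .leaf .leaf)) .leaf)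 .leaf)) .leaf) .leaf)) .leaf) .leaf)) .leaf)) (.node 1 13361745 (.node 0 10085651 (.node 0 14224711 (.node 0 13782484 (.node 0 12830901 (.node 0 9946275 .leaf (.node 1 15812374 (.node 0 12807245 .leaf (.node 1 13869276 (.node 0 9096755 (.node 1 11644738 .leaf .leaf) .leaf) .leaf)) .leaf)) (.node 1 16236932 (.node 0 12835882 (.node 0 10864326 (.node 1 13951608 (.node 0 9271827 .leaf .leaf) .leaf) (.node 1 12105492 (.node 0 15345935 .leaf .leaf) .leaf)) (.node 1 15876796 (.node 0 8907305 (.node 0 10335874 .leaf (.node 1 12060531 (.node 0 13904221 .leaf .leaf) .leaf)) (.node 1 16336076 (.node 1 14469276 (.node 0 8608675 .leaf (.node 1 14240676 .leaf .leaf)) .leaf) .leaf)) .leaf)) .leaf)) (.node 1 13019542 (.node 0 13291747 (.node 0 11911538 (.node 0 12917851 (.node 0 11556565 (.node 1 14012618 (.node 0 10575474 .leaf .leaf) .leaf) .leaf) (.node 1 9905848 (.node 0 9223717 (.node 1 12623715 .leaf .leaf) (.node 1 11126001 .leaf .leaf)) .leaf)) (.node 1 11828742 (.node 0 11221196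 (.node 1 15489305 (.node 1 10164526 .leaf .leaf) .leaf) (.node 1 13677033 (.node 0 16534066 (.node 0 8747465 .leaf (.node 1 9514476 (.node 1 13550993 .leaf .leaf) .leaf)) .leaf) .leaf)) .leaf)) (.node 1 14902053 (.node 1 15860831 (.node 0 9620061 (.node 1 16581570 (.node 1 8808700 (.node 0 9409201 .leaf .leaf) .leaf) .leaf) (.node 1 15573134 (.node 1 13134397 (.node 0 10445697 (.node 0 14269728 .leaf .leaf) .leaf) .leaf) .leaf)) .leaf) .leaf)) .leaf)) (.node 1 9677459 (.node 0 10005731 (.node 0 10226166 (.node 0 12982769 (.node 1 10966310 (.node 0 15176780 .leaf (.node 1 15905848 .leaf .leaf)) .leaf) (.node 1 13069728 (.node 0 13489316 (.node 1 13688372 (.node 1 13735876 .leaf .leaf) .leaf) (.node 1 11715893 (.node 1 15959690 (.node 1 11068124 (.node 0 9118523 .leaf (.node 1 14502473 .leaf .leaf)) .leaf) .leaf) .leaf)) .leaf)) (.node 1 8712067 (.node 0 14233830 (.node 1 12876949 (.node 1 13750567 (.node 1 13776534 .leaf .leaf) .leaf) .leaf) (.node 1 9626467 (.node 0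 14526546 (.node 0 8936915 .leaf .leaf) .leaf) .leaf)) .leaf)) (.node 1 10576851 (.node 0 14230649 (.node 0 10243861 (.node 1 13863394 (.node 0 12897522 (.node 0 8737015 (.node 1 13988914 .leaf .leaf) .leaf) (.node 1 10905492 (.node 0 13348909 (.node 1 15212055 .leaf .leaf) .leaf) .leaf)) .leaf) (.node 1 9276567 (.node 0 9573863 (.node 1 15135874 .leaf .leaf) .leaf) .leaf)) (.node 1 9920603 (.node 0 10067537 (.node 0 11546007 (.node 0 14289133 (.node 1 15486342 .leaf .leaf) (.node 1 12837259 .leaf .leaf)) (.node 1 8756178 (.node 0 14693619 (.node 1 8778767 .leaf .leaf) (.node 1 8876912 (.node 1 11998321 .leaf .leaf) .leaf)) .leaf)) (.node 1 12394675 (.node 0 10231145 .leaf .leaf) .leaf)) .leaf)) .leaf)) .leaf)) (.node 1 11864663 (.node 0 9583833 (.node 0 12094133 (.node 0 9841067 (.node 0 14457568 (.node 0 10779058 (.node 0 15536361 (.node 1 9198654 .leaf .leaf) .leaf) (.node 1 8675300 (.node 0 15151284 .leaf (.node 1 14079328 (.node 0 15063062 (.node 0 10704075 .leaf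 .leaf) (.node 1 11966116 .leaf .leaf)) .leaf)) .leaf)) (.node 1 11167139 (.node 0 14516588 (.node 0 13000466 (.node 0 14807237 .leaf .leaf) (.node 1 13504180 .leaf .leaf)) .leaf) .leaf)) (.node 1 12668874 (.node 0 12674804 (.node 1 14009429 (.node 0 9657367 (.node 1 15839634 (.node 0 15223915 .leaf .leaf) .leaf) .leaf) .leaf) .leaf) .leaf)) (.node 1 11391363 (.node 0 15799658 (.node 0 14962268 (.node 0 8614557 (.node 0 12297761 (.node 0 10267918 .leaf .leaf) (.node 1 16339027 (.node 0 11619673 .leaf .leaf) .leaf)) .leaf) (.node 1 9352348 (.node 0 11178791 (.node 0 16163146 (.node 0 13163098 .leaf (.node 1 11412141 .leaf .leaf)) (.node 1 14827082 .leaf .leaf)) (.node 1 15325729 (.node 0 11888010 .leaf (.node 1 9445214 (.node 1 13611456 (.node 0 15258930 .leaf .leaf) .leaf) .leaf)) .leaf)) .leaf)) (.node 1 9599546 (.node 0 11381441 (.node 0 9975226 (.node 0 15469413 .leaf (.node 1 9174145 (.node 1 11590419 .leaf .leaf) .leaf)) (.node 1 8670075 (.node 0 13972177 (.node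 0 12090417 .leaf .leaf) .leaf) .leaf)) (.node 1 12137921 (.node 0 16256316 (.node 0 12995469 (.node 0 13890208 .leaf .leaf) (.node 1 13340044 (.node 1 15387412 .leaf .leaf) .leaf)) .leaf) .leaf)) .leaf)) .leaf)) (.node 1 12919290 (.node 0 13391473 (.node 0 11890965 (.node 0 16456713 (.node 1 11049374 (.node 0 14812139 (.node 1 11428942 (.node 1 16558121 .leaf .leaf) .leaf) (.node 1 13335304 (.node 1 12196181 .leaf .leaf) .leaf)) .leaf) (.node 1 13832379 (.node 0 11849313 (.node 0 9779358 (.node 0 11149025 .leaf .leaf) (.node 1 9734122 .leaf .leaf)) (.node 1 11105430 (.node 0 11208045 .leaf (.node 1 13760537 (.node 1 10032023 (.node 0 15871329 .leaf .leaf) .leaf) .leaf)) .leaf)) .leaf)) (.node 1 9804902 (.node 0 10886358 (.node 0 10653949 (.node 1 15554058 .leaf .leaf) (.node 1 15069480 (.node 1 10098237 (.node 1 15310018 .leaf .leaf) .leaf) .leaf)) .leaf) .leaf)) (.node 1 9397301 (.node 0 10458373 (.node 0 15899910 (.node 0 14862542 (.node 0 8635130 (.node 0 8758899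 .leaf (.node 1 12412496 (.node 1 9799929 .leaf .leaf) .leaf)) (.node 1 16540428 .leaf .leaf)) (.node 1 14857100 (.node 1 15356493 (.node 1 16521294 .leaf .leaf) .leaf) .leaf)) (.node 1 14850738 (.node 1 10581836 (.node 0 15410716 .leaf (.node 1 14585945 .leaf .leaf)) .leaf) .leaf)) (.node 1 15830067 .leaf .leaf)) .leaf)) .leaf)) .leaf)) .leaf)) (.node 1 12356440 (.node 0 12598171 (.node 0 16278241 (.node 0 10316088 (.node 0 13442945 (.node 0 15758756 (.node 0 15681580 (.node 0 8902536 (.node 0 14792230 .leaf (.node 1 12243568 (.node 0 10856731 .leaf .leaf) .leaf)) .leaf) (.node 1 13816973 (.node 0 11782694 (.node 0 8891594 (.node 1 11330353 (.node 1 9637483 .leaf .leaf) .leaf) (.node 1 15738840 (.node 1 9421005 .leaf .leaf) .leaf)) (.node 1 16306822 (.node 1 13662924 (.node 0 11233968 .leaf .leaf) .leaf) .leaf)) .leaf)) (.node 1 8575350 (.node 0 15171795 (.node 0 9491579 .leaf (.node 1 10838590 (.node 0 9385545 (.node 1 11311219 (.node 0 11801051 .leaf .leaf) .leaf)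 .leaf) .leaf)) (.node 1 16201472 (.node 0 15268876 (.node 0 11223950 (.node 0 12822376 .leaf .leaf) (.node 1 14195469 (.node 0 15887234 (.node 1 11690445 .leaf .leaf) (.node 1 13245382 (.node 0 14868976 .leaf .leaf) .leaf)) .leaf)) .leaf) .leaf)) .leaf)) (.node 1 10161585 (.node 0 13929893 (.node 0 14047398 (.node 0 11000032 (.node 0 10851514 .leaf (.node 1 11818808 (.node 0 15022605 .leaf (.node 1 10196200 (.node 0 10784566 .leaf .leaf) .leaf)) .leaf)) .leaf) (.node 1 12765094 (.node 0 13099110 .leaf (.node 1 15918660 (.node 1 16024269 .leaf .leaf) .leaf)) .leaf)) (.node 1 10734994 (.node 0 12682479 (.node 0 9848438 (.node 1 16098528 .leaf .leaf) (.node 1 13428246 (.node 1 13740645 (.node 0 10382482 .leaf .leaf) .leaf) .leaf)) (.node 1 11789080 (.node 0 13217291 (.node 0 9988038 (.node 0 13314420 .leaf .leaf) (.node 1 8956759 .leaf .leaf)) .leaf) .leaf)) .leaf)) .leaf)) (.node 1 9718991 (.node 0 9640692 (.node 0 10923185 (.node 0 10260655 (.node 0 11934562 (.node 0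 14989528 (.node 0 11031227 .leaf .leaf) .leaf) .leaf) (.node 1 10602283 (.node 0 13968974 (.node 1 13410549 (.node 0 10375475 .leaf .leaf) .leaf) (.node 1 10135130 .leaf .leaf)) .leaf)) (.node 1 15029712 (.node 0 14767165 (.node 0 12011021 (.node 0 9682444 .leaf (.node 1 16285946 (.node 1 9268876 (.node 0 9123748 .leaf .leaf) .leaf) .leaf)) .leaf) (.node 1 9949244 (.node 1 16324272 .leaf .leaf) .leaf)) .leaf)) (.node 1 14475682 (.node 0 13457762 (.node 1 9846068 (.node 0 15636613 (.node 0 11719082 (.node 0 15043178 .leaf (.node 1 12220040 .leaf .leaf)) (.node 1 14703406 (.node 1 14300492 .leaf .leaf) .leaf)) (.node 1 14914977 (.node 0 16041006 (.node 0 8870478 (.node 0 10729168 .leaf .leaf) (.node 1 14198444 (.node 0 9333542 .leaf .leaf) .leaf)) (.node 1 10671646 .leaf .leaf)) .leaf)) .leaf) (.node 1 9596581 (.node 0 10463396 (.node 0 9346466 (.node 1 10682144 .leaf .leaf) (.node 1 14700465 .leaf .leaf)) .leaf) .leaf)) .leaf)) .leaf)) (.node 1 9138503 (.node 0 16483664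 (.node 0 12635423 (.node 0 13845191 (.node 0 9694320 (.node 1 11896721 .leaf .leaf) (.node 1 16015574 (.node 0 9132153 .leaf (.node 1 13983917 (.node 0 10444320 (.node 0 10861956 .leaf (.node 1 11574768 .leaf .leaf)) (.node 1 14173367 .leaf .leaf)) .leaf)) .leaf)) (.node 1 14394118 (.node 0 13299010 (.node 0 13222358 .leaf (.node 1 11971333 (.node 0 14334090 (.node 0 11062242 .leaf .leaf) .leaf) .leaf)) (.node 1 14822101 (.node 0 10150073 (.node 0 10324771 .leaf (.node 1 12144259 (.node 1 9497050 .leaf .leaf) .leaf)) (.node 1 15024463 (.node 0 13850200 (.node 0 10612245 (.node 0 10167439 .leaf (.node 1 13730651 .leaf .leaf)) .leaf) (.node 1 14557246 (.node 0 9362241 .leaf (.node 1 15281317 .leaf .leaf)) .leaf)) .leaf)) .leaf)) .leaf)) (.node 1 10979996 (.node 0 8566443 (.node 0 12362342 (.node 0 9320794 (.node 0 15242193 (.node 0 15753531 .leaf .leaf) (.node 1 11483425 (.node 0 16553352 .leaf (.node 1 10624315 .leaf .leaf)) .leaf)) .leaf) (.node 1 11073091 (.node 0 12132702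 (.node 1 13576345 .leaf .leaf) (.node 1 9747019 (.node 0 12073682 .leaf (.node 1 9188323 (.node 0 16527728 .leaf .leaf) .leaf)) .leaf)) .leaf)) (.node 1 15287160 (.node 0 12936985 (.node 0 14251525 (.node 0 12283140 (.node 1 15894937 .leaf .leaf) (.node 1 13670615 (.node 0 11684083 .leaf .leaf) .leaf)) .leaf) .leaf) .leaf)) .leaf)) (.node 1 16136211 (.node 0 12114121 (.node 0 11602874 (.node 0 12857065 (.node 0 10252980 (.node 1 13720801 (.node 1 9754006 .leaf .leaf) .leaf) (.node 1 9225575 (.node 0 14094678 (.node 0 14867537 (.node 0 11649183 .leaf .leaf) .leaf) .leaf) .leaf)) (.node 1 9135576 (.node 1 12568593 (.node 0 9543051 (.node 1 9106322 (.node 0 15311203 .leaf .leaf) .leaf) .leaf) .leaf) .leaf)) (.node 1 10247050 (.node 0 14760928 (.node 0 15492280 (.node 0 9261869 .leaf (.node 1 10079277 (.node 0 9899910 .leaf .leaf) .leaf)) .leaf) (.node 1 10123744 (.node 1 11951489 (.node 0 15833260 (.node 0 10899114 .leaf .leaf) .leaf) .leaf) .leaf)) .leaf)) (.node 1 10564015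 (.node 0 16647784 (.node 0 8715036 (.node 0 15413891 (.node 0 12117352 (.node 0 13437726 .leaf .leaf) .leaf) (.node 1 14357345 (.node 0 16051472 .leaf .leaf) .leaf)) (.node 1 11308268 .leaf .leaf)) (.node 1 13267995 (.node 0 12174149 (.node 0 13839642 (.node 0 13160133 (.node 0 9658806 .leaf .leaf) .leaf) (.node 1 14027482 (.node 0 8452849 (.node 1 9787203 .leaf .leaf) .leaf) .leaf)) (.node 1 12171271 .leaf .leaf)) .leaf)) .leaf)) .leaf)) .leaf)) (.node 1 9374696 (.node 0 12892080 (.node 0 15495207 (.node 0 12538184 (.node 0 14786328 (.node 0 14706319 (.node 0 10183276 (.node 0 9416464 .leaf (.node 1 16518353 .leaf .leaf)) (.node 1 14213199 (.node 0 10177362 .leaf (.node 1 14428807 (.node 1 12610023 .leaf .leaf) .leaf)) .leaf)) (.node 1 9147228 (.node 1 15669840 (.node 1 10819964 .leaf .leaf) .leaf) .leaf)) (.node 1 12458168 (.node 0 10787753 (.node 0 16003754 (.node 0 11303528 .leaf (.node 1 8942829 .leaf .leaf)) (.node 1 9066346 (.node 1 12500032 .leaf .leaf) .leaf))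 .leaf) .leaf)) (.node 1 13646895 (.node 0 12470980 (.node 0 8632760 .leaf (.node 1 16009704 (.node 0 12933816 (.node 0 10843809 (.node 0 12399660 (.node 0 11411212 .leaf .leaf) .leaf) (.node 1 10048884 (.node 0 15142165 .leaf (.node 1 14130320 .leaf .leaf)) .leaf)) (.node 1 10372524 (.node 0 13081380 (.node 1 14817140 .leaf .leaf) .leaf) .leaf)) .leaf)) (.node 1 13153671 (.node 0 16400742 (.node 0 13093208 (.node 1 12518196 .leaf .leaf) (.node 1 16133260 (.node 0 9099948 .leaf (.node 1 15253933 .leaf .leaf)) .leaf)) (.node 1 12777991 (.node 0 12312770 (.node 1 11823769 (.node 0 10042025 .leaf .leaf) .leaf) (.node 1 15741767 (.node 0 16410712 (.node 0 9030553 .leaf (.node 1 12388749 .leaf .leaf)) (.node 1 12988623 .leaf .leaf)) .leaf)) .leaf)) .leaf)) .leaf)) (.node 1 8640101 (.node 0 12035094 (.node 0 9083983 (.node 0 11699158 (.node 0 12757115 (.node 1 11347719 .leaf .leaf) (.node 1 15164104 (.node 0 9041464 .leaf (.node 1 12337277 (.node 1 14486698 .leaf .leaf) .leaf))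 .leaf)) (.node 1 15514370 (.node 0 15233482 (.node 1 10385421 (.node 1 16259491 .leaf .leaf) .leaf) .leaf) .leaf)) (.node 1 14787257 (.node 0 10249771 (.node 0 10304324 (.node 0 15351184 (.node 1 10737933 .leaf .leaf) .leaf) .leaf) (.node 1 8996447 (.node 0 9643861 (.node 0 14330901 (.node 0 10144135 .leaf .leaf) .leaf) .leaf) .leaf)) .leaf)) (.node 1 16029266 (.node 0 10516575 (.node 0 12255961 (.node 0 9482041 .leaf .leaf) (.node 1 14496011 (.node 0 16277312 (.node 1 9869772 (.node 1 15618976 .leaf .leaf) .leaf) (.node 1 9058487 (.node 0 12485089 (.node 0 13932858 (.node 0 14965443 .leaf .leaf) .leaf) .leaf) .leaf)) .leaf)) (.node 1 8762092 (.node 0 11417138 (.node 0 11317581 (.node 0 16388890 .leaf .leaf) (.node 1 10599529 .leaf .leaf)) .leaf) .leaf)) .leaf)) .leaf)) (.node 1 11423088 (.node 0 12947869 (.node 0 15881763 (.node 0 11921484 (.node 0 9117338 (.node 0 10528741 (.node 1 13026891 .leaf .leaf) .leaf) (.node 1 14418873 (.node 0 13925153 .leaf (.node 1 9129190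 (.node 0 8881652 (.node 0 13014071 .leaf .leaf) .leaf) .leaf)) .leaf)) (.node 1 11580622 (.node 0 11143806 (.node 0 8823769 (.node 0 14201395 .leaf (.node 1 11485795 (.node 0 9811288 .leaf .leaf) .leaf)) (.node 1 15543624 (.node 0 13129628 .leaf (.node 1 9341245 .leaf .leaf)) .leaf)) (.node 1 13431433 .leaf .leaf)) .leaf)) (.node 1 13324854 (.node 0 11003201 (.node 0 14259230 (.node 0 10637127 .leaf (.node 1 13220500 (.node 1 12671829 (.node 0 15950993 .leaf .leaf) .leaf) .leaf)) (.node 1 11960891 (.node 1 11085546 (.node 0 9185148 (.node 1 13601889 .leaf .leaf) (.node 1 9235545 .leaf .leaf)) .leaf) .leaf)) (.node 1 15809620 .leaf .leaf)) .leaf)) (.node 1 12029224 (.node 0 12885646 (.node 0 10646246 (.node 1 16020553 (.node 0 12147228 (.node 0 10694537 (.node 1 11190619 .leaf .leaf) (.node 1 14227928 (.node 1 9394580 .leaf .leaf) .leaf)) .leaf) .leaf) (.node 1 13169508 (.node 0 15687954 (.node 0 13227337 .leaf (.node 1 11741245 (.node 0 10391177 .leaf .leaf) .leaf))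 (.node 1 14032453 (.node 1 14979558 (.node 0 15093882 (.node 0 10867289 .leaf .leaf) .leaf) .leaf) .leaf)) .leaf)) (.node 1 11175864 .leaf .leaf)) .leaf)) .leaf)) .leaf)) .leaf)) (.node 1 16265373 (.node 0 12208937 (.node 0 14003080 (.node 0 13139618 (.node 0 11362788 (.node 0 13571384 (.node 0 14997253 (.node 1 13800046 (.node 0 10938962 (.node 0 9023707 .leaf (.node 1 11871081 .leaf .leaf)) .leaf) .leaf) (.node 1 11246644 (.node 0 10913167 (.node 1 15393322 (.node 0 9298762 .leaf (.node 1 12070477 (.node 1 13404619 .leaf .leaf) .leaf)) .leaf) .leaf) .leaf)) (.node 1 14044217 (.node 0 9820805 (.node 0 11746466 (.node 1 10548633 (.node 0 16319023 (.node 0 9858888 .leaf (.node 1 13118686 .leaf .leaf)) (.node 1 10211851 .leaf .leaf)) .leaf) (.node 1 13652978 (.node 0 15034481 (.node 0 10310809 (.node 0 11607845 .leaf (.node 1 10082482 (.node 1 9535376 .leaf .leaf) .leaf)) (.node 1 9766207 (.node 1 13345970 .leaf .leaf) .leaf)) .leaf) .leaf)) (.node 1 12158374 (.node 0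 12979566 (.node 0 13030100 (.node 0 10743859 (.node 1 11613723 .leaf .leaf) .leaf) (.node 1 15639844 (.node 1 14847533 (.node 1 15238990 (.node 1 13544012 .leaf .leaf) .leaf) .leaf) .leaf)) (.node 1 12775064 .leaf .leaf)) .leaf)) .leaf)) (.node 1 9502021 (.node 0 16451734 (.node 0 8572393 (.node 0 13992630 (.node 0 8813667 (.node 0 12423380 .leaf (.node 1 11842851 .leaf .leaf)) .leaf) (.node 1 12502786 (.node 0 12695886 (.node 1 13513493 (.node 0 16445697 .leaf (.node 1 14882919 (.node 1 14955806 .leaf .leaf) .leaf)) .leaf) (.node 1 11709160 (.node 0 9218746 (.node 1 9006945 .leaf .leaf) .leaf) .leaf)) .leaf)) (.node 1 14772636 (.node 1 14369053 (.node 0 13881089 (.node 0 13757574 .leaf .leaf) .leaf) .leaf) .leaf)) (.node 1 14062467 .leaf .leaf)) .leaf)) (.node 1 9061365 (.node 0 14131505 (.node 0 14474243 (.node 0 11622854 (.node 0 14879992 (.node 0 8701629 (.node 0 9908775 .leaf (.node 1 14272098 (.node 1 9744084 (.node 1 12960737 .leaf .leaf) .leaf) .leaf)) (.node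 1 11388188 (.node 0 12785423 (.node 1 15380566 .leaf .leaf) (.node 1 14387768 .leaf .leaf)) .leaf)) (.node 1 14053784 (.node 1 12275877 .leaf .leaf) .leaf)) (.node 1 9485222 (.node 0 15608034 (.node 0 9228792 .leaf (.node 1 10775853 (.node 0 14619276 .leaf .leaf) .leaf)) (.node 1 12744641 (.node 0 16375860 (.node 0 9391371 (.node 1 12233010 .leaf .leaf) (.node 1 13700765 .leaf .leaf)) (.node 1 11980871 .leaf .leaf)) .leaf)) .leaf)) (.node 1 10684087 (.node 0 9872493 (.node 0 10394134 (.node 0 10664387 .leaf .leaf) (.node 1 15500963 (.node 0 9728366 .leaf (.node 1 8449646 (.node 0 9380566 .leaf (.node 1 14460737 .leaf .leaf)) .leaf)) .leaf)) (.node 1 14804058 (.node 1 10330653 (.node 0 10108675 (.node 0 16296388 (.node 0 13257146 .leaf .leaf) .leaf) (.node 1 13175539 (.node 0 9725425 .leaf (.node 1 8744278 (.node 0 13309141 .leaf .leaf) .leaf)) .leaf)) .leaf) .leaf)) .leaf)) (.node 1 16206914 (.node 0 8510684 (.node 1 14537488 (.node 0 14777603 (.node 1 9613599 (.node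 0 16419395 .leaf .leaf) .leaf) .leaf) .leaf) (.node 1 11837884 (.node 0 13507115 (.node 0 11858880 (.node 1 9851625 (.node 0 11909680 (.node 0 11287691 (.node 0 12063724 .leaf .leaf) .leaf) (.node 1 12342498 .leaf .leaf)) .leaf) (.node 1 11025766 (.node 0 15598044 (.node 0 12768057 (.node 1 12260934 .leaf .leaf) .leaf) (.node 1 13024521 .leaf .leaf)) .leaf)) (.node 1 13321897 (.node 0 9824036 (.node 0 13581318 (.node 0 11195844 (.node 0 14909758 .leaf (.node 1 16177672 .leaf .leaf)) (.node 1 14727477 (.node 0 16662667 .leaf .leaf) .leaf)) (.node 1 13797105 (.node 0 9758775 (.node 0 10426563 .leaf (.node 1 13707171 .leaf .leaf)) .leaf) .leaf)) (.node 1 12110934 (.node 0 8587743 .leaf .leaf) .leaf)) .leaf)) .leaf)) .leaf)) .leaf)) (.node 1 12193226 (.node 0 12618748 (.node 0 13001395 (.node 0 10350689 (.node 0 12393746 (.node 0 14687693 (.node 1 13553934 .leaf .leaf) .leaf) (.node 1 9707187 (.node 1 8517090 .leaf .leaf) .leaf)) (.node 1 11625575 (.node 0 10423388 (.node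 0 8560533 (.node 1 14930754 (.node 1 11940444 (.node 0 11188761 .leaf .leaf) .leaf) .leaf) (.node 1 15567280 (.node 1 8605500 .leaf .leaf) .leaf)) .leaf) .leaf)) (.node 1 13584196 (.node 0 12842260 (.node 0 15451143 (.node 0 9684302 (.node 1 16687760 (.node 0 8976683 .leaf .leaf) .leaf) (.node 1 15772190 (.node 0 9071307 (.node 1 12347715 .leaf .leaf) (.node 1 13181901 .leaf .leaf)) .leaf)) (.node 1 15962645 (.node 0 11725835 (.node 1 12100491 .leaf .leaf) (.node 1 14750430 (.node 0 10643065 (.node 1 12420171 .leaf .leaf) .leaf) .leaf)) .leaf)) (.node 1 16156788 (.node 0 8837275 (.node 0 11637475 (.node 0 11807866 (.node 0 9181917 (.node 0 11678641 .leaf .leaf) (.node 1 9282985 .leaf .leaf)) (.node 1 8681178 (.node 0 11088501 .leaf .leaf) .leaf)) (.node 1 12153634 .leaf .leaf)) (.node 1 15009708 (.node 0 13006380 (.node 0 11530756 (.node 0 11253002 .leaf (.node 1 15735417 (.node 1 9246158 .leaf .leaf) .leaf)) (.node 1 16290917 .leaf .leaf)) (.node 1 13288572 (.node 0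 8897303 (.node 0 13874243 (.node 1 10793623 .leaf .leaf) .leaf) (.node 1 16616964 (.node 0 8551822 .leaf .leaf) .leaf)) .leaf)) .leaf)) .leaf)) .leaf)) (.node 1 11463048 (.node 0 13210538 (.node 0 14968674 (.node 0 13463644 (.node 0 11228945 (.node 0 15836429 (.node 0 14306830 (.node 0 8645572 .leaf .leaf) (.node 1 13271711 (.node 1 15297094 .leaf .leaf) .leaf)) (.node 1 11769946 (.node 0 10522331 .leaf (.node 1 11350936 (.node 0 15218473 .leaf .leaf) .leaf)) .leaf)) (.node 1 14489653 .leaf .leaf)) .leaf) (.node 1 9076308 (.node 0 11248021 (.node 0 14320939 (.node 0 13945670 (.node 0 12810450 .leaf (.node 1 14033892 (.node 0 13563952 .leaf .leaf) .leaf)) (.node 1 11185798 (.node 0 9085422 (.node 0 13534066 .leaf (.node 1 15625729 .leaf .leaf)) (.node 1 14740297 (.node 0 14246554 .leaf (.node 1 10355535 .leaf .leaf)) .leaf)) .leaf)) (.node 1 14895643 .leaf .leaf)) (.node 1 16095553 (.node 0 15752346 (.node 0 10570477 (.node 1 14435674 .leaf .leaf) (.node 1 10088844 (.node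 0 15404834 (.node 0 12903884 .leaf (.node 1 10661212 .leaf .leaf)) (.node 1 14310033 (.node 0 11659681 .leaf .leaf) .leaf)) .leaf)) (.node 1 8786878 (.node 0 15118945 (.node 0 12382234 (.node 0 11082571 .leaf .leaf) (.node 1 10753647 (.node 1 13415530 .leaf .leaf) .leaf)) (.node 1 15430752 (.node 1 11836445 (.node 0 11672207 .leaf .leaf) .leaf) .leaf)) .leaf)) .leaf)) .leaf)) .leaf) .leaf)) .leaf)) (.node 1 13195407 (.node 0 11749344 (.node 0 12954684 (.node 0 9328263 (.node 0 11776356 (.node 0 15633434 (.node 0 8442831 (.node 0 15934066 (.node 1 10822877 (.node 1 13484091 .leaf .leaf) .leaf) .leaf) (.node 1 11119404 (.node 0 13510538 (.node 1 11200613 (.node 0 10453402 .leaf (.node 1 15994635 .leaf .leaf)) .leaf) (.node 1 13242201 (.node 0 13689749 (.node 0 14379043 .leaf .leaf) .leaf) .leaf)) .leaf)) (.node 1 15079065 (.node 0 11596333 (.node 0 12528138 (.node 0 8961992 .leaf (.node 1 11020793 .leaf .leaf)) (.node 1 14161611 (.node 0 11561844 (.node 1 14091721 .leaf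 .leaf) (.node 1 9238726 .leaf .leaf)) .leaf)) (.node 1 11128942 (.node 1 14433816 (.node 0 11041669 .leaf (.node 1 9017829 (.node 0 16123314 (.node 1 10740908 .leaf .leaf) .leaf) .leaf)) .leaf) .leaf)) .leaf)) (.node 1 15792226 (.node 0 11356378 (.node 0 8460281 (.node 0 16000565 .leaf (.node 1 9426002 (.node 0 10589527 (.node 1 13087258 .leaf .leaf) .leaf) .leaf)) .leaf) (.node 1 9713549 (.node 0 16398884 .leaf .leaf) .leaf)) .leaf)) (.node 1 13207349 (.node 0 14050567 (.node 0 14407748 (.node 1 15997844 (.node 0 14842025 (.node 1 12080399 (.node 0 15928140 .leaf .leaf) .leaf) (.node 1 12800492 (.node 0 15189552 (.node 1 11634300 (.node 0 8793631 .leaf .leaf) .leaf) (.node 1 16667668 .leaf .leaf)) .leaf)) .leaf) (.node 1 15900839 (.node 0 10405994 (.node 1 12332960 (.node 0 13384108 .leaf .leaf) .leaf) .leaf) .leaf)) (.node 1 12815958 (.node 0 8578263 (.node 0 10190967 (.node 0 9866579 (.node 1 10986402 .leaf .leaf) (.node 1 15019666 (.node 1 8511869 (.node 0 14616083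 .leaf .leaf) .leaf) .leaf)) (.node 1 16114179 (.node 0 10058826 (.node 0 11079636 .leaf (.node 1 10271121 .leaf .leaf)) (.node 1 9446143 (.node 0 10365553 (.node 1 10816995 .leaf .leaf) .leaf) .leaf)) .leaf)) (.node 1 15049556 .leaf .leaf)) .leaf)) .leaf)) (.node 1 11977944 (.node 0 8493631 (.node 0 11937475 (.node 0 10008700 (.node 0 11406227 (.node 1 10709354 (.node 0 13469400 .leaf (.node 1 12461337 .leaf .leaf)) .leaf) .leaf) (.node 1 10805483 (.node 0 10293882 (.node 1 9256176 (.node 1 8772913 (.node 1 9672498 .leaf .leaf) .leaf) .leaf) .leaf) .leaf)) (.node 1 13186898 (.node 0 15230293 (.node 1 14125071 (.node 1 15213494 (.node 0 13525353 .leaf .leaf) .leaf) .leaf) (.node 1 8894549 (.node 0 12227731 (.node 0 11569519 .leaf (.node 1 10615434 (.node 1 9991001 .leaf .leaf) .leaf)) (.node 1 15012659 (.node 1 8598654 (.node 0 11437653 .leaf (.node 1 15578129 .leaf .leaf)) .leaf) .leaf)) .leaf)) .leaf)) (.node 1 12436136 (.node 0 8732458 (.node 0 15480516 (.node 0 11170108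 (.node 0 15696649 (.node 0 13694730 (.node 1 10138309 .leaf .leaf) .leaf) .leaf) (.node 1 12900461 (.node 0 12014226 (.node 1 11628792 .leaf .leaf) (.node 1 14423846 (.node 0 15104324 (.node 0 15454360 .leaf .leaf) (.node 1 12762340 (.node 0 11452598 .leaf .leaf) .leaf)) .leaf)) .leaf)) (.node 1 9090417 (.node 0 16548119 (.node 0 13785419 (.node 1 12464518 (.node 0 15374696 .leaf .leaf) .leaf) .leaf) (.node 1 10984963 (.node 1 10531706 (.node 0 15475291 .leaf .leaf) .leaf) .leaf)) .leaf)) (.node 1 9981688 (.node 0 8727477 (.node 0 14562465 (.node 0 12376356 (.node 0 15145354 (.node 0 14735080 .leaf .leaf) (.node 1 13770664 .leaf .leaf)) (.node 1 10542247 (.node 0 11993326 (.node 0 8822392 .leaf .leaf) .leaf) .leaf)) (.node 1 12797299 .leaf .leaf)) (.node 1 10341824 (.node 0 12656054 (.node 0 15090917 .leaf .leaf) (.node 1 9882544 (.node 0 12957859 (.node 1 8419127 .leaf .leaf) .leaf) .leaf)) .leaf)) .leaf)) .leaf)) .leaf)) (.node 1 14186774 (.node 0 15419841 (.node 0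 13747640 (.node 0 12930599 (.node 0 9925828 (.node 1 16044209 (.node 0 11884587 (.node 0 11869896 .leaf .leaf) (.node 1 9524910 (.node 0 10956388 .leaf .leaf) .leaf)) .leaf) (.node 1 13673846 (.node 0 13518935 (.node 0 9687505 .leaf .leaf) (.node 1 13084293 (.node 1 14729847 .leaf .leaf) .leaf)) .leaf)) (.node 1 10208916 (.node 0 8629543 (.node 0 14582982 (.node 1 15002276 (.node 0 9400490 (.node 0 11376480 .leaf .leaf) .leaf) .leaf) (.node 1 14853907 (.node 1 10723919 .leaf .leaf) .leaf)) (.node 1 15846096 (.node 0 8481979 (.node 0 10290917 .leaf .leaf) (.node 1 9782236 (.node 0 12795441 (.node 0 12379269 (.node 1 13683371 .leaf .leaf) .leaf) (.node 1 14631152 (.node 1 11881652 (.node 0 8854701 .leaf .leaf) .leaf) .leaf)) .leaf)) .leaf)) .leaf)) (.node 1 11946270 (.node 0 12819145 (.node 0 11593394 (.node 0 9250927 (.node 0 10360784 .leaf (.node 1 13380915 (.node 0 14438853 (.node 0 15948080 (.node 1 11736476 .leaf .leaf) .leaf) .leaf) .leaf)) (.node 1 9561801 (.node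 0 10038838 (.node 1 12692945 .leaf .leaf) (.node 1 10273491 (.node 0 9517427 (.node 1 8861075 .leaf .leaf) (.node 1 9792226 .leaf .leaf)) .leaf)) .leaf)) (.node 1 11293526 (.node 1 14104680 (.node 0 11329168 (.node 1 9558888 .leaf .leaf) (.node 1 11277749 (.node 0 16126253 (.node 1 15340718 .leaf .leaf) .leaf) .leaf)) .leaf) .leaf)) (.node 1 16458152 (.node 0 13422376 (.node 0 12940166 (.node 1 13791349 (.node 1 16061575 (.node 0 11689068 .leaf .leaf) .leaf) .leaf) (.node 1 10129252 (.node 1 15110080 (.node 0 12644542 .leaf (.node 1 10929004 .leaf .leaf)) .leaf) .leaf)) (.node 1 11160733 (.node 0 9667501 (.node 0 14069282 .leaf (.node 1 15353554 .leaf .leaf)) (.node 1 16369930 (.node 1 10103708 (.node 0 13282209 .leaf .leaf) .leaf) .leaf)) .leaf)) .leaf)) .leaf)) (.node 1 13842821 (.node 0 16436384 (.node 0 8767918 (.node 0 13047522 (.node 0 10810484 (.node 1 13997609 (.node 1 8951542 (.node 1 12975680 .leaf .leaf) .leaf) .leaf) .leaf) (.node 1 14313264 (.node 0 13494533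 (.node 1 13765431 (.node 0 14084289 .leaf .leaf) .leaf) (.node 1 11766981 (.node 0 9604286 (.node 0 8817383 (.node 0 9875698 .leaf .leaf) (.node 1 15329152 (.node 0 13198638 .leaf .leaf) .leaf)) (.node 1 14992282 (.node 0 12677739 (.node 1 10237015 .leaf .leaf) .leaf) .leaf)) .leaf)) .leaf)) (.node 1 11587468 (.node 0 12790446 (.node 0 9365216 (.node 0 9285942 .leaf .leaf) .leaf) (.node 1 14336968 (.node 0 12708658 (.node 0 13460675 .leaf .leaf) .leaf) .leaf)) .leaf)) (.node 1 14832023 (.node 0 15974505 (.node 0 9817626 (.node 0 8470215 (.node 0 12199156 (.node 1 15060105 .leaf .leaf) (.node 1 12906835 .leaf .leaf)) (.node 1 10068976 .leaf .leaf)) (.node 1 12322462 (.node 0 8534893 (.node 1 15603011 (.node 0 15782236 .leaf (.node 1 10926126 .leaf .leaf)) .leaf) (.node 1 13232360 (.node 0 9258930 (.node 0 12924261 .leaf .leaf) .leaf) .leaf)) .leaf)) .leaf) .leaf)) .leaf)) .leaf)) .leaf)) .leaf))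

theorem certPointD : cert gensPoint [2 ^ 23] 15953934 treePointD cwKey enc
    ((cwOfWeight 12).filter fun n => n.testBit 23) = true := by
  decide +kernel

/-- Generators fixing the configuration `Heptad`. -/
def gensHeptad : List (List ℕ) := [[16, 1, 21, 5, 20, 7, 2, 10, 6, 19, 9, 13, 18, 8, 22, 4, 0, 14, 12, 3, 15, 11, 17, 23], [18, 9, 10, 2, 5, 4, 19, 6, 7, 13, 15, 20, 22, 8, 12, 21, 0, 16, 14, 11, 3, 1, 17, 23]]

/-- Spanning tree `Heptad` `8`. -/
def treeHeptad8 : Tree := .leaf

theorem certHeptad8 : cert gensHeptad [2 ^ 23, octB] 13062145 treeHeptad8 cwKey enc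
    ((cwOfWeight 8).filter fun n => n.testBit 23 && pc (n &&& octB) == 8) = true := by
  decide +kernel

/-- Spanning tree `Heptad` `4`. -/
def treeHeptad4 : Tree := (.node 0 8474906 (.node 0 13893731 (.node 0 8622214 (.node 0 10765331 (.node 0 13703682 (.node 1 13771273 .leaf .leaf) (.node 1 8704546 (.node 1 14709264 (.node 1 12726562 .leaf .leaf) .leaf) .leaf)) (.node 1 14747201 (.node 0 9112069 (.node 0 11100169 (.node 0 12650793 (.node 1 9830549 .leaf .leaf) .leaf) (.node 1 9776129 (.node 0 8499969 (.node 0 9240913 .leaf .leaf) (.node 1 9748745 .leaf .leaf)) .leaf)) .leaf) .leaf)) (.node 1 9323032 (.node 0 14176296 (.node 0 13009064 (.node 0 8541360 (.node 0 13911680 .leaf (.node 1 12685424 (.node 1 15335473 .leaf .leaf) .leaf)) (.node 1 10698836 (.node 0 15747077 (.node 0 14919680 .leaf .leaf) (.node 1 8983587 (.node 1 12880401 .leaf .leaf) .leaf)) .leaf)) (.node 1 12720156 (.node 0 11952160 (.node 0 12638592 .leaf .leaf) (.node 1 13829156 (.node 1 8619033 (.node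 0 9519665 .leaf .leaf) .leaf) .leaf)) .leaf)) (.node 1 8484900 (.node 0 14950785 (.node 1 8798658 (.node 1 8999616 .leaf .leaf) .leaf) (.node 1 13636881 (.node 0 9929280 (.node 0 8966165 .leaf .leaf) .leaf) .leaf)) .leaf)) .leaf)) (.node 1 12587685 (.node 0 11469952 (.node 0 8412681 (.node 0 13443616 (.node 0 9048457 (.node 0 8733800 .leaf .leaf) (.node 1 8546577 (.node 0 13721920 .leaf (.node 1 9769376 .leaf .leaf)) .leaf)) (.node 1 13938692 (.node 0 10916112 (.node 0 9721936 .leaf (.node 1 14762146 .leaf .leaf)) .leaf) .leaf)) (.node 1 8505411 (.node 0 12656663 (.node 0 11731203 (.node 1 8716939 .leaf .leaf) (.node 1 8783649 (.node 1 8773776 .leaf .leaf) .leaf)) (.node 1 12325377 (.node 0 9279496 (.node 0 8663097 .leaf .leaf) (.node 1 12871690 .leaf .leaf)) .leaf)) .leaf)) (.node 1 12985424 (.node 0 9589508 (.node 0 15515712 (.node 1 11163650 .leaf .leaf) (.node 1 12661896 (.node 1 12747077 .leaf .leaf) .leaf)) (.node 1 9158944 (.node 0 12599513 .leaf (.node 1 10557585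 .leaf .leaf)) .leaf)) .leaf)) .leaf)) (.node 1 10832640 (.node 0 13121601 (.node 0 8855820 (.node 0 10506593 (.node 0 12912836 (.node 0 10630149 .leaf (.node 1 10110017 (.node 0 12698124 .leaf .leaf) .leaf)) (.node 1 13373586 (.node 0 9835530 .leaf (.node 1 12733024 (.node 1 10170384 .leaf .leaf) .leaf)) .leaf)) (.node 1 8471941 (.node 1 8688833 (.node 0 8721940 .leaf .leaf) .leaf) .leaf)) (.node 1 14551296 (.node 0 8581192 (.node 0 12861748 (.node 0 15864000 (.node 0 8834052 (.node 1 11654144 .leaf .leaf) (.node 1 13303882 (.node 0 8536111 .leaf .leaf) .leaf)) .leaf) (.node 1 15274244 (.node 0 10881097 .leaf (.node 1 12717187 (.node 0 8611330 .leaf .leaf) .leaf)) .leaf)) (.node 1 9652360 (.node 0 12641313 (.node 0 12780432 (.node 1 8593633 .leaf .leaf) .leaf) (.node 1 9506893 (.node 0 10846245 .leaf (.node 1 13370381 (.node 0 10687016 (.node 0 9193633 .leaf .leaf) .leaf) .leaf)) .leaf)) .leaf)) .leaf)) (.node 1 9465987 (.node 0 12944642 (.node 0 8524371 (.node 0 10305542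 (.node 0 14716939 (.node 0 8849458 .leaf (.node 1 15073798 .leaf .leaf)) .leaf) .leaf) (.node 1 10666625 (.node 0 13192208 (.node 1 9607201 (.node 1 16056344 .leaf .leaf) .leaf) (.node 1 10825794 (.node 0 8657159 .leaf (.node 1 13124355 (.node 1 8796800 .leaf .leaf) .leaf)) .leaf)) .leaf)) (.node 1 12849992 (.node 0 9310308 (.node 0 10768524 (.node 0 14949408 (.node 1 13811730 .leaf .leaf) (.node 1 12604486 (.node 1 13276672 .leaf .leaf) .leaf)) .leaf) (.node 1 13262980 (.node 0 14828808 .leaf (.node 1 8592704 (.node 0 8675909 (.node 1 9204992 .leaf .leaf) (.node 1 14254209 .leaf .leaf)) .leaf)) .leaf)) .leaf)) .leaf)) .leaf))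

theorem certHeptad4 : cert gensHeptad [2 ^ 23, octB] 9347075 treeHeptad4 cwKey enc
    ((cwOfWeight 8).filter fun n => n.testBit 23 && pc (n &&& octB) == 4) = true := by
  decide +kernel

/-- Spanning tree `Heptad` `2`. -/
def treeHeptad2 : Tree := (.node 0 10537016 (.node 0 13641904 (.node 0 9610624 (.node 0 8439632 (.node 0 14156372 (.node 1 9055272 (.node 1 9537812 .leaf .leaf) .leaf) (.node 1 11055264 (.node 0 8654232 (.node 0 9451104 (.node 1 13148440 .leaf .leaf) .leaf) .leaf) .leaf)) (.node 1 10584520 (.node 0 8391797 (.node 0 11608708 .leaf (.node 1 10257456 (.node 0 9474712 .leaf .leaf) .leaf)) (.node 1 11010247 (.node 1 9178690 (.node 1 10021376 (.node 1 11548936 (.node 1 13631886 .leaf .leaf) .leaf) .leaf) .leaf) .leaf)) .leaf)) (.node 1 9568632 (.node 0 9486564 (.node 0 14714004 (.node 0 11669008 .leaf (.node 1 10650722 (.node 0 8407702 .leaf .leaf) .leaf)) (.node 1 11015256 .leaf .leaf)) (.node 1 8978620 (.node 0 11535529 (.node 0 8490656 (.node 1 11575377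 .leaf .leaf) .leaf) .leaf) .leaf)) .leaf)) (.node 1 11538486 (.node 0 11831426 (.node 0 8436754 (.node 1 15762208 (.node 0 9078992 (.node 1 12126304 (.node 0 8431757 .leaf .leaf) .leaf) (.node 1 10625178 (.node 0 9456930 .leaf .leaf) .leaf)) .leaf) (.node 1 11551306 (.node 0 13142054 .leaf (.node 1 8925710 (.node 0 11272490 .leaf (.node 1 12594948 (.node 0 11150144 .leaf .leaf) .leaf)) .leaf)) .leaf)) (.node 1 12584506 (.node 0 10093218 (.node 0 8963210 (.node 1 10525252 (.node 0 11282452 .leaf (.node 1 16262146 (.node 0 8555274 .leaf .leaf) .leaf)) .leaf) (.node 1 8464984 (.node 0 9969957 .leaf .leaf) .leaf)) (.node 1 8561204 (.node 0 12075408 (.node 0 13667400 .leaf (.node 1 8394986 (.node 0 8660134 .leaf .leaf) .leaf)) (.node 1 10560816 (.node 1 8421811 (.node 0 9503954 (.node 1 8946281 .leaf .leaf) (.node 1 10748656 (.node 1 8937586 .leaf .leaf) .leaf)) .leaf) .leaf)) .leaf)) .leaf)) .leaf)) (.node 1 10554382 (.node 0 10496547 (.node 0 8989058 (.node 0 8398155 (.node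 0 8455014 (.node 1 8922769 (.node 0 10028808 .leaf (.node 1 8694112 .leaf .leaf)) .leaf) (.node 1 9208708 (.node 1 10513600 .leaf .leaf) .leaf)) (.node 1 9440193 (.node 0 9020484 (.node 0 10486557 .leaf (.node 1 11046145 .leaf .leaf)) (.node 1 10232008 (.node 0 8426796 .leaf (.node 1 8931660 (.node 0 14688364 (.node 0 10619300 .leaf .leaf) (.node 1 9968772 .leaf .leaf)) .leaf)) .leaf)) .leaf)) (.node 1 9708306 (.node 0 9998658 (.node 0 8683614 (.node 1 11028004 .leaf .leaf) (.node 1 15207048 (.node 1 9578566 .leaf .leaf) .leaf)) (.node 1 8414120 (.node 0 13108704 (.node 0 8521420 .leaf .leaf) (.node 1 8401364 (.node 0 11797828 .leaf .leaf) .leaf)) .leaf)) .leaf)) (.node 1 9471495 (.node 0 11108882 (.node 0 9963547 (.node 0 9543722 .leaf (.node 1 9701932 (.node 1 9462812 .leaf .leaf) .leaf)) .leaf) (.node 1 10790408 (.node 0 8919856 .leaf (.node 1 10543366 (.node 0 14682450 .leaf (.node 1 10491778 (.node 1 12624578 (.node 0 9045270 .leaf .leaf) .leaf) .leaf)) .leaf))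 .leaf)) .leaf)) .leaf))

theorem certHeptad2 : cert gensHeptad [2 ^ 23, octB] 12222476 treeHeptad2 cwKey enc
    ((cwOfWeight 8).filter fun n => n.testBit 23 && pc (n &&& octB) == 2) = true := by
  decide +kernel

/-- Generators fixing the configuration `OctAvoid`. -/
def gensOctAvoid : List (List ℕ) := [[9, 19, 11, 0, 20, 17, 4, 5, 7, 6, 10, 21, 22, 13, 16, 1, 15, 2, 3, 12, 18, 8, 14, 23], [3, 13, 0, 8, 21, 6, 18, 5, 2, 9, 17, 11, 15, 16, 1, 22, 14, 10, 7, 12, 20, 4, 19, 23]]

/-- Spanning tree `OctAvoid` `8`. -/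
def treeOctAvoid8 : Tree := .leaf

theorem certOctAvoid8 : cert gensOctAvoid [2 ^ 23, 4845570] 4845570 treeOctAvoid8 cwKey enc
    ((cwOfWeight 8).filter fun n => !n.testBit 23 && pc (n &&& 4845570) == 8) = true := by
  decide +kernel

/-- Spanning tree `OctAvoid` `4`. -/
def treeOctAvoid4 : Tree := (.node 0 371206 (.node 0 2664522 (.node 0 2634003 (.node 0 5780352 (.node 0 4485344 (.node 0 4415544 (.node 1 2704706 (.node 1 421910 .leaf .leaf) .leaf) (.node 1 884962 (.node 0 692282 (.node 0 5902343 .leaf (.node 1 6337856 (.node 0 4220306 .leaf (.node 1 5210132 (.node 1 6837377 .leaf .leaf) .leaf)) .leaf)) .leaf) .leaf)) (.node 1 1675812 (.node 0 4626498 .leaf (.node 1 5296705 (.node 1 6062602 .leaf .leaf) .leaf)) .leaf)) (.node 1 2207772 (.node 0 5286147 (.node 1 5842956 (.node 0 2422785 (.node 0 6365962 .leaf (.node 1 4294810 (.node 0 3719203 (.node 1 5255258 .leaf .leaf) (.node 1 6842656 .leaf .leaf)) .leaf)) (.node 1 1661185 (.node 0 6656640 (.node 1 4768432 .leaf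 .leaf) (.node 1 1103886 .leaf .leaf)) .leaf)) .leaf) (.node 1 6406417 (.node 0 1164162 (.node 1 5268006 (.node 0 1009728 (.node 1 351362 .leaf .leaf) (.node 1 1647171 (.node 0 832080 .leaf .leaf) .leaf)) .leaf) (.node 1 6832158 .leaf .leaf)) .leaf)) .leaf)) (.node 1 4536592 (.node 0 7397512 (.node 0 352547 (.node 0 762504 (.node 0 45159 (.node 1 4563017 .leaf .leaf) (.node 1 4282144 .leaf .leaf)) .leaf) (.node 1 5833010 (.node 0 2019456 (.node 0 4526126 (.node 0 4900873 (.node 1 4726026 (.node 1 702724 .leaf .leaf) .leaf) (.node 1 582081 .leaf .leaf)) (.node 1 5280930 (.node 0 5129250 .leaf .leaf) .leaf)) (.node 1 3698756 .leaf .leaf)) .leaf)) (.node 1 2738308 (.node 0 2201890 (.node 0 6979970 (.node 0 545190 .leaf .leaf) (.node 1 4253780 (.node 0 3237906 (.node 0 4038912 (.node 1 5329044 .leaf .leaf) .leaf) (.node 1 7145475 .leaf .leaf)) .leaf)) (.node 1 4216883 (.node 0 8077824 (.node 0 381252 (.node 1 4505735 .leaf .leaf) .leaf) .leaf) .leaf)) .leaf)) .leaf)) (.node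 1 4287105 (.node 0 2220640 (.node 0 237906 (.node 0 1613974 (.node 0 1849378 (.node 1 1161408 (.node 1 5621792 .leaf .leaf) .leaf) (.node 1 7417889 .leaf .leaf)) (.node 1 6644740 (.node 0 126216 (.node 0 2204803 .leaf (.node 1 4409606 (.node 1 551943 (.node 1 210955 .leaf .leaf) .leaf) .leaf)) (.node 1 737427 .leaf .leaf)) .leaf)) (.node 1 4538962 (.node 0 1687640 (.node 0 1413139 .leaf (.node 1 7622914 (.node 0 5063048 .leaf .leaf) .leaf)) (.node 1 2908802 (.node 0 602472 (.node 0 4370577 (.node 1 6915112 (.node 1 4870480 .leaf .leaf) .leaf) .leaf) (.node 1 78514 (.node 0 5939296 .leaf .leaf) .leaf)) .leaf)) .leaf)) (.node 1 608810 (.node 0 2854977 (.node 0 4231958 (.node 0 5785794 .leaf (.node 1 6857221 .leaf .leaf)) (.node 1 4510744 .leaf .leaf)) (.node 1 31554 (.node 0 6889680 (.node 0 1110320 (.node 0 5709954 (.node 0 843820 .leaf (.node 1 1664160 (.node 1 1265762 .leaf .leaf) .leaf)) .leaf) (.node 1 2969648 (.node 0 5476616 (.node 1 5817604 .leaf .leaf) .leaf)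 .leaf)) .leaf) .leaf)) .leaf)) .leaf)) (.node 1 5325835 (.node 0 902657 (.node 0 104010 (.node 0 4752467 (.node 0 1594898 (.node 0 6100032 .leaf (.node 1 3322370 (.node 1 5350928 (.node 0 1369154 .leaf .leaf) .leaf) .leaf)) (.node 1 7221256 (.node 0 4223245 (.node 1 622863 .leaf .leaf) (.node 1 628112 .leaf .leaf)) .leaf)) (.node 1 4645632 (.node 0 90318 (.node 0 632881 (.node 1 6379592 .leaf .leaf) .leaf) (.node 1 4785798 (.node 0 580704 (.node 0 6493202 (.node 1 2810896 .leaf .leaf) .leaf) (.node 1 684577 .leaf .leaf)) .leaf)) .leaf)) (.node 1 4346506 (.node 0 4800613 (.node 0 252432 (.node 0 7438406 (.node 0 837906 (.node 0 3739786 (.node 0 5017889 .leaf .leaf) (.node 1 6305926 .leaf .leaf)) (.node 1 6053905 (.node 0 1405448 .leaf .leaf) .leaf)) (.node 1 6344194 (.node 1 4860434 (.node 1 2702848 .leaf .leaf) .leaf) .leaf)) (.node 1 806987 (.node 0 4788761 (.node 1 2675464 (.node 0 4264387 .leaf .leaf) .leaf) (.node 1 307594 (.node 0 4726955 .leaf (.node 1 4301220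 (.node 0 190626 (.node 0 2826278 .leaf .leaf) .leaf) .leaf)) .leaf)) .leaf)) (.node 1 567074 (.node 0 668866 (.node 0 4731956 (.node 0 5405696 (.node 1 1805314 (.node 0 2921478 .leaf .leaf) .leaf) .leaf) (.node 1 504864 (.node 0 4367374 .leaf (.node 1 4441280 (.node 0 115766 .leaf .leaf) .leaf)) .leaf)) (.node 1 4403780 .leaf .leaf)) .leaf)) .leaf)) (.node 1 1728778 (.node 0 864389 (.node 0 4241960 (.node 0 6447171 (.node 0 615188 (.node 1 2183687 (.node 1 57883 .leaf .leaf) .leaf) (.node 1 861210 (.node 0 1618953 .leaf (.node 1 2322816 .leaf .leaf)) .leaf)) (.node 1 4819776 (.node 0 2150610 (.node 1 6594610 .leaf .leaf) (.node 1 5003780 (.node 1 563843 (.node 0 6820450 .leaf .leaf) .leaf) .leaf)) .leaf)) (.node 1 118953 (.node 0 4424227 (.node 0 705094 (.node 0 596054 (.node 0 7903248 .leaf .leaf) (.node 1 4470275 .leaf .leaf)) (.node 1 4744776 (.node 0 95313 (.node 1 2605066 .leaf .leaf) (.node 1 987906 (.node 0 4755660 .leaf .leaf) .leaf)) .leaf)) (.node 1 4243818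 (.node 1 4989254 (.node 0 555160 .leaf .leaf) .leaf) .leaf)) .leaf)) (.node 1 1127686 (.node 0 5024896 (.node 0 2126890 (.node 0 4924673 (.node 0 63108 (.node 0 4271202 .leaf .leaf) (.node 1 742412 (.node 0 4299781 .leaf (.node 1 185603 .leaf .leaf)) .leaf)) .leaf) (.node 1 4921504 (.node 0 6475812 .leaf .leaf) .leaf)) .leaf) .leaf)) .leaf)) .leaf))

theorem certOctAvoid4 : cert gensOctAvoid [2 ^ 23, 4845570] 1302533 treeOctAvoid4 cwKey enc
    ((cwOfWeight 8).filter fun n => !n.testBit 23 && pc (n &&& 4845570) == 4) = true := by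
  decide +kernel

/-- Spanning tree `OctAvoid` `2`. -/
def treeOctAvoid2 : Tree := (.node 0 797449 (.node 0 2110153 (.node 0 4203377 (.node 0 1204944 (.node 0 1384564 (.node 0 1484824 (.node 1 7409024 (.node 1 1722420 (.node 1 3152963 .leaf .leaf) .leaf) .leaf) (.node 1 3489985 (.node 1 1327290 (.node 0 2031657 (.node 0 430605 .leaf (.node 1 1070536 (.node 0 4523185 .leaf .leaf) .leaf)) (.node 1 3154402 .leaf .leaf)) .leaf) .leaf)) (.node 1 3474978 (.node 0 951624 (.node 0 5279 (.node 0 5770785 .leaf (.node 1 2269481 (.node 0 140167 .leaf (.node 1 4261212 .leaf .leaf)) .leaf)) (.node 1 4593028 (.node 1 689317 (.node 0 138790 .leaf (.node 1 4330601 .leaf .leaf)) .leaf) .leaf)) .leaf) .leaf)) (.node 1 2949708 (.node 0 39257 (.node 0 7340691 (.node 1 3678776 (.node 0 1454401 .leaf .leaf) .leaf) (.node 1 6588684 (.node 0 2115979 (.node 0 2687905 (.node 0 168928 .leaf (.node 1 21116 .leaf .leaf)) (.node 1 10558 (.node 0 3811457 .leaf (.node 1 2173253 (.node 1 346141 .leaf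 .leaf) .leaf)) .leaf)) (.node 1 4721045 (.node 1 2627629 (.node 0 6429441 (.node 1 560668 .leaf .leaf) .leaf) .leaf) .leaf)) .leaf)) (.node 1 283537 .leaf .leaf)) .leaf)) (.node 1 361272 (.node 0 1212619 (.node 0 786999 (.node 0 1710664 (.node 1 1351424 (.node 1 5409412 .leaf .leaf) .leaf) .leaf) (.node 1 5514536 (.node 0 418953 (.node 0 75309 (.node 0 175681 .leaf (.node 1 213833 (.node 0 99029 .leaf (.node 1 280334 .leaf .leaf)) .leaf)) (.node 1 198058 (.node 1 157028 (.node 1 459847 .leaf .leaf) .leaf) .leaf)) .leaf) .leaf)) (.node 1 6308804 (.node 0 84464 (.node 0 3375280 (.node 0 1474854 (.node 0 919694 .leaf (.node 1 5252293 .leaf .leaf)) (.node 1 7357552 .leaf .leaf)) (.node 1 2377830 (.node 0 2820376 (.node 0 3182981 .leaf (.node 1 2120980 .leaf .leaf)) (.node 1 272595 (.node 1 2435240 .leaf .leaf) .leaf)) .leaf)) .leaf) .leaf)) .leaf)) (.node 1 72588 (.node 0 6326497 (.node 0 2245426 (.node 0 1769924 (.node 0 301236 (.node 0 7473194 (.node 0 3031301 .leaf .leaf)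 .leaf) (.node 1 1332261 (.node 0 4656648 (.node 0 2147405 (.node 0 69395 (.node 0 3704512 .leaf .leaf) .leaf) (.node 1 675712 .leaf .leaf)) .leaf) .leaf)) (.node 1 2106966 (.node 0 1584464 (.node 0 3421328 .leaf (.node 1 3610628 (.node 1 1100945 .leaf .leaf) .leaf)) (.node 1 2564625 (.node 0 1090380 .leaf (.node 1 2180760 (.node 0 1148257 (.node 0 427666 .leaf (.node 1 5652556 .leaf .leaf)) .leaf) .leaf)) .leaf)) .leaf)) (.node 1 4982904 (.node 0 3297305 (.node 0 5571333 (.node 0 314056 (.node 0 2162811 (.node 0 1737489 (.node 1 7345676 .leaf .leaf) .leaf) (.node 1 4459426 (.node 0 2769128 (.node 1 267634 .leaf .leaf) (.node 1 535268 .leaf .leaf)) .leaf)) (.node 1 1589901 (.node 0 334433 .leaf (.node 1 1053483 (.node 0 5112513 .leaf .leaf) .leaf)) .leaf)) (.node 1 3179802 (.node 0 1836419 (.node 0 792232 .leaf .leaf) (.node 1 7479572 (.node 0 1337732 .leaf .leaf) .leaf)) .leaf)) (.node 1 2890176 (.node 0 6295992 (.node 0 5390753 (.node 1 1573998 (.node 0 924689 (.node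 1 2268296 .leaf .leaf) .leaf) .leaf) .leaf) .leaf) .leaf)) .leaf)) (.node 1 52005 (.node 0 2296514 (.node 0 2654580 (.node 0 1186194 (.node 0 8126628 (.node 0 416040 .leaf (.node 1 1577201 (.node 0 5640752 .leaf .leaf) .leaf)) (.node 1 3189796 (.node 1 5441617 (.node 1 3951624 .leaf .leaf) .leaf) .leaf)) (.node 1 6557781 (.node 0 5262104 (.node 1 3672838 .leaf .leaf) (.node 1 2916505 .leaf .leaf)) .leaf)) (.node 1 290352 (.node 0 3351624 (.node 0 304405 (.node 0 1060490 (.node 1 1256224 (.node 0 2531524 .leaf .leaf) .leaf) (.node 1 6488205 .leaf .leaf)) (.node 1 1525008 (.node 0 1410188 (.node 0 298027 (.node 1 4336072 .leaf .leaf) .leaf) (.node 1 3294342 (.node 0 855332 .leaf .leaf) .leaf)) .leaf)) .leaf) .leaf)) (.node 1 4196943 (.node 0 2640465 (.node 0 3216208 (.node 1 3457556 (.node 0 1378634 .leaf .leaf) .leaf) (.node 1 2365978 (.node 0 7864649 (.node 1 1839388 .leaf .leaf) (.node 1 2141072 (.node 1 6359604 (.node 0 3328320 .leaf .leaf) .leaf) .leaf)) .leaf)) .leaf)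 .leaf)) .leaf)) .leaf)) (.node 1 1122713 (.node 0 1352353 (.node 0 402026 (.node 0 663645 (.node 0 1063445 (.node 0 7612992 (.node 0 2384216 (.node 1 2425238 (.node 1 2121909 .leaf .leaf) .leaf) .leaf) (.node 1 3246601 (.node 0 2392899 (.node 0 525274 (.node 1 2372388 .leaf .leaf) (.node 1 4465308 .leaf .leaf)) .leaf) .leaf)) (.node 1 2430217 (.node 0 4229001 (.node 1 4850476 (.node 0 153797 .leaf (.node 1 530245 (.node 0 4202192 .leaf .leaf) .leaf)) .leaf) (.node 1 180636 (.node 0 1116327 (.node 0 3050016 .leaf (.node 1 1075305 .leaf .leaf)) (.node 1 6292775 .leaf .leaf)) .leaf)) .leaf)) (.node 1 337856 (.node 0 42232 (.node 0 1188915 (.node 0 1975812 .leaf .leaf) (.node 1 6750560 (.node 1 804052 (.node 0 1121336 (.node 0 7767041 (.node 1 5899416 .leaf .leaf) .leaf) (.node 1 2494627 .leaf .leaf)) .leaf) .leaf)) (.node 1 475812 (.node 0 231532 (.node 0 2263063 .leaf (.node 1 4476225 .leaf .leaf)) (.node 1 18147 (.node 0 722544 (.node 0 1217620 (.node 0 5508118 .leaf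 .leaf) (.node 1 2512448 .leaf .leaf)) .leaf) .leaf)) .leaf)) .leaf)) (.node 1 5309160 (.node 0 442481 (.node 0 1245726 (.node 0 1869893 (.node 1 5511305 (.node 0 6570537 .leaf (.node 1 1608104 .leaf .leaf)) .leaf) (.node 1 3172097 .leaf .leaf)) (.node 1 6554826 (.node 0 542009 (.node 0 1250945 (.node 0 4490852 .leaf (.node 1 1230376 .leaf .leaf)) (.node 1 2232654 .leaf .leaf)) (.node 1 926128 (.node 0 1192108 (.node 0 4597797 (.node 0 2255372 .leaf (.node 1 593097 .leaf .leaf)) .leaf) (.node 1 2168036 (.node 0 4361520 (.node 1 6949956 .leaf .leaf) .leaf) .leaf)) .leaf)) .leaf)) (.node 1 1852256 (.node 0 463064 (.node 0 5275709 (.node 0 1460739 .leaf .leaf) (.node 1 2409888 (.node 1 4325622 (.node 1 2892897 (.node 0 145176 .leaf .leaf) .leaf) .leaf) .leaf)) (.node 1 1315526 .leaf .leaf)) .leaf)) .leaf)) (.node 1 3227948 (.node 0 493953 (.node 0 2130606 (.node 0 657763 (.node 0 2757268 (.node 0 5249380 (.node 0 6703248 .leaf .leaf) (.node 1 2135601 (.node 0 5375810 .leaf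 (.node 1 6455896 (.node 1 7079696 .leaf .leaf) .leaf)) .leaf)) (.node 1 277580 (.node 0 6302745 .leaf .leaf) .leaf)) .leaf) (.node 1 4213932 (.node 0 2313249 (.node 0 2328324 (.node 0 36294 (.node 0 2624690 (.node 0 3806496 .leaf (.node 1 2242672 .leaf .leaf)) .leaf) (.node 1 4343317 (.node 0 1134148 (.node 0 2460752 .leaf .leaf) (.node 1 2754059 .leaf .leaf)) .leaf)) (.node 1 150618 (.node 0 3736597 .leaf (.node 1 2501890 (.node 1 208020 .leaf .leaf) .leaf)) .leaf)) .leaf) .leaf)) (.node 1 1065303 (.node 0 1903248 (.node 0 3444840 (.node 0 4587803 (.node 1 2631052 (.node 0 15777 (.node 0 6432416 .leaf .leaf) (.node 1 201013 .leaf .leaf)) .leaf) (.node 1 5538256 .leaf .leaf)) (.node 1 3168928 (.node 1 1084018 (.node 0 4063314 .leaf .leaf) .leaf) .leaf)) .leaf) .leaf)) .leaf)) .leaf))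

theorem certOctAvoid2 : cert gensOctAvoid [2 ^ 23, 4845570] 3416079 treeOctAvoid2 cwKey enc
    ((cwOfWeight 8).filter fun n => !n.testBit 23 && pc (n &&& 4845570) == 2) = true := by
  decide +kernel

/-- Spanning tree `OctAvoid` `0`. -/
def treeOctAvoid0 : Tree := (.node 0 133817 (.node 0 3277413 (.node 0 396116 (.node 0 3147996 (.node 0 3410225 .leaf .leaf) (.node 1 2363013 .leaf .leaf)) (.node 1 1312345 (.node 1 3539848 .leaf .leaf) .leaf)) (.node 1 2101096 (.node 0 2229713 (.node 0 1050548 (.node 0 1445088 .leaf .leaf) (.node 1 2491452 (.node 0 1182989 .leaf .leaf) .leaf)) .leaf) .leaf)) .leaf)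

theorem certOctAvoid0 : cert gensOctAvoid [2 ^ 23, 4845570] 262637 treeOctAvoid0 cwKey enc
    ((cwOfWeight 8).filter fun n => !n.testBit 23 && pc (n &&& 4845570) == 0) = true := by
  decide +kernel

/-- Generators fixing the configuration `DodPoint`. -/
def gensDodPoint : List (List ℕ) := [[14, 17, 22, 18, 15, 16, 3, 8, 19, 6, 9, 2, 13, 4, 0, 5, 1, 12, 7, 10, 11, 21, 20, 23], [4, 13, 19, 6, 16, 14, 10, 7, 18, 8, 22, 11, 21, 17, 1, 15, 12, 5, 2, 9, 3, 0, 20, 23]]

/-- Spanning tree `DodPoint` `12`. -/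
def treeDodPoint12 : Tree := .leaf

theorem certDodPoint12 : cert gensDodPoint [2 ^ 23, dodB] 10743859 treeDodPoint12 cwKey enc
    ((cwOfWeight 12).filter fun n => n.testBit 23 && pc (n &&& dodB) == 12) = true := by
  decide +kernel

/-- Spanning tree `DodPoint` `8`. -/
def treeDodPoint8 : Tree := (.node 0 16136211 (.node 0 11729044 (.node 0 14727477 (.node 0 16375860 (.node 0 15830067 (.node 0 11782694 (.node 1 8976683 (.node 0 9397301 (.node 0 12703379 (.node 1 15839634 .leaf .leaf) (.node 1 13324854 (.node 0 13874243 .leaf (.node 1 12153634 .leaf .leaf)) .leaf)) (.node 1 10938962 (.node 1 8629543 .leaf .leaf) .leaf)) .leaf) (.node 1 13760537 (.node 0 9758775 (.node 0 12830901 .leaf .leaf) (.node 1 11769946 (.node 0 10926126 (.node 0 15151284 (.node 1 12275877 .leaf .leaf) .leaf) (.node 1 10599529 .leaf .leaf)) .leaf)) .leaf)) .leaf) (.node 1 12568593 (.node 0 10542247 (.node 0 14902053 (.node 0 16339027 (.node 0 11725835 (.node 0 10902069 (.node 1 11094327 .leaf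 .leaf) .leaf) (.node 1 11613723 (.node 1 14889305 .leaf .leaf) .leaf)) (.node 1 10375475 (.node 0 9174145 (.node 0 8419127 .leaf (.node 1 14850738 (.node 1 11659681 .leaf .leaf) .leaf)) (.node 1 10838590 (.node 0 15171795 .leaf .leaf) .leaf)) .leaf)) (.node 1 15263891 (.node 0 11715893 (.node 0 15325729 .leaf .leaf) .leaf) .leaf)) (.node 1 8493631 (.node 0 13099110 (.node 0 13832379 (.node 0 9959682 .leaf (.node 1 11628792 (.node 1 10704075 (.node 0 10908427 .leaf .leaf) .leaf) .leaf)) (.node 1 10155046 (.node 0 12795441 .leaf .leaf) .leaf)) (.node 1 11139408 (.node 0 11052095 (.node 1 13361745 .leaf .leaf) (.node 1 10984963 (.node 0 10646246 .leaf .leaf) .leaf)) .leaf)) .leaf)) .leaf)) (.node 1 11241643 (.node 0 10966310 (.node 0 15413891 (.node 0 11695442 (.node 1 15148075 (.node 0 12014226 .leaf (.node 1 13791349 .leaf .leaf)) .leaf) (.node 1 11678641 .leaf .leaf)) (.node 1 15495207 (.node 0 15950993 (.node 0 11590419 (.node 0 11200613 .leaf (.node 1 10856731 (.node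 0 11452598 (.node 0 14914977 .leaf .leaf) .leaf) .leaf)) .leaf) (.node 1 12214807 (.node 0 14867537 (.node 0 11596333 (.node 0 15034481 (.node 0 11649183 .leaf .leaf) (.node 1 11190619 (.node 0 11457577 .leaf .leaf) .leaf)) .leaf) (.node 1 9118523 (.node 1 8876912 (.node 0 9023707 .leaf .leaf) .leaf) .leaf)) .leaf)) .leaf)) (.node 1 8452849 (.node 0 8511869 (.node 0 13484091 (.node 1 9564758 (.node 0 12757115 (.node 1 9694320 (.node 1 12835882 .leaf .leaf) .leaf) (.node 1 11253002 (.node 1 15118945 .leaf .leaf) .leaf)) .leaf) (.node 1 9426002 (.node 0 8566443 .leaf (.node 1 14792230 (.node 0 15934066 (.node 1 9663785 (.node 0 9271827 (.node 1 10697494 .leaf .leaf) .leaf) .leaf) (.node 1 16445697 (.node 1 11960891 .leaf .leaf) .leaf)) .leaf)) .leaf)) (.node 1 10734994 (.node 0 11178791 (.node 0 15430752 (.node 1 15881763 (.node 0 11762241 .leaf (.node 1 15753531 .leaf .leaf)) .leaf) (.node 1 11330353 (.node 0 11126001 (.node 0 10602283 (.node 0 11485795 .leaf .leaf) .leaf)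 (.node 1 8897303 (.node 0 13291747 .leaf .leaf) .leaf)) .leaf)) (.node 1 12957859 .leaf .leaf)) .leaf)) .leaf)) .leaf)) (.node 1 11741245 (.node 0 15063062 (.node 0 15900839 (.node 0 15948080 (.node 1 11884587 (.node 0 10971271 (.node 0 14832023 (.node 1 12394675 .leaf .leaf) (.node 1 9058487 (.node 0 12842260 (.node 1 16748578 .leaf .leaf) (.node 1 11233968 .leaf .leaf)) .leaf)) (.node 1 10516575 (.node 0 15130653 (.node 0 16044209 .leaf (.node 1 10190967 .leaf .leaf)) (.node 1 11218003 .leaf .leaf)) .leaf)) .leaf) (.node 1 10150073 (.node 0 8772913 (.node 0 9036455 (.node 1 9106322 .leaf .leaf) .leaf) (.node 1 8635130 (.node 0 8884587 .leaf .leaf) .leaf)) .leaf)) (.node 1 12171271 (.node 0 14838838 (.node 0 15962645 (.node 0 15792226 .leaf .leaf) (.node 1 14379043 (.node 0 9657367 (.node 1 15284282 .leaf .leaf) (.node 1 9599546 (.node 0 8894549 (.node 1 11246644 .leaf .leaf) (.node 1 10709354 (.node 0 11472927 (.node 1 11088501 .leaf .leaf) .leaf) .leaf)) .leaf)) .leaf))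 (.node 1 11188761 (.node 0 10810484 (.node 0 14787257 .leaf (.node 1 15451143 (.node 1 14201395 (.node 1 11789080 .leaf .leaf) .leaf) .leaf)) (.node 1 10718065 (.node 0 11128942 (.node 1 11073091 .leaf .leaf) .leaf) .leaf)) .leaf)) .leaf)) (.node 1 9132153 (.node 0 8778767 (.node 0 13001395 (.node 0 9687505 (.node 1 10851514 (.node 0 10986402 (.node 1 8843685 .leaf .leaf) (.node 1 14807237 (.node 1 12227731 .leaf .leaf) .leaf)) .leaf) (.node 1 9658806 (.node 1 9400490 (.node 0 8861075 .leaf .leaf) .leaf) .leaf)) (.node 1 15380566 (.node 0 15905848 (.node 0 11909680 (.node 0 10594550 (.node 0 14909758 .leaf .leaf) (.node 1 10737933 (.node 1 11311219 .leaf .leaf) .leaf)) (.node 1 15974505 (.node 1 9491579 (.node 0 8907305 .leaf (.node 1 14804058 .leaf .leaf)) .leaf) .leaf)) (.node 1 12297761 .leaf .leaf)) .leaf)) (.node 1 10575474 (.node 0 10723919 (.node 0 15093882 (.node 0 12038281 (.node 1 10653949 .leaf .leaf) (.node 1 11625575 (.node 1 13267995 .leaf .leaf) .leaf))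 (.node 1 9090417 (.node 0 9041464 (.node 0 8758899 .leaf (.node 1 14930754 (.node 1 11842851 .leaf .leaf) .leaf)) (.node 1 15189552 (.node 0 11637475 (.node 1 10548633 .leaf .leaf) (.node 1 13750567 (.node 1 12382234 .leaf .leaf) .leaf)) .leaf)) .leaf)) (.node 1 14777603 .leaf .leaf)) .leaf)) .leaf)) .leaf)) (.node 1 12202091 (.node 0 10976280 (.node 0 10793623 (.node 0 14868976 (.node 0 12161337 (.node 0 11398178 (.node 0 10684087 (.node 1 13201841 .leaf .leaf) (.node 1 12777991 (.node 1 12233010 .leaf .leaf) .leaf)) .leaf) (.node 1 9946275 (.node 0 8608675 (.node 0 9138503 (.node 1 11417138 (.node 0 10729168 .leaf .leaf) .leaf) (.node 1 10779058 .leaf .leaf)) (.node 1 12644542 (.node 0 14131505 (.node 0 10082482 .leaf (.node 1 9949244 .leaf .leaf)) (.node 1 12312770 (.node 0 10624315 .leaf .leaf) .leaf)) .leaf)) .leaf)) (.node 1 11248021 (.node 0 15258930 (.node 1 16114179 (.node 0 11684083 (.node 1 8481979 (.node 1 12810450 (.node 1 11746466 .leaf .leaf) .leaf) .leaf)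 (.node 1 9613599 (.node 0 13563952 (.node 0 9548981 .leaf .leaf) .leaf) .leaf)) .leaf) (.node 1 9409201 (.node 0 8517090 (.node 1 15135874 .leaf .leaf) (.node 1 10605492 (.node 0 15311203 (.node 0 12272698 .leaf (.node 1 9893393 .leaf .leaf)) .leaf) .leaf)) .leaf)) .leaf)) (.node 1 14882919 (.node 1 12090417 (.node 0 10612245 (.node 0 14729847 (.node 1 10085651 (.node 0 9096755 (.node 1 12708658 .leaf .leaf) (.node 1 13087258 (.node 1 11776356 .leaf .leaf) .leaf)) .leaf) (.node 1 13342995 .leaf .leaf)) (.node 1 14895643 (.node 0 11980871 (.node 0 14842025 (.node 0 11890965 .leaf .leaf) .leaf) (.node 1 9517427 (.node 0 9168926 (.node 1 9157218 (.node 0 8598654 .leaf (.node 1 10682144 (.node 1 15124771 .leaf .leaf) .leaf)) .leaf) .leaf) .leaf)) .leaf)) .leaf) .leaf)) (.node 1 10643065 (.node 0 10867289 (.node 0 10805483 (.node 0 10961337 (.node 0 11391363 (.node 0 11167139 (.node 0 11228945 (.node 1 15012659 .leaf .leaf) .leaf) .leaf) (.node 1 8737015 (.node 0 12837259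 (.node 1 9875698 (.node 1 10740908 .leaf .leaf) .leaf) (.node 1 11105430 (.node 0 14853907 .leaf .leaf) .leaf)) .leaf)) (.node 1 8578263 (.node 0 12768057 (.node 0 10350689 (.node 1 10671646 .leaf .leaf) (.node 1 11911538 .leaf .leaf)) (.node 1 13345970 (.node 0 9672498 (.node 1 15069480 .leaf .leaf) (.node 1 13890208 (.node 1 11719082 (.node 0 11483425 .leaf .leaf) .leaf) .leaf)) .leaf)) .leaf)) (.node 1 10589527 (.node 0 15393322 (.node 0 11998321 (.node 0 10615434 (.node 0 10887543 (.node 0 15454360 .leaf .leaf) (.node 1 10664387 (.node 0 11170108 .leaf (.node 1 10923185 .leaf .leaf)) .leaf)) (.node 1 14767165 .leaf .leaf)) (.node 1 9626467 (.node 1 8840506 .leaf .leaf) .leaf)) (.node 1 15578129 (.node 0 11593394 .leaf .leaf) .leaf)) .leaf)) (.node 1 12797299 (.node 0 10211851 (.node 0 8813667 (.node 0 8614557 (.node 0 12906835 (.node 1 12035094 .leaf .leaf) (.node 1 11211250 (.node 1 10843809 .leaf .leaf) .leaf)) .leaf) (.node 1 10531706 (.node 0 11509880 (.node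 1 8640101 (.node 0 12677739 (.node 0 9920603 (.node 0 8837275 .leaf .leaf) .leaf) .leaf) .leaf) (.node 1 11003201 (.node 0 11031227 (.node 1 10576851 .leaf .leaf) (.node 1 13014071 .leaf .leaf)) .leaf)) .leaf)) (.node 1 13988914 (.node 0 9677459 (.node 0 8575350 (.node 0 13348909 (.node 1 12243568 .leaf .leaf) .leaf) (.node 1 8632760 (.node 0 9285942 (.node 1 11530756 (.node 0 14693619 .leaf .leaf) .leaf) (.node 1 11000032 (.node 0 10564015 (.node 0 15687954 (.node 1 9908775 .leaf .leaf) (.node 1 11432145 .leaf .leaf)) .leaf) .leaf)) .leaf)) .leaf) .leaf)) .leaf)) .leaf)) .leaf))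

theorem certDodPoint8 : cert gensDodPoint [2 ^ 23, dodB] 15953934 treeDodPoint8 cwKey enc
    ((cwOfWeight 12).filter fun n => n.testBit 23 && pc (n &&& dodB) == 8) = true := by
  decide +kernel

/-- Spanning tree `DodPoint` `6`. -/
def treeDodPoint6 : Tree := (.node 0 14130320 (.node 0 9485222 (.node 0 13314420 (.node 0 14259230 (.node 0 14069282 (.node 0 9640692 (.node 0 12695886 .leaf (.node 1 11099560 (.node 0 11347719 (.node 0 15353554 .leaf (.node 1 13513493 (.node 0 14218448 (.node 0 9482041 .leaf .leaf) (.node 1 12518196 .leaf .leaf)) .leaf)) (.node 1 14965443 (.node 1 11546007 (.node 1 13576345 (.node 0 9754006 (.node 0 13282209 .leaf (.node 1 15573134 .leaf .leaf)) .leaf) .leaf) .leaf) .leaf)) .leaf)) (.node 1 13822252 (.node 0 14489653 (.node 0 13757574 (.node 0 13765431 (.node 0 14407748 (.node 1 12099114 (.node 0 10956388 .leaf .leaf) .leaf) (.node 1 10316088 (.node 0 9276567 .leaf .leaf) .leaf)) (.node 1 14334090 (.node 0 9846068 (.node 0 13220500 (.node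 1 12295040 .leaf .leaf) (.node 1 15681580 .leaf .leaf)) (.node 1 11709160 (.node 0 10819964 .leaf .leaf) .leaf)) .leaf)) (.node 1 12147228 (.node 1 11082571 (.node 0 11428942 (.node 0 15079065 .leaf .leaf) (.node 1 10764113 .leaf .leaf)) .leaf) .leaf)) (.node 1 10405994 (.node 0 8854701 (.node 0 12940166 .leaf (.node 1 15227124 (.node 0 15836429 (.node 0 16534066 .leaf .leaf) .leaf) .leaf)) (.node 1 8449646 (.node 0 13042301 (.node 0 14012618 .leaf (.node 1 10048884 .leaf .leaf)) .leaf) .leaf)) .leaf)) .leaf)) (.node 1 16364104 (.node 0 11807866 (.node 0 10979996 (.node 0 14979558 (.node 0 16458152 (.node 0 12393746 (.node 0 11185798 .leaf (.node 1 15022605 .leaf .leaf)) .leaf) (.node 1 12379269 (.node 0 14700465 .leaf .leaf) .leaf)) (.node 1 9017829 (.node 0 13198638 (.node 0 14616083 (.node 1 13710140 .leaf .leaf) (.node 1 14578242 .leaf .leaf)) (.node 1 11329168 .leaf .leaf)) .leaf)) (.node 1 12807245 (.node 1 14294130 (.node 0 9682444 (.node 0 12860022 .leaf (.node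 1 15374696 .leaf .leaf)) .leaf) .leaf) .leaf)) (.node 1 11704137 (.node 0 11303528 (.node 0 10822877 (.node 0 14992282 .leaf (.node 1 13309141 .leaf .leaf)) .leaf) (.node 1 14976377 (.node 0 12436136 (.node 1 8442831 (.node 0 13525353 (.node 0 10310809 (.node 1 14750430 .leaf .leaf) (.node 1 9848438 .leaf .leaf)) .leaf) .leaf) (.node 1 14009429 (.node 0 13683371 (.node 0 9914725 .leaf (.node 1 9497050 (.node 1 8891594 .leaf .leaf) .leaf)) .leaf) .leaf)) .leaf)) .leaf)) .leaf)) (.node 1 10444320 (.node 0 8470215 (.node 0 12739422 (.node 0 14585945 (.node 0 9764008 (.node 0 8727477 (.node 0 13222358 (.node 0 14320939 .leaf .leaf) (.node 1 9394580 .leaf .leaf)) (.node 1 14862542 (.node 0 16126253 (.node 0 16611456 .leaf .leaf) .leaf) .leaf)) (.node 1 11634300 (.node 0 15043178 (.node 0 11993326 (.node 1 8942829 .leaf .leaf) .leaf) .leaf) .leaf)) (.node 1 10429794 (.node 0 9117338 (.node 1 14760928 (.node 1 11951489 .leaf .leaf) .leaf) (.node 1 13006380 (.node 0 13972177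 (.node 1 11736476 .leaf .leaf) .leaf) .leaf)) .leaf)) (.node 1 15351184 (.node 0 12105492 (.node 0 15249008 (.node 1 13881089 (.node 0 9984615 (.node 1 11038490 .leaf .leaf) .leaf) .leaf) (.node 1 15696649 (.node 1 9737077 (.node 1 11388188 .leaf .leaf) .leaf) .leaf)) (.node 1 16190113 (.node 0 11622854 (.node 1 11287691 (.node 0 10905492 .leaf .leaf) .leaf) (.node 1 9460157 (.node 0 13494533 (.node 1 10394134 (.node 0 12762340 .leaf (.node 1 11119404 .leaf .leaf)) .leaf) .leaf) .leaf)) .leaf)) .leaf)) (.node 1 14703406 (.node 0 16719941 (.node 0 15752346 (.node 0 11971333 (.node 1 9341245 (.node 1 9292404 .leaf .leaf) .leaf) .leaf) (.node 1 10098237 (.node 0 12975680 (.node 0 9446143 (.node 0 13093208 .leaf (.node 1 9135576 (.node 0 9213723 .leaf .leaf) .leaf)) .leaf) (.node 1 15287160 .leaf .leaf)) .leaf)) (.node 1 12347715 (.node 0 11160733 (.node 0 14997253 (.node 0 16278241 (.node 1 9586587 (.node 0 9362241 .leaf .leaf) .leaf) (.node 1 16548119 (.node 0 16436384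 .leaf (.node 1 10330653 .leaf .leaf)) .leaf)) (.node 1 13175539 (.node 0 9684302 (.node 0 13507115 .leaf .leaf) .leaf) .leaf)) (.node 1 8793631 (.node 0 13030100 (.node 0 13677033 .leaf (.node 1 12158374 (.node 0 15404834 (.node 0 12260934 .leaf .leaf) .leaf) .leaf)) .leaf) .leaf)) .leaf)) .leaf)) .leaf)) (.node 1 11463048 (.node 0 11277749 (.node 0 15329152 (.node 0 12060531 (.node 0 11259464 (.node 0 10753647 (.node 0 15164104 (.node 0 11801051 .leaf .leaf) (.node 1 15230293 .leaf .leaf)) (.node 1 12623715 (.node 1 16051472 (.node 0 12094133 .leaf (.node 1 14125071 .leaf .leaf)) .leaf) .leaf)) (.node 1 12936985 (.node 0 10273491 (.node 0 8572393 (.node 0 9261869 (.node 0 13460675 .leaf .leaf) (.node 1 12897522 .leaf .leaf)) (.node 1 8497054 (.node 0 13534066 .leaf (.node 1 13611456 .leaf .leaf)) .leaf)) (.node 1 14094678 (.node 1 12399660 (.node 0 15019666 .leaf .leaf) .leaf) .leaf)) .leaf)) (.node 1 14062467 (.node 0 10123744 (.node 0 8994077 (.node 1 15669840 (.node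 0 11580622 .leaf (.node 1 11607845 .leaf .leaf)) .leaf) (.node 1 10899114 (.node 1 12610023 (.node 0 14369053 (.node 1 10293882 .leaf .leaf) .leaf) .leaf) .leaf)) (.node 1 11837884 (.node 0 15567280 (.node 1 9820805 .leaf .leaf) (.node 1 9421005 (.node 0 12866987 (.node 0 10445697 (.node 0 8936915 (.node 0 9103117 .leaf .leaf) (.node 1 8786878 .leaf .leaf)) (.node 1 16015574 .leaf .leaf)) (.node 1 8951542 (.node 0 12822376 .leaf .leaf) .leaf)) .leaf)) .leaf)) .leaf)) (.node 1 15549077 (.node 0 15779267 (.node 0 12208937 (.node 0 11361349 (.node 1 15212055 (.node 0 15918660 .leaf (.node 1 16329489 (.node 1 9902873 .leaf .leaf) .leaf)) .leaf) (.node 1 8670075 .leaf .leaf)) (.node 1 13935771 (.node 0 9882544 (.node 1 8767918 (.node 0 13566375 .leaf (.node 1 9238726 (.node 0 12723645 .leaf .leaf) .leaf)) .leaf) (.node 1 13869276 (.node 0 13932858 (.node 0 10463396 .leaf .leaf) (.node 1 10196200 .leaf .leaf)) .leaf)) .leaf)) (.node 1 10032023 (.node 0 13299010 .leaf (.node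 1 11350936 (.node 0 11314642 (.node 0 11175864 (.node 1 12960737 .leaf .leaf) .leaf) (.node 1 10949573 (.node 0 15233482 (.node 0 12461337 .leaf (.node 1 11937475 .leaf .leaf)) .leaf) .leaf)) .leaf)) .leaf)) .leaf)) (.node 1 8817383 (.node 0 12800492 (.node 0 14496011 (.node 0 10382482 (.node 0 8560533 (.node 0 13169508 .leaf .leaf) (.node 1 12790446 .leaf .leaf)) (.node 1 11940444 (.node 0 14989528 (.node 1 11766981 .leaf .leaf) (.node 1 11208045 (.node 0 15554058 (.node 1 15741767 (.node 0 16410712 .leaf .leaf) .leaf) (.node 1 13391473 (.node 1 15812374 (.node 0 16419395 .leaf .leaf) .leaf) .leaf)) .leaf)) .leaf)) (.node 1 12342498 (.node 0 10694537 (.node 0 11293526 (.node 0 15377609 .leaf .leaf) .leaf) (.node 1 14706319 (.node 0 16139089 (.node 1 9766207 (.node 1 13463644 .leaf .leaf) .leaf) (.node 1 14295507 (.node 0 10149144 .leaf (.node 1 9905848 (.node 0 8756178 (.node 1 10861956 .leaf .leaf) .leaf) .leaf)) .leaf)) .leaf)) .leaf)) (.node 1 8973748 (.node 0 13207349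 (.node 0 14272098 (.node 0 9637483 (.node 0 8870478 (.node 1 11025766 .leaf .leaf) (.node 1 12615032 .leaf .leaf)) (.node 1 13694730 (.node 1 16163146 (.node 0 12458168 .leaf .leaf) .leaf) .leaf)) (.node 1 14537488 (.node 0 10005731 (.node 1 12775064 (.node 1 13863394 .leaf .leaf) .leaf) (.node 1 11899662 (.node 0 15608034 .leaf .leaf) .leaf)) .leaf)) (.node 1 13617794 (.node 0 9573863 (.node 1 15492280 (.node 0 11896721 (.node 0 11062242 (.node 1 8712067 .leaf .leaf) (.node 1 12947869 .leaf .leaf)) .leaf) .leaf) .leaf) .leaf)) .leaf)) .leaf)) .leaf)) (.node 1 15833260 (.node 0 16066854 (.node 0 16451734 (.node 0 15899910 (.node 0 16398884 .leaf (.node 1 16558121 (.node 1 9620061 (.node 0 12900461 (.node 0 13983917 (.node 0 13978003 .leaf (.node 1 10113246 .leaf .leaf)) (.node 1 12110934 (.node 1 13217291 .leaf .leaf) .leaf)) (.node 1 9014650 (.node 0 9405998 (.node 0 13047522 (.node 0 9647050 (.node 0 9320794 .leaf .leaf) .leaf) .leaf) .leaf) .leaf)) .leaf) .leaf))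 (.node 1 10042025 (.node 0 8744278 (.node 0 13271711 (.node 0 14079328 (.node 1 16041006 (.node 1 14213199 .leaf .leaf) .leaf) (.node 1 10068976 .leaf .leaf)) (.node 1 13581318 (.node 0 13776534 (.node 0 13810512 (.node 0 10008700 .leaf .leaf) .leaf) .leaf) .leaf)) (.node 1 10640344 (.node 0 11317581 (.node 1 11437653 (.node 0 14735080 .leaf .leaf) .leaf) (.node 1 10816995 (.node 0 11223950 (.node 0 15603011 (.node 0 12220040 .leaf (.node 1 16000565 .leaf .leaf)) (.node 1 9188323 .leaf .leaf)) .leaf) .leaf)) .leaf)) .leaf)) (.node 1 10385421 (.node 0 12876949 (.node 0 13689749 (.node 0 14207345 (.node 1 9817626 .leaf .leaf) (.node 1 10453402 (.node 0 9346466 (.node 0 9123748 (.node 1 15618976 (.node 0 12137921 .leaf (.node 1 11813799 .leaf .leaf)) .leaf) (.node 1 15002276 (.node 0 15794677 .leaf (.node 1 10144135 (.node 0 13262117 .leaf .leaf) .leaf)) .leaf)) .leaf) .leaf)) .leaf) (.node 1 11143806 (.node 0 15176780 (.node 0 16003754 (.node 0 12003792 (.node 0 11049374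 .leaf .leaf) (.node 1 11690445 (.node 0 15489305 .leaf .leaf) .leaf)) (.node 1 16290917 (.node 0 15822376 (.node 0 11864663 .leaf (.node 1 13785419 .leaf .leaf)) (.node 1 16303641 (.node 0 11849313 (.node 0 10570477 .leaf .leaf) (.node 1 13730651 .leaf .leaf)) .leaf)) .leaf)) (.node 1 9006945 (.node 0 8996447 (.node 0 13026891 (.node 0 9851625 (.node 1 10503678 .leaf .leaf) (.node 1 13673846 (.node 1 14672904 .leaf .leaf) .leaf)) (.node 1 13186898 (.node 0 10135130 .leaf (.node 1 16201472 .leaf .leaf)) .leaf)) (.node 1 13000466 (.node 0 10138309 .leaf .leaf) .leaf)) .leaf)) .leaf)) .leaf)) (.node 1 12114121 (.node 0 10775853 (.node 1 13518935 (.node 0 13816973 (.node 0 13925153 (.node 0 10053845 (.node 0 12635423 (.node 1 14526546 .leaf .leaf) .leaf) (.node 1 11946270 (.node 0 15636613 (.node 0 15758756 .leaf .leaf) (.node 1 9250927 (.node 0 13059230 .leaf .leaf) .leaf)) .leaf)) (.node 1 16285946 (.node 0 12029224 (.node 0 11344550 (.node 1 11041669 .leaf .leaf) .leaf)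 (.node 1 9561801 (.node 1 12752346 (.node 1 16098528 .leaf .leaf) .leaf) .leaf)) .leaf)) (.node 1 10038838 (.node 0 12815958 (.node 0 13800046 (.node 0 14104680 (.node 0 9779358 (.node 0 13019542 .leaf .leaf) (.node 1 11689068 (.node 1 15223915 .leaf .leaf) .leaf)) (.node 1 12117352 (.node 0 11341369 .leaf .leaf) .leaf)) (.node 1 14269728 (.node 1 16177672 (.node 1 11569519 .leaf .leaf) .leaf) .leaf)) (.node 1 13335304 (.node 0 10237015 (.node 1 15410716 .leaf .leaf) (.node 1 11934562 (.node 0 11221196 (.node 1 11149025 (.node 0 10581836 .leaf .leaf) .leaf) .leaf) .leaf)) .leaf)) .leaf)) .leaf) (.node 1 10522331 (.node 0 10929004 (.node 0 15536361 (.node 0 11888010 (.node 0 11406227 .leaf (.node 1 12988623 (.node 0 14053784 .leaf (.node 1 12199156 (.node 0 14786328 (.node 0 12362342 .leaf .leaf) .leaf) .leaf)) .leaf)) (.node 1 11556565 (.node 0 14740297 (.node 0 12337277 (.node 0 15060105 .leaf .leaf) (.node 1 9866579 (.node 0 9099948 (.node 0 12924261 .leaf .leaf) (.node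 1 12954684 .leaf .leaf)) .leaf)) (.node 1 15271323 (.node 0 12502786 .leaf .leaf) .leaf)) .leaf)) (.node 1 9225575 (.node 0 13321897 (.node 0 9787203 (.node 0 9071307 .leaf (.node 1 14955806 .leaf .leaf)) (.node 1 13652978 .leaf .leaf)) (.node 1 13428246 (.node 0 13797105 (.node 0 9558888 .leaf (.node 1 13747640 (.node 0 10324771 (.node 0 9129190 .leaf .leaf) .leaf) .leaf)) (.node 1 14394118 (.node 1 10400552 (.node 0 9256176 (.node 1 14900868 .leaf .leaf) .leaf) .leaf) .leaf)) .leaf)) .leaf)) (.node 1 12692945 (.node 0 10011454 (.node 0 13601889 (.node 0 9524910 (.node 0 13052739 .leaf .leaf) (.node 1 13688372 (.node 1 16369930 (.node 0 12454951 .leaf (.node 1 9747019 .leaf .leaf)) .leaf) .leaf)) .leaf) .leaf) .leaf)) .leaf)) .leaf)) .leaf)) (.node 1 10183276 (.node 0 12917851 (.node 0 9888398 (.node 0 12982769 (.node 0 10088844 (.node 0 13380915 (.node 0 10208916 .leaf (.node 1 14117396 (.node 0 13670615 (.node 1 12168344 (.node 0 10784566 (.node 0 15434468 .leaf .leaf)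 (.node 1 12819145 (.node 0 9728366 .leaf .leaf) .leaf)) .leaf) (.node 1 10164526 .leaf .leaf)) .leaf)) (.node 1 11440842 (.node 0 10892776 (.node 1 15090917 (.node 0 15815561 .leaf (.node 1 14173367 (.node 1 14246554 .leaf .leaf) .leaf)) .leaf) (.node 1 10528741 (.node 1 13550993 (.node 0 10016673 .leaf (.node 1 13992630 .leaf .leaf)) .leaf) .leaf)) .leaf)) (.node 1 11881652 (.node 0 14781319 (.node 0 16400742 (.node 1 10249771 (.node 0 8867537 (.node 1 12656054 .leaf .leaf) .leaf) .leaf) (.node 1 10271121 .leaf .leaf)) (.node 1 13195407 (.node 1 12073682 (.node 0 10661212 (.node 0 15503932 (.node 1 12174149 .leaf .leaf) .leaf) .leaf) .leaf) .leaf)) .leaf)) (.node 1 9085422 (.node 0 13571384 (.node 0 10335874 (.node 0 8531954 (.node 0 9147228 (.node 0 13415530 .leaf (.node 1 11376480 (.node 0 11085546 (.node 1 12744641 (.node 1 16123314 .leaf .leaf) .leaf) .leaf) .leaf)) (.node 1 13069728 (.node 1 14047398 (.node 0 13842821 .leaf .leaf) .leaf) .leaf)) (.node 1 14857100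 (.node 0 16527728 (.node 1 12011021 (.node 1 13111679 .leaf .leaf) .leaf) (.node 1 12485089 (.node 1 8701629 .leaf .leaf) .leaf)) .leaf)) (.node 1 16077412 (.node 0 15804619 (.node 1 9583833 (.node 0 8715036 (.node 0 13410549 .leaf .leaf) (.node 1 14879992 (.node 1 13720801 (.node 0 9530127 .leaf .leaf) .leaf) .leaf)) .leaf) (.node 1 12080399 (.node 0 15625729 .leaf (.node 1 15475291 (.node 0 11977944 (.node 0 10787753 (.node 0 11362788 .leaf (.node 1 10799573 .leaf .leaf)) (.node 1 12682479 .leaf .leaf)) (.node 1 9643861 .leaf .leaf)) .leaf)) .leaf)) .leaf)) (.node 1 9365216 (.node 1 12765094 (.node 0 14357345 (.node 0 10058826 (.node 1 14827082 .leaf .leaf) (.node 1 11818808 (.node 0 11381441 .leaf (.node 1 15024463 (.node 0 16662667 .leaf .leaf) .leaf)) .leaf)) (.node 1 14475682 .leaf .leaf)) .leaf) .leaf)) .leaf)) (.node 1 15809620 (.node 0 15772190 (.node 0 16156788 (.node 1 10079277 (.node 0 12930599 (.node 0 13845191 (.node 1 9975226 .leaf .leaf) (.node 1 14186774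 (.node 1 12528138 (.node 1 8534893 .leaf .leaf) .leaf) .leaf)) (.node 1 13163098 (.node 0 9872493 (.node 1 13288572 (.node 0 13997609 (.node 0 9792226 (.node 1 8551822 .leaf .leaf) .leaf) .leaf) .leaf) (.node 1 11644738 (.node 1 13024521 (.node 0 10252980 .leaf .leaf) .leaf) .leaf)) .leaf)) .leaf) (.node 1 10201417 (.node 0 9198654 (.node 0 13084293 (.node 1 14324148 .leaf .leaf) (.node 1 15297094 (.node 0 15860831 (.node 1 14230649 (.node 1 13850200 (.node 1 15799658 .leaf .leaf) .leaf) .leaf) (.node 1 10108675 (.node 0 9076308 .leaf (.node 1 15084344 (.node 0 12423380 (.node 0 14724522 .leaf .leaf) .leaf) .leaf)) .leaf)) .leaf)) (.node 1 8822392 (.node 0 8762092 (.node 0 12919290 (.node 1 9925828 .leaf .leaf) (.node 1 11195844 (.node 0 15218473 (.node 0 12412496 (.node 1 12785423 .leaf .leaf) .leaf) (.node 1 15500963 .leaf .leaf)) .leaf)) (.node 1 14798180 (.node 0 16319023 (.node 0 16206914 (.node 0 11672207 .leaf (.node 1 13646895 .leaf .leaf)) (.node 1 9991001 (.node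 0 9235545 .leaf (.node 1 10946394 .leaf .leaf)) .leaf)) (.node 1 14474243 (.node 0 9596581 (.node 0 12671829 .leaf (.node 1 13257146 .leaf .leaf)) .leaf) .leaf)) .leaf)) .leaf)) .leaf)) (.node 1 16456713 (.node 0 11828742 (.node 0 14822101 (.node 0 15782236 (.node 1 12420171 (.node 1 12629597 (.node 0 13951608 .leaf (.node 1 16483664 .leaf .leaf)) .leaf) .leaf) (.node 1 10161585 (.node 0 9035526 (.node 0 13248103 .leaf (.node 1 15514370 .leaf .leaf)) (.node 1 12933816 (.node 0 9806279 (.node 1 9352348 .leaf .leaf) .leaf) .leaf)) .leaf)) (.node 1 15345935 (.node 0 16667668 (.node 0 15777409 (.node 0 11561844 (.node 0 15304797 .leaf .leaf) (.node 1 15894937 (.node 0 12376356 .leaf (.node 1 9799929 .leaf .leaf)) .leaf)) .leaf) (.node 1 10365553 (.node 0 8510684 (.node 0 12886831 (.node 0 14631152 (.node 0 9543051 (.node 0 9333542 .leaf .leaf) .leaf) .leaf) (.node 1 15310018 (.node 0 11675438 .leaf .leaf) .leaf)) (.node 1 8605500 (.node 0 13472327 (.node 0 13788394 .leaf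 .leaf) (.node 1 13457762 (.node 0 10167439 .leaf .leaf) .leaf)) .leaf)) .leaf)) .leaf)) (.node 1 15735417 (.node 0 11921484 (.node 0 14944447 (.node 0 16236932 (.node 0 16259491 (.node 0 12283140 .leaf (.node 1 11823769 (.node 1 8587743 .leaf .leaf) .leaf)) (.node 1 10260655 (.node 1 11068124 .leaf .leaf) .leaf)) .leaf) (.node 1 9083983 .leaf .leaf)) (.node 1 11619673 (.node 0 11323919 (.node 1 8956759 (.node 1 9416464 .leaf .leaf) .leaf) .leaf) .leaf)) .leaf)) .leaf)) .leaf)) (.node 1 9066346 (.node 0 9385545 (.node 0 8681178 (.node 0 8823769 (.node 0 9228792 (.node 0 9282985 (.node 0 9258930 (.node 0 9144259 (.node 1 12892080 .leaf .leaf) .leaf) .leaf) (.node 1 10864326 (.node 0 14812139 (.node 0 12538184 .leaf (.node 1 9725425 (.node 0 9030553 .leaf .leaf) .leaf)) (.node 1 13153671 (.node 0 14313264 (.node 0 10067537 .leaf (.node 1 14107434 (.node 0 10426563 .leaf .leaf) .leaf)) (.node 1 16687760 (.node 0 11574768 .leaf (.node 1 9667501 .leaf .leaf)) .leaf)) .leaf))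 .leaf)) (.node 1 8881652 (.node 0 13210538 (.node 1 11858880 (.node 0 11020793 .leaf (.node 1 10913167 .leaf .leaf)) .leaf) (.node 1 13489316 (.node 0 13707171 .leaf (.node 1 16306822 (.node 0 15871329 (.node 1 14044217 .leaf .leaf) .leaf) .leaf)) .leaf)) .leaf)) (.node 1 14886342 (.node 0 16388890 (.node 0 12500032 (.node 0 10501820 (.node 0 15049556 (.node 1 10458373 (.node 0 13139618 .leaf .leaf) .leaf) (.node 1 15419841 (.node 1 9707187 (.node 0 8645572 .leaf .leaf) .leaf) .leaf)) (.node 1 14847533 .leaf .leaf)) (.node 1 11871081 (.node 0 11356378 .leaf (.node 1 8803677 (.node 0 13431433 (.node 1 11699158 .leaf .leaf) (.node 1 15533174 (.node 0 15959690 .leaf (.node 1 14251525 (.node 0 13659731 .leaf .leaf) .leaf)) .leaf)) .leaf)) .leaf)) (.node 1 14562465 (.node 0 9535376 (.node 1 15145354 (.node 0 12464518 .leaf (.node 1 11811045 (.node 0 14772636 .leaf .leaf) .leaf)) .leaf) (.node 1 15876796 (.node 0 16095553 (.node 0 12085422 (.node 0 15142165 .leaf .leaf) (.node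 1 11836445 .leaf .leaf)) (.node 1 10043883 (.node 0 9391371 (.node 0 9328263 (.node 1 15213494 .leaf .leaf) .leaf) .leaf) .leaf)) .leaf)) .leaf)) .leaf)) (.node 1 14817140 (.node 1 16598305 (.node 0 12144259 (.node 0 10637127 (.node 0 15356493 (.node 0 16020553 .leaf .leaf) .leaf) (.node 1 12598171 (.node 0 10412372 (.node 0 13147321 (.node 0 9824036 (.node 1 13553934 .leaf .leaf) (.node 1 15846096 .leaf .leaf)) .leaf) .leaf) .leaf)) (.node 1 13914655 (.node 0 14084289 (.node 1 9604286 (.node 0 13081380 (.node 0 14233830 (.node 0 13839642 .leaf .leaf) .leaf) (.node 1 13232360 (.node 1 9625282 .leaf .leaf) .leaf)) .leaf) (.node 1 12132702 .leaf .leaf)) .leaf)) .leaf) .leaf)) (.node 1 14968674 (.node 0 12255961 (.node 0 10804554 (.node 0 11412141 (.node 1 9061365 (.node 0 13227337 (.node 1 16029266 .leaf .leaf) .leaf) .leaf) (.node 1 14986311 (.node 1 14330901 (.node 1 14387768 (.node 0 9804902 (.node 1 15268876 .leaf .leaf) .leaf) .leaf) .leaf) .leaf)) (.node 1 8460281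 (.node 0 9298762 (.node 0 9307387 (.node 0 8902536 .leaf (.node 1 12674804 (.node 1 14374274 .leaf .leaf) .leaf)) (.node 1 8828742 (.node 0 13251320 (.node 0 9811288 (.node 0 9218746 .leaf .leaf) (.node 1 11749344 .leaf .leaf)) (.node 1 15639844 (.node 0 16324272 .leaf (.node 1 14598693 .leaf .leaf)) .leaf)) .leaf)) (.node 1 15029712 (.node 0 12100491 (.node 0 11423088 (.node 0 11114125 (.node 1 15242193 .leaf .leaf) .leaf) .leaf) (.node 1 16061575 (.node 0 15887234 (.node 0 12196181 .leaf (.node 1 9841067 (.node 1 8808700 .leaf .leaf) .leaf)) (.node 1 16265373 .leaf .leaf)) .leaf)) .leaf)) .leaf)) (.node 1 14050567 (.node 0 14310033 (.node 0 9502021 (.node 0 13134397 (.node 1 10177362 (.node 1 8732458 (.node 1 15104324 .leaf .leaf) .leaf) .leaf) (.node 1 15633434 (.node 0 11966116 (.node 1 15253933 .leaf .leaf) (.node 1 13740645 (.node 0 13715582 .leaf .leaf) .leaf)) .leaf)) (.node 1 11602874 (.node 0 11503942 (.node 0 15340718 .leaf (.node 1 9223717 (.node 1 15387412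 .leaf .leaf) .leaf)) (.node 1 8747465 (.node 0 9200031 (.node 1 9380566 .leaf .leaf) (.node 1 10886358 (.node 1 15281317 .leaf .leaf) .leaf)) .leaf)) .leaf)) .leaf) .leaf)) .leaf)) .leaf)) .leaf))

theorem certDodPoint6 : cert gensDodPoint [2 ^ 23, dodB] 14557246 treeDodPoint6 cwKey enc
    ((cwOfWeight 12).filter fun n => n.testBit 23 && pc (n &&& dodB) == 6) = true := by
  decide +kernel

/-- Spanning tree `DodPoint` `4`. -/
def treeDodPoint4 : Tree := (.node 0 14486698 (.node 0 9899910 (.node 0 13245382 (.node 0 14300492 (.node 0 14433816 (.node 1 15928140 (.node 0 16521294 .leaf (.node 1 10231145 (.node 1 14962268 .leaf .leaf) .leaf)) .leaf) .leaf) (.node 1 12332960 (.node 0 11079636 (.node 1 13442945 (.node 0 9988038 (.node 0 13242201 .leaf .leaf) (.node 1 15997844 (.node 1 12388749 (.node 1 9181917 (.node 0 12903884 .leaf .leaf) .leaf) .leaf) .leaf)) .leaf) (.node 1 12995469 (.node 0 14438853 (.node 0 14183817 .leaf (.node 1 12322462 (.node 1 13181901 .leaf .leaf)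 .leaf)) (.node 1 10226166 (.node 1 9268876 (.node 0 12847063 .leaf .leaf) .leaf) .leaf)) .leaf)) .leaf)) (.node 1 13384108 (.node 0 14493076 (.node 0 14192530 (.node 0 10129252 (.node 1 13422376 .leaf .leaf) (.node 1 14003080 (.node 1 9869772 .leaf .leaf) .leaf)) (.node 1 14619276 (.node 0 13909442 (.node 0 10103708 (.node 1 9374696 .leaf .leaf) (.node 1 16133260 (.node 1 14289133 (.node 0 13982988 .leaf .leaf) .leaf) .leaf)) (.node 1 12063724 (.node 0 15543624 .leaf (.node 1 11290569 .leaf .leaf)) .leaf)) .leaf)) (.node 1 12470980 (.node 0 14687693 (.node 0 16540428 .leaf (.node 1 16518353 .leaf .leaf)) (.node 1 8916911 (.node 0 13584196 (.node 0 14161611 (.node 0 9858888 .leaf .leaf) (.node 1 14423846 (.node 0 14364352 (.node 1 13770664 .leaf .leaf) .leaf) .leaf)) (.node 1 13396944 (.node 0 9995741 (.node 1 13469400 (.node 0 9734122 .leaf .leaf) .leaf) .leaf) .leaf)) .leaf)) .leaf)) .leaf)) (.node 1 13662924 (.node 0 13904221 (.node 0 14469276 (.node 0 13929893 (.node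 0 14240676 (.node 0 14224711 .leaf (.node 1 10247050 .leaf .leaf)) .leaf) (.node 1 10062542 (.node 0 12979566 .leaf (.node 1 8961992 (.node 0 9185148 .leaf (.node 1 15110080 .leaf .leaf)) .leaf)) .leaf)) (.node 1 10423388 (.node 0 12885646 (.node 0 14033892 (.node 0 14227928 (.node 0 10267918 .leaf .leaf) .leaf) (.node 1 16296388 (.node 0 16256316 .leaf .leaf) .leaf)) (.node 1 13180524 (.node 0 13968974 (.node 0 14027482 .leaf .leaf) (.node 1 16277312 (.node 0 12070477 .leaf (.node 1 15994635 .leaf .leaf)) .leaf)) .leaf)) .leaf)) (.node 1 12193226 (.node 0 11411212 (.node 0 15480516 (.node 0 15738840 (.node 1 14091721 (.node 1 13899004 .leaf .leaf) .leaf) (.node 1 16385925 (.node 1 14418873 .leaf .leaf) .leaf)) (.node 1 15469413 (.node 0 16336076 .leaf (.node 1 10243861 (.node 0 13160133 .leaf (.node 1 13437726 (.node 0 14582982 .leaf (.node 1 10304324 .leaf .leaf)) .leaf)) .leaf)) .leaf)) .leaf) .leaf)) .leaf)) (.node 1 10278476 (.node 0 12857065 (.node 0 9782236 (.node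 0 13404619 (.node 0 10372524 (.node 1 13386478 .leaf .leaf) (.node 1 9744084 (.node 0 12618748 (.node 1 10341824 .leaf .leaf) (.node 1 13340044 .leaf .leaf)) .leaf)) (.node 1 9246158 (.node 0 13510538 (.node 0 10360784 (.node 1 15009708 (.node 0 16581570 .leaf .leaf) .leaf) .leaf) .leaf) .leaf)) (.node 1 13782484 (.node 0 14195469 (.node 0 14445668 (.node 0 13700765 (.node 0 13945670 .leaf .leaf) (.node 1 14306830 (.node 0 14032453 .leaf (.node 1 14166890 .leaf .leaf)) .leaf)) (.node 1 12356440 (.node 0 11308268 .leaf .leaf) .leaf)) .leaf) .leaf)) (.node 1 15238990 (.node 0 16647784 (.node 0 11869896 (.node 0 10759118 (.node 0 15598044 (.node 0 16553352 (.node 1 16024269 (.node 0 16009704 .leaf .leaf) .leaf) (.node 1 10290917 .leaf .leaf)) (.node 1 9317829 (.node 0 13129628 .leaf (.node 1 13504180 (.node 0 13735876 .leaf .leaf) .leaf)) .leaf)) .leaf) (.node 1 13649773 (.node 0 14502473 (.node 0 9718991 (.node 1 13118686 .leaf .leaf) (.node 1 9445214 (.node 0 13544012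 .leaf .leaf) .leaf)) (.node 1 14435674 (.node 0 10391177 (.node 0 8675300 (.node 1 15486342 (.node 1 14428807 .leaf .leaf) .leaf) .leaf) .leaf) .leaf)) .leaf)) (.node 1 14460737 (.node 0 9981688 (.node 0 8752973 (.node 1 13409620 (.node 0 14198444 (.node 0 13963120 .leaf (.node 1 14336968 .leaf .leaf)) (.node 1 16616964 (.node 0 15732454 .leaf .leaf) .leaf)) .leaf) (.node 1 12668874 (.node 0 10355535 (.node 0 13524168 (.node 0 9713549 .leaf .leaf) .leaf) .leaf) .leaf)) (.node 1 14059292 (.node 0 14457568 (.node 0 9514476 .leaf (.node 1 11587468 .leaf .leaf)) .leaf) .leaf)) .leaf)) .leaf)) .leaf))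

theorem certDodPoint4 : cert gensDodPoint [2 ^ 23, dodB] 14516588 treeDodPoint4 cwKey enc
    ((cwOfWeight 12).filter fun n => n.testBit 23 && pc (n &&& dodB) == 4) = true := by
  decide +kernel

/-- Generators fixing the configuration `Triad`. -/
def gensTriad : List (List ℕ) := [[23, 3, 4, 7, 9, 22, 11, 20, 13, 10, 15, 18, 12, 2, 6, 17, 21, 14, 5, 1, 16, 19, 8, 0], [0, 18, 3, 14, 8, 6, 11, 20, 13, 2, 15, 4, 23, 21, 19, 17, 10, 1, 5, 7, 9, 22, 16, 12]]

/-- Spanning tree `Triad` `In`. -/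
def treeTriadIn : Tree := (.node 0 4194944 (.node 0 1049856 (.node 0 106496 (.node 0 2228228 (.node 0 540688 (.node 0 578 (.node 0 3080 .leaf .leaf) (.node 1 524672 (.node 0 1056770 (.node 0 65548 .leaf (.node 1 2359808 (.node 1 4194340 .leaf .leaf) .leaf)) (.node 1 1056896 (.node 1 3146240 (.node 0 590848 .leaf (.node 1 4194820 .leaf .leaf)) .leaf) .leaf)) .leaf)) (.node 1 4194314 (.node 0 392 (.node 1 1073152 .leaf .leaf) (.node 1 344064 (.node 0 2097248 (.node 0 4720640 (.node 0 262402 .leaf .leaf) .leaf) (.node 1 525344 (.node 1 32960 (.node 0 1181696 .leaf .leaf) .leaf) .leaf)) .leaf)) .leaf)) (.node 1 2229248 (.node 0 573440 (.node 0 131138 (.node 0 18440 (.node 0 262336 (.node 0 1050656 .leaf .leaf) .leaf) (.node 1 264194 .leaf .leaf)) (.node 1 655488 (.node 0 1064962 (.node 0 65608 (.node 0 2099328 .leaf .leaf) .leaf) (.node 1 1048706 (.node 1 1311232 (.node 0 66592 .leaf .leaf) .leaf) .leaf)) .leaf)) (.node 1 4227074 (.node 0 131336 (.node 0 24704 (.node 0 1048644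 (.node 1 2568 .leaf .leaf) (.node 1 3670016 .leaf .leaf)) (.node 1 24578 (.node 0 76 .leaf (.node 1 2883584 .leaf .leaf)) .leaf)) (.node 1 458752 (.node 0 2113568 (.node 0 4718656 .leaf .leaf) .leaf) .leaf)) .leaf)) .leaf)) (.node 1 41472 (.node 0 132100 (.node 0 49168 (.node 0 131648 (.node 0 19456 .leaf (.node 1 2054 (.node 0 262168 (.node 1 16672 (.node 1 532544 .leaf .leaf) .leaf) .leaf) .leaf)) (.node 1 655616 (.node 1 8322 (.node 1 3407872 (.node 0 589856 .leaf .leaf) .leaf) .leaf) .leaf)) (.node 1 32778 (.node 0 131208 (.node 0 1065088 .leaf .leaf) (.node 1 409600 (.node 1 524322 .leaf .leaf) .leaf)) .leaf)) .leaf) .leaf)) (.node 1 1114116 (.node 0 2162704 (.node 0 2621952 (.node 0 525314 (.node 1 295040 (.node 0 1179680 (.node 0 4276224 (.node 0 2097472 .leaf .leaf) .leaf) .leaf) .leaf) (.node 1 4194436 (.node 0 1048848 .leaf (.node 1 1114120 (.node 0 2162816 (.node 1 5243904 (.node 0 98560 .leaf .leaf) .leaf) (.node 1 17920 (.node 0 33856 (.node 0 165888 .leaf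 .leaf) .leaf) .leaf)) .leaf)) .leaf)) (.node 1 4195584 (.node 0 41216 (.node 0 139268 (.node 0 16404 (.node 0 592 (.node 1 2308 (.node 1 8216 .leaf .leaf) .leaf) (.node 1 524552 .leaf .leaf)) (.node 1 2097162 (.node 0 524424 .leaf (.node 1 4472832 .leaf .leaf)) .leaf)) (.node 1 2236416 (.node 0 540676 (.node 0 82 .leaf .leaf) (.node 1 6291458 (.node 1 4521984 .leaf .leaf) .leaf)) .leaf)) .leaf) .leaf)) (.node 1 1544 (.node 0 33920 (.node 0 1212416 (.node 0 212992 (.node 0 2113600 .leaf .leaf) (.node 1 131586 (.node 0 17416 .leaf .leaf) .leaf)) .leaf) (.node 1 49156 (.node 0 131152 (.node 0 18944 (.node 0 263232 (.node 0 34848 (.node 0 4587520 .leaf .leaf) .leaf) (.node 1 524308 (.node 0 530 .leaf .leaf) .leaf)) (.node 1 2306 (.node 0 270344 .leaf (.node 1 270352 (.node 0 548 .leaf (.node 1 2097440 (.node 0 4726784 .leaf (.node 1 4202560 .leaf .leaf)) .leaf)) .leaf)) .leaf)) (.node 1 655368 (.node 0 16514 (.node 1 1835008 (.node 0 65570 .leaf (.node 1 672 .leaf .leaf))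 .leaf) .leaf) .leaf)) .leaf)) .leaf)) .leaf)) (.node 1 16704 (.node 0 10304 (.node 0 264196 (.node 0 262192 (.node 0 4194848 (.node 1 65604 .leaf .leaf) (.node 1 352 (.node 0 4204544 (.node 0 262404 (.node 0 8240 .leaf (.node 1 8232 .leaf .leaf)) .leaf) .leaf) .leaf)) .leaf) (.node 1 2099216 (.node 0 786944 (.node 0 1058 (.node 0 4227080 (.node 0 131456 .leaf .leaf) (.node 1 294976 (.node 0 133152 .leaf .leaf) .leaf)) (.node 1 164 (.node 0 5242896 (.node 0 66304 .leaf .leaf) (.node 1 1048648 (.node 0 67712 .leaf .leaf) .leaf)) .leaf)) (.node 1 4194576 (.node 0 8960 (.node 0 9220 (.node 0 32788 (.node 0 131600 (.node 1 262 .leaf .leaf) .leaf) .leaf) (.node 1 2105348 (.node 1 6291464 .leaf .leaf) .leaf)) (.node 1 73984 (.node 1 2106368 (.node 0 557060 (.node 0 131090 .leaf .leaf) (.node 1 6324224 (.node 1 4390912 (.node 0 2113792 .leaf .leaf) .leaf) .leaf)) .leaf) .leaf)) .leaf)) .leaf)) (.node 1 534528 (.node 0 262150 (.node 1 262184 (.node 0 4194464 (.node 1 1114176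 (.node 0 2164736 (.node 1 4195344 .leaf .leaf) (.node 1 3584 .leaf .leaf)) .leaf) (.node 1 16480 (.node 0 4196416 (.node 0 264448 (.node 0 270368 .leaf .leaf) (.node 1 67600 (.node 1 1296 .leaf .leaf) .leaf)) (.node 1 526400 (.node 1 2192 .leaf .leaf) .leaf)) .leaf)) .leaf) (.node 1 2097296 (.node 0 1573376 (.node 0 66562 (.node 0 2129928 (.node 1 4341760 (.node 1 589826 (.node 1 263296 (.node 0 1081376 .leaf .leaf) .leaf) .leaf) .leaf) (.node 1 295936 (.node 0 163872 .leaf .leaf) .leaf)) (.node 1 644 (.node 0 1049616 (.node 0 98816 .leaf (.node 1 33536 (.node 0 140288 (.node 1 2129922 .leaf .leaf) .leaf) .leaf)) (.node 1 1048588 (.node 0 65680 .leaf (.node 1 16904 (.node 0 1216 (.node 0 1083392 .leaf .leaf) .leaf) .leaf)) .leaf)) .leaf)) (.node 1 5243136 (.node 1 74240 (.node 0 2098180 (.node 0 557072 .leaf .leaf) .leaf) .leaf) .leaf)) .leaf)) .leaf)) .leaf))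

theorem certTriadIn : cert gensTriad [8392705] 56 treeTriadIn fewKey fewDec
    ((sets 24 3).filter fun n => n &&& 8392705 == 0 && inOctad 8392705 n) = true := by
  decide +kernel

/-- Spanning tree `Triad` `Out`. -/
def treeTriadOut : Tree := (.node 0 152 (.node 0 1049216 (.node 0 1115136 (.node 0 2195456 (.node 0 2752512 (.node 0 540674 (.node 0 74 (.node 0 2184 (.node 0 1310848 (.node 0 1114144 (.node 0 6356992 .leaf .leaf) .leaf) .leaf) (.node 1 280576 (.node 0 262240 (.node 0 4196384 (.node 1 65616 .leaf .leaf) (.node 1 2144 (.node 1 2128 (.node 1 2320 .leaf .leaf) .leaf) .leaf)) (.node 1 524336 (.node 0 4194818 .leaf .leaf) .leaf)) .leaf)) (.node 1 786560 (.node 0 1048610 (.node 0 4259848 (.node 1 82944 .leaf .leaf) (.node 1 262720 (.node 0 3104 .leaf (.node 1 2084 .leaf .leaf)) .leaf)) (.node 1 1048736 (.node 0 5308416 .leaf (.node 1 1049152 (.node 0 68608 .leaf (.node 1 2564 (.node 0 263184 (.node 0 33312 .leaf (.node 1 33056 .leaf .leaf)) .leaf) .leaf)) .leaf))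 .leaf)) .leaf)) (.node 1 4194434 (.node 0 1048840 (.node 0 73856 (.node 0 3145732 (.node 0 589840 (.node 1 1408 (.node 0 1089536 .leaf .leaf) .leaf) (.node 1 4194824 .leaf .leaf)) (.node 1 3146752 (.node 0 622592 (.node 1 132224 .leaf .leaf) .leaf) .leaf)) (.node 1 25088 (.node 0 1092 (.node 1 34824 (.node 0 393344 .leaf .leaf) .leaf) (.node 1 2621444 (.node 1 4194440 (.node 0 1048960 .leaf .leaf) .leaf) .leaf)) .leaf)) .leaf) .leaf)) (.node 1 4326400 (.node 0 49408 (.node 0 139328 (.node 0 18436 (.node 0 262224 (.node 0 2592 (.node 0 4457472 (.node 1 98336 .leaf .leaf) (.node 1 84 .leaf .leaf)) (.node 1 2336 (.node 1 8272 (.node 1 2099456 .leaf .leaf) .leaf) .leaf)) (.node 1 524312 (.node 0 642 (.node 0 1049608 .leaf (.node 1 1310724 .leaf .leaf)) (.node 1 16768 .leaf .leaf)) .leaf)) (.node 1 2099202 (.node 0 786440 (.node 1 16544 .leaf .leaf) (.node 1 4456464 (.node 0 800 (.node 1 8260 .leaf .leaf) (.node 1 65824 (.node 0 6299648 .leaf .leaf) .leaf)) .leaf)) .leaf))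 (.node 1 663552 (.node 0 16390 (.node 0 88 (.node 0 2688 (.node 0 1311744 .leaf .leaf) (.node 1 18688 (.node 0 270400 .leaf .leaf) .leaf)) .leaf) (.node 1 2097282 (.node 0 1572872 (.node 0 65666 .leaf (.node 1 17024 (.node 0 1049664 (.node 1 35328 .leaf .leaf) .leaf) .leaf)) (.node 1 5505024 (.node 1 66080 (.node 0 6292480 .leaf .leaf) .leaf) .leaf)) .leaf)) .leaf)) (.node 1 98306 (.node 0 2228232 (.node 1 4210690 (.node 0 328 (.node 0 10368 (.node 1 3145744 .leaf .leaf) (.node 1 26624 (.node 1 2621456 .leaf .leaf) .leaf)) (.node 1 851968 (.node 0 2097186 (.node 1 4456512 .leaf .leaf) .leaf) .leaf)) .leaf) (.node 1 394240 (.node 0 49184 (.node 0 4325440 (.node 1 67586 .leaf .leaf) (.node 1 655424 (.node 1 2178 (.node 0 1310728 (.node 0 65696 .leaf (.node 1 16928 .leaf .leaf)) .leaf) .leaf) .leaf)) (.node 1 32802 (.node 0 4325384 (.node 1 81922 .leaf .leaf) (.node 1 393280 (.node 0 18464 .leaf (.node 1 2082 .leaf .leaf)) .leaf)) .leaf)) .leaf)) .leaf)) .leaf)) (.node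 1 34304 (.node 0 164864 (.node 0 180224 (.node 0 147520 (.node 0 18496 (.node 0 264256 .leaf (.node 1 526352 (.node 1 400 (.node 0 1057280 .leaf (.node 1 1057024 (.node 1 2105856 .leaf .leaf) .leaf)) .leaf) .leaf)) (.node 1 526338 (.node 0 262154 (.node 0 168 .leaf (.node 1 278560 .leaf .leaf)) .leaf) .leaf)) (.node 1 655362 (.node 0 16394 (.node 0 200 (.node 1 1067008 (.node 1 524816 (.node 0 1538 .leaf .leaf) .leaf) .leaf) (.node 1 802816 (.node 0 98 (.node 0 4196360 (.node 1 81936 .leaf .leaf) .leaf) .leaf) .leaf)) (.node 1 262274 (.node 0 1048616 .leaf (.node 1 1310752 (.node 0 4259872 (.node 1 66624 .leaf .leaf) (.node 1 608 (.node 0 4197376 .leaf .leaf) .leaf)) .leaf)) .leaf)) .leaf)) (.node 1 163842 (.node 0 147464 (.node 0 16576 (.node 1 1574912 (.node 0 327682 (.node 0 2097192 (.node 0 4718720 .leaf .leaf) .leaf) .leaf) .leaf) .leaf) (.node 1 393218 (.node 0 16424 (.node 0 4194496 .leaf .leaf) (.node 1 262178 (.node 0 4194344 (.node 0 4194688 (.node 1 1122304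 .leaf .leaf) .leaf) .leaf) .leaf)) .leaf)) .leaf)) (.node 1 163844 (.node 0 147472 (.node 0 16960 (.node 0 3136 (.node 0 296960 (.node 0 393248 .leaf (.node 1 131120 .leaf .leaf)) (.node 1 34832 (.node 0 393728 (.node 1 38 .leaf .leaf) .leaf) .leaf)) (.node 1 526340 (.node 0 262162 (.node 0 552 .leaf (.node 1 262432 .leaf .leaf)) .leaf) .leaf)) (.node 1 524546 (.node 0 8202 (.node 0 140 (.node 0 1048720 (.node 0 1114624 .leaf .leaf) (.node 1 1064968 .leaf .leaf)) (.node 1 2375680 (.node 0 524384 (.node 1 2240 (.node 1 1050640 .leaf .leaf) .leaf) .leaf) .leaf)) .leaf) .leaf)) (.node 1 131082 (.node 0 16520 (.node 0 1048768 (.node 0 1116160 .leaf .leaf) (.node 1 1589248 (.node 0 65602 (.node 0 2099208 .leaf (.node 1 265216 .leaf .leaf)) (.node 1 524928 (.node 0 1049602 .leaf (.node 1 1048708 .leaf .leaf)) .leaf)) .leaf)) (.node 1 278530 (.node 0 104 (.node 0 4196480 (.node 1 1114128 .leaf .leaf) .leaf) (.node 1 786464 (.node 0 4194338 (.node 0 4194568 (.node 0 8576 .leaf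 (.node 1 90112 .leaf .leaf)) (.node 1 327744 (.node 0 2099232 .leaf .leaf) .leaf)) .leaf) .leaf)) .leaf)) .leaf)) .leaf)) .leaf)) (.node 1 1049092 (.node 0 66576 (.node 0 2130432 (.node 0 656384 (.node 0 49154 (.node 1 917504 (.node 0 16418 (.node 0 4194376 (.node 1 83968 .leaf .leaf) .leaf) (.node 1 162 .leaf .leaf)) .leaf) (.node 1 32898 (.node 0 1179656 (.node 0 82048 (.node 0 3145792 .leaf (.node 1 1573888 .leaf .leaf)) (.node 1 16898 (.node 0 1096 (.node 0 34944 .leaf (.node 1 51200 (.node 1 655376 .leaf .leaf) .leaf)) (.node 1 786436 (.node 0 50 (.node 1 262464 (.node 0 10272 .leaf .leaf) .leaf) .leaf) .leaf)) .leaf)) (.node 1 1441792 (.node 0 81952 (.node 1 525376 (.node 0 34818 .leaf .leaf) .leaf) .leaf) .leaf)) .leaf)) (.node 1 4325380 (.node 0 16656 (.node 0 8768 (.node 0 3076 (.node 0 294928 .leaf .leaf) .leaf) (.node 1 532736 (.node 1 2105472 (.node 0 1572868 (.node 1 648 .leaf .leaf) (.node 1 7340032 (.node 0 590080 .leaf .leaf) .leaf)) .leaf) .leaf)) (.node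 1 65546 (.node 0 2097288 .leaf (.node 1 279552 (.node 0 32864 (.node 1 133184 .leaf .leaf) (.node 1 557088 (.node 0 4325378 .leaf (.node 1 131264 .leaf .leaf)) .leaf)) .leaf)) .leaf)) .leaf)) (.node 1 34048 (.node 0 172032 (.node 0 147460 (.node 0 16464 (.node 0 2624 (.node 1 2068 (.node 1 280 (.node 0 8832 .leaf (.node 1 24832 .leaf .leaf)) .leaf) .leaf) .leaf) (.node 1 524298 (.node 0 138 (.node 0 1048712 (.node 0 1114240 .leaf .leaf) .leaf) (.node 1 278656 (.node 0 1048672 .leaf .leaf) .leaf)) .leaf)) (.node 1 2228226 (.node 1 4456450 (.node 0 296 .leaf (.node 1 327712 (.node 0 6291488 (.node 1 4259904 .leaf .leaf) (.node 1 1120 (.node 1 34880 .leaf .leaf) .leaf)) .leaf)) .leaf) .leaf)) .leaf) .leaf)) (.node 1 524 (.node 0 1168 (.node 0 1081856 (.node 0 197632 (.node 0 2146304 (.node 1 4849664 (.node 0 16642 (.node 1 794624 .leaf .leaf) .leaf) .leaf) (.node 1 33794 (.node 1 425984 .leaf .leaf) .leaf)) (.node 1 131588 (.node 0 17424 (.node 0 33344 (.node 1 133124 (.node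 1 26 .leaf .leaf) .leaf) (.node 1 557312 (.node 1 139392 (.node 0 1064964 .leaf .leaf) .leaf) .leaf)) .leaf) .leaf)) (.node 1 1081600 (.node 0 204800 (.node 0 2113540 (.node 0 524368 (.node 0 2562 (.node 0 263176 .leaf (.node 1 262164 .leaf .leaf)) (.node 1 2432 (.node 0 1318912 (.node 1 2097696 .leaf .leaf) .leaf) .leaf)) (.node 1 4718600 (.node 0 386 .leaf .leaf) .leaf)) (.node 1 2098178 (.node 0 557064 .leaf (.node 1 4489216 (.node 0 131360 (.node 0 4218880 .leaf .leaf) (.node 1 196640 (.node 1 1090 .leaf .leaf) .leaf)) .leaf)) .leaf)) (.node 1 139776 (.node 0 17412 (.node 0 32848 (.node 0 133632 .leaf .leaf) .leaf) (.node 1 2097158 (.node 1 4456456 .leaf .leaf) .leaf)) .leaf)) .leaf)) (.node 1 16396 (.node 0 208 (.node 0 1051136 (.node 0 328704 (.node 0 2129952 .leaf .leaf) (.node 1 532 (.node 0 1552 (.node 1 33028 (.node 1 139272 .leaf .leaf) .leaf) (.node 1 268 (.node 1 24584 (.node 0 196 .leaf (.node 1 2637824 .leaf .leaf)) .leaf) .leaf)) .leaf)) (.node 1 1050880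 (.node 0 335872 (.node 0 2097188 .leaf (.node 1 2098208 (.node 0 4751360 (.node 1 196736 .leaf .leaf) .leaf) .leaf)) .leaf) .leaf)) (.node 1 540680 (.node 0 194 (.node 0 1050632 (.node 0 327808 (.node 1 1049632 (.node 0 4292608 .leaf .leaf) .leaf) (.node 1 16912 (.node 0 1600 (.node 0 35840 .leaf .leaf) (.node 1 524548 .leaf .leaf)) .leaf)) (.node 1 1312768 (.node 1 560 (.node 1 324 (.node 1 10248 .leaf .leaf) .leaf) .leaf) .leaf)) (.node 1 540800 (.node 1 1572992 (.node 0 1114114 (.node 0 2162696 (.node 1 4211712 .leaf .leaf) .leaf) .leaf) .leaf) .leaf)) .leaf)) .leaf)) .leaf)) .leaf)) (.node 1 1065216 (.node 0 73792 (.node 0 2099204 (.node 0 786448 (.node 0 546 (.node 0 4195336 (.node 0 33152 (.node 0 1187840 (.node 0 81924 (.node 0 2097232 .leaf (.node 1 525320 .leaf .leaf)) (.node 1 2097666 (.node 1 4456452 .leaf .leaf) .leaf)) .leaf) (.node 1 114688 (.node 0 2228288 (.node 0 542720 (.node 1 524432 .leaf .leaf) (.node 1 4196354 (.node 0 262408 .leaf (.node 1 327696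 .leaf .leaf)) .leaf)) .leaf) .leaf)) (.node 1 262212 (.node 0 2096 (.node 0 4456960 (.node 0 1312 .leaf (.node 1 65572 .leaf .leaf)) (.node 1 336 (.node 0 10752 (.node 1 2097172 .leaf .leaf) (.node 1 10496 (.node 0 270340 .leaf .leaf) .leaf)) .leaf)) (.node 1 2088 (.node 0 4456576 .leaf .leaf) .leaf)) .leaf)) (.node 1 416 (.node 0 5251072 (.node 0 65796 (.node 0 2105360 (.node 0 524804 .leaf (.node 1 6291712 .leaf .leaf)) (.node 1 9224 (.node 0 32900 (.node 0 1179664 .leaf .leaf) .leaf) .leaf)) (.node 1 2163200 (.node 0 2622464 (.node 0 557058 .leaf (.node 1 4227200 (.node 0 1179904 (.node 1 8706 .leaf .leaf) (.node 1 1245184 .leaf .leaf)) .leaf)) (.node 1 4195332 (.node 1 98312 (.node 0 2228352 .leaf .leaf) .leaf) .leaf)) .leaf)) (.node 1 1056832 (.node 0 67588 (.node 0 2359312 (.node 0 524832 (.node 0 4195330 .leaf .leaf) (.node 1 4194592 (.node 0 4202752 .leaf .leaf) .leaf)) (.node 1 1048 (.node 0 33408 (.node 0 1180672 .leaf (.node 1 1179652 .leaf .leaf)) .leaf)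 .leaf)) (.node 1 2099712 (.node 0 787456 (.node 1 32928 (.node 1 1179712 .leaf .leaf) .leaf) (.node 1 4194324 (.node 0 784 (.node 0 9728 (.node 1 2129924 .leaf .leaf) (.node 1 8452 (.node 0 8212 .leaf .leaf) .leaf)) (.node 1 65800 .leaf .leaf)) .leaf)) .leaf)) .leaf)) .leaf)) (.node 1 4194328 (.node 0 896 (.node 0 1057792 (.node 0 98308 (.node 0 2228240 (.node 0 541184 .leaf .leaf) (.node 1 132104 (.node 0 49280 .leaf .leaf) .leaf)) .leaf) (.node 1 1056772 (.node 0 65556 (.node 0 2097680 (.node 0 525824 .leaf (.node 1 4194564 (.node 0 8464 .leaf (.node 1 73736 .leaf .leaf)) .leaf)) (.node 1 1288 (.node 0 41088 (.node 1 3276800 .leaf .leaf) .leaf) .leaf)) (.node 1 2097672 (.node 0 525440 (.node 0 1081346 .leaf (.node 1 1081472 (.node 1 1180160 .leaf .leaf) .leaf)) (.node 1 4210692 (.node 1 589832 .leaf .leaf) .leaf)) .leaf)) .leaf)) (.node 1 82176 (.node 0 2105408 (.node 1 6293504 (.node 0 786688 (.node 0 8226 (.node 1 2359360 .leaf .leaf) (.node 1 8352 .leaf .leaf))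 .leaf) .leaf) (.node 1 533504 (.node 0 32774 (.node 0 131096 .leaf (.node 1 393224 .leaf .leaf)) (.node 1 2130048 (.node 0 1703936 .leaf (.node 1 5373952 .leaf .leaf)) .leaf)) .leaf)) .leaf)) .leaf)) (.node 1 2100224 (.node 0 819200 (.node 0 131106 (.node 0 4210696 (.node 0 448 (.node 0 1058816 (.node 0 327684 .leaf .leaf) .leaf) (.node 1 606208 (.node 0 2097218 (.node 0 526344 .leaf (.node 1 4458496 (.node 1 65584 .leaf .leaf) .leaf)) .leaf) .leaf)) (.node 1 262210 (.node 1 264224 (.node 0 4456480 (.node 1 65632 .leaf .leaf) (.node 1 112 (.node 0 4196864 .leaf .leaf) .leaf)) .leaf) .leaf)) (.node 1 131232 (.node 0 5259264 (.node 0 65856 (.node 0 2107392 (.node 1 6291472 .leaf .leaf) (.node 1 11264 (.node 0 294916 (.node 1 131112 (.node 0 4210816 .leaf (.node 1 16450 .leaf .leaf)) .leaf) (.node 1 2129936 (.node 0 655872 .leaf (.node 1 4325632 (.node 1 73730 .leaf .leaf) .leaf)) .leaf)) .leaf)) (.node 1 590336 (.node 1 1156 (.node 1 1081352 .leaf .leaf) .leaf) .leaf))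 (.node 1 1048642 (.node 0 67592 .leaf (.node 1 264704 (.node 0 263200 (.node 0 4227104 (.node 1 196672 .leaf .leaf) .leaf) (.node 1 52 .leaf .leaf)) .leaf)) .leaf)) .leaf)) (.node 1 4227088 (.node 0 131840 (.node 0 25600 (.node 1 2654208 (.node 1 4325504 .leaf .leaf) .leaf) (.node 1 8198 (.node 0 28 (.node 0 656 (.node 0 1050112 (.node 0 99328 .leaf .leaf) .leaf) (.node 1 16648 (.node 0 8384 .leaf .leaf) .leaf)) (.node 1 2359304 (.node 0 524448 (.node 0 5242882 (.node 1 328192 (.node 1 1060 .leaf .leaf) .leaf) .leaf) (.node 1 4210720 (.node 0 4194624 (.node 1 75776 (.node 0 2359300 .leaf .leaf) .leaf) (.node 1 589888 .leaf .leaf)) .leaf)) .leaf)) .leaf)) (.node 1 196864 (.node 0 2121728 (.node 0 524356 (.node 0 2066 (.node 1 262416 .leaf .leaf) .leaf) .leaf) (.node 1 9218 (.node 0 32780 (.node 0 131216 (.node 0 1065472 .leaf (.node 1 1048834 (.node 1 270848 .leaf .leaf) .leaf)) .leaf) (.node 1 2392064 (.node 0 655392 .leaf (.node 1 4325408 (.node 0 4210944 (.node 0 8512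 .leaf .leaf) .leaf) .leaf)) .leaf)) .leaf)) .leaf)) .leaf)) .leaf)) (.node 1 532992 (.node 0 1030 (.node 0 32792 (.node 0 131712 (.node 0 1065984 (.node 0 98368 (.node 0 2230272 (.node 1 4194322 .leaf .leaf) (.node 1 134144 .leaf .leaf)) (.node 1 557568 (.node 0 132098 (.node 0 49160 (.node 1 671744 (.node 1 524418 .leaf .leaf) .leaf) (.node 1 294914 .leaf .leaf)) .leaf) .leaf)) (.node 1 1048582 (.node 0 65560 (.node 0 2097792 (.node 1 5242884 (.node 0 65808 .leaf .leaf) .leaf) (.node 1 17664 (.node 0 41024 .leaf (.node 1 565248 .leaf .leaf)) .leaf)) (.node 1 262664 (.node 0 1184 (.node 0 5275648 .leaf (.node 1 1081408 .leaf .leaf)) (.node 1 16420 (.node 0 4194384 (.node 0 2816 .leaf .leaf) (.node 1 524360 .leaf .leaf)) .leaf)) .leaf)) .leaf)) (.node 1 147712 (.node 0 24640 (.node 0 2116 (.node 0 264208 (.node 0 262688 .leaf (.node 1 304 .leaf .leaf)) (.node 1 2072 (.node 0 262784 .leaf .leaf) .leaf)) (.node 1 2623488 (.node 0 786434 (.node 0 42 .leaf (.node 1 262304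 .leaf .leaf)) (.node 1 4194448 (.node 0 1049344 (.node 0 74752 .leaf (.node 1 8708 (.node 1 2097164 .leaf .leaf) .leaf)) (.node 1 1114368 (.node 0 2170880 .leaf .leaf) .leaf)) .leaf)) .leaf)) (.node 1 532482 (.node 1 2359424 (.node 0 1572896 (.node 0 4259842 (.node 0 2097416 .leaf .leaf) .leaf) (.node 1 5242912 (.node 0 4260096 (.node 0 2105600 .leaf .leaf) .leaf) .leaf)) .leaf) .leaf)) .leaf)) (.node 1 294920 (.node 1 147488 (.node 0 4210752 (.node 0 2368 (.node 0 272384 (.node 0 262180 .leaf (.node 1 2097200 (.node 0 4719104 .leaf .leaf) .leaf)) (.node 1 10256 (.node 0 262660 .leaf (.node 1 2097424 .leaf .leaf)) .leaf)) (.node 1 591872 (.node 0 2359298 .leaf .leaf) .leaf)) (.node 1 524354 (.node 0 2058 (.node 0 262280 (.node 1 1064992 .leaf .leaf) (.node 1 278544 (.node 1 524576 .leaf .leaf) .leaf)) (.node 1 264320 (.node 1 1048624 (.node 0 4260352 (.node 1 66564 (.node 1 33800 .leaf .leaf) .leaf) (.node 1 832 (.node 1 10244 .leaf .leaf) .leaf)) .leaf) .leaf)) .leaf))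 .leaf) .leaf)) (.node 1 2097284 (.node 0 1572880 (.node 0 66050 (.node 0 2098184 (.node 0 557184 (.node 1 1179776 (.node 0 1130496 .leaf (.node 1 1049090 .leaf .leaf)) .leaf) (.node 1 4243456 (.node 0 131392 (.node 1 10242 .leaf .leaf) (.node 1 720896 (.node 0 2113538 (.node 1 4980736 (.node 0 290 .leaf .leaf) .leaf) (.node 1 1154 .leaf .leaf)) .leaf)) .leaf)) (.node 1 263172 (.node 0 32816 (.node 0 4325888 (.node 1 65542 (.node 0 2097176 .leaf .leaf) .leaf) .leaf) (.node 1 32808 .leaf .leaf)) .leaf)) .leaf) (.node 1 5242888 (.node 0 65920 (.node 0 3153920 (.node 0 589828 (.node 1 1160 (.node 1 1097728 .leaf .leaf) .leaf) (.node 1 6291968 (.node 0 525568 .leaf (.node 1 4259844 (.node 1 66568 (.node 1 50176 .leaf .leaf) .leaf) .leaf)) .leaf)) .leaf) (.node 1 82432 (.node 0 2098240 (.node 0 559104 .leaf (.node 1 4229120 (.node 0 393472 (.node 0 24608 (.node 0 4194372 .leaf .leaf) .leaf) (.node 1 196624 (.node 0 2114048 .leaf (.node 1 1282 .leaf .leaf)) .leaf)) .leaf))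 (.node 1 525316 (.node 0 32786 (.node 0 131592 (.node 0 17536 (.node 1 1605632 .leaf .leaf) .leaf) .leaf) (.node 1 32904 .leaf .leaf)) .leaf)) .leaf)) .leaf)) .leaf)) .leaf)) .leaf)) (.node 1 278536 (.node 0 224 (.node 0 5244928 (.node 0 327936 (.node 0 2105376 (.node 0 4718596 (.node 0 274 (.node 0 8712 .leaf (.node 1 270592 (.node 0 8228 (.node 1 2097224 (.node 1 4212736 .leaf .leaf) .leaf) .leaf) .leaf)) (.node 1 65672 (.node 0 3145856 (.node 0 1638400 (.node 0 2162690 (.node 0 2621448 .leaf .leaf) (.node 1 1664 (.node 1 1081348 .leaf .leaf) .leaf)) (.node 1 5243392 (.node 1 66052 (.node 0 2098192 .leaf (.node 1 1036 .leaf .leaf)) .leaf) .leaf)) .leaf) .leaf)) (.node 1 6291520 (.node 0 526592 (.node 0 270338 (.node 0 44 (.node 1 16456 .leaf .leaf) .leaf) (.node 1 8336 (.node 1 3145984 (.node 0 598016 (.node 1 2098304 .leaf .leaf) (.node 1 4203008 (.node 1 2162692 .leaf .leaf) .leaf)) .leaf) .leaf)) (.node 1 4261888 (.node 0 2359552 (.node 0 532512 (.node 0 4194310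 .leaf (.node 1 2097344 .leaf .leaf)) (.node 1 4202528 (.node 1 2162752 .leaf .leaf) .leaf)) .leaf) .leaf)) .leaf)) (.node 1 9248 (.node 0 4227076 (.node 0 131344 (.node 1 8450 (.node 1 2367488 (.node 0 524324 .leaf .leaf) .leaf) .leaf) (.node 1 196616 (.node 0 2113664 (.node 0 1572928 .leaf .leaf) (.node 1 17410 (.node 0 32840 .leaf .leaf) .leaf)) .leaf)) (.node 1 2129984 (.node 0 657408 (.node 1 146 (.node 0 1049096 (.node 1 16900 (.node 0 1104 .leaf (.node 1 524300 .leaf .leaf)) .leaf) (.node 1 1310976 (.node 0 73760 (.node 0 6291460 .leaf .leaf) (.node 1 8736 (.node 1 2097220 .leaf .leaf) .leaf)) .leaf)) .leaf) (.node 1 4327424 (.node 0 278784 (.node 0 8288 (.node 0 4196356 .leaf (.node 1 2099264 (.node 0 788480 .leaf (.node 1 4196368 .leaf .leaf)) .leaf)) .leaf) (.node 1 65554 (.node 1 263424 (.node 0 40992 .leaf .leaf) .leaf) .leaf)) .leaf)) .leaf)) .leaf)) (.node 1 66064 (.node 0 2098688 (.node 0 558080 (.node 1 163968 (.node 0 1196032 (.node 0 81984 (.node 1 527360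 (.node 1 32912 .leaf .leaf) .leaf) (.node 1 524802 (.node 1 262276 .leaf .leaf) .leaf)) (.node 1 1179650 (.node 0 81928 (.node 1 541696 .leaf .leaf) (.node 1 262658 (.node 0 1064 (.node 1 49216 .leaf .leaf) .leaf) .leaf)) .leaf)) .leaf) .leaf) (.node 1 1284 (.node 0 40976 (.node 1 2228480 (.node 0 548864 (.node 0 70 (.node 1 264200 (.node 1 16432 .leaf .leaf) .leaf) (.node 1 2621568 (.node 0 1572866 .leaf (.node 1 5243008 .leaf .leaf)) .leaf)) (.node 1 4202498 (.node 1 2424832 (.node 0 2621472 .leaf (.node 1 4195360 (.node 0 4227328 .leaf .leaf) .leaf)) .leaf) .leaf)) .leaf) (.node 1 40968 (.node 0 131204 (.node 0 1064976 (.node 0 66112 .leaf (.node 1 525056 .leaf .leaf)) (.node 1 1048586 (.node 1 279040 .leaf .leaf) .leaf)) (.node 1 2244608 (.node 0 540736 (.node 0 2114 .leaf (.node 1 526464 (.node 0 1310722 (.node 0 65576 .leaf .leaf) .leaf) .leaf)) (.node 1 4718594 (.node 0 266 (.node 0 8328 (.node 1 3162112 .leaf .leaf) .leaf) .leaf) .leaf)) .leaf)) .leaf)) .leaf))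 .leaf)) (.node 1 1050688 (.node 0 329728 (.node 0 2359328 (.node 0 4718624 (.node 0 4194562 .leaf (.node 1 65728 (.node 0 3147776 (.node 1 4194832 (.node 0 1792 (.node 1 40964 (.node 0 131092 .leaf .leaf) .leaf) .leaf) .leaf) (.node 1 1051648 (.node 0 360448 (.node 0 2228256 .leaf .leaf) (.node 1 33296 (.node 0 132608 .leaf (.node 1 131332 .leaf .leaf)) .leaf)) .leaf)) .leaf)) (.node 1 4194400 (.node 0 4196608 (.node 1 73744 (.node 0 2097668 (.node 0 525328 (.node 0 33282 (.node 1 393220 .leaf .leaf) .leaf) (.node 1 4194316 .leaf .leaf)) (.node 1 2098432 (.node 1 4235264 (.node 1 2293760 .leaf .leaf) .leaf) .leaf)) .leaf) (.node 1 67648 (.node 0 2361344 (.node 1 4194352 (.node 0 4195072 (.node 0 9472 .leaf (.node 1 73732 .leaf .leaf)) .leaf) .leaf) .leaf) .leaf)) .leaf)) (.node 1 1072 (.node 0 4227584 (.node 0 132352 (.node 0 57344 (.node 0 131140 (.node 0 18448 (.node 1 524560 .leaf .leaf) .leaf) .leaf) (.node 1 40962 (.node 0 131084 (.node 0 16528 (.node 1 1573120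 .leaf .leaf) .leaf) (.node 1 2490368 .leaf .leaf)) .leaf)) (.node 1 196612 (.node 0 2113552 (.node 0 524864 (.node 0 3074 .leaf .leaf) (.node 1 4718848 .leaf .leaf)) (.node 1 1034 (.node 1 311296 (.node 0 131168 .leaf .leaf) .leaf) .leaf)) .leaf)) (.node 1 33088 (.node 0 141312 (.node 0 278532 (.node 1 524328 .leaf .leaf) (.node 1 2097170 (.node 0 524808 (.node 1 16516 (.node 0 1048656 .leaf .leaf) .leaf) (.node 1 4456704 (.node 0 8480 .leaf .leaf) .leaf)) .leaf)) .leaf) .leaf)) .leaf)) (.node 1 2576 (.node 0 263680 (.node 0 33824 (.node 0 4358144 (.node 1 196610 (.node 1 263170 (.node 1 294944 .leaf .leaf) .leaf) .leaf) (.node 1 163904 (.node 0 149504 (.node 0 278592 (.node 1 526368 .leaf .leaf) (.node 1 524306 (.node 0 522 .leaf (.node 1 262528 (.node 0 1056800 (.node 1 2097728 .leaf .leaf) .leaf) .leaf)) .leaf)) (.node 1 133122 .leaf .leaf)) .leaf)) (.node 1 32804 (.node 0 4325392 (.node 0 17152 (.node 0 9280 (.node 0 34820 (.node 0 393232 .leaf .leaf) (.node 1 2131968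 .leaf .leaf)) (.node 1 532484 (.node 0 22 (.node 0 536 .leaf .leaf) .leaf) .leaf)) (.node 1 65794 (.node 0 2105352 (.node 0 524420 .leaf (.node 1 6307840 (.node 0 524608 .leaf .leaf) .leaf)) (.node 1 271360 .leaf .leaf)) .leaf)) (.node 1 131144 (.node 0 18560 (.node 0 1310784 (.node 0 67616 (.node 0 6553600 .leaf .leaf) .leaf) .leaf) (.node 1 18434 (.node 0 262216 (.node 0 2208 .leaf .leaf) .leaf) .leaf)) .leaf)) .leaf)) (.node 1 276 (.node 0 8720 (.node 0 1540 (.node 0 33808 (.node 0 164352 (.node 0 148480 .leaf (.node 1 131078 .leaf .leaf)) .leaf) .leaf) (.node 1 2097412 (.node 0 532496 (.node 0 518 (.node 1 262156 (.node 0 176 (.node 1 1048896 .leaf .leaf) .leaf) .leaf) (.node 1 2097536 (.node 0 1581056 .leaf .leaf) .leaf)) (.node 1 4202504 (.node 0 388 (.node 0 1056784 .leaf (.node 1 1056776 (.node 0 65668 .leaf .leaf) .leaf)) (.node 1 2179072 (.node 0 2621504 .leaf (.node 1 4719616 (.node 1 98432 .leaf .leaf) .leaf)) .leaf)) .leaf)) .leaf)) (.node 1 8456 (.node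 0 8324 (.node 0 1048596 (.node 1 776 (.node 0 9344 .leaf (.node 1 24580 .leaf .leaf)) .leaf) (.node 1 3145736 (.node 0 589952 (.node 0 3145730 .leaf (.node 1 1049728 (.node 0 1146880 .leaf .leaf) .leaf)) (.node 1 4211200 (.node 0 1344 (.node 0 43008 .leaf .leaf) .leaf) .leaf)) .leaf)) .leaf) .leaf)) .leaf)) .leaf)) .leaf)) (.node 1 540704 (.node 0 4194370 (.node 0 2312 (.node 0 270464 (.node 0 1048612 (.node 0 4259856 (.node 0 2097920 (.node 1 4202500 .leaf .leaf) (.node 1 66816 (.node 0 2138112 (.node 0 655364 .leaf (.node 1 6422528 .leaf .leaf)) (.node 1 41984 (.node 1 2260992 .leaf .leaf) .leaf)) .leaf)) (.node 1 584 (.node 0 3200 (.node 0 1343488 (.node 1 131616 .leaf .leaf) (.node 1 1081360 (.node 0 197120 (.node 0 2114560 .leaf .leaf) .leaf) .leaf)) .leaf) .leaf)) (.node 1 3145760 (.node 0 4784128 (.node 0 2097410 (.node 0 532488 (.node 0 134 .leaf .leaf) (.node 1 4464640 .leaf .leaf)) (.node 1 66688 (.node 0 3178496 .leaf (.node 1 1082368 .leaf .leaf)) .leaf))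 (.node 1 4194880 (.node 0 3328 (.node 0 303104 .leaf .leaf) .leaf) .leaf)) .leaf)) (.node 1 24592 (.node 0 580 (.node 0 3088 (.node 0 295424 (.node 0 132128 (.node 1 32834 (.node 1 395264 .leaf .leaf) .leaf) (.node 1 131108 (.node 0 4210704 .leaf .leaf) .leaf)) (.node 1 33040 (.node 1 139520 (.node 1 2105346 .leaf .leaf) .leaf) .leaf)) (.node 1 2060 (.node 0 262288 (.node 0 1049120 (.node 0 4260864 .leaf .leaf) (.node 1 1048864 (.node 0 4268032 (.node 1 2163712 .leaf .leaf) .leaf) .leaf)) (.node 1 16408 (.node 0 704 (.node 1 1050628 .leaf .leaf) (.node 1 540928 (.node 0 8258 .leaf (.node 1 532608 .leaf .leaf)) .leaf)) .leaf)) .leaf)) (.node 1 2621696 (.node 1 4202624 (.node 0 1048836 .leaf (.node 1 3211264 (.node 0 2686976 (.node 0 2621442 .leaf (.node 1 4195456 .leaf .leaf)) (.node 1 4195840 .leaf .leaf)) .leaf)) .leaf) .leaf)) .leaf)) .leaf) (.node 1 524480 (.node 0 1050626 (.node 0 327688 (.node 0 2097312 (.node 0 5767168 (.node 1 66176 (.node 1 1049604 (.node 0 98320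 (.node 0 2228736 .leaf .leaf) (.node 1 33288 .leaf .leaf)) .leaf) .leaf) (.node 1 5242944 (.node 0 67840 .leaf (.node 1 68096 (.node 0 2360320 .leaf (.node 1 1044 (.node 1 33032 .leaf .leaf) .leaf)) .leaf)) .leaf)) (.node 1 17440 (.node 0 4227136 (.node 0 133376 (.node 0 286720 (.node 0 100 (.node 1 2120 .leaf .leaf) .leaf) (.node 1 8210 .leaf .leaf)) (.node 1 198656 (.node 1 1042 (.node 1 295168 (.node 0 139296 .leaf .leaf) .leaf) .leaf) .leaf)) (.node 1 557120 (.node 1 133248 (.node 0 1327104 .leaf (.node 1 1048594 (.node 0 66056 .leaf (.node 1 262912 .leaf .leaf)) .leaf)) .leaf) .leaf)) .leaf)) (.node 1 262672 (.node 0 1568 (.node 0 4228096 (.node 0 164096 (.node 0 155648 (.node 0 16452 .leaf .leaf) (.node 1 139266 .leaf .leaf)) (.node 1 229376 .leaf .leaf)) (.node 1 32836 (.node 0 133136 .leaf (.node 1 133128 (.node 1 16402 .leaf .leaf) .leaf)) .leaf)) (.node 1 292 (.node 0 4202512 (.node 1 2162944 (.node 0 2629632 (.node 0 524294 .leaf (.node 1 6291584 .leaf .leaf))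 (.node 1 4203520 .leaf .leaf)) .leaf) (.node 1 8264 (.node 0 2180 (.node 0 1310736 .leaf (.node 1 1048600 .leaf .leaf)) (.node 1 2115584 (.node 0 786496 .leaf (.node 1 4718608 (.node 0 770 .leaf .leaf) .leaf)) .leaf)) .leaf)) .leaf)) .leaf)) (.node 1 1050752 (.node 0 1376256 (.node 0 2162720 (.node 0 6815744 (.node 1 4259968 .leaf .leaf) (.node 1 4195392 (.node 0 35072 (.node 0 401408 .leaf (.node 1 139280 .leaf .leaf)) (.node 1 100352 (.node 1 132112 (.node 0 49664 (.node 0 132160 .leaf .leaf) (.node 1 33026 .leaf .leaf)) .leaf) .leaf)) .leaf)) .leaf) (.node 1 1049104 (.node 0 67072 (.node 0 2130944 (.node 0 688128 (.node 0 147458 .leaf (.node 1 131202 .leaf .leaf)) .leaf) (.node 1 33796 (.node 0 163856 (.node 0 147968 (.node 0 17472 .leaf .leaf) (.node 1 131330 .leaf .leaf)) (.node 1 163848 (.node 0 147584 (.node 0 1065024 (.node 1 526848 .leaf .leaf) .leaf) .leaf) .leaf)) .leaf)) (.node 1 772 (.node 0 9232 (.node 0 33284 .leaf (.node 1 2130176 (.node 1 4333568 (.node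 0 16644 .leaf .leaf) .leaf) .leaf)) (.node 1 8204 (.node 0 148 .leaf (.node 1 2113544 (.node 1 4734976 (.node 0 322 .leaf .leaf) .leaf) .leaf)) .leaf)) .leaf)) .leaf)) .leaf)) .leaf)) .leaf)) .leaf))

theorem certTriadOut : cert gensTriad [8392705] 14 treeTriadOut fewKey fewDec
    ((sets 24 3).filter fun n => n &&& 8392705 == 0 && !inOctad 8392705 n) = true := by
  decide +kernel

/-- Generators fixing the configuration `DuadPair`. -/
def gensDuadPair : List (List ℕ) := [[0, 17, 11, 15, 3, 20, 1, 22, 13, 2, 19, 4, 14, 18, 12, 9, 6, 5, 8, 10, 16, 7, 21, 23], [0, 5, 19, 16, 2, 10, 3, 6, 11, 17, 22, 18, 14, 8, 12, 4, 13, 1, 7, 15, 21, 9, 20, 23]]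

/-- Spanning tree `DuadPair` `In`. -/
def treeDuadPairIn : Tree := (.node 0 2056 (.node 0 32784 (.node 0 520 (.node 0 32772 (.node 0 2560 .leaf .leaf) (.node 1 196608 (.node 0 96 .leaf .leaf) .leaf)) .leaf) (.node 1 327680 (.node 0 320 (.node 0 8194 (.node 0 393216 (.node 1 130 .leaf .leaf) (.node 1 288 (.node 0 1056768 .leaf .leaf) .leaf)) .leaf) (.node 1 8320 .leaf .leaf)) .leaf)) (.node 1 524292 (.node 0 3072 (.node 0 524304 (.node 0 1032 (.node 1 4259840 .leaf .leaf) .leaf) (.node 1 4456448 (.node 0 2097408 .leaf (.node 1 1048704 (.node 1 2097216 .leaf .leaf) .leaf)) .leaf)) (.node 1 557056 (.node 0 1536 (.node 1 4325376 (.node 0 2097184 .leaf (.node 1 1048578 .leaf .leaf)) .leaf) .leaf) .leaf)) .leaf))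

theorem certDuadPairIn : cert gensDuadPair [2 ^ 23, 2 ^ 0, 20480] 20 treeDuadPairIn fewKey fewDec
    ((sets 24 2).filter fun n => n &&& 8388609 == 0 && pc (n &&& 20480) == 0 && inOctad 8409089 n) = true := by
  decide +kernel

/-- Spanning tree `DuadPair` `Out`. -/
def treeDuadPairOut : Tree := (.node 0 133120 (.node 0 48 (.node 0 1048584 (.node 0 98304 (.node 0 576 (.node 1 131080 (.node 1 65538 (.node 0 131136 (.node 0 34 .leaf .leaf) .leaf) .leaf) .leaf) (.node 1 8208 (.node 0 262152 (.node 0 33024 .leaf .leaf) (.node 1 260 (.node 0 10240 (.node 0 262160 .leaf .leaf) .leaf) .leaf)) .leaf)) (.node 1 2162688 (.node 0 192 (.node 0 4194306 (.node 1 1048608 .leaf .leaf) (.node 1 72 (.node 0 32770 .leaf (.node 1 65544 .leaf .leaf)) .leaf)) (.node 1 8704 (.node 0 262148 (.node 0 2304 (.node 1 264192 .leaf .leaf) .leaf) .leaf) .leaf)) .leaf)) (.node 1 1028 (.node 0 526336 (.node 0 1040 (.node 0 524296 .leaf (.node 1 4194308 (.node 0 2099200 .leaf (.node 1 1572864 .leaf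 .leaf)) .leaf)) (.node 1 294912 (.node 0 768 (.node 0 8196 (.node 1 524544 (.node 0 9216 .leaf .leaf) .leaf) .leaf) (.node 1 144 .leaf .leaf)) .leaf)) (.node 1 4718592 (.node 0 2098176 (.node 0 524416 (.node 0 4195328 .leaf (.node 1 32832 (.node 1 24 (.node 0 32776 .leaf .leaf) .leaf) .leaf)) (.node 1 4194816 (.node 0 2097156 (.node 0 2176 .leaf .leaf) (.node 1 1179648 (.node 0 65568 .leaf (.node 1 2097154 .leaf .leaf)) .leaf)) .leaf)) (.node 1 1081344 (.node 1 2097168 (.node 0 136 (.node 0 4227072 (.node 1 1048592 .leaf .leaf) .leaf) (.node 1 516 (.node 1 655360 (.node 0 1056 .leaf .leaf) .leaf) .leaf)) .leaf) .leaf)) .leaf)) .leaf)) (.node 1 262146 (.node 0 131328 (.node 0 8224 (.node 0 1310720 (.node 0 65792 (.node 0 8256 (.node 1 264 .leaf .leaf) .leaf) .leaf) (.node 1 1280 (.node 0 532480 (.node 0 263168 .leaf .leaf) (.node 1 4196352 .leaf .leaf)) .leaf)) (.node 1 2050 (.node 0 131088 (.node 0 40 (.node 1 66560 (.node 0 524352 .leaf (.node 1 4202496 .leaf .leaf))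 .leaf) .leaf) (.node 1 262176 (.node 0 1048832 (.node 0 73728 (.node 0 262208 .leaf (.node 1 8448 .leaf .leaf)) .leaf) (.node 1 1152 (.node 1 4194368 .leaf .leaf) .leaf)) .leaf)) .leaf)) (.node 1 160 (.node 0 5242880 (.node 1 3145728 (.node 0 65664 .leaf (.node 1 2097664 (.node 0 132 .leaf (.node 1 131584 (.node 1 131074 .leaf .leaf) .leaf)) .leaf)) .leaf) (.node 1 1088 (.node 0 524290 (.node 0 132096 .leaf (.node 1 32800 .leaf .leaf)) (.node 1 4194312 (.node 0 2129920 (.node 0 640 .leaf (.node 1 528 .leaf .leaf)) (.node 1 1114112 (.node 0 65600 .leaf (.node 1 2105344 (.node 0 262272 (.node 0 4194560 .leaf .leaf) .leaf) .leaf)) .leaf)) .leaf)) .leaf)) .leaf)) .leaf)) (.node 1 524320 (.node 0 1049600 (.node 0 589824 (.node 1 40960 (.node 0 262656 (.node 1 131200 (.node 0 4194336 .leaf (.node 1 66 .leaf .leaf)) .leaf) (.node 1 272 (.node 0 8200 .leaf (.node 1 2052 (.node 0 2064 .leaf (.node 1 786432 .leaf .leaf)) .leaf)) .leaf)) .leaf) (.node 1 6291456 (.node 0 2097280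 (.node 0 4194432 (.node 1 1048640 .leaf .leaf) .leaf) (.node 1 1049088 (.node 0 65540 (.node 0 2112 .leaf .leaf) (.node 1 2228224 (.node 1 514 (.node 0 131076 (.node 0 2080 .leaf .leaf) (.node 1 131104 (.node 1 1026 .leaf .leaf) .leaf)) .leaf) .leaf)) .leaf)) .leaf)) (.node 1 33792 (.node 0 524800 (.node 1 163840 (.node 0 544 .leaf (.node 1 18 (.node 1 36 (.node 0 1050624 (.node 0 65552 .leaf (.node 1 2359296 .leaf .leaf)) (.node 1 525312 .leaf .leaf)) .leaf) .leaf)) .leaf) (.node 1 4194320 (.node 0 2097160 (.node 0 32896 (.node 1 80 (.node 0 10 .leaf (.node 1 12 (.node 0 34816 .leaf .leaf) .leaf)) .leaf) (.node 1 66048 (.node 0 68 .leaf (.node 1 139264 (.node 1 258 .leaf .leaf) .leaf)) .leaf)) (.node 1 1048580 (.node 0 67584 (.node 1 270336 (.node 0 262400 .leaf (.node 1 384 .leaf .leaf)) .leaf) (.node 1 2621440 (.node 1 33280 .leaf .leaf) .leaf)) .leaf)) .leaf)) .leaf)) .leaf))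

theorem certDuadPairOut : cert gensDuadPair [2 ^ 23, 2 ^ 0, 20480] 6 treeDuadPairOut fewKey fewDec
    ((sets 24 2).filter fun n => n &&& 8388609 == 0 && pc (n &&& 20480) == 0 && !inOctad 8409089 n) = true := by
  decide +kernel

/-- Spanning tree `DuadPair` `Meet`. -/
def treeDuadPairMeet : Tree := (.node 0 147456 (.node 0 4128 (.node 0 1064960 (.node 0 69632 (.node 0 16448 (.node 1 4104 .leaf .leaf) (.node 1 24576 (.node 0 266240 .leaf (.node 1 4352 (.node 1 18432 .leaf .leaf) .leaf)) .leaf)) (.node 1 2101248 (.node 0 16512 .leaf (.node 1 16896 (.node 0 4100 .leaf (.node 1 135168 .leaf .leaf)) .leaf)) .leaf)) (.node 1 17408 (.node 0 528384 (.node 1 49152 (.node 1 4112 .leaf .leaf) .leaf) (.node 1 4198400 .leaf .leaf)) .leaf)) .leaf) (.node 1 16416 (.node 0 1052672 (.node 0 81920 (.node 0 4160 (.node 0 16386 .leaf (.node 1 16392 .leaf .leaf)) (.node 1 12288 (.node 0 278528 .leaf (.node 1 16640 (.node 1 6144 .leaf .leaf) .leaf)) .leaf)) (.node 1 2113536 (.node 0 4224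 .leaf (.node 1 4608 (.node 0 16388 .leaf .leaf) .leaf)) .leaf)) (.node 1 5120 (.node 0 540672 (.node 1 36864 (.node 1 16400 .leaf .leaf) .leaf) (.node 1 4210688 .leaf .leaf)) .leaf)) .leaf))

theorem certDuadPairMeet : cert gensDuadPair [2 ^ 23, 2 ^ 0, 20480] 4098 treeDuadPairMeet fewKey fewDec
    ((sets 24 2).filter fun n => n &&& 8388609 == 0 && pc (n &&& 20480) == 1) = true := by
  decide +kernel

end CfsgLib.Sporadic.M24Certs
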