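import Cfsg.Agent.Lib.Sporadic.TrioQuotData
import Cfsg.Agent.Lib.Sporadic.M24Trio
import Cfsg.Agent.Lib.Sporadic.M24SextetStructure

/-!
The structure `2^6 : (GL(3, 2) × S₃)` of a trio stabiliser in `Cfsg.M24`.
-/

set_option autoImplicit false
set_option maxRecDepth 40000

namespace CfsgLib.Sporadic.M24TrioQuotient

open Cfsg CfsgLib.SmallGroups.Golay CfsgLib.SmallGroups.GolayOctads
open CfsgLib.SmallGroups.M24Group hiding base
open CfsgLib.SmallGroups.Mathieu CfsgLib.Sporadic.M24Orbits CfsgLib.Sporadic.M24Config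
open CfsgLib.Sporadic.Sextets CfsgLib.Sporadic.TrioQuotData
open CfsgLib.Sporadic.M24Trio (fstO sndO thdO tr)
open CfsgLib.Sporadic.TrioData (base)
open CfsgLib.Sporadic.M24Sextet (sx sxList step smul_sextet sx_inj exists_node)
open scoped Pointwise symmDiff

/-- Vectors of length three over the field with two elements. -/
abbrev V : Type := Fin 3 → ZMod 2

/-- The masks of the three octads. -/
def oMask : Fin 3 → ℕ := ![fstO base, sndO base, thdO base]

/-- The three octads. -/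
def O (i : Fin 3) : Finset GolayPt := toSet (oMask i)

/-- The number of a vector. -/
def code (v : V) : ℕ := (v 0).val + 2 * (v 1).val + 4 * (v 2).val

/-- The tetrad representing a vector. -/
def rep (v : V) : ℕ := reps.getD (code v) 0

/-- The sextet of a vector. -/
noncomputable def s (v : V) : Finset (Finset GolayPt) := sx (rep v)

/-- All tetrads of the sextet lie inside the octads. -/
def refines (n : ℕ) : Bool :=
  (sxList n).all fun t => (List.finRange 3).any fun i => t &&& oMask i == t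

/-- `X` refines the trio. -/
def Ref (X : Finset (Finset GolayPt)) : Prop := X ∈ sextets ∧ ∀ t ∈ X, ∃ i, t ⊆ O i

theorem mem_sx {n : ℕ} (h4 : pc n = 4) (hlt : n < 2 ^ 24) {u : Finset GolayPt} :
    u ∈ sx n ↔ ∃ t ∈ sxList n, toSet t = u := by
  have hc : (toSet n).card = 4 := (card_toSet n).trans h4
  rw [sx, sextetOf, Finset.mem_insert, mem_partners hc]
  constructor
  · rintro (rfl | ⟨hu, hd, ho⟩)
    · exact ⟨n, List.mem_cons_self .., rfl⟩
    · obtain ⟨o, ho', he⟩ := mem_octads.1 ho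
      have hand : o &&& n = n := (subset_iff hlt).1 (by rw [he]; exact Finset.subset_union_left)
      refine ⟨o ^^^ n, List.mem_cons_of_mem _ (List.mem_map.2 ⟨o, List.mem_filter.2 ⟨ho', beq_iff_eq.2 hand⟩, rfl⟩), ?_⟩
      rw [M24SextetStructure.toSet_xor_sdiff (by rw [Nat.and_comm]; exact hand), he,
        Finset.union_sdiff_cancel_left hd]
  · rintro ⟨t, ht, rfl⟩
    rcases List.mem_cons.1 ht with rfl | ht
    · exact Or.inl rfl
    obtain ⟨o, ho, rfl⟩ := List.mem_map.1 ht
    obtain ⟨ho8, hand⟩ := List.mem_filter.1 ho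
    rw [beq_iff_eq] at hand
    have hsub : toSet n ⊆ toSet o := (subset_iff hlt).2 hand
    rw [M24SextetStructure.toSet_xor_sdiff (by rw [Nat.and_comm]; exact hand)]
    refine Or.inr ⟨?_, Finset.disjoint_sdiff, ?_⟩
    · rw [Finset.card_sdiff_of_subset hsub, hc, card_toSet, (mem_cwOfWeight.1 ho8).2]
    · rw [Finset.union_sdiff_of_subset hsub]
      exact mem_octads.2 ⟨o, ho8, rfl⟩

theorem rep_ok : ∀ v : V, v ≠ 0 → pc (rep v) = 4 ∧ rep v < 2 ^ 24 ∧ (rep v).testBit 23 = true ∧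
    rep v &&& oMask 0 = rep v ∧ refines (rep v) = true := by
  decide +kernel

theorem rep_inj : ∀ v w : V, rep v = rep w → v = w := by decide +kernel

theorem rep_nodes : ∀ v : V, v ≠ 0 → rep v ∈ M24Sextet.allNodes := by decide +kernel

theorem nodes_refining : ∀ n ∈ M24Sextet.allNodes, refines n = true →
    ∃ v : V, v ≠ 0 ∧ rep v = n := by
  decide +kernel

theorem oMask_lt : ∀ i, oMask i < 2 ^ 24 := by decide +kernel

theorem sum_rule : ∀ v w : V, v ≠ 0 → w ≠ 0 → v ≠ w → ∀ i, ∀ a ∈ sxList (rep v), ∀ b ∈ sxList (rep w),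
    a &&& oMask i = a → b &&& oMask i = b → a ^^^ b ∈ sxList (rep (v + w)) := by
  decide +kernel

theorem sx_bits : ∀ v : V, v ≠ 0 → ∀ t ∈ sxList (rep v), t < 2 ^ 24 := by decide +kernel

set_option synthInstance.maxSize 1000 in
set_option synthInstance.maxHeartbeats 100000 in
theorem separation_aux : ∀ i : Fin 3, ∀ p : Fin 24, ∀ q : Fin 24, (oMask i).testBit p.val = true →
    (oMask i).testBit q.val = true → p ≠ q →
    ∃ v : V, v ≠ 0 ∧ (sxList (rep v)).any (fun t => t.testBit p.val && !t.testBit q.val) = true := by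
  decide +kernel

theorem separation (i : Fin 3) (p : ℕ) (hp : p < 24) (q : ℕ) (hq : q < 24)
    (h1 : (oMask i).testBit p = true) (h2 : (oMask i).testBit q = true) (hpq : p ≠ q) :
    ∃ v : V, v ≠ 0 ∧ ∃ t ∈ sxList (rep v), t.testBit p = true ∧ t.testBit q = false := by
  obtain ⟨v, hv, hany⟩ := separation_aux i ⟨p, hp⟩ ⟨q, hq⟩ h1 h2 fun e => hpq (Fin.val_eq_of_eq e)
  obtain ⟨t, ht, htb⟩ := List.any_eq_true.1 hany
  rw [Bool.and_eq_true, Bool.not_eq_true'] at htb
  exact ⟨v, hv, t, ht, htb⟩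

theorem s_mem {v : V} (hv : v ≠ 0) : s v ∈ sextets :=
  sextetOf_mem ((card_toSet _).trans (rep_ok v hv).1)

theorem rep_sub {v : V} (hv : v ≠ 0) : toSet (rep v) ∈ s v ∧ toSet (rep v) ⊆ O 0 :=
  ⟨Finset.mem_insert_self _ _, (subset_iff (rep_ok v hv).2.1).2
    (by rw [Nat.and_comm]; exact (rep_ok v hv).2.2.2.1)⟩

theorem ref_s {v : V} (hv : v ≠ 0) : Ref (s v) := by
  obtain ⟨h4, hlt, -, -, hr⟩ := rep_ok v hv
  refine ⟨s_mem hv, fun u hu => ?_⟩
  obtain ⟨t, ht, rfl⟩ := (mem_sx h4 hlt).1 hu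
  obtain ⟨i, -, hi⟩ := List.any_eq_true.1 (List.all_eq_true.1 hr t ht)
  exact ⟨i, (subset_iff (sx_bits v hv t ht)).2 (by rw [Nat.and_comm]; exact beq_iff_eq.1 hi)⟩

theorem s_inj {v w : V} (hv : v ≠ 0) (hw : w ≠ 0) (h : s v = s w) : v = w :=
  rep_inj v w (sx_inj (rep_nodes v hv) (rep_nodes w hw) h)

theorem exists_vec {X : Finset (Finset GolayPt)} (hX : Ref X) : ∃ v : V, v ≠ 0 ∧ s v = X := by
  obtain ⟨n, hn, rfl⟩ := exists_node hX.1
  obtain ⟨-, h4, hlt⟩ := M24Sextet.nodes_ok n hn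
  have hr : refines n = true := by
    refine List.all_eq_true.2 fun t ht => ?_
    obtain ⟨i, hi⟩ := hX.2 (toSet t) ((mem_sx h4 hlt).2 ⟨t, ht, rfl⟩)
    have htlt : t < 2 ^ 24 := by
      rcases List.mem_cons.1 ht with rfl | ht
      · exact hlt
      obtain ⟨o, ho, rfl⟩ := List.mem_map.1 ht
      exact Nat.xor_lt_two_pow (cwOfWeight_lt (List.mem_filter.1 ho).1) hlt
    exact List.any_eq_true.2 ⟨i, List.mem_finRange i, by rw [Nat.and_comm, beq_iff_eq]; exact (subset_iff htlt).1 hi⟩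
  obtain ⟨v, hv, rfl⟩ := nodes_refining n hn hr
  exact ⟨v, hv, rfl⟩

theorem sum_mem {v w : V} (hv : v ≠ 0) (hw : w ≠ 0) (hvw : v ≠ w) {i : Fin 3} {a b : Finset GolayPt}
    (ha : a ∈ s v) (hb : b ∈ s w) (hai : a ⊆ O i) (hbi : b ⊆ O i) : a ∆ b ∈ s (v + w) := by
  obtain ⟨v4, vlt, -⟩ := rep_ok v hv
  obtain ⟨w4, wlt, -⟩ := rep_ok w hw
  have hvw0 : v + w ≠ 0 := fun e => hvw (by
    rw [eq_neg_of_add_eq_zero_left e]; ext k; simp [ZMod.neg_eq_self_mod_two])
  obtain ⟨u4, ult, -⟩ := rep_ok _ hvw0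
  obtain ⟨x, hx, rfl⟩ := (mem_sx v4 vlt).1 ha
  obtain ⟨y, hy, rfl⟩ := (mem_sx w4 wlt).1 hb
  refine (mem_sx u4 ult).2 ⟨x ^^^ y, sum_rule v w hv hw hvw i x hx y hy ?_ ?_, toSet_xor x y⟩
  · rw [Nat.and_comm]; exact (subset_iff (sx_bits v hv x hx)).1 hai
  · rw [Nat.and_comm]; exact (subset_iff (sx_bits w hw y hy)).1 hbi

/-- The stabiliser of the base trio. -/
abbrev H₀ : Subgroup M24 := MulAction.stabilizer M24 (tr base)

theorem mem_base_iff {x : Finset GolayPt} : x ∈ tr base ↔ ∃ i, O i = x := by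
  simp [tr, O, oMask, Fin.exists_fin_succ, eq_comm]

theorem O_injective : Function.Injective O := by
  have h : ∀ i j, oMask i = oMask j → i = j := by decide +kernel
  exact fun i j e => h i j (toSet_inj (oMask_lt i) (oMask_lt j) e)

theorem exists_sigma (g : H₀) (i : Fin 3) : ∃ j, O j = ((g : M24) : Equiv.Perm GolayPt) • O i := by
  rw [← mem_base_iff]
  have h : ((g : M24) : Equiv.Perm GolayPt) • tr base = tr base := g.2
  have := Finset.smul_mem_smul_finset (a := ((g : M24) : Equiv.Perm GolayPt)) (mem_base_iff.2 ⟨i, rfl⟩)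
  rw [h] at this
  exact this

/-- The action on the three octads, as a function. -/
noncomputable def sigF (g : H₀) (i : Fin 3) : Fin 3 := (exists_sigma g i).choose

theorem O_sigF (g : H₀) (i : Fin 3) : O (sigF g i) = ((g : M24) : Equiv.Perm GolayPt) • O i :=
  (exists_sigma g i).choose_spec

theorem sigF_mul (g h : H₀) (i : Fin 3) : sigF (g * h) i = sigF g (sigF h i) :=
  O_injective (by rw [O_sigF, O_sigF, O_sigF]; exact mul_smul _ _ _)

theorem sigF_one (i : Fin 3) : sigF 1 i = i := O_injective (by rw [O_sigF]; exact one_smul _ _)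

/-- The action on the three octads. -/
noncomputable def sig : H₀ →* Equiv.Perm (Fin 3) where
  toFun g := ⟨sigF g, sigF g⁻¹, fun i => by rw [← sigF_mul, inv_mul_cancel, sigF_one],
    fun i => by rw [← sigF_mul, mul_inv_cancel, sigF_one]⟩
  map_one' := Equiv.ext sigF_one
  map_mul' g h := Equiv.ext (sigF_mul g h)

theorem ref_smul (g : H₀) {X : Finset (Finset GolayPt)} (hX : Ref X) :
    Ref (((g : M24) : Equiv.Perm GolayPt) • X) := by
  refine ⟨smul_sextet (g : M24).2 hX.1, fun t ht => ?_⟩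
  obtain ⟨u, hu, rfl⟩ := Finset.mem_smul_finset.1 ht
  obtain ⟨i, hi⟩ := hX.2 u hu
  exact ⟨sigF g i, by rw [O_sigF]; exact Finset.smul_finset_subset_smul_finset hi⟩

theorem exists_pi (g : H₀) (v : V) :
    ∃ w : V, (v = 0 → w = 0) ∧ (v ≠ 0 → w ≠ 0 ∧ s w = ((g : M24) : Equiv.Perm GolayPt) • s v) := by
  by_cases hv : v = 0
  · exact ⟨0, fun _ => rfl, fun h => absurd hv h⟩
  · obtain ⟨w, hw, hs⟩ := exists_vec (ref_smul g (ref_s hv))
    exact ⟨w, fun h => absurd h hv, fun _ => ⟨hw, hs⟩⟩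

/-- The action on the refining sextets. -/
noncomputable def piF (g : H₀) (v : V) : V := (exists_pi g v).choose

theorem piF_zero (g : H₀) : piF g 0 = 0 := (exists_pi g 0).choose_spec.1 rfl

theorem piF_spec (g : H₀) {v : V} (hv : v ≠ 0) :
    piF g v ≠ 0 ∧ s (piF g v) = ((g : M24) : Equiv.Perm GolayPt) • s v :=
  (exists_pi g v).choose_spec.2 hv

theorem piF_mul (g h : H₀) (v : V) : piF (g * h) v = piF g (piF h v) := by
  by_cases hv : v = 0
  · subst hv; rw [piF_zero, piF_zero, piF_zero]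
  obtain ⟨a1, a2⟩ := piF_spec h hv
  obtain ⟨b1, b2⟩ := piF_spec g a1
  obtain ⟨c1, c2⟩ := piF_spec (g * h) hv
  exact s_inj c1 b1 (by rw [c2, b2, a2]; exact mul_smul _ _ _)

theorem piF_one (v : V) : piF 1 v = v := by
  by_cases hv : v = 0
  · subst hv; exact piF_zero 1
  obtain ⟨c1, c2⟩ := piF_spec 1 hv
  exact s_inj c1 hv (by rw [c2]; exact one_smul _ _)

theorem piF_add (g : H₀) (v w : V) : piF g (v + w) = piF g v + piF g w := by
  have h2 : ∀ u : V, u + u = 0 := fun u => funext fun k => CharTwo.add_self_eq_zero (u k)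
  by_cases hv : v = 0
  · subst hv; rw [piF_zero, zero_add, zero_add]
  by_cases hw : w = 0
  · subst hw; rw [piF_zero, add_zero, add_zero]
  by_cases hvw : v = w
  · subst hvw; rw [h2, piF_zero, h2]
  have hvw0 : v + w ≠ 0 := fun e => hvw (by
    rw [← add_zero v, ← h2 w, ← add_assoc, e, zero_add])
  obtain ⟨a1, a2⟩ := piF_spec g hv
  obtain ⟨b1, b2⟩ := piF_spec g hw
  obtain ⟨c1, c2⟩ := piF_spec g hvw0
  have hne : piF g v ≠ piF g w := fun e => hvw (by
    refine s_inj hv hw (MulAction.injective ((g : M24) : Equiv.Perm GolayPt) ?_)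
    show _ • s v = _ • s w
    rw [← a2, ← b2, e])
  have hne0 : piF g v + piF g w ≠ 0 := fun e => hne (by
    rw [← add_zero (piF g v), ← h2 (piF g w), ← add_assoc, e, zero_add])
  obtain ⟨hv1, hv2⟩ := rep_sub hv
  obtain ⟨hw1, hw2⟩ := rep_sub hw
  set gp := ((g : M24) : Equiv.Perm GolayPt) with hgp
  have hm := sum_mem a1 b1 hne (i := sigF g 0) (a := gp • toSet (rep v)) (b := gp • toSet (rep w))
    (a2 ▸ Finset.smul_mem_smul_finset hv1) (b2 ▸ Finset.smul_mem_smul_finset hw1)
    (by rw [O_sigF]; exact Finset.smul_finset_subset_smul_finset hv2)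
    (by rw [O_sigF]; exact Finset.smul_finset_subset_smul_finset hw2)
  have hm' : (gp • toSet (rep v)) ∆ (gp • toSet (rep w)) ∈ s (piF g (v + w)) := by
    rw [c2, ← Finset.smul_finset_symmDiff]
    exact Finset.smul_mem_smul_finset (sum_mem hv hw hvw hv1 hw1 hv2 hw2)
  exact s_inj c1 hne0 ((eq_sextetOf (s_mem c1) hm').trans (eq_sextetOf (s_mem hne0) hm).symm)

/-- The linear map of an element. -/
noncomputable def lin (g : H₀) : V →ₗ[ZMod 2] V :=
  AddMonoidHom.toZModLinearMap 2 (AddMonoidHom.mk' (piF g) (piF_add g))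

/-- The matrix representation. -/
noncomputable def mat : H₀ →* Matrix (Fin 3) (Fin 3) (ZMod 2) where
  toFun g := LinearMap.toMatrix' (lin g)
  map_one' := by
    rw [show lin 1 = LinearMap.id from LinearMap.ext piF_one, LinearMap.toMatrix'_id]
  map_mul' g h := by
    rw [show lin (g * h) = (lin g).comp (lin h) from LinearMap.ext (piF_mul g h),
      LinearMap.toMatrix'_comp]

/-- The map onto `GL(3, 2) × S₃`. -/
noncomputable def psi : H₀ →* GL (Fin 3) (ZMod 2) × Equiv.Perm (Fin 3) := mat.toHomUnits.prod sig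

theorem transv_ok : ∀ e ∈ transv, okTbl e.2.2 = true ∧ e.1 < 3 ∧ e.2.1 < 3 ∧
    (∀ i, img (tblNat e.2.2) (oMask i) = oMask i) ∧
    ∀ v : V, v ≠ 0 → step e.2.2 (rep v)
      (rep ((Matrix.transvection (Fin.ofNat 3 e.1) (Fin.ofNat 3 e.2.1) (1 : ZMod 2)).mulVec v)) = true := by
  decide +kernel

theorem transv_all : ∀ i j : Fin 3, i ≠ j → ∃ e ∈ transv, e.1 = (i : ℕ) ∧ e.2.1 = (j : ℕ) := by
  decide +kernel

theorem swaps_ok : ∀ k : Fin 2, okTbl (swaps.getD k []) = true ∧
    (∀ i, img (tblNat (swaps.getD k [])) (oMask i) = oMask (Equiv.swap k.castSucc k.succ i)) ∧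
    ∀ v : V, v ≠ 0 → step (swaps.getD k []) (rep v) (rep v) = true := by
  decide +kernel

theorem exists_psi {t : List ℕ} (hok : okTbl t = true) (σ : Equiv.Perm (Fin 3))
    (A : GL (Fin 3) (ZMod 2)) (hσ : ∀ i, img (tblNat t) (oMask i) = oMask (σ i))
    (hA : ∀ v : V, v ≠ 0 → step t (rep v) (rep ((A : Matrix (Fin 3) (Fin 3) (ZMod 2)).mulVec v)) = true) :
    ∃ g, psi g = (A, σ) := by
  obtain ⟨g, hg, hidx⟩ := exists_elt hok
  have hO : ∀ i, g • O i = O (σ i) := fun i => by rw [O, smul_toSet hidx, hσ]; rfl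
  have hfix : g • tr base = tr base := by
    ext x
    rw [Finset.mem_smul_finset, mem_base_iff]
    constructor
    · rintro ⟨y, hy, rfl⟩
      obtain ⟨i, rfl⟩ := mem_base_iff.1 hy
      exact ⟨σ i, (hO i).symm⟩
    · rintro ⟨i, rfl⟩
      exact ⟨O (σ.symm i), mem_base_iff.2 ⟨_, rfl⟩, by rw [hO, Equiv.apply_symm_apply]⟩
  let g' : H₀ := ⟨⟨g, hg⟩, hfix⟩
  have hpi : ∀ v, piF g' v = (A : Matrix (Fin 3) (Fin 3) (ZMod 2)).mulVec v := by
    intro v
    by_cases hv : v = 0
    · subst hv; rw [piF_zero, Matrix.mulVec_zero]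
    obtain ⟨a1, a2⟩ := piF_spec g' hv
    have hAv : (A : Matrix (Fin 3) (Fin 3) (ZMod 2)).mulVec v ≠ 0 := fun e => hv (by
      have h := congrArg (fun u => (↑A⁻¹ : Matrix (Fin 3) (Fin 3) (ZMod 2)).mulVec u) e
      simpa [Matrix.mulVec_mulVec] using h)
    exact s_inj a1 hAv (a2.trans (M24Sextet.step_sound hg hidx (hA v hv)))
  refine ⟨g', Prod.ext (Units.ext ?_) (Equiv.ext fun i => O_injective ?_)⟩
  · show LinearMap.toMatrix' (lin g') = _
    rw [show lin g' = Matrix.toLin' (A : Matrix (Fin 3) (Fin 3) (ZMod 2)) from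
      LinearMap.ext fun v => (hpi v).trans (Matrix.toLin'_apply _ v).symm, LinearMap.toMatrix'_toLin']
  · show O (sigF g' i) = _
    rw [O_sigF]
    exact hO i

theorem zmod2_eq {x : ZMod 2} (h : x ≠ 0) : x = 1 := by revert x; decide

theorem psi_surjective : Function.Surjective psi := by
  suffices h : (∀ A : GL (Fin 3) (ZMod 2), (A, 1) ∈ psi.range) ∧ ∀ σ, ((1 : GL (Fin 3) (ZMod 2)), σ) ∈ psi.range by
    intro x
    have := mul_mem (h.1 x.1) (h.2 x.2)
    rwa [Prod.mk_mul_mk, mul_one, one_mul] at this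
  constructor
  · intro A
    let P : Matrix (Fin 3) (Fin 3) (ZMod 2) → Prop := fun M =>
      ∀ B : GL (Fin 3) (ZMod 2), (B : Matrix (Fin 3) (Fin 3) (ZMod 2)) = M → (B, 1) ∈ psi.range
    refine Matrix.diagonal_transvection_induction_of_det_ne_zero P (A : Matrix (Fin 3) (Fin 3) (ZMod 2))
      (Matrix.GeneralLinearGroup.det_ne_zero A) ?_ ?_ ?_ A rfl
    · intro D hD B hB
      have hD1 : D = 1 := funext fun i => zmod2_eq fun e => hD (by
        rw [Matrix.det_diagonal]; exact Finset.prod_eq_zero (Finset.mem_univ i) e)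
      have : B = 1 := Units.ext (by rw [hB, hD1]; exact Matrix.diagonal_one)
      rw [this]
      exact psi.range.one_mem
    · rintro ⟨i, j, hij, c⟩ B hB
      by_cases hc : c = 0
      · have : B = 1 := Units.ext (by rw [hB]; simp [Matrix.TransvectionStruct.toMatrix, hc])
        rw [this]
        exact psi.range.one_mem
      obtain rfl := zmod2_eq hc
      obtain ⟨e, he, e1, e2⟩ := transv_all i j hij
      obtain ⟨hok, -, -, h3, h4⟩ := transv_ok e he
      rw [e1, e2, Fin.ofNat_val_eq_self, Fin.ofNat_val_eq_self] at h4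
      obtain ⟨g, hg⟩ := exists_psi hok 1 B h3 (by rw [hB]; exact h4)
      exact ⟨g, hg⟩
    · intro M N hM hN hPM hPN B hB
      have e : B = Matrix.GeneralLinearGroup.mkOfDetNeZero M hM * Matrix.GeneralLinearGroup.mkOfDetNeZero N hN :=
        Units.ext hB
      have := mul_mem (hPM _ rfl : (Matrix.GeneralLinearGroup.mkOfDetNeZero M hM, 1) ∈ psi.range)
        (hPN _ rfl : (Matrix.GeneralLinearGroup.mkOfDetNeZero N hN, 1) ∈ psi.range)
      rwa [Prod.mk_mul_mk, mul_one, ← e] at this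
  · intro σ
    have hmem : σ ∈ Submonoid.closure (Set.range fun i : Fin 2 => Equiv.swap i.castSucc i.succ) := by
      rw [Equiv.Perm.mclosure_swap_castSucc_succ]; trivial
    induction hmem using Submonoid.closure_induction with
    | mem x hx =>
      obtain ⟨k, rfl⟩ := hx
      obtain ⟨h1, h2, h3⟩ := swaps_ok k
      obtain ⟨g, hg⟩ := exists_psi h1 _ 1 h2 (fun v hv => by
        rw [Units.val_one, Matrix.one_mulVec]; exact h3 v hv)
      exact ⟨g, hg⟩
    | one => exact psi.range.one_mem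
    | mul x y _ _ hx hy =>
      have := mul_mem hx hy
      rwa [Prod.mk_mul_mk, one_mul] at this

theorem card_GL3 : Nat.card (GL (Fin 3) (ZMod 2)) = 168 := by
  rw [Matrix.card_GL_field, ZMod.card]
  decide +kernel

theorem ker_sq {g : H₀} (hg : g ∈ psi.ker) : g * g = 1 := by
  have h := MonoidHom.mem_ker.1 hg
  have hm : lin g = LinearMap.id := by
    have h1 : mat g = 1 := congrArg (fun x : GL (Fin 3) (ZMod 2) × Equiv.Perm (Fin 3) => (x.1 : Matrix (Fin 3) (Fin 3) (ZMod 2))) h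
    exact LinearMap.toMatrix'.injective (h1.trans LinearMap.toMatrix'_id.symm)
  have hs : sig g = 1 := congrArg Prod.snd h
  set gp := ((g : M24) : Equiv.Perm GolayPt) with hgp
  have hO : ∀ i, gp • O i = O i := fun i => by
    rw [← O_sigF g i]
    exact congrArg O (congrArg (fun e : Equiv.Perm (Fin 3) => e i) hs)
  have hS : ∀ v, v ≠ 0 → gp • s v = s v := fun v hv => by
    rw [← (piF_spec g hv).2]
    exact congrArg s (LinearMap.congr_fun hm v)
  have hb : base ∈ M24Trio.allNodes := List.mem_cons_self ..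
  refine Subtype.ext (Subtype.ext (Equiv.ext fun p => ?_))
  show gp (gp p) = p
  obtain ⟨i, hpi⟩ : ∃ i, p ∈ O i := by
    have hT := M24Trio.tr_mem hb
    have hu : (tr base).biUnion id = Finset.univ := Finset.eq_univ_of_card _ (by
      rw [Finset.card_biUnion (t := id) hT.2.2]
      simp only [id_eq]
      rw [Finset.sum_const_nat (m := 8) (fun o ho => (hT.2.1 o ho).2), hT.1, card_golayPt])
    have hp : p ∈ (tr base).biUnion id := by rw [hu]; exact Finset.mem_univ p
    rw [Finset.mem_biUnion] at hp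
    obtain ⟨o, ho, hpo⟩ := hp
    obtain ⟨i, rfl⟩ := mem_base_iff.1 ho
    exact ⟨i, hpo⟩
  by_contra hne
  have hq : gp (gp p) ∈ O i := by
    rw [← hO i, ← Equiv.Perm.smul_def, Finset.smul_mem_smul_finset_iff, ← hO i, ← Equiv.Perm.smul_def,
      Finset.smul_mem_smul_finset_iff]
    exact hpi
  obtain ⟨v, hv, t, ht, htp, htq⟩ := separation i (idx p) (idx_lt p) (idx (gp (gp p))) (idx_lt _)
    (mem_toSet.1 hpi) (mem_toSet.1 hq) fun e => hne (idx_injective e).symm
  obtain ⟨v4, vlt, -⟩ := rep_ok v hv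
  have htmem : toSet t ∈ s v := (mem_sx v4 vlt).2 ⟨t, ht, rfl⟩
  obtain ⟨j, hj⟩ := (ref_s hv).2 _ htmem
  obtain rfl : j = i := by
    by_contra hji
    have hT := M24Trio.tr_mem hb
    exact Finset.disjoint_left.1 (hT.2.2 _ (mem_base_iff.2 ⟨j, rfl⟩) _ (mem_base_iff.2 ⟨i, rfl⟩)
      fun e => hji (O_injective e)) (hj (mem_toSet.2 htp)) hpi
  -- the square of `g` fixes the tetrad
  have hgt : gp • toSet t ∈ s v := hS v hv ▸ Finset.smul_mem_smul_finset htmem
  have hgtO : gp • toSet t ⊆ O j := hO j ▸ Finset.smul_finset_subset_smul_finset hj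
  have hsq : gp • gp • toSet t = toSet t := by
    by_cases he : gp • toSet t = toSet t
    · rw [he, he]
    have hd : Disjoint (toSet t) (gp • toSet t) := sextet_disjoint (s_mem hv) htmem hgt (Ne.symm he)
    have e : gp • toSet t = O j \ toSet t := by
      refine Finset.eq_of_subset_of_card_le (Finset.subset_sdiff.2 ⟨hgtO, hd.symm⟩) ?_
      rw [Finset.card_sdiff_of_subset hj, Finset.card_smul_finset, (s_mem hv).2.1 _ htmem,
        show (O j).card = 8 from ((M24Trio.tr_mem hb).2.1 _ (mem_base_iff.2 ⟨j, rfl⟩)).2]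
    rw [e, Finset.smul_finset_sdiff, hO j, e, Finset.sdiff_sdiff_eq_self hj]
  have : gp (gp p) ∈ toSet t := by
    have h1 : gp • gp • p ∈ gp • gp • toSet t :=
      Finset.smul_mem_smul_finset (Finset.smul_mem_smul_finset (mem_toSet.2 htp))
    rw [hsq] at h1
    exact h1
  rw [mem_toSet, htq] at this
  exact absurd this (by simp)

theorem card_stab {T : Finset (Finset GolayPt)} (hT : T ∈ trios) :
    Nat.card (MulAction.stabilizer M24 T) = 64512 := by
  have horb : MulAction.orbit M24 T = trios := Set.ext fun X => by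
    constructor
    · rintro ⟨g, rfl⟩; exact M24Trio.smul_trio g.2 hT
    · intro hX
      obtain ⟨a, ha⟩ := M24Trio.exists_to_base hT
      obtain ⟨b, hb⟩ := M24Trio.exists_to_base hX
      exact ⟨b⁻¹ * a, show (b⁻¹ * a) • T = X by rw [mul_smul, ha, ← hb, inv_smul_smul]⟩
  have h := (MulAction.stabilizer M24 T).card_mul_index
  rw [MulAction.index_stabilizer, horb, ncard_trios, card_M24] at h
  omega

theorem structureTheorem {T : Finset (Finset GolayPt)} (hT : T ∈ trios) :
    (∀ e : Equiv.Perm ↥T, ∃ g ∈ MulAction.stabilizer M24 T, ∀ o : ↥T,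
      (g : Equiv.Perm GolayPt) • (o : Finset GolayPt) = ((e o : ↥T) : Finset GolayPt)) ∧
    ∃ (N : Subgroup ↥(MulAction.stabilizer M24 T)) (_ : N.Normal), Nat.card N = 64 ∧ (∀ x ∈ N, x * x = 1) ∧
      Nonempty (↥(MulAction.stabilizer M24 T) ⧸ N ≃* GL (Fin 3) (ZMod 2) × Equiv.Perm (Fin 3)) := by
  obtain ⟨a, ha⟩ := M24Trio.exists_to_base hT
  have hT' : a⁻¹ • tr base = T := by rw [← ha, inv_smul_smul]
  let c : ↥(MulAction.stabilizer M24 T) ≃* H₀ :=
    { toFun := fun g => ⟨a * (g : M24) * a⁻¹, by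
        rw [MulAction.mem_stabilizer_iff, mul_smul, mul_smul, hT', (g.2 : (g : M24) • T = T), ha]⟩
      invFun := fun g => ⟨a⁻¹ * (g : M24) * a, by
        rw [MulAction.mem_stabilizer_iff, mul_smul, mul_smul, ha, (g.2 : (g : M24) • tr base = tr base), hT']⟩
      left_inv := fun g => Subtype.ext (by simp [mul_assoc])
      right_inv := fun g => Subtype.ext (by simp [mul_assoc])
      map_mul' := fun g h => Subtype.ext (by simp [mul_assoc]) }
  let ψ : ↥(MulAction.stabilizer M24 T) →* GL (Fin 3) (ZMod 2) × Equiv.Perm (Fin 3) := psi.comp c.toMonoidHom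
  have hψ : Function.Surjective ψ := psi_surjective.comp c.surjective
  refine ⟨fun e => ?_, ψ.ker, inferInstance, ?_, fun x hx => ?_, ⟨QuotientGroup.quotientKerEquivOfSurjective ψ hψ⟩⟩
  · let ν : Fin 3 → ↥T := fun i => ⟨(a : Equiv.Perm GolayPt)⁻¹ • O i, by
      rw [← hT']; exact Finset.smul_mem_smul_finset (mem_base_iff.2 ⟨i, rfl⟩)⟩
    have hν : Function.Bijective ν := (Fintype.bijective_iff_injective_and_card _).2
      ⟨fun i j h => O_injective (MulAction.injective ((a : Equiv.Perm GolayPt)⁻¹) (congrArg Subtype.val h)),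
        by rw [Fintype.card_fin, Fintype.card_coe, hT.1]⟩
    let νe := Equiv.ofBijective ν hν
    obtain ⟨g, hg⟩ := psi_surjective (1, νe.symm.permCongr e)
    refine ⟨c.symm g, (c.symm g).2, fun o => ?_⟩
    obtain ⟨i, rfl⟩ := νe.surjective o
    have hs : ((g : M24) : Equiv.Perm GolayPt) • O i = O (νe.symm.permCongr e i) := by
      rw [← O_sigF g i]
      exact congrArg O (congrArg (fun p : Equiv.Perm (Fin 3) => p i) (congrArg Prod.snd hg))
    show ((a : Equiv.Perm GolayPt)⁻¹ * ((g : M24) : Equiv.Perm GolayPt) * (a : Equiv.Perm GolayPt)) •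
      ((a : Equiv.Perm GolayPt)⁻¹ • O i) = _
    rw [mul_smul, mul_smul, smul_inv_smul, hs, Equiv.permCongr_apply, Equiv.symm_symm]
    exact congrArg Subtype.val (νe.apply_symm_apply (e (νe i)))
  · have h := Subgroup.card_mul_index ψ.ker
    rw [Subgroup.index_ker, MonoidHom.range_eq_top.2 hψ, Subgroup.card_top, Nat.card_prod, card_GL3,
      Nat.card_perm, Nat.card_fin, card_stab hT, show Nat.factorial 3 = 6 from rfl] at h
    omega
  · refine c.injective ?_
    rw [map_mul, map_one]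
    exact ker_sq hx

end CfsgLib.Sporadic.M24TrioQuotient
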