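import Cfsg.Agent.Lib.Sporadic.IndexPoints
import Cfsg.Agent.Lib.ThreeTransp.M24Classes

/-!
Elements of order five, seven and eleven in the two-point stabiliser of `M24`: their centralisers are cyclic, and this
pins down the normalisers of the subgroups they generate through the Sylow congruence.
-/

set_option autoImplicit false

namespace CfsgLib.Sporadic.MathieuLocalCounts

open Cfsg CfsgLib.SmallGroups.Golay CfsgLib.SmallGroups.GolayOctads CfsgLib.SmallGroups.M24Group
  CfsgLib.SmallGroups.Mathieu CfsgLib.SmallGroups.MathieuSets CfsgLib.Sporadic.IndexPoints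
open scoped Pointwise

/-- A nontrivial element fixes at most eight points. -/
theorem card_fixedPts_le_eight {g : Equiv.Perm GolayPt} (hg : g ∈ M24) (hne : g ≠ 1) : (fixedPts g).card ≤ 8 := by
  have h1 : orderOf g ≠ 1 := fun e => hne (orderOf_eq_one_iff.1 e)
  obtain ⟨r, hr, k, hk⟩ := Nat.exists_prime_and_dvd h1
  have : Fact r.Prime := ⟨hr⟩
  have hord : orderOf (g ^ k) = r := by
    have hk0 : k ≠ 0 := by
      rintro rfl
      rw [mul_zero] at hk
      exact (orderOf_pos g).ne' hk
    rw [orderOf_pow' _ hk0, hk, Nat.gcd_mul_left_left,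
      Nat.mul_div_cancel _ (Nat.pos_of_ne_zero hk0)]
  refine le_trans (Finset.card_le_card fun p hp => mem_fixedPts.2
    (Equiv.Perm.pow_apply_eq_self_of_apply_eq_self (mem_fixedPts.1 hp) k)) ?_
  have hmem := pow_mem hg k
  have hne' : g ^ k ≠ 1 := fun e => hr.one_lt.ne' (by rw [← hord, e, orderOf_one])
  have hpow : (g ^ k) ^ r = 1 := hord ▸ pow_orderOf_eq_one _
  by_cases h2 : r = 2
  · subst h2
    rw [pow_two] at hpow
    rcases ThreeTransp.M24Classes.two_kind hmem hpow hne' with h | h <;>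
      exact le_trans h.1.le (by norm_num)
  by_cases h3 : r = 3
  · subst h3
    rcases ThreeTransp.M24Classes.three_kind hmem hpow hne' with h | h <;>
      exact le_trans h.1.le (by norm_num)
  have h5 : 5 ≤ r := by
    have := hr.two_le
    rcases Nat.lt_or_ge r 5 with h | h
    · interval_cases r <;> first | omega | (norm_num at hr)
    · exact h
  exact le_trans (card_fixedPts_le hmem hord h5) (by norm_num)

/-- The number of fixed points of an element of order `2` or `3` fixing a point. -/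
theorem card_fixedPts_small {g : Equiv.Perm GolayPt} (hg : g ∈ M24) {r : ℕ} (hr : r = 2 ∨ r = 3)
    (hord : orderOf g = r) {p : GolayPt} (hp : g p = p) :
    (fixedPts g).card = if r = 2 then 8 else 6 := by
  have hne : g ≠ 1 := fun e => by rw [e, orderOf_one] at hord; omega
  have hpow : g ^ r = 1 := hord ▸ pow_orderOf_eq_one g
  have hpos : 0 < (fixedPts g).card := Finset.card_pos.2 ⟨p, mem_fixedPts.2 hp⟩
  rcases hr with rfl | rfl
  · rw [pow_two] at hpow
    rcases ThreeTransp.M24Classes.two_kind hg hpow hne with h | h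
    · exact h.1
    · exact absurd h.1 hpos.ne'
  · rcases ThreeTransp.M24Classes.three_kind hg hpow hne with h | h
    · exact h.1
    · exact absurd h.1 hpos.ne'

variable {K : Subgroup (Equiv.Perm GolayPt)} {p q : GolayPt}

/-- An element of order `5`, `7` or `11` generates its centraliser in a group fixing two points. -/
theorem card_cent (hKM : K ≤ M24) (hpq : p ≠ q) (hK : ∀ k ∈ K, k p = p ∧ k q = q)
    {g : Equiv.Perm GolayPt} (hg : g ∈ K) {ℓ : ℕ} (hℓ : ℓ = 5 ∨ ℓ = 7 ∨ ℓ = 11) (hord : orderOf g = ℓ) :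
    Nat.card ↥(K ⊓ Subgroup.centralizer {g}) = ℓ := by
  classical
  have hprime : ℓ.Prime := by rcases hℓ with rfl | rfl | rfl <;> norm_num
  have hF : Fact ℓ.Prime := ⟨hprime⟩
  set C := K ⊓ Subgroup.centralizer {g}
  have hcomm : ∀ f ∈ C, ∀ z, f (g z) = g (f z) := fun f hf z =>
    Equiv.congr_fun (Subgroup.mem_centralizer_singleton_iff.1 hf.2) z
  obtain ⟨hs4, hsmod⟩ := card_fixedPts_eq (hKM hg) hord (by omega)
  have hFsub : ({p, q} : Finset GolayPt) ⊆ fixedPts g := by
    intro z hz
    simp only [Finset.mem_insert, Finset.mem_singleton] at hz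
    rcases hz with rfl | rfl
    exacts [mem_fixedPts.2 (hK g hg).1, mem_fixedPts.2 (hK g hg).2]
  have hs2 : 2 ≤ (fixedPts g).card := (Finset.card_pair hpq) ▸ Finset.card_le_card hFsub
  -- no elements of order two or three
  have hno : ∀ r, r = 2 ∨ r = 3 → ∀ t ∈ C, orderOf t ≠ r := by
    intro r hr t ht hto
    have : Fact r.Prime := ⟨by rcases hr with rfl | rfl <;> norm_num⟩
    have hf := card_fixedPts_small (hKM ht.1) hr hto (hK t ht.1).1
    set S : Set GolayPt := (fixedPts g : Set GolayPt)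
    have h1 := card_fixedPts_mod hto S fun z hz => by
      simp only [S, Finset.mem_coe, mem_fixedPts] at hz ⊢
      rw [← hcomm t ht, hz]
    have h2 := card_fixedPts_mod hord (fixedPts t : Set GolayPt) fun z hz => by
      simp only [Finset.mem_coe, mem_fixedPts] at hz ⊢
      rw [hcomm t ht, hz]
    have e1 : {z | z ∈ S ∧ t z = z} = ((fixedPts g ∩ fixedPts t : Finset GolayPt) : Set GolayPt) := by
      ext z; simp [S, mem_fixedPts]
    have e2 : {z | z ∈ (fixedPts t : Set GolayPt) ∧ g z = z} =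
        ((fixedPts g ∩ fixedPts t : Finset GolayPt) : Set GolayPt) := by
      ext z; simp [mem_fixedPts, and_comm]
    rw [e1, Set.ncard_coe_finset, Set.ncard_coe_finset] at h1
    rw [e2, Set.ncard_coe_finset, Set.ncard_coe_finset, hf] at h2
    have h3 : 2 ≤ (fixedPts g ∩ fixedPts t).card := by
      rw [← Finset.card_pair hpq]
      refine Finset.card_le_card (Finset.subset_inter hFsub ?_)
      intro z hz
      simp only [Finset.mem_insert, Finset.mem_singleton] at hz
      rcases hz with rfl | rfl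
      exacts [mem_fixedPts.2 (hK t ht.1).1, mem_fixedPts.2 (hK t ht.1).2]
    have h4 : (fixedPts g ∩ fixedPts t).card ≤ (fixedPts g).card := Finset.card_le_card Finset.inter_subset_left
    rcases hr with rfl | rfl <;> rcases hℓ with rfl | rfl | rfl <;> simp at h2 <;> omega
  obtain ⟨a, -, ha⟩ := Finset.exists_mem_notMem_of_card_lt_card (t := Finset.univ) (s := fixedPts g)
    (by rw [Finset.card_univ, card_golayPt]; omega)
  have hga : g a ≠ a := fun e => ha (mem_fixedPts.2 e)
  have hstab : Nat.card (MulAction.stabilizer C a) = 1 := by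
    rw [Subgroup.card_eq_one, Subgroup.eq_bot_iff_forall]
    rintro ⟨f, hf⟩ hfa
    have hfa' : f a = a := hfa
    refine Subtype.ext ?_
    show f = 1
    by_contra hne
    obtain ⟨r, hr, hrd⟩ := Nat.exists_prime_and_dvd (fun e : orderOf f = 1 => hne (orderOf_eq_one_iff.1 e))
    have : Fact r.Prime := ⟨hr⟩
    obtain ⟨k, hk⟩ := hrd
    have hk0 : k ≠ 0 := by
      rintro rfl
      rw [mul_zero] at hk
      exact (orderOf_pos f).ne' hk
    have hord' : orderOf (f ^ k) = r := by
      rw [orderOf_pow' _ hk0, hk, Nat.gcd_mul_left_left, Nat.mul_div_cancel _ (Nat.pos_of_ne_zero hk0)]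
    by_cases h23 : r = 2 ∨ r = 3
    · exact hno r h23 _ (pow_mem hf k) hord'
    have h5 : 5 ≤ r := by
      have := hr.two_le
      rcases Nat.lt_or_ge r 5 with h | h
      · interval_cases r <;> first | omega | (norm_num at hr)
      · exact h
    have hle := card_fixedPts_le (pow_mem (hKM hf.1) k) hord' h5
    have hsub : (MulAction.orbit (Subgroup.zpowers g) a).toFinset ⊆ fixedPts (f ^ k) := by
      intro z hz
      rw [Set.mem_toFinset] at hz
      obtain ⟨⟨w, n, rfl⟩, rfl⟩ := hz
      rw [mem_fixedPts]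
      refine Equiv.Perm.pow_apply_eq_self_of_apply_eq_self ?_ k
      show f ((g ^ n) a) = (g ^ n) a
      have hcm : Commute f g := Subgroup.mem_centralizer_singleton_iff.1 hf.2
      rw [← Equiv.Perm.mul_apply, (hcm.zpow_right n).eq, Equiv.Perm.mul_apply, hfa']
    have := Finset.card_le_card hsub
    rw [← Set.ncard_eq_toFinset_card', card_orbit_of_moved hord hga] at this
    omega
  have hle : Nat.card C + (fixedPts g).card ≤ 24 := by
    have hsub : MulAction.orbit C a ⊆ (((fixedPts g)ᶜ : Finset GolayPt) : Set GolayPt) := by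
      rintro _ ⟨f, rfl⟩
      rw [Finset.coe_compl, Set.mem_compl_iff, Finset.mem_coe, mem_fixedPts]
      intro e
      have e' : (f : Equiv.Perm GolayPt) (g a) = (f : Equiv.Perm GolayPt) a := (hcomm f f.2 a).trans e
      exact hga ((f : Equiv.Perm GolayPt).injective e')
    have h := Set.ncard_le_ncard hsub (Finset.finite_toSet _)
    rw [Set.ncard_coe_finset, Finset.card_compl, card_golayPt, ← MulAction.index_stabilizer] at h
    have h' := (MulAction.stabilizer C a).card_mul_index
    rw [hstab, one_mul] at h'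
    omega
  have hdvd : ℓ ∣ Nat.card C := by
    have h := orderOf_dvd_natCard (⟨g, hg, Subgroup.mem_centralizer_singleton_iff.2 rfl⟩ : C)
    rw [← Subgroup.orderOf_coe] at h
    rwa [hord] at h
  have hnd : ∀ r, r = 2 ∨ r = 3 → ¬ r ∣ Nat.card C := by
    intro r hr hdr
    have : Fact r.Prime := ⟨by rcases hr with rfl | rfl <;> norm_num⟩
    obtain ⟨t, ht⟩ := exists_prime_orderOf_dvd_card' (G := C) r hdr
    exact hno r hr t t.2 (by rw [Subgroup.orderOf_coe, ht])
  have h2 := hnd 2 (Or.inl rfl)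
  have h3 := hnd 3 (Or.inr rfl)
  obtain ⟨k, hk⟩ := hdvd
  have hpos : 0 < Nat.card C := Nat.card_pos
  have hk5 : k ≤ 4 := by
    by_contra h
    have : ℓ * 5 ≤ ℓ * k := Nat.mul_le_mul_left _ (by omega)
    omega
  interval_cases k
  · omega
  · omega
  · exact absurd ⟨ℓ, by omega⟩ h2
  · exact absurd ⟨ℓ, by omega⟩ h3
  · exact absurd ⟨2 * ℓ, by omega⟩ h2

/-- The order of the normaliser of the subgroup generated by such an element. -/
theorem card_norm (hKM : K ≤ M24) (hpq : p ≠ q) (hK : ∀ k ∈ K, k p = p ∧ k q = q)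
    {g : Equiv.Perm GolayPt} (hg : g ∈ K) {ℓ : ℕ} (hℓ : ℓ = 5 ∨ ℓ = 7 ∨ ℓ = 11) (hord : orderOf g = ℓ)
    (hsq : ¬ ℓ * ℓ ∣ Nat.card K) :
    ∃ n, Nat.card ↥(K ⊓ Subgroup.normalizer (Subgroup.zpowers g : Set (Equiv.Perm GolayPt))) = n ∧
      ℓ ∣ n ∧ n ∣ ℓ * (ℓ - 1) ∧ n ∣ Nat.card K ∧ Nat.card K / n % ℓ = 1 := by
  classical
  have hF : Fact ℓ.Prime := ⟨by rcases hℓ with rfl | rfl | rfl <;> norm_num⟩
  set g' : K := ⟨g, hg⟩
  set P := Subgroup.zpowers g'
  have hP : Nat.card P = ℓ := by rw [Nat.card_zpowers, Subgroup.orderOf_mk, hord]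
  set N := Subgroup.normalizer (P : Set K)
  have hmemN : ∀ k : K, k ∈ N ↔ (k : Equiv.Perm GolayPt) ∈ Subgroup.normalizer (Subgroup.zpowers g : Set _) := by
    intro k
    have hz : ∀ z : K, z ∈ P ↔ (z : Equiv.Perm GolayPt) ∈ Subgroup.zpowers g := by
      intro z
      constructor
      · rintro ⟨i, rfl⟩
        exact ⟨i, by simp [g']⟩
      · rintro ⟨i, hi⟩
        exact ⟨i, Subtype.ext (by simpa [g'] using hi)⟩
    have hPm : P.map K.subtype = Subgroup.zpowers g := by rw [MonoidHom.map_zpowers]; rfl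
    rw [Subgroup.mem_normalizer_iff, Subgroup.mem_normalizer_iff]
    refine ⟨fun h z => ⟨fun hz' => ?_, fun hz' => ?_⟩, fun h z => ?_⟩
    · have hzK : z ∈ K := Subgroup.zpowers_le.2 hg hz'
      exact (hz (k * ⟨z, hzK⟩ * k⁻¹)).1 ((h ⟨z, hzK⟩).1 ((hz ⟨z, hzK⟩).2 hz'))
    · have hcK : (k : Equiv.Perm GolayPt) * z * (k : Equiv.Perm GolayPt)⁻¹ ∈ K := Subgroup.zpowers_le.2 hg hz'
      have hzK : z ∈ K := by
        have := K.mul_mem (K.mul_mem (K.inv_mem k.2) hcK) k.2
        simpa [mul_assoc] using this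
      exact (hz ⟨z, hzK⟩).1 ((h ⟨z, hzK⟩).2 ((hz (k * ⟨z, hzK⟩ * k⁻¹)).2 hz'))
    · rw [hz, hz]; exact h z
  have hNcard : Nat.card ↥(K ⊓ Subgroup.normalizer (Subgroup.zpowers g : Set _)) = Nat.card N :=
    Nat.card_congr ⟨fun k => ⟨⟨k.1, k.2.1⟩, (hmemN _).2 k.2.2⟩, fun k => ⟨k.1.1, k.1.2, (hmemN _).1 k.2⟩,
      fun _ => rfl, fun _ => rfl⟩
  refine ⟨_, rfl, ?_, ?_, Subgroup.card_dvd_of_le inf_le_left, ?_⟩
  · rw [hNcard, ← hP]
    exact Subgroup.card_dvd_of_le Subgroup.le_normalizer
  · have hC : Nat.card (Subgroup.centralizer (P : Set K)) = ℓ := by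
      rw [← card_cent hKM hpq hK hg hℓ hord]
      refine Nat.card_congr ⟨fun k => ⟨k.1.1, k.1.2, Subgroup.mem_centralizer_singleton_iff.2
        (congrArg Subtype.val (Subgroup.mem_centralizer_iff.1 k.2 g' (Subgroup.mem_zpowers g')).symm)⟩,
        fun k => ⟨⟨k.1, k.2.1⟩, Subgroup.mem_centralizer_iff.2 ?_⟩, fun _ => rfl, fun _ => rfl⟩
      rintro _ ⟨i, rfl⟩
      exact Subtype.ext (((show Commute k.1 g from Subgroup.mem_centralizer_singleton_iff.1 k.2.2).zpow_right i).symm.eq)
    set ψ := P.normalizerMonoidHom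
    have h := Subgroup.card_subgroup_dvd_card ψ.range
    rw [IsCyclic.card_mulAut, hP, Nat.totient_prime hF.out] at h
    rw [hNcard, ← ψ.ker.card_mul_index, Subgroup.index_ker]
    refine Nat.mul_dvd_mul (dvd_of_eq ?_) h
    rw [Subgroup.normalizerMonoidHom_ker, ← hC]
    exact Nat.card_congr (Subgroup.subgroupOfEquivOfLe (Subgroup.centralizer_le_normalizer _)).toEquiv
  · let R : Sylow ℓ K := (IsPGroup.of_card (n := 1) (by rw [hP, pow_one]) : IsPGroup ℓ P).toSylow (by
      intro hd
      refine hsq ?_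
      rw [← P.card_mul_index, hP]
      exact Nat.mul_dvd_mul_left ℓ hd)
    have hmod := card_sylow_modEq_one ℓ K
    rw [Sylow.card_eq_index_normalizer R] at hmod
    have hone : 1 % ℓ = 1 := Nat.mod_eq_of_lt hF.out.one_lt
    rw [hNcard, ← N.card_mul_index, Nat.mul_div_cancel_left _ Nat.card_pos]
    change N.index % ℓ = 1 % ℓ at hmod
    rwa [hone] at hmod

end CfsgLib.Sporadic.MathieuLocalCounts
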