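import Mathlib

/-!
# Tables for the multipliers of `M23` and `M24`

Permutations of the twenty-four positions, computed in the stabiliser of an octad and of a sextet.
-/

set_option autoImplicit false

namespace CfsgLib.Sporadic.MathieuMultiplierData

/-- The base involution. -/
def tT : List ℕ := [0,2,1,5,13,3,10,15,11,21,6,8,12,4,14,7,16,17,18,20,19,9,22,23]

/-- The involutions fixing the octad pointwise, each with a conjugating table. -/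
def invs : List (List ℕ × List ℕ) := [
  ([0,2,1,5,13,3,10,15,11,21,6,8,12,4,14,7,16,17,18,20,19,9,22,23],
    [0,1,2,3,4,5,6,7,8,9,10,11,12,13,14,15,16,17,18,19,20,21,22,23]),
  ([0,3,5,1,8,2,19,9,4,7,20,13,12,11,14,21,16,17,18,6,10,15,22,23],
    [14,1,3,2,4,5,15,19,13,20,21,11,22,8,0,6,16,17,18,7,9,10,12,23]),
  ([0,4,13,8,1,11,9,19,3,6,21,5,12,2,14,20,16,17,18,7,15,10,22,23],
    [16,1,4,3,2,8,15,9,5,7,20,11,17,13,14,6,0,12,18,21,10,19,22,23]),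
  ([0,5,3,2,11,1,20,21,13,15,19,4,12,8,14,9,16,17,18,10,6,7,22,23],
    [14,1,5,3,7,2,6,4,9,8,20,15,18,21,0,11,16,17,12,19,10,13,22,23]),
  ([0,6,10,19,9,20,1,8,7,4,2,15,12,21,14,11,16,17,18,3,5,13,22,23],
    [17,1,6,4,3,9,2,11,8,5,10,7,14,19,12,15,16,0,18,13,21,20,22,23]),
  ([0,7,15,9,19,21,8,1,6,3,11,10,12,20,14,2,16,17,18,4,13,5,22,23],
    [14,1,7,20,21,13,11,2,8,19,10,6,17,5,0,15,16,12,18,9,3,4,22,23]),
  ([0,8,11,4,3,13,7,6,1,19,15,2,12,5,14,10,16,17,18,9,21,20,22,23],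
    [18,1,8,6,15,7,19,21,11,13,9,2,0,10,14,20,16,17,12,3,4,5,22,23]),
  ([0,9,21,7,6,15,4,3,19,1,13,20,12,10,14,5,16,17,18,8,11,2,22,23],
    [12,1,9,6,11,4,19,13,15,21,8,5,14,20,0,10,16,17,18,3,7,2,22,23]),
  ([0,10,6,20,21,19,2,11,15,13,1,7,12,9,14,8,16,17,18,5,3,4,22,23],
    [18,1,10,3,8,20,6,9,4,7,2,21,14,15,12,13,16,17,0,19,5,11,22,23]),
  ([0,11,8,13,5,4,15,10,2,20,7,1,12,3,14,6,16,17,18,21,9,19,22,23],
    [12,1,11,19,20,21,3,5,2,10,13,8,18,9,14,4,16,17,0,6,15,7,22,23]),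
  ([0,13,4,11,2,8,21,20,5,10,9,3,12,1,14,19,16,17,18,15,7,6,22,23],
    [22,1,13,8,4,5,20,10,3,15,7,11,14,2,12,9,16,17,18,21,6,19,0,23]),
  ([0,15,7,21,20,9,11,2,10,5,8,6,12,19,14,1,16,17,18,13,4,3,22,23],
    [18,1,15,9,10,5,20,7,13,3,4,19,17,8,14,2,16,12,0,11,6,21,22,23]),
  ([0,19,20,6,7,10,3,4,9,8,5,21,12,15,14,13,16,17,18,1,2,11,22,23],
    [12,1,19,21,5,11,8,6,7,13,9,4,22,10,14,3,16,17,18,20,2,15,0,23]),
  ([0,20,19,10,15,6,5,13,21,11,3,9,12,7,14,4,16,17,18,2,1,8,22,23],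
    [12,1,20,13,9,7,4,21,10,6,15,3,17,11,14,8,16,0,18,2,19,5,22,23]),
  ([0,21,9,15,10,7,13,5,20,2,4,19,12,6,14,3,16,17,18,11,8,1,22,23],
    [12,1,21,11,15,19,7,8,6,2,5,13,16,3,14,20,0,17,18,10,4,9,22,23])]

/-- An element of order four inducing `(0 1 2 3)(4 5)` on the octad. -/
def aT : List ℕ := [12,1,21,6,15,13,5,4,11,9,7,19,14,3,16,10,0,18,17,20,8,2,22,23]

/-- An involution inducing `(1 3)(4 5)`. -/
def bT : List ℕ := [0,1,21,4,3,10,7,6,8,9,5,20,16,15,14,13,12,18,17,19,11,2,22,23]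

/-- Conjugates the base involution to `bT`. -/
def gbT : List ℕ := [22,2,21,20,12,11,5,3,17,7,10,18,9,16,14,4,8,0,1,13,15,6,19,23]

/-- Conjugates the base involution to `bT * aT`. -/
def gbaT : List ℕ := [22,10,6,14,4,12,15,20,0,7,5,16,21,13,1,8,18,2,9,11,19,3,17,23]

/-- Conjugates the base involution to `aT * aT`. -/
def gaaT : List ℕ := [2,13,6,5,0,3,16,15,11,4,12,20,1,14,21,7,9,22,17,19,8,10,18,23]

/-- Elements inducing `(0 1 i)` and a disjoint three-cycle on 7 points. -/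
def gens7 : List (Fin 7 × List ℕ × List ℕ) := [
  (2, [12,1,9,6,11,4,19,13,15,21,8,5,14,20,0,10,16,17,18,3,7,2,22,23],
    [0,1,10,21,11,4,2,20,19,8,6,5,12,7,14,3,17,18,16,9,13,15,22,23]),
  (3, [12,1,21,11,15,19,7,8,6,2,5,13,16,3,14,20,0,17,18,10,4,9,22,23],
    [0,1,21,4,8,10,11,13,3,2,19,15,12,20,14,6,16,18,22,5,7,9,17,23]),
  (4, [12,1,20,13,9,7,4,21,10,6,15,3,17,11,14,8,16,0,18,2,19,5,22,23],
    [0,1,3,5,9,2,4,20,15,6,8,21,12,7,14,10,18,17,22,11,13,19,16,23]),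
  (5, [12,1,11,19,20,21,3,5,2,10,13,8,18,9,14,4,16,17,0,6,15,7,22,23],
    [0,1,8,19,21,9,3,13,11,15,4,2,12,20,14,5,17,22,18,6,7,10,16,23]),
  (6, [12,1,19,21,5,11,8,6,7,13,9,4,22,10,14,3,16,17,18,20,2,15,0,23],
    [0,1,10,21,11,4,2,20,19,8,6,5,12,7,14,3,17,18,16,9,13,15,22,23])]

/-- Elements inducing `(0 1 i)` and a disjoint three-cycle on 8 points. -/
def gens8 : List (Fin 8 × List ℕ × List ℕ) := [
  (2, [12,1,9,6,11,4,19,13,15,21,8,5,14,20,0,10,16,17,18,3,7,2,22,23],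
    [0,1,10,21,11,4,2,20,19,8,6,5,12,7,14,3,17,18,16,9,13,15,22,23]),
  (3, [12,1,21,11,15,19,7,8,6,2,5,13,16,3,14,20,0,17,18,10,4,9,22,23],
    [0,1,21,4,8,10,11,13,3,2,19,15,12,20,14,6,16,18,22,5,7,9,17,23]),
  (4, [12,1,20,13,9,7,4,21,10,6,15,3,17,11,14,8,16,0,18,2,19,5,22,23],
    [0,1,3,5,9,2,4,20,15,6,8,21,12,7,14,10,18,17,22,11,13,19,16,23]),
  (5, [12,1,11,19,20,21,3,5,2,10,13,8,18,9,14,4,16,17,0,6,15,7,22,23],
    [0,1,8,19,21,9,3,13,11,15,4,2,12,20,14,5,17,22,18,6,7,10,16,23]),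
  (6, [12,1,19,21,5,11,8,6,7,13,9,4,22,10,14,3,16,17,18,20,2,15,0,23],
    [0,1,10,21,11,4,2,20,19,8,6,5,12,7,14,3,17,18,16,9,13,15,22,23]),
  (7, [12,1,8,15,6,10,9,20,11,4,19,2,23,7,14,21,16,17,18,5,13,3,22,0],
    [0,1,10,21,11,4,2,20,19,8,6,5,12,7,14,3,17,18,16,9,13,15,22,23])]

/-- Part of the order-nine configuration in `M23`. -/
def nineA : List ℕ := [0,1,2,16,12,22,7,21,3,20,9,5,14,18,4,15,8,13,17,19,10,6,11,23]

/-- Part of the order-nine configuration in `M23`. -/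
def nineB : List ℕ := [2,0,1,3,22,17,21,6,8,20,9,18,11,4,5,15,16,14,12,19,10,7,13,23]

/-- Part of the order-nine configuration in `M23`. -/
def nineG : List ℕ := [0,1,2,3,12,5,9,10,16,6,7,22,4,18,14,19,8,17,13,15,21,20,11,23]

/-- Part of the order-twenty-seven configuration in `M24`. -/
def extA : List ℕ := [0,1,2,11,5,8,19,7,4,10,20,13,16,3,18,15,17,12,22,21,9,6,14,23]

/-- Part of the order-twenty-seven configuration in `M24`. -/
def extB : List ℕ := [6,21,19,17,16,3,10,15,8,2,0,11,12,4,14,23,13,5,18,9,1,20,22,7]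

/-- Part of the order-twenty-seven configuration in `M24`. -/
def extG : List ℕ := [2,1,0,3,16,17,9,15,12,6,19,11,8,13,14,7,4,5,18,10,21,20,22,23]

/-- Part of the order-twenty-seven configuration in `M24`. -/
def extH : List ℕ := [0,2,1,4,3,13,6,7,11,20,10,8,12,5,22,15,17,16,18,21,9,19,14,23]

/-- The subgroup generated by `extA` and `extB`, breadth first. -/
def extElts : List (List ℕ) := [
  [0,1,2,3,4,5,6,7,8,9,10,11,12,13,14,15,16,17,18,19,20,21,22,23],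
  [0,1,2,11,5,8,19,7,4,10,20,13,16,3,18,15,17,12,22,21,9,6,14,23],
  [6,21,19,17,16,3,10,15,8,2,0,11,12,4,14,23,13,5,18,9,1,20,22,7],
  [0,1,2,13,8,4,21,7,5,20,9,3,17,11,22,15,12,16,14,6,10,19,18,23],
  [19,6,21,12,17,11,20,15,4,2,0,13,16,5,18,23,3,8,22,10,1,9,14,7],
  [6,21,19,11,3,8,9,15,16,0,1,4,13,17,18,23,5,12,22,20,2,10,14,7],
  [10,20,9,5,13,17,0,23,8,19,6,11,12,16,14,7,4,3,18,2,21,1,22,15],
  [21,19,6,16,12,13,9,15,5,2,0,3,17,8,22,23,11,4,14,20,1,10,18,7],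
  [19,6,21,13,11,4,10,15,17,0,1,5,3,12,22,23,8,16,14,9,2,20,18,7],
  [20,9,10,8,3,12,0,23,4,21,19,13,16,17,18,7,5,11,22,2,6,1,14,15],
  [6,21,19,4,8,16,20,15,3,1,2,17,5,11,22,23,12,13,14,10,0,9,18,7],
  [9,10,20,12,5,11,1,23,16,19,6,4,13,3,18,7,17,8,22,0,21,2,14,15],
  [10,20,9,11,17,8,2,23,13,6,21,16,4,5,18,7,3,12,22,1,19,0,14,15],
  [21,19,6,3,13,5,20,15,12,0,1,8,11,16,14,23,4,17,18,10,2,9,22,7],
  [9,10,20,4,11,16,0,23,5,6,21,3,17,12,22,7,8,13,14,2,19,1,18,15],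
  [19,6,21,5,4,17,9,15,11,1,2,12,8,13,14,23,16,3,18,20,0,10,22,7],
  [10,20,9,16,8,13,1,23,17,21,19,5,3,11,22,7,12,4,14,0,6,2,18,15],
  [20,9,10,13,12,4,2,23,3,19,6,17,5,8,22,7,11,16,14,1,21,0,18,15],
  [1,2,0,8,17,12,6,7,16,20,9,4,13,5,18,15,3,11,22,19,10,21,14,23],
  [2,0,1,12,3,11,21,7,13,9,10,16,4,17,18,15,5,8,22,6,20,19,14,23],
  [21,19,6,8,5,12,10,15,13,1,2,16,4,3,18,23,17,11,22,9,0,20,14,7],
  [20,9,10,17,4,3,1,23,12,6,21,8,11,13,14,7,16,5,18,0,19,2,22,15],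
  [9,10,20,3,16,5,2,23,11,21,19,12,8,4,14,7,13,17,18,1,6,0,22,15],
  [1,2,0,4,12,16,19,7,17,9,10,5,3,8,22,15,11,13,14,21,20,6,18,23],
  [2,0,1,16,11,13,6,7,3,10,20,17,5,12,22,15,8,4,14,19,9,21,18,23],
  [1,2,0,5,16,17,21,7,12,10,20,8,11,4,14,15,13,3,18,6,9,19,22,23],
  [2,0,1,17,13,3,19,7,11,20,9,12,8,16,14,15,4,5,18,21,10,6,22,23]]

/-- Each element's predecessor and whether the second generator was appended. -/
def extParents : List (ℕ × Bool) := [(0, false), (0, false), (0, true), (1, false), (1, true), (2, false), (2, true), (3, true), (4, false), (4, true), (5, false), (5, true), (6, false), (7, false), (7, true), (8, false), (8, true), (9, false), (11, true), (12, true), (13, false), (13, true), (14, false), (16, true), (17, true), (21, true), (22, true)]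

end CfsgLib.Sporadic.MathieuMultiplierData
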