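import Cfsg.Prelude.Def_Spor_Mathieu
import Cfsg.Agent.Lib.Schur.OctadLift
import Cfsg.Agent.Lib.Sporadic.OctadStabilizer
import Cfsg.Agent.Lib.Sporadic.MathieuMultiplierData

/-!
# The multipliers of `M23` and `M24`

The two-part is killed inside the split octad stabiliser, the three-part inside a Sylow subgroup,
the other primes by cyclic Sylow subgroups.
-/

set_option autoImplicit false

namespace CfsgLib.Sporadic.MathieuMultiplier

open Cfsg Subgroup Equiv CfsgLib.SmallGroups.Golay CfsgLib.SmallGroups.GolayOctads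
  CfsgLib.SmallGroups.M24Group CfsgLib.SmallGroups.MathieuSets CfsgLib.Schur
  CfsgLib.Sporadic.MathieuMultiplierData
open scoped commutatorElement Pointwise

universe u

/-! ### Permutations from tables -/

/-- The map of a table. -/
def tfun (l : List ℕ) (q : GolayPt) : GolayPt := pt (l.getD (idx q) 0)

/-- The inverse table. -/
def invTbl (l : List ℕ) : List ℕ := (List.range 24).map fun i => l.idxOf i

/-- The table is a permutation preserving the code. -/
def IsTbl (l : List ℕ) : Prop :=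
  (∀ q, tfun (invTbl l) (tfun l q) = q ∧ tfun l (tfun (invTbl l) q) = q) ∧
    ∀ i < 12, isCW (mask fun q => word (bas i) (tfun l q)) = true

instance (l : List ℕ) : Decidable (IsTbl l) :=
  inferInstanceAs (Decidable ((_ : Prop) ∧ _))

/-- The permutation of a table. -/
def tperm (l : List ℕ) (h : IsTbl l) : Perm GolayPt :=
  ⟨tfun l, tfun (invTbl l), fun q => (h.1 q).1, fun q => (h.1 q).2⟩

theorem tperm_apply (l : List ℕ) (h : IsTbl l) (q : GolayPt) : tperm l h q = tfun l q := rfl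

theorem tperm_mem (l : List ℕ) (h : IsTbl l) : tperm l h ∈ M24 :=
  mem_M24_of_basis (f := tfun l) (fun _ => rfl) h.2

/-- An element of a group between `M23` and `M24` with the given table. -/
theorem exists_el {M : Subgroup (Perm GolayPt)} (hge : ∀ g ∈ M24, g none = none → g ∈ M)
    {l : List ℕ} (h : IsTbl l) (h0 : tfun l none = none) :
    ∃ s : M, ∀ q, (s : Perm GolayPt) q = tfun l q :=
  ⟨⟨tperm l h, hge _ (tperm_mem l h) h0⟩, fun _ => rfl⟩

theorem eq_conj {g t v : Perm GolayPt} (h : ∀ q, g (t q) = v (g q)) : v = g * t * g⁻¹ :=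
  eq_mul_inv_iff_mul_eq.2 (Equiv.ext fun q => (h q).symm)

/-! ### The octad and its pointwise stabiliser -/

/-- The octad. -/
def oct : Finset GolayPt := toSet octB

theorem none_mem_oct : none ∈ oct := by decide +kernel

theorem invs_ok : ∀ e ∈ invs, (IsTbl e.1 ∧ (∀ q ∈ oct, tfun e.1 q = q) ∧ ∃ q, tfun e.1 q ≠ q) ∧
    IsTbl e.2 ∧ tfun e.2 none = none ∧ ∀ q, tfun e.2 (tfun tT q) = tfun e.1 (tfun e.2 q) := by
  decide +kernel

theorem invs_length : invs.length = 15 := by decide +kernel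

theorem invs_ne : ∀ i < 15, ∀ j < 15, i ≠ j →
    ∃ q, tfun (invs.getD i ([], [])).1 q ≠ tfun (invs.getD j ([], [])).1 q := by
  decide +kernel

theorem exists_inv {v : Perm GolayPt} (hv : v ∈ ptStab oct) (h1 : v ≠ 1) :
    ∃ e ∈ invs, ∀ q, v q = tfun e.1 q := by
  have hm : ∀ i : Fin 15, invs[i.1]'(by rw [invs_length]; exact i.2) ∈ invs := fun i => List.getElem_mem _
  let f : Option (Fin 15) → ptStab oct := fun o => o.elim 1 fun i =>
    ⟨tperm _ (invs_ok _ (hm i)).1.1,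
      mem_ptStab.2 ⟨tperm_mem _ _, fun q hq => (invs_ok _ (hm i)).1.2.1 q hq⟩⟩
  have hne : ∀ i, f (some i) ≠ 1 := fun i he => by
    obtain ⟨q, hq⟩ := (invs_ok _ (hm i)).1.2.2
    exact hq (congrArg (fun g : ptStab oct => (g : Perm GolayPt) q) he)
  have hinj : Function.Injective f := by
    rintro (_ | i) (_ | j) he
    · rfl
    · exact absurd he.symm (hne j)
    · exact absurd he (hne i)
    · by_contra hij
      obtain ⟨q, hq⟩ := invs_ne i i.2 j j.2 (fun h => hij (by rw [Fin.ext h]))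
      refine hq ?_
      rw [List.getD_eq_getElem _ _ (by rw [invs_length]; exact i.2), List.getD_eq_getElem _ _ (by rw [invs_length]; exact j.2)]
      exact congrArg (fun g : ptStab oct => (g : Perm GolayPt) q) he
  have hbij : Function.Bijective f := (Nat.bijective_iff_injective_and_card f).2 ⟨hinj, by
    rw [show Nat.card (ptStab oct) = 16 from (ptStab_octad octB_mem).1,
      Nat.card_eq_fintype_card]
    simp⟩
  obtain ⟨o, ho⟩ := hbij.2 ⟨v, hv⟩
  rcases o with _ | i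
  · exact absurd (congrArg Subtype.val ho).symm h1
  · exact ⟨_, hm i, fun q => by rw [← show (f (some i) : Perm GolayPt) = v from congrArg Subtype.val ho]; rfl⟩

section Squares

theorem t_facts : IsTbl tT ∧ tfun tT none = none ∧ ∀ q, tfun tT (tfun tT q) = q := by
  decide +kernel

theorem three_invs : ∃ a b c : Fin 15,
    (∃ q, tfun (invs.getD a ([], [])).1 q ≠ tfun (invs.getD b ([], [])).1 q) ∧
    (∃ q, tfun (invs.getD a ([], [])).1 q ≠ tfun (invs.getD c ([], [])).1 q) ∧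
    (∃ q, tfun (invs.getD b ([], [])).1 q ≠ tfun (invs.getD c ([], [])).1 q) ∧
    ∃ q, tfun (invs.getD a ([], [])).1 q ≠
      tfun (invs.getD b ([], [])).1 (tfun (invs.getD c ([], [])).1 q) := by
  decide +kernel

variable {M : Subgroup (Perm GolayPt)} (hge : ∀ g ∈ M24, g none = none → g ∈ M)
include hge

/-- Lifts of the pointwise stabiliser and of the conjugates of the base involution square to one. -/
theorem squares {X : Type u} [Group X] [Finite X] (ξ : X →* M) (hs : Function.Surjective ξ)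
    (hk : ξ.ker ≤ center X) (h2 : ∀ k : X, ξ k = 1 → k * k = 1) :
    (∀ x, ξ x ∈ (ptStab oct).subgroupOf M → x * x = 1) ∧
      ∀ (x : X) (l : List ℕ), IsTbl l → tfun l none = none →
        (∀ q, tfun l (tfun tT q) = (ξ x : Perm GolayPt) (tfun l q)) → x * x = 1 := by
  have hcast : ∀ {q : Perm GolayPt}, q ∈ ptStab oct → q ∈ M := fun {q} hq =>
    hge _ (mem_ptStab.1 hq).1 ((mem_ptStab.1 hq).2 none none_mem_oct)
  obtain ⟨t, ht⟩ := exists_el hge t_facts.1 t_facts.2.1
  obtain ⟨T, hT⟩ := hs t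
  have htt : ξ (T * T) = 1 := by
    rw [map_mul, hT]
    refine Subtype.ext (Equiv.ext fun q => ?_)
    show (t : Perm GolayPt) ((t : Perm GolayPt) q) = q
    rw [ht, ht, t_facts.2.2]
  have hconjl : ∀ (s : M) (l : List ℕ), IsTbl l → tfun l none = none →
      (∀ q, tfun l (tfun tT q) = (s : Perm GolayPt) (tfun l q)) → ∃ g : M, s = g * ξ T * g⁻¹ := by
    intro s l hl hl0 he
    obtain ⟨g, hg⟩ := exists_el hge hl hl0
    refine ⟨g, Subtype.ext (eq_conj fun q => ?_)⟩
    rw [hT, ht, hg, hg]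
    exact he q
  have hconj : ∀ v ∈ (ptStab oct).subgroupOf M, v ≠ 1 → ∃ g : M, v = g * ξ T * g⁻¹ := by
    intro v hv hv1
    obtain ⟨e, he, hve⟩ := exists_inv (mem_subgroupOf.1 hv) (fun h => hv1 (Subtype.ext h))
    obtain ⟨-, h1, h0, h⟩ := invs_ok e he
    exact hconjl v e.2 h1 h0 fun q => by rw [hve]; exact h q
  have hV : ∀ v ∈ (ptStab oct).subgroupOf M, v * v = 1 := fun v hv =>
    Subtype.ext ((ptStab_octad octB_mem).2 v (mem_subgroupOf.1 hv))
  have hel : ∀ i : Fin 15, ∃ v : M, v ∈ (ptStab oct).subgroupOf M ∧ v ≠ 1 ∧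
      ∀ q, (v : Perm GolayPt) q = tfun (invs.getD i ([], [])).1 q := fun i => by
    have hi : (i : ℕ) < invs.length := by rw [invs_length]; exact i.2
    rw [List.getD_eq_getElem _ _ hi]
    obtain ⟨⟨h1, h2', h3⟩, -⟩ := invs_ok _ (List.getElem_mem hi)
    have hmem : tperm _ h1 ∈ ptStab oct := mem_ptStab.2 ⟨tperm_mem _ _, h2'⟩
    refine ⟨⟨_, hcast hmem⟩, mem_subgroupOf.2 hmem, fun he => ?_, fun q => rfl⟩
    obtain ⟨q, hq⟩ := h3
    exact hq (congrArg (fun g : M => (g : Perm GolayPt) q) he)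
  have hT2 : T * T = 1 := by
    obtain ⟨i, j, k, ⟨q₁, h₁⟩, ⟨q₂, h₂⟩, ⟨q₃, h₃⟩, ⟨q₄, h₄⟩⟩ := three_invs
    obtain ⟨a, ha, ha1, ea⟩ := hel i
    obtain ⟨b, hb, hb1, eb⟩ := hel j
    obtain ⟨c, hc, hc1, ec⟩ := hel k
    refine OctadLift.sq_eq_one_of_class ξ hk h2 hs _ T hV hconj htt ha hb hc ha1 hb1 hc1 ?_ ?_ ?_ ?_
    · intro e; exact h₁ (by rw [← ea, ← eb, e])
    · intro e; exact h₂ (by rw [← ea, ← ec, e])
    · intro e; exact h₃ (by rw [← eb, ← ec, e])
    · intro e
      refine h₄ ?_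
      rw [← ea, ← ec, ← eb, e]
      rfl
  refine ⟨fun x hx => ?_, fun x l hl hl0 he => ?_⟩
  · by_cases h1 : ξ x = 1
    · exact h2 x h1
    · obtain ⟨g, hg⟩ := hconj _ hx h1
      rw [OctadLift.sq_eq_of_conj ξ hk h2 hs htt hg, hT2]
  · obtain ⟨g, hg⟩ := hconjl (ξ x) l hl hl0 he
    rw [OctadLift.sq_eq_of_conj ξ hk h2 hs htt hg, hT2]

end Squares

/-! ### The complement -/

/-- The cycle `(0 1 i)`. -/
def cyc {n : ℕ} [NeZero n] (i : Fin n) : Perm (Fin n) := swap 0 1 * swap 1 i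

/-- The word in the `cyc` for `(0 i j)`. -/
def cycWord₀ {n : ℕ} [NeZero n] (i j : Fin n) : Perm (Fin n) :=
  if i = 1 then cyc j else if j = 1 then (cyc i)⁻¹ else cyc j * (cyc i)⁻¹

/-- The word in the `cyc` for `(i j k)`. -/
def cycWord {n : ℕ} [NeZero n] (i j k : Fin n) : Perm (Fin n) :=
  if i = 0 then cycWord₀ j k else if j = 0 then cycWord₀ k i else if k = 0 then cycWord₀ i j
  else cycWord₀ i j * cycWord₀ j k

theorem alternating_le {n : ℕ} [NeZero n] (H : Subgroup (Perm (Fin n)))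
    (hH : ∀ i : Fin n, i ≠ 0 → i ≠ 1 → cyc i ∈ H)
    (hword : ∀ i j k : Fin n, i ≠ j → j ≠ k → i ≠ k → swap i j * swap j k = cycWord i j k) :
    alternatingGroup (Fin n) ≤ H := by
  have h0 : ∀ i j : Fin n, i ≠ 0 → j ≠ 0 → i ≠ j → cycWord₀ i j ∈ H := fun i j hi hj hij => by
    unfold cycWord₀
    split_ifs with h1 h2
    · exact hH j hj fun h => hij (h1.trans h.symm)
    · exact H.inv_mem (hH i hi h1)
    · exact H.mul_mem (hH j hj h2) (H.inv_mem (hH i hi h1))
  rw [← Perm.closure_three_cycles_eq_alternating, closure_le]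
  intro σ hσ
  obtain ⟨i, hi⟩ := hσ.isCycle.nonempty_support
  have hn := hσ.nodup_iff_mem_support.2 hi
  simp only [List.nodup_cons, List.mem_cons, List.not_mem_nil, or_false, not_or,
    List.nodup_nil, and_true, not_false_eq_true] at hn
  rw [SetLike.mem_coe, hσ.eq_swap_mul_swap_iff_mem_support.2 hi,
    hword i (σ i) (σ (σ i)) hn.1.1 hn.2 hn.1.2]
  unfold cycWord
  split_ifs with h1 h2 h3
  · exact h0 _ _ (fun h => hn.1.1 (h1.trans h.symm)) (fun h => hn.1.2 (h1.trans h.symm)) hn.2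
  · exact h0 _ _ (fun h => hn.2 (h2.trans h.symm)) h1 (Ne.symm hn.1.2)
  · exact h0 _ _ h1 h2 hn.1.1
  · exact H.mul_mem (h0 _ _ h1 h2 hn.1.1) (h0 _ _ h2 h3 hn.2)

/-- A table in the complement without fixed points on the pointwise stabiliser. -/
def Good (l : List ℕ) : Prop :=
  IsTbl l ∧ (∀ q ∈ oct, tfun l q ∈ oct) ∧ tfun l (bpt 6) = bpt 6 ∧
    ∀ e ∈ invs, ∃ q, tfun l (tfun e.1 q) ≠ tfun e.1 (tfun l q)

instance (l : List ℕ) : Decidable (Good l) :=
  inferInstanceAs (Decidable (_ ∧ _ ∧ _ ∧ _))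

section Complement

variable {M : Subgroup (Perm GolayPt)}

theorem smul_oct {g : Perm GolayPt} (h : ∀ q ∈ oct, g q ∈ oct) : g • oct = oct := by
  refine Finset.eq_of_subset_of_card_le (fun x hx => ?_) (le_of_eq (Finset.card_smul_finset g oct).symm)
  obtain ⟨y, hy, rfl⟩ := Finset.mem_smul_finset.1 hx
  exact h y hy

theorem fpf_of_good (hle : M ≤ M24) {s : M} {l : List ℕ} (hl : Good l)
    (hs : ∀ q, (s : Perm GolayPt) q = tfun l q) :
    OctadLift.Fpf ((ptStab oct).subgroupOf M) s := by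
  have ho : (s : Perm GolayPt) • oct = oct := smul_oct fun q hq => by rw [hs]; exact hl.2.1 q hq
  refine ⟨fun v hv => ?_, fun v hv hfix => ?_⟩
  · rw [mem_subgroupOf, mem_ptStab] at hv ⊢
    refine ⟨hle (s * v * s⁻¹).2, fun q hq => ?_⟩
    have hq' : (s : Perm GolayPt)⁻¹ q ∈ oct := by
      rw [← Perm.smul_def, Finset.inv_smul_mem_iff, ho]; exact hq
    show (s : Perm GolayPt) ((v : Perm GolayPt) ((s : Perm GolayPt)⁻¹ q)) = q
    rw [hv.2 _ hq']
    simp
  · by_contra h1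
    obtain ⟨e, he, hve⟩ := exists_inv (mem_subgroupOf.1 hv) (fun h => h1 (Subtype.ext h))
    obtain ⟨q, hq⟩ := hl.2.2.2 e he
    refine hq ?_
    have := congrArg (fun g : M => (g : Perm GolayPt) q) (mul_inv_eq_iff_eq_mul.1 hfix)
    simp only [Subgroup.coe_mul, Perm.mul_apply] at this
    rw [← hs, ← hve, this, hve, hs]

variable {n : ℕ} (e : Fin n → GolayPt)

/-- The elements permuting the chosen points of the octad and fixing the outside point. -/
def pointsStab (M : Subgroup (Perm GolayPt)) : Subgroup M where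
  carrier := {x | (x : Perm GolayPt) (bpt 6) = bpt 6 ∧
    ∃ σ : Perm (Fin n), ∀ m, (x : Perm GolayPt) (e m) = e (σ m)}
  one_mem' := ⟨rfl, 1, fun _ => rfl⟩
  mul_mem' := by
    rintro x y ⟨hx, σ, hσ⟩ ⟨hy, τ, hτ⟩
    refine ⟨?_, σ * τ, fun m => ?_⟩
    · rw [Subgroup.coe_mul, Perm.mul_apply, hy, hx]
    · rw [Subgroup.coe_mul, Perm.mul_apply, hτ, hσ]; rfl
  inv_mem' := by
    rintro x ⟨hx, σ, hσ⟩
    refine ⟨?_, σ⁻¹, fun m => ?_⟩
    · rw [Subgroup.coe_inv, Perm.inv_eq_iff_eq, hx]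
    · rw [Subgroup.coe_inv, Perm.inv_eq_iff_eq, hσ]; simp

variable {e} (he : Function.Injective e)

/-- The induced permutation of the chosen points. -/
noncomputable def act : pointsStab e M →* Perm (Fin n) where
  toFun x := x.2.2.choose
  map_one' := Equiv.ext fun m => he ((pointsStab e M).one_mem.2.choose_spec m).symm
  map_mul' x y := Equiv.ext fun m => he (by
    rw [← (x * y).2.2.choose_spec m, Perm.mul_apply, ← x.2.2.choose_spec, ← y.2.2.choose_spec]
    rfl)

theorem act_spec (x : pointsStab e M) (m : Fin n) :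
    ((x : M) : Perm GolayPt) (e m) = e (act he x m) := x.2.2.choose_spec m

theorem act_eq (x : pointsStab e M) (σ : Perm (Fin n))
    (h : ∀ m, ((x : M) : Perm GolayPt) (e m) = e (σ m)) : act he x = σ :=
  Equiv.ext fun m => he (by rw [← act_spec he x m, h])

variable [NeZero n]

include he in
/-- The two-part of the argument: a complement isomorphic to an alternating group catches the
kernel commutators. -/
theorem catch_complement (hle : M ≤ M24) (hge : ∀ g ∈ M24, g none = none → g ∈ M)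
    (hfix : ∀ x : M, (∀ m, (x : Perm GolayPt) (e m) = e m) →
      (x : Perm GolayPt) (bpt 6) = bpt 6 → x = 1)
    (he_mem : ∀ m, e m ∈ oct)
    (gens : List (Fin n × List ℕ × List ℕ)) (c₀ : List ℕ) (hc₀ : Good c₀)
    (hc₀' : ∃ s : M, ∀ q, (s : Perm GolayPt) q = tfun c₀ q)
    (hok : ∀ d ∈ gens, Good d.2.1 ∧ Good d.2.2 ∧ (∀ m, tfun d.2.1 (e m) = e (cyc d.1 m)) ∧
      (∀ q, tfun c₀ (tfun d.2.2 q) = tfun d.2.2 (tfun c₀ q)) ∧
      ∀ q, tfun d.2.2 (tfun d.2.1 q) = tfun d.2.1 (tfun d.2.2 q))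
    (hin : ∀ d ∈ gens, (∃ s : M, ∀ q, (s : Perm GolayPt) q = tfun d.2.1 q) ∧
      ∃ s : M, ∀ q, (s : Perm GolayPt) q = tfun d.2.2 q)
    (hcov : ∀ i : Fin n, i ≠ 0 → i ≠ 1 → ∃ d ∈ gens, d.1 = i)
    (hword : ∀ i j k : Fin n, i ≠ j → j ≠ k → i ≠ k → swap i j * swap j k = cycWord i j k)
    (hsgn : ∀ d ∈ gens, Perm.sign (cyc d.1) = 1) :
    ∃ (C : Subgroup M) (φ : C →* alternatingGroup (Fin n)), Function.Bijective φ ∧
      (∀ (x : C) m, ((x : M) : Perm GolayPt) (e m) = e ((φ x : Perm (Fin n)) m) ∧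
        ((x : M) : Perm GolayPt) (bpt 6) = bpt 6) ∧
      16 * Nat.card (alternatingGroup (Fin n)) * ((ptStab oct).subgroupOf M ⊔ C).index = Nat.card M ∧
      ∀ {X : Type u} [Group X] [Finite X] (ξ : X →* M), Function.Surjective ξ → ξ.ker ≤ center X →
        (∀ x, ξ x ∈ (ptStab oct).subgroupOf M → x * x = 1) →
        ∀ z ∈ ξ.ker ⊓ commutator X,
          z ^ ((ptStab oct).subgroupOf M ⊔ C).index ∈ ⁅C.comap ξ, C.comap ξ⁆ := by
  set V := (ptStab oct).subgroupOf M with hV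
  let S : Set M := {s | ∃ d ∈ gens, ∀ q, (s : Perm GolayPt) q = tfun d.2.1 q}
  set C := closure S with hC
  have hSK : S ⊆ pointsStab e M := by
    rintro s ⟨d, hd, hs⟩
    exact ⟨by rw [hs]; exact (hok d hd).1.2.2.1,
      cyc d.1, fun m => by rw [hs]; exact (hok d hd).2.2.1 m⟩
  have hCK : C ≤ pointsStab e M := (closure_le _).2 hSK
  let ψ : C →* Perm (Fin n) := (act he).comp (inclusion hCK)
  have hψ : ∀ (x : C) m, ((x : M) : Perm GolayPt) (e m) = e (ψ x m) := fun x m =>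
    act_spec he (inclusion hCK x) m
  have hψinj : Function.Injective ψ := (injective_iff_map_eq_one ψ).2 fun x hx => Subtype.ext
    (hfix x (fun m => by rw [hψ, hx]; rfl) (hCK x.2).1)
  have hψS : ∀ (x : C) d, d ∈ gens → (∀ q, ((x : M) : Perm GolayPt) q = tfun d.2.1 q) →
      ψ x = cyc d.1 := fun x d hd hx =>
    act_eq he _ _ fun m => (hx (e m)).trans ((hok d hd).2.2.1 m)
  have hrange : ψ.range = alternatingGroup (Fin n) := by
    refine le_antisymm ?_ (alternating_le _ (fun i hi0 hi1 => ?_) hword)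
    · have : C ≤ ((alternatingGroup (Fin n)).comap ψ).map C.subtype := by
        refine (closure_le _).2 fun s hs => ?_
        obtain ⟨d, hd, hsd⟩ := hs
        refine ⟨⟨s, subset_closure ⟨d, hd, hsd⟩⟩, ?_, rfl⟩
        rw [SetLike.mem_coe, mem_comap, hψS _ d hd hsd, Perm.mem_alternatingGroup]
        exact hsgn d hd
      rintro _ ⟨x, rfl⟩
      obtain ⟨y, hy, hyx⟩ := this x.2
      rwa [show x = y from Subtype.ext hyx.symm]
    · obtain ⟨d, hd, rfl⟩ := hcov i hi0 hi1
      obtain ⟨⟨s, hs⟩, -⟩ := hin d hd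
      exact ⟨⟨s, subset_closure ⟨d, hd, hs⟩⟩, hψS _ d hd hs⟩
  let φ : C →* alternatingGroup (Fin n) := ψ.codRestrict _ fun x => hrange ▸ ⟨x, rfl⟩
  have hφ : Function.Bijective φ := ⟨fun x y h => hψinj (congrArg Subtype.val h), fun σ => by
    obtain ⟨x, hx⟩ : (σ : Perm (Fin n)) ∈ ψ.range := hrange.symm ▸ σ.2
    exact ⟨x, Subtype.ext hx⟩⟩
  have hdis : V ⊓ C = ⊥ := by
    rw [eq_bot_iff]
    rintro x ⟨hx, hxC⟩
    rw [mem_bot]
    refine hfix x (fun m => ?_) (hCK hxC).1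
    exact (mem_ptStab.1 (mem_subgroupOf.1 hx)).2 _ (he_mem m)
  have hCV : C ≤ normalizer (V : Set M) := by
    refine (closure_le _).2 fun s ⟨d, hd, hs⟩ => ?_
    have hF := (fpf_of_good hle (hok d hd).1 hs).1
    have hle' : V.map (MulAut.conj s).toMonoidHom ≤ V := by
      rintro _ ⟨y, hy, rfl⟩; exact hF y hy
    have heq := eq_of_le_of_card_ge hle'
      (le_of_eq (Nat.card_congr (V.equivMapOfInjective _ (MulAut.conj s).injective).toEquiv))
    refine mem_normalizer_iff.2 fun x => ⟨hF x, fun hx => ?_⟩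
    obtain ⟨y, hy, hyx⟩ : s * x * s⁻¹ ∈ V.map (MulAut.conj s).toMonoidHom := by rw [heq]; exact hx
    rwa [← (MulAut.conj s).injective (show MulAut.conj s y = MulAut.conj s x from hyx)]
  refine ⟨C, φ, hφ, fun x m => ⟨hψ x m, (hCK x.2).1⟩, ?_, ?_⟩
  · have hVc : Nat.card V = 16 := by
      rw [hV, Nat.card_congr (subgroupOfEquivOfLe (fun g hg => ?_)).toEquiv,
        show Nat.card (ptStab oct) = 16 from (ptStab_octad octB_mem).1]
      exact hge _ (mem_ptStab.1 hg).1 ((mem_ptStab.1 hg).2 none none_mem_oct)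
    have hsup : Nat.card (V ⊔ C : Subgroup M) = Nat.card V * Nat.card C := by
      rw [← Nat.card_prod]
      refine (Nat.card_congr (Equiv.ofBijective
        (fun p : V × C => (⟨(p.1 : M) * p.2, mul_mem_sup p.1.2 p.2.2⟩ : (V ⊔ C : Subgroup M)))
        ⟨fun p q h => ?_, fun u => ?_⟩)).symm
      · have h' : (p.1 : M) * p.2 = q.1 * q.2 := congrArg Subtype.val h
        exact mul_injective_of_disjoint (disjoint_iff.2 hdis) h'
      · have hu : (u : M) ∈ ((V ⊔ C : Subgroup M) : Set M) := u.2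
        rw [coe_mul_of_right_le_normalizer_left _ _ hCV] at hu
        obtain ⟨v, hv, c, hc, hvc⟩ := hu
        exact ⟨(⟨v, hv⟩, ⟨c, hc⟩), Subtype.ext hvc⟩
    rw [← Nat.card_congr (Equiv.ofBijective φ hφ), ← hVc, ← hsup, card_mul_index]
  · intro X _ _ ξ hs hk hsq z hz
    obtain ⟨s₀, hs₀⟩ := hc₀'
    refine OctadLift.pow_index_mem_lift ξ V hsq hk hs S s₀ (fpf_of_good hle hc₀ hs₀) ?_ hdis hz
    rintro s ⟨d, hd, hsd⟩
    obtain ⟨-, x, hx⟩ := hin d hd
    obtain ⟨h1, h2, -, h4, h5⟩ := hok d hd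
    refine ⟨fpf_of_good hle h1 hsd, x, fpf_of_good hle h2 hx, Subtype.ext (Equiv.ext fun q => ?_),
      Subtype.ext (Equiv.ext fun q => ?_)⟩
    · show (s₀ : Perm GolayPt) ((x : Perm GolayPt) q) = (x : Perm GolayPt) ((s₀ : Perm GolayPt) q)
      rw [hx, hs₀, hs₀, hx, h4]
    · show (x : Perm GolayPt) ((s : Perm GolayPt) q) = (s : Perm GolayPt) ((x : Perm GolayPt) q)
      rw [hsd, hx, hx, hsd, h5]

end Complement

end CfsgLib.Sporadic.MathieuMultiplier
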