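import Cfsg.Agent.Lib.Sporadic.FiPresented

/-!
# A presentation of O(7,3) and the subgroup of Fi22 of index 14080

The presented group on the eight generators `b, …, i` of Fi22 with the relators of Fi22 in these
letters only has order at most 4585351680 and maps onto the subgroup they generate, whose order is
that number.
-/

open Cfsg.Spor

namespace CfsgLib.Sporadic.CosetCert.O7P

/-- The edges among the eight generators `b, …, i`. -/
def edges : List (Fin 8 × ℕ × Fin 8) :=
  [(0, 3, 1), (1, 3, 2), (2, 3, 3), (2, 3, 6), (3, 3, 4), (4, 3, 5), (6, 3, 7)]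

/-- The product of some generators. -/
def word (l : List (Fin 8)) : FreeGroup (Fin 8) := (l.map FreeGroup.of).prod

/-- The further relators. -/
def extra : List (FreeGroup (Fin 8)) :=
  [word [2, 1, 0, 2, 3, 4, 2, 6, 7] ^ 10, word [0, 1, 2, 3, 4, 5, 6] ^ 9]

/-- The presented group. -/
abbrev P : Type := CoxPresented (Fin 8) edges extra

theorem mem_nodes : ∀ x : Fin 8, x ∈ coxNodes edges := by decide

/-- The coding of letters. -/
def coding : Coding edges extra 8 0x876543210 where
  lets := (List.finRange 8).map fun x => (x, true)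
  code x := x.val
  cinv x := x.val
  pairs := (List.finRange 8).flatMap fun i =>
    ((List.finRange 8).filter fun j => decide (i ≤ j)).map fun j => (i, j)
  len := by decide
  code_eq := by decide
  cinv_eq a := Or.inr ⟨rfl, mem_nodes a⟩
  inv_eq x hx := by
    refine ⟨⟨x, hx⟩, Or.inl ?_⟩
    revert x
    decide
  pairs_mem p hp := ⟨mem_nodes _, mem_nodes _⟩
  pairs_cover := by decide +kernel

/-- The subgroup generated by some letters. -/
noncomputable abbrev sub (l : List ℕ) : Subgroup P := coding.sub l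

/-- All relators. -/
def allRels : List (FreeGroup (Fin 8)) := relList edges extra coding.pairs

/-- The letters of a word, in order of application. -/
def letters (r : FreeGroup (Fin 8)) : List ℕ := appWord (fun x => x.val) (fun x => x.val) r

/-- The relators in some letters only. -/
def relsIn (l : List ℕ) : List (FreeGroup (Fin 8)) :=
  allRels.filter fun r => (letters r).all fun x => decide (x ∈ l)

theorem relsIn_one {l : List ℕ} :
    ∀ r ∈ relsIn l, PresentedGroup.mk (coxRelators edges ∪ {r | r ∈ extra}) r = 1 :=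
  fun _ hr => mk_relList coding.pairs_mem (List.mem_filter.1 hr).1

/-- The words of generators of a subgroup. -/
def subsOf (l : List ℕ) : List (FreeGroup (Fin 8)) := l.map fun i => FreeGroup.of (Fin.ofNat 8 i)

theorem subsOf_mem {l : List ℕ} (hl : ∀ i ∈ l, i < 8) :
    ∀ r ∈ subsOf l, PresentedGroup.mk (coxRelators edges ∪ {r | r ∈ extra}) r ∈ sub l := by
  intro r hr
  obtain ⟨i, hi, rfl⟩ := List.mem_map.1 hr
  refine Subgroup.subset_closure ⟨i, hi, ?_⟩
  have e : i = coding.code (Fin.ofNat 8 i) := (Nat.mod_eq_of_lt (hl i hi)).symm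
  conv_lhs => rw [e]
  exact coding.gen_code _

theorem step {C : Cert} (hV : C.Valid) (hN : 0 < C.N) {n : ℕ} (hn : C.N = n) {σ l : List ℕ}
    (hσ : ∀ x < C.nl, σ.getD x 8 < 8 ∧
      σ.getD (C.inv x) 8 = Nat.mod (Nat.shiftRight 0x876543210 (Nat.mul 4 (σ.getD x 8))) 16)
    (hlen : σ.length = C.nl) (hl : ∀ i ∈ l, i < 8)
    (hrl : (relsIn σ).length = C.nr)
    (hW : (relsIn σ ++ subsOf l).map letters =
      (List.range C.words.length).map fun i => (C.letters i).map (σ.getD · 8)) :
    (sub l).relIndex (sub σ) ≤ n ∧ (sub l).relIndex (sub σ) ≠ 0 := by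
  subst hn
  exact coding.relIndex_sub_le C hV hN σ hσ hlen (relsIn σ) (subsOf l) relsIn_one
    (coding.wordsOK_of_map_eq hrl hW) (sub l) (subsOf_mem hl)

theorem card_le : Nat.card P ≤ 4585351680 ∧ Nat.card P ≠ 0 := by
  have h0 : Nat.card (sub [1]) ≤ 2 ∧ Nat.card (sub [1]) ≠ 0 := by
    have e : sub [1] = Subgroup.closure {coding.gen 1} := by
      show Subgroup.closure _ = _
      congr 1
      ext z
      simp [eq_comm]
    rw [e]
    refine card_closure_involution ?_
    have : coding.gen 1 = PresentedGroup.of (1 : Fin 8) := coding.gen_code 1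
    rw [this]
    exact inv_eq_iff_mul_eq_one.1 (node_inv (mem_nodes _))
  have s0 : (sub [1]).relIndex (sub [1, 2]) ≤ 3 ∧ (sub [1]).relIndex (sub [1, 2]) ≠ 0 :=
    step FiData.certA2_valid (by decide +kernel) rfl (by decide +kernel) rfl (by decide)
      (by decide +kernel) (by decide +kernel)
  have c0 := card_le_of_relIndex (coding.sub_mono (by decide)) s0 h0
  have s1 : (sub [1, 2]).relIndex (sub [1, 2, 3]) ≤ 4 ∧ (sub [1, 2]).relIndex (sub [1, 2, 3]) ≠ 0 :=
    step FiData.certA3_valid (by decide +kernel) rfl (by decide +kernel) rfl (by decide)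
      (by decide +kernel) (by decide +kernel)
  have c1 := card_le_of_relIndex (coding.sub_mono (by decide)) s1 c0
  have s2 : (sub [1, 2, 3]).relIndex (sub [1, 2, 3, 6]) ≤ 8 ∧ (sub [1, 2, 3]).relIndex (sub [1, 2, 3, 6]) ≠ 0 :=
    step FiData.certD4_valid (by decide +kernel) rfl (by decide +kernel) rfl (by decide)
      (by decide +kernel) (by decide +kernel)
  have c2 := card_le_of_relIndex (coding.sub_mono (by decide)) s2 c1
  have s3 : (sub [1, 2, 3, 6]).relIndex (sub [1, 2, 3, 4, 6]) ≤ 10 ∧ (sub [1, 2, 3, 6]).relIndex (sub [1, 2, 3, 4, 6]) ≠ 0 :=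
    step FiData.certD5_valid (by decide +kernel) rfl (by decide +kernel) rfl (by decide)
      (by decide +kernel) (by decide +kernel)
  have c3 := card_le_of_relIndex (coding.sub_mono (by decide)) s3 c2
  have s4 : (sub [1, 2, 3, 4, 6]).relIndex (sub [0, 1, 2, 3, 4, 6]) ≤ 27 ∧ (sub [1, 2, 3, 4, 6]).relIndex (sub [0, 1, 2, 3, 4, 6]) ≠ 0 :=
    step FiData.certE6_valid (by decide +kernel) rfl (by decide +kernel) rfl (by decide)
      (by decide +kernel) (by decide +kernel)
  have c4 := card_le_of_relIndex (coding.sub_mono (by decide)) s4 c3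
  have s5 : (sub [0, 1, 2, 3, 4, 6]).relIndex (sub [0, 1, 2, 3, 4, 5, 6]) ≤ 28 ∧ (sub [0, 1, 2, 3, 4, 6]).relIndex (sub [0, 1, 2, 3, 4, 5, 6]) ≠ 0 :=
    step FiData.certE7_valid (by decide +kernel) rfl (by decide +kernel) rfl (by decide)
      (by decide +kernel) (by decide +kernel)
  have c5 := card_le_of_relIndex (coding.sub_mono (by decide)) s5 c4
  have s6 : (sub [0, 1, 2, 3, 4, 5, 6]).relIndex (sub [0, 1, 2, 3, 4, 5, 6, 7]) ≤ 3159 ∧ (sub [0, 1, 2, 3, 4, 5, 6]).relIndex (sub [0, 1, 2, 3, 4, 5, 6, 7]) ≠ 0 :=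
    step FiData.certO1_valid (by decide +kernel) rfl (by decide +kernel) rfl (by decide)
      (by decide +kernel) (by decide +kernel)
  have c6 := card_le_of_relIndex (coding.sub_mono (by decide)) s6 c5
  rw [coding.sub_eq_top (by decide), Subgroup.card_top] at c6
  exact c6

/-- The images of the generators in Fi22. -/
noncomputable def toFiGen (x : Fin 8) : Fi22 := FiP.coding.gen (x.val + 1)

theorem toFiGen_inv (x : Fin 8) : (toFiGen x)⁻¹ = toFiGen x := by
  have key : ∀ g : Fi22.Gen, (FiP.coding.gen (FiP.code g))⁻¹ = FiP.coding.gen (FiP.code g) := by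
    intro g
    show (FiP.coding.gen (FiP.coding.code g))⁻¹ = FiP.coding.gen (FiP.coding.code g)
    rw [FiP.coding.gen_code g]
    exact node_inv (FiP.mem_nodes g)
  have h : ∀ y : Fin 8, FiP.code (FiP.gens.getD (y.val + 1) Fi22.Gen.a) = y.val + 1 := by decide
  have := key (FiP.gens.getD (x.val + 1) Fi22.Gen.a)
  rwa [h x] at this

theorem lift_toFiGen (r : FreeGroup (Fin 8)) :
    FreeGroup.lift toFiGen r = appProd FiP.coding.gen ((letters r).map (· + 1)) := by
  rw [appProd_map FiP.coding.gen (· + 1)]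
  exact lift_eq_appProd toFiGen (fun x => FiP.coding.gen (x + 1)) (fun x => x.val) (fun x => x.val)
    (fun x => rfl) (fun x => (toFiGen_inv x).symm) r

theorem rels_eq : allRels.map (fun r => (letters r).map (· + 1)) =
    (FiP.relsIn [1, 2, 3, 4, 5, 6, 7, 8]).map (appWord FiP.code FiP.code) := by
  decide +kernel

theorem rels_one : ∀ r ∈ allRels, FreeGroup.lift toFiGen r = 1 := by
  intro r hr
  have h : (letters r).map (· + 1) ∈
      (FiP.relsIn [1, 2, 3, 4, 5, 6, 7, 8]).map (appWord FiP.code FiP.code) := by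
    rw [← rels_eq]
    exact List.mem_map.2 ⟨r, hr, rfl⟩
  obtain ⟨r', hr', he⟩ := List.mem_map.1 h
  rw [lift_toFiGen, ← he, ← FiP.relsIn_one r' hr']
  exact (FiP.coding.mk_eq r').symm

/-- The map to Fi22. -/
noncomputable def toFi : P →* Fi22 :=
  PresentedGroup.toGroup (lift_cox_eq_one toFiGen coding.pairs_cover rels_one)

theorem toFi_range : toFi.range = FiP.sub [1, 2, 3, 4, 5, 6, 7, 8] := by
  rw [MonoidHom.range_eq_map, ← PresentedGroup.closure_range_of, MonoidHom.map_closure,
    ← Set.range_comp]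
  show Subgroup.closure _ = Subgroup.closure _
  congr 1
  ext z
  constructor
  · rintro ⟨x, rfl⟩
    refine ⟨x.val + 1, ?_, ?_⟩
    · revert x
      decide
    · show toFiGen x = toFi (PresentedGroup.of x)
      exact (PresentedGroup.toGroup.of _).symm
  · rintro ⟨y, hy, rfl⟩
    have h : ∀ y ∈ [1, 2, 3, 4, 5, 6, 7, 8], ∃ x : Fin 8, x.val + 1 = y := by decide
    obtain ⟨x, rfl⟩ := h y hy
    exact ⟨x, PresentedGroup.toGroup.of _⟩

theorem toFi_injective : Function.Injective toFi := by
  have : Finite P := Nat.finite_of_card_ne_zero card_le.2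
  have h2 := (FiP.sub [1, 2, 3, 4, 5, 6, 7, 8]).card_mul_index
  rw [FiP.index_O_eq, FiP.card_eq.1] at h2
  have h3 : Nat.card P ≤ Nat.card toFi.range := by
    rw [toFi_range]
    have := card_le.1
    omega
  have hb : Function.Bijective toFi.rangeRestrict :=
    (Nat.bijective_iff_surjective_and_card _).2 ⟨toFi.rangeRestrict_surjective,
      le_antisymm h3 (Nat.card_le_card_of_surjective _ toFi.rangeRestrict_surjective)⟩
  exact fun a b e => hb.1 (Subtype.ext e)

/-- The presented group is the subgroup of Fi22 generated by `b, …, i`. -/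
noncomputable def equivSub : P ≃* FiP.sub [1, 2, 3, 4, 5, 6, 7, 8] :=
  (MonoidHom.ofInjective toFi_injective).trans (MulEquiv.subgroupCongr toFi_range)

end CfsgLib.Sporadic.CosetCert.O7P
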