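import Cfsg.Agent.Lib.Sporadic.CosetCertApply
import Cfsg.Prelude.Def_Spor_ON
import Cfsg.Agent.Lib.Sporadic.ONData.ONCertG
import Cfsg.Agent.Lib.Sporadic.ONData.ONCertH
import Cfsg.Agent.Lib.Sporadic.ONData.ONCertD
import Cfsg.Agent.Lib.Sporadic.ONData.ONCertA
import Cfsg.Agent.Lib.Sporadic.ONData.ONCertB
import Cfsg.Agent.Lib.Sporadic.ONData.ONCertT

/-!
# Enumerations in the presented O'Nan group: upper bounds
-/

open Cfsg.Spor

namespace CfsgLib.Sporadic.CosetCert.ONP

/-- The position of a generator. -/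
def code : ON.Gen → ℕ
  | .g => 0 | .a => 2 | .b => 3 | .c => 4 | .d => 5 | .e => 6 | .f => 7

/-- The position of an inverse generator. -/
def cinv : ON.Gen → ℕ
  | .g => 1 | .a => 2 | .b => 3 | .c => 4 | .d => 5 | .e => 6 | .f => 7

open ON in
/-- The nodes. -/
def nodes : List Gen := [Gen.a, Gen.b, Gen.c, Gen.d, Gen.e, Gen.f]

theorem mem_nodes {x : ON.Gen} (h : x ≠ ON.Gen.g) : x ∈ coxNodes ON.edges := by
  cases x <;> first | decide | exact absurd rfl h

theorem nodes_mem : ∀ x ∈ nodes, x ∈ coxNodes ON.edges := by decide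

open ON in
/-- The coding of letters. -/
def coding : Coding ON.edges ON.extra 8 0x76543201 where
  lets := [(Gen.g, true), (Gen.g, false), (Gen.a, true), (Gen.b, true), (Gen.c, true),
    (Gen.d, true), (Gen.e, true), (Gen.f, true)]
  code := code
  cinv := cinv
  pairs := (List.range 6).flatMap fun i =>
    ((List.range 6).filter fun j => decide (i ≤ j)).map fun j =>
      (nodes.getD i Gen.a, nodes.getD j Gen.a)
  len := rfl
  code_eq a := by cases a <;> rfl
  cinv_eq a := by
    cases a
    case g => exact Or.inl rfl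
    all_goals exact Or.inr ⟨rfl, mem_nodes (by decide)⟩
  inv_eq x hx := by
    match x, hx with
    | 0, _ => exact ⟨Gen.g, Or.inl (by decide)⟩
    | 1, _ => exact ⟨Gen.g, Or.inr (by decide)⟩
    | 2, _ => exact ⟨Gen.a, Or.inl (by decide)⟩
    | 3, _ => exact ⟨Gen.b, Or.inl (by decide)⟩
    | 4, _ => exact ⟨Gen.c, Or.inl (by decide)⟩
    | 5, _ => exact ⟨Gen.d, Or.inl (by decide)⟩
    | 6, _ => exact ⟨Gen.e, Or.inl (by decide)⟩
    | 7, _ => exact ⟨Gen.f, Or.inl (by decide)⟩
    | n + 8, h => exact absurd h (by omega)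
  pairs_mem := by decide +kernel
  pairs_cover := by decide +kernel

/-- The subgroup generated by some letters. -/
noncomputable abbrev sub (l : List ℕ) : Subgroup ON := coding.sub l

/-- The map from words to the group. -/
noncomputable abbrev mk : FreeGroup ON.Gen →* ON :=
  PresentedGroup.mk (coxRelators ON.edges ∪ {r | r ∈ ON.extra})

/-- All relators. -/
def allRels : List (FreeGroup ON.Gen) := relList ON.edges ON.extra coding.pairs

/-- The relators in some letters only. -/
def relsIn (l : List ℕ) : List (FreeGroup ON.Gen) :=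
  allRels.filter fun r => (appWord code cinv r).all fun x => decide (x ∈ l)

theorem relsIn_one {l : List ℕ} : ∀ r ∈ relsIn l, mk r = 1 :=
  fun _ hr => mk_relList coding.pairs_mem (List.mem_filter.1 hr).1

open ON in
/-- The generator at a position, other than the inverse of `g`. -/
def genAt (i : ℕ) : Gen :=
  [Gen.g, Gen.g, Gen.a, Gen.b, Gen.c, Gen.d, Gen.e, Gen.f].getD i Gen.a

/-- The words of generators of a subgroup. -/
def subsOf (l : List ℕ) : List (FreeGroup ON.Gen) := l.map fun i => FreeGroup.of (genAt i)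

theorem subsOf_mem {l : List ℕ} (hl : ∀ i ∈ l, i < 8 ∧ i ≠ 1) :
    ∀ r ∈ subsOf l, mk r ∈ sub l := by
  intro r hr
  obtain ⟨i, hi, rfl⟩ := List.mem_map.1 hr
  refine Subgroup.subset_closure ⟨i, hi, ?_⟩
  have e : i = code (genAt i) := by
    have h : ∀ j < 8, j ≠ 1 → j = code (genAt j) := by decide
    exact h i (hl i hi).1 (hl i hi).2
  conv_lhs => rw [e]
  exact coding.gen_code _

theorem step {C : Cert} (hV : C.Valid) (hN : 0 < C.N) {n : ℕ} (hn : C.N = n) {σ l : List ℕ}
    (rels : List (FreeGroup ON.Gen)) (hrels : ∀ r ∈ rels, mk r = 1)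
    (hσ : ∀ x < C.nl, σ.getD x 8 < 8 ∧
      σ.getD (C.inv x) 8 = Nat.mod (Nat.shiftRight 0x76543201 (Nat.mul 4 (σ.getD x 8))) 16)
    (hlen : σ.length = C.nl) (hl : ∀ i ∈ l, i < 8 ∧ i ≠ 1)
    (hrl : rels.length = C.nr)
    (hW : (rels ++ subsOf l).map (appWord code cinv) =
      (List.range C.words.length).map fun i => (C.letters i).map (σ.getD · 8)) :
    (sub l).relIndex (sub σ) ≤ n ∧ (sub l).relIndex (sub σ) ≠ 0 := by
  subst hn
  exact coding.relIndex_sub_le C hV hN σ hσ hlen rels (subsOf l) hrels
    (coding.wordsOK_of_map_eq hrl hW) (sub l) (subsOf_mem hl)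

theorem sub_all : sub [0, 1, 2, 3, 4, 5, 6, 7] = ⊤ := coding.sub_eq_top (by decide)

/-- The letters of the subgroup of index 122760. -/
abbrev lH : List ℕ := [2, 3, 4, 5, 6, 7]

theorem index_H : (sub lH).index ≤ 122760 ∧ (sub lH).index ≠ 0 := by
  have := step (σ := [0, 1, 2, 3, 4, 5, 6, 7]) (l := lH) ONData.certG_valid (by decide +kernel)
    (n := 122760) rfl allRels (fun r hr => mk_relList coding.pairs_mem hr) (by decide +kernel) rfl
    (by decide) (by decide +kernel) (by decide +kernel)
  rwa [sub_all, Subgroup.relIndex_top_right] at this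

theorem involution {x : ON.Gen} (h : x ≠ ON.Gen.g) :
    (PresentedGroup.of x : ON)⁻¹ = PresentedGroup.of x := node_inv (mem_nodes h)

/-- A relation of the subgroup on `a`, `b`, `c`, `d`, from those in all six involutions. -/
def relD : FreeGroup ON.Gen := ((ON.c * ON.d) ^ 4 * ON.a * ON.b) ^ 2

theorem relD_one : mk relD = 1 := by
  have hr : ∀ r ∈ allRels, mk r = 1 := fun r hr => mk_relList coding.pairs_mem hr
  have h1 := hr ((ON.a * ON.f) * (((ON.c * ON.d) ^ 4)⁻¹)) (by decide +kernel)
  rw [map_mul, map_inv, mul_inv_eq_one] at h1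
  have h2 := hr ((ON.a * ON.f) ^ 2) (by decide +kernel)
  have h3 := hr ((ON.b * ON.f) ^ 2) (by decide +kernel)
  have ha : (mk ON.a)⁻¹ = mk ON.a := involution (by decide)
  have hb : (mk ON.b)⁻¹ = mk ON.b := involution (by decide)
  have hf : (mk ON.f)⁻¹ = mk ON.f := involution (by decide)
  rw [map_pow, map_mul, pow_two, mul_eq_one_iff_eq_inv, mul_inv_rev, ha, hf] at h2
  rw [map_pow, map_mul, pow_two, mul_eq_one_iff_eq_inv, mul_inv_rev, hb, hf] at h3
  rw [relD, map_pow, map_mul, map_mul, ← h1, map_mul, h2, mul_assoc (mk ON.f) (mk ON.a) (mk ON.a),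
    mul_eq_one_iff_inv_eq.2 ha, mul_one, ← h3, pow_two, mul_eq_one_iff_eq_inv, mul_inv_rev, hb, hf,
    h3]

theorem card_single : Nat.card (sub [2]) ≤ 2 ∧ Nat.card (sub [2]) ≠ 0 := by
  have e : sub [2] = Subgroup.closure {coding.gen 2} := by
    show Subgroup.closure _ = _
    congr 1
    ext z
    simp [eq_comm]
  rw [e]
  refine card_closure_involution ?_
  have : coding.gen 2 = PresentedGroup.of ON.Gen.a := coding.gen_code ON.Gen.a
  rw [this]
  exact inv_eq_iff_mul_eq_one.1 (involution (by decide))

theorem card_H : Nat.card (sub lH) ≤ 3753792 ∧ Nat.card (sub lH) ≠ 0 := by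
  have s0 := step (σ := [2, 3]) (l := [2]) ONData.certB_valid (by decide +kernel) (n := 3) rfl
    (relsIn [2, 3]) relsIn_one (by decide +kernel) rfl (by decide) (by decide +kernel)
    (by decide +kernel)
  have c0 := card_le_of_relIndex (coding.sub_mono (by decide)) s0 card_single
  have s1 := step (σ := [2, 3, 4]) (l := [2, 3]) ONData.certA_valid (by decide +kernel) (n := 4) rfl
    (relsIn [2, 3, 4]) relsIn_one (by decide +kernel) rfl (by decide) (by decide +kernel)
    (by decide +kernel)
  have c1 := card_le_of_relIndex (coding.sub_mono (by decide)) s1 c0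
  have s2 := step (σ := [2, 3, 4, 5]) (l := [2, 3, 4]) ONData.certD_valid (by decide +kernel)
    (n := 28) rfl (relsIn [2, 3, 4, 5] ++ [relD])
    (by
      intro r hr
      rcases List.mem_append.1 hr with h | h
      · exact relsIn_one r h
      · obtain rfl := List.mem_singleton.1 h
        exact relD_one)
    (by decide +kernel) rfl (by decide) (by decide +kernel) (by decide +kernel)
  have c2 := card_le_of_relIndex (coding.sub_mono (by decide)) s2 c1
  have s3 := step (σ := lH) (l := [2, 3, 4, 5]) ONData.certH_valid (by decide +kernel) (n := 5586)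
    rfl (relsIn lH) relsIn_one (by decide +kernel) rfl (by decide) (by decide +kernel)
    (by decide +kernel)
  exact card_le_of_relIndex (coding.sub_mono (by decide)) s3 c2

theorem card_le : Nat.card ON ≤ 460815505920 ∧ Nat.card ON ≠ 0 := by
  have h := (sub lH).card_mul_index
  rw [← h]
  refine ⟨?_, mul_ne_zero card_H.2 index_H.2⟩
  exact (Nat.mul_le_mul card_H.1 index_H.1).trans (by norm_num)

/-- A word of order 31. -/
def wordT : FreeGroup ON.Gen := ON.d * ON.b * ON.c * ON.g * ON.e

/-- The word of order 31 and its conjugates by the generators. -/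
def wordsT : List (FreeGroup ON.Gen) :=
  [wordT, ON.g * wordT * ON.g⁻¹, ON.g⁻¹ * wordT * ON.g] ++
    nodes.map fun x => FreeGroup.of x * wordT * FreeGroup.of x

theorem eq_top_of_wordT_mem (M : Subgroup ON) (hM : M.Normal) (h : mk wordT ∈ M) : M = ⊤ := by
  have hS : ∀ r ∈ wordsT, mk r ∈ M := by
    intro r hr
    rcases List.mem_append.1 hr with hr | hr
    · simp only [List.mem_cons, List.not_mem_nil, or_false] at hr
      rcases hr with rfl | rfl | rfl
      · exact h
      · rw [map_mul, map_mul, map_inv]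
        exact hM.conj_mem _ h _
      · rw [map_mul, map_mul, map_inv]
        exact hM.conj_mem' _ h _
    · obtain ⟨x, hx, rfl⟩ := List.mem_map.1 hr
      rw [map_mul, map_mul]
      have hx' : (PresentedGroup.of x : ON)⁻¹ = PresentedGroup.of x :=
        node_inv (nodes_mem x hx)
      show (PresentedGroup.of x : ON) * _ * PresentedGroup.of x ∈ M
      nth_rewrite 2 [← hx']
      exact hM.conj_mem _ h _
  have := coding.relIndex_sub_le ONData.certT ONData.certT_valid (by decide +kernel)
    [0, 1, 2, 3, 4, 5, 6, 7] (by decide +kernel) rfl allRels wordsT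
    (fun r hr => mk_relList coding.pairs_mem hr)
    (coding.wordsOK_of_map_eq (by decide +kernel) (by decide +kernel)) M hS
  rw [coding.sub_eq_top (by decide), Subgroup.relIndex_top_right] at this
  have hN : ONData.certT.N = 1 := rfl
  rw [hN] at this
  exact Subgroup.index_eq_one.1 (by omega)

end CfsgLib.Sporadic.CosetCert.ONP
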