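import Cfsg.Agent.Lib.Sporadic.ONPresented
import Cfsg.Agent.Lib.Sporadic.ONTriple.Quotient
import Cfsg.Agent.Lib.KnownC.AutPSL.Induced
import Cfsg.Agent.Lib.Classical.SLOrders
import Mathlib.GroupTheory.SemidirectProduct

/-!
# The subgroup of index 122760 of the O'Nan group is an extension of PSL(3, 7) by a graph automorphism

Six symmetric matrices of determinant one, each followed by the inverse transpose, satisfy the
relations of the six involutions and generate the extension of PSL(3, 7) by that automorphism.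
-/

set_option maxRecDepth 100000

open Cfsg.Spor

namespace CfsgLib.Sporadic.ONL37

open CfsgLib.Sporadic.CosetCert CfsgLib.Sporadic.ONTriple

instance : Fact (Nat.Prime 7) := ⟨by norm_num⟩

/-- The special linear group. -/
abbrev SL : Type := Matrix.SpecialLinearGroup (Fin 3) (ZMod 7)

/-- The projective special linear group. -/
abbrev PSL : Type := Matrix.ProjectiveSpecialLinearGroup (Fin 3) (ZMod 7)

/-- The six symmetric matrices. -/
def M : Fin 6 → SL
  | 0 => ⟨!![1, 0, 0; 0, 1, 0; 0, 0, 1], by decide +kernel⟩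
  | 1 => ⟨!![1, 1, 3; 1, 5, 6; 3, 6, 1], by decide +kernel⟩
  | 2 => ⟨!![1, 0, 1; 0, 3, 0; 1, 0, 6], by decide +kernel⟩
  | 3 => ⟨!![0, 0, 3; 0, 3, 0; 3, 0, 0], by decide +kernel⟩
  | 4 => ⟨!![0, 3, 4; 3, 6, 6; 4, 6, 6], by decide +kernel⟩
  | 5 => ⟨!![3, 0, 0; 0, 4, 0; 0, 0, 3], by decide +kernel⟩

/-- Their inverses. -/
def Mi : Fin 6 → SL
  | 0 => ⟨!![1, 0, 0; 0, 1, 0; 0, 0, 1], by decide +kernel⟩
  | 1 => ⟨!![4, 3, 5; 3, 6, 4; 5, 4, 4], by decide +kernel⟩
  | 2 => ⟨!![4, 0, 4; 0, 5, 0; 4, 0, 3], by decide +kernel⟩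
  | 3 => ⟨!![0, 0, 5; 0, 5, 0; 5, 0, 0], by decide +kernel⟩
  | 4 => ⟨!![0, 6, 1; 6, 5, 5; 1, 5, 5], by decide +kernel⟩
  | 5 => ⟨!![5, 0, 0; 0, 2, 0; 0, 0, 5], by decide +kernel⟩

theorem M_mul_Mi : ∀ i, M i * Mi i = 1 := by decide +kernel

theorem M_symm : ∀ i, (Mi i : Matrix (Fin 3) (Fin 3) (ZMod 7)).transpose = Mi i := by decide +kernel

theorem Mi_eq (i : Fin 6) : (M i)⁻¹ = Mi i := inv_eq_of_mul_eq_one_right (M_mul_Mi i)

theorem itSL_M (i : Fin 6) : CfsgLib.KnownC.AutPSL.itSL (M i) = Mi i := by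
  refine Subtype.ext ?_
  show (((M i)⁻¹ : SL) : Matrix (Fin 3) (Fin 3) (ZMod 7)).transpose = _
  rw [Mi_eq, M_symm]

/-- The natural map. -/
noncomputable abbrev pr : SL →* PSL := QuotientGroup.mk' _

/-- The inverse transpose. -/
noncomputable abbrev it : MulAut PSL := CfsgLib.KnownC.AutPSL.itAut

theorem it_sq : it * it = 1 := by
  refine MulEquiv.ext fun a => ?_
  induction a using QuotientGroup.induction_on with
  | _ s =>
    show QuotientGroup.mk (CfsgLib.KnownC.AutPSL.itSL (CfsgLib.KnownC.AutPSL.itSL s)) = _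
    rw [show CfsgLib.KnownC.AutPSL.itSL (CfsgLib.KnownC.AutPSL.itSL s) = s from
      CfsgLib.KnownC.AutPSL.itFun_itFun s]
    rfl

/-- The action of the group of order two. -/
noncomputable def act : Multiplicative (ZMod 2) →* MulAut PSL :=
  MonoidHom.mk' (fun z => if Multiplicative.toAdd z = 0 then 1 else it) (by
    have h : ∀ z : ZMod 2, z = 0 ∨ z = 1 := by decide
    intro y z
    rcases h (Multiplicative.toAdd y) with hy | hy <;> rcases h (Multiplicative.toAdd z) with hz | hz <;>
      simp [toAdd_mul, hy, hz, it_sq, show (1 : ZMod 2) + 1 = 0 from rfl])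

/-- The extension. -/
abbrev W : Type := SemidirectProduct PSL (Multiplicative (ZMod 2)) act

/-- The generator of the group of order two. -/
def sg : Multiplicative (ZMod 2) := Multiplicative.ofAdd 1

/-- The six elements. -/
noncomputable def xW (i : Fin 6) : W := ⟨pr (M i), sg⟩

theorem xW_mul (i j : Fin 6) : xW i * xW j = SemidirectProduct.inl (pr (M i * Mi j)) := by
  have hsg : act sg = it := by simp [act, sg]
  refine SemidirectProduct.ext ?_ ?_
  · rw [SemidirectProduct.mul_left, SemidirectProduct.left_inl, map_mul]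
    show pr (M i) * act sg (pr (M j)) = _
    rw [hsg]
    exact congrArg (pr (M i) * ·) ((CfsgLib.KnownC.AutPSL.toPSL_mk _ _).trans
      (congrArg pr (itSL_M j)))
  · rw [SemidirectProduct.mul_right, SemidirectProduct.right_inl]
    show sg * sg = 1
    decide

/-- The matrix of a word of even length. -/
def alt : List ℕ → SL
  | i :: j :: t => M (Fin.ofNat 6 i) * Mi (Fin.ofNat 6 j) * alt t
  | _ => 1

theorem ev_even : ∀ (n : ℕ) (w : List ℕ), w.length = 2 * n → (∀ k ∈ w, k < 6) →
    ev (val xW 1 1) w = SemidirectProduct.inl (pr (alt w)) := by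
  intro n
  induction n with
  | zero =>
    intro w hw _
    obtain rfl := List.length_eq_zero_iff.1 hw
    show (1 : W) = SemidirectProduct.inl (pr 1)
    rw [map_one, map_one]
  | succ n ih =>
    intro w hw hlt
    match w, hw with
    | i :: j :: t, hw =>
      have hv : ∀ k, k < 6 → val xW (1 : W) 1 k = xW (Fin.ofNat 6 k) := by
        intro k hk
        interval_cases k <;> rfl
      rw [ev_cons, ev_cons, ih t (by simp at hw; omega) fun k hk => hlt k (by simp [hk]),
        hv i (hlt i (by simp)), hv j (hlt j (by simp)), ← mul_assoc, xW_mul, ← map_mul, ← map_mul]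
      rfl
    | [], hw => simp at hw
    | [_], hw => simp at hw; omega

theorem rel_scalar : ∀ w ∈ relL, w.length % 2 = 0 ∧ (∀ k ∈ w, k < 6) ∧ ∃ r : ZMod 7,
    r ^ Fintype.card (Fin 3) = 1 ∧ Matrix.scalar (Fin 3) r = (alt w : Matrix (Fin 3) (Fin 3) (ZMod 7)) := by
  decide +kernel

theorem xW_rel : LRel xW := by
  intro w hw
  obtain ⟨h2, h6, hr⟩ := rel_scalar w hw
  rw [ev_even (w.length / 2) w (by omega) h6]
  have : pr (alt w) = 1 :=
    (QuotientGroup.eq_one_iff _).2 (Matrix.SpecialLinearGroup.mem_center_iff.2 hr)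
  rw [this, map_one]

/-- The map onto the extension. -/
noncomputable def toW : LGrp →* W := toG xW_rel

theorem toG_lgen {G : Type*} [Group G] {x : Fin 6 → G} (hx : LRel x) (i : Fin 6) :
    toG hx (lgen i) = x i := PresentedGroup.toGroup.of (lift_rels hx)

theorem toW_lgen (i : Fin 6) : toW (lgen i) = xW i := toG_lgen xW_rel i

/-- Words for the transvections. -/
def tWord (i j : Fin 3) : List ℕ :=
  match i, j with
    | 0, 1 => [0, 1, 3, 2, 1, 0, 4, 3, 2, 1, 5, 4, 3, 2, 1, 3, 2, 4, 3, 2, 1, 3, 2, 4, 3, 5]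
    | 0, 2 => [1, 4, 3, 2, 3, 2, 1, 0, 4, 3, 2, 1, 3, 2, 3, 4, 3, 2, 1, 0, 3, 2, 1, 5, 4, 3, 2, 1, 3, 4]
    | 1, 0 => [0, 1, 3, 2, 1, 0, 4, 3, 5, 4, 3, 2, 1, 3, 2, 1, 3, 2, 4, 3, 2, 1, 3, 2, 4, 3]
    | 1, 2 => [1, 2, 1, 0, 4, 3, 5, 4, 3, 2, 1, 3, 2, 1, 3, 2, 4, 3, 2, 1, 0, 3, 2, 4]
    | 2, 0 => [0, 1, 4, 3, 2, 1, 0, 3, 2, 1, 4, 3, 2, 3, 5, 4, 3, 2, 1, 0, 3, 2, 1, 3, 2, 4, 3, 2, 1, 0, 3, 4]
    | 2, 1 => [1, 2, 1, 0, 4, 3, 2, 1, 5, 4, 3, 2, 1, 3, 2, 4, 3, 2, 1, 0, 3, 2, 4, 5]
    | _, _ => []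

theorem tWord_ok : ∀ i j : Fin 3, i ≠ j → (tWord i j).length % 2 = 0 ∧ (∀ k ∈ tWord i j, k < 6) ∧
    ∃ r : ZMod 7, r ^ Fintype.card (Fin 3) = 1 ∧ (alt (tWord i j) : Matrix (Fin 3) (Fin 3) (ZMod 7)) =
      Matrix.scalar (Fin 3) r * Matrix.transvection i j 1 := by
  decide +kernel

theorem inl_mem_range (a : PSL) : SemidirectProduct.inl a ∈ toW.range := by
  let S : Subgroup SL := (toW.range.comap SemidirectProduct.inl).comap pr
  suffices h : S = ⊤ by
    induction a using QuotientGroup.induction_on with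
    | _ s => exact (h ▸ Subgroup.mem_top s : s ∈ S)
  refine CfsgLib.Classical.sl_subgroup_eq_top _ fun i j hij c => ?_
  obtain ⟨h2, h6, r, hr, ht⟩ := tWord_ok i j hij
  have h1 : Matrix.SpecialLinearGroup.transvection hij (1 : ZMod 7) ∈ S := by
    show SemidirectProduct.inl (pr _) ∈ toW.range
    have e : pr (alt (tWord i j)) = pr (Matrix.SpecialLinearGroup.transvection hij (1 : ZMod 7)) := by
      refine QuotientGroup.eq_iff_div_mem.2 (Matrix.SpecialLinearGroup.mem_center_iff.2 ⟨r, hr, ?_⟩)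
      rw [div_eq_mul_inv, Matrix.SpecialLinearGroup.coe_mul, ht, mul_assoc]
      have h := congrArg (fun z : SL => (z : Matrix (Fin 3) (Fin 3) (ZMod 7)))
        (mul_inv_cancel (Matrix.SpecialLinearGroup.transvection hij (1 : ZMod 7)))
      rw [Matrix.SpecialLinearGroup.coe_mul, Matrix.SpecialLinearGroup.coe_one] at h
      exact ((congrArg (Matrix.scalar (Fin 3) r * ·) h).trans (mul_one _)).symm
    rw [← e, ← ev_even _ _ (by omega : (tWord i j).length = 2 * ((tWord i j).length / 2)) h6]
    refine ev_mem fun k hk => ?_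
    have hk6 := h6 k hk
    interval_cases k <;> exact ⟨lgen _, toW_lgen _⟩
  have key : ∀ k : ℕ, Matrix.SpecialLinearGroup.transvection hij (k : ZMod 7) ∈ S := by
    intro k
    induction k with
    | zero => simpa using one_mem S
    | succ k ih =>
      have e : Matrix.SpecialLinearGroup.transvection hij ((k : ZMod 7) + 1) =
          Matrix.SpecialLinearGroup.transvection hij (k : ZMod 7) *
            Matrix.SpecialLinearGroup.transvection hij 1 :=
        Subtype.ext (Matrix.transvection_mul_transvection_same i j hij _ _).symm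
      rw [Nat.cast_succ, e]
      exact mul_mem ih h1
  simpa using key c.val

theorem card_PSL : Nat.card PSL = 1876896 := by
  show Nat.card (Matrix.ProjectiveSpecialLinearGroup (Fin 3) (ZMod 7)) = 1876896
  have h1 := CfsgLib.Classical.card_psl_mul (F := ZMod 7) (q := 7) (by simp) 3 (by norm_num)
  have h2 := CfsgLib.Classical.card_sl_mul (F := ZMod 7) (q := 7) (by simp) 3 (by norm_num)
  norm_num [Fin.prod_univ_three, -Nat.card_eq_fintype_card] at h1 h2 ⊢
  omega

theorem toW_bijective : Function.Bijective toW := by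
  have hsurj : Function.Surjective toW := by
    rw [← MonoidHom.range_eq_top, eq_top_iff]
    rintro ⟨a, z⟩ -
    rw [show (⟨a, z⟩ : W) = SemidirectProduct.inl a * SemidirectProduct.inr z from
      (SemidirectProduct.inl_left_mul_inr_right _).symm]
    refine mul_mem (inl_mem_range a) ?_
    have hz : ∀ z : Multiplicative (ZMod 2), z = 1 ∨ z = sg := by decide
    rcases hz z with rfl | rfl
    · rw [map_one]; exact one_mem _
    · have e : SemidirectProduct.inr sg = (SemidirectProduct.inl (pr (M 0)) : W)⁻¹ * xW 0 := by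
        rw [eq_inv_mul_iff_mul_eq]
        exact SemidirectProduct.inl_left_mul_inr_right (xW 0)
      rw [e]
      exact mul_mem (inv_mem (inl_mem_range _)) ⟨lgen 0, toW_lgen 0⟩
  have : Finite LGrp := Nat.finite_of_card_ne_zero card_le.2
  refine (Nat.bijective_iff_surjective_and_card _).2 ⟨hsurj, ?_⟩
  rw [card_LGrp, Nat.card_congr SemidirectProduct.equivProd, Nat.card_prod, card_PSL]
  simp

open CosetCert.ONP in
/-- The six involutions of the O'Nan group. -/
noncomputable def xON (i : Fin 6) : ON := coding.gen ((i : ℕ) + 2)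

open CosetCert.ONP in
theorem xON_rel : LRel xON := by
  intro w hw
  have hrel : ∀ w ∈ relL, (∀ k ∈ w, k < 6) ∧
      ∃ r ∈ allRels, appWord code cinv r = (w.map (· + 2)).reverse := by decide +kernel
  obtain ⟨h6, r, hr, hw'⟩ := hrel w hw
  have key : ∀ L : List ℕ, (∀ k ∈ L, k < 6) →
      ev (val xON 1 1) L = appProd coding.gen (L.map (· + 2)).reverse := by
    intro L
    induction L with
    | nil => intro _; rfl
    | cons k t ih =>
      intro hL
      have hk := hL k List.mem_cons_self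
      rw [ev_cons, List.map_cons, List.reverse_cons, appProd_append,
        ih fun y hy => hL y (List.mem_cons_of_mem _ hy)]
      have : val xON (1 : ON) 1 k = appProd coding.gen [k + 2] := by
        interval_cases k <;> simp [appProd, val, xON]
      rw [this]
  rw [key w h6, ← hw']
  exact (coding.mk_eq r).symm.trans (mk_relList coding.pairs_mem hr)

open CosetCert.ONP in
theorem range_toG : (toG xON_rel).range = sub lH := by
  rw [MonoidHom.range_eq_map, ← closure_lgen, MonoidHom.map_closure]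
  show _ = Subgroup.closure _
  congr 1
  ext z
  simp only [Set.mem_image, Set.mem_range, Set.mem_ofPred_eq]
  constructor
  · rintro ⟨_, ⟨i, rfl⟩, rfl⟩
    exact ⟨(i : ℕ) + 2, by revert i; decide, (toG_lgen xON_rel i).symm⟩
  · rintro ⟨k, hk, rfl⟩
    refine ⟨_, ⟨Fin.ofNat 6 (k - 2), rfl⟩, (toG_lgen xON_rel _).trans ?_⟩
    have : (Fin.ofNat 6 (k - 2) : ℕ) + 2 = k := by
      revert k
      decide
    exact congrArg coding.gen this

open CosetCert.ONP in
theorem exists_normal : ∃ N : Subgroup (sub lH), N.Normal ∧ N.index = 2 ∧ Nonempty (N ≃* PSL) := by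
  have := CosetCert.ONP.finite
  have : Finite LGrp := Nat.finite_of_card_ne_zero card_le.2
  let e₁ : (toG xON_rel).range ≃* sub lH := MulEquiv.subgroupCongr range_toG
  let f : LGrp →* sub lH := e₁.toMonoidHom.comp (toG xON_rel).rangeRestrict
  have hcard : Nat.card (sub lH) = 3753792 := by
    have h := (sub lH).card_mul_index
    rw [index_H_eq, card_eq.1] at h
    exact Nat.eq_of_mul_eq_mul_right (by norm_num : 0 < 122760) (h.trans (by norm_num))
  have hf : Function.Bijective f :=
    (Nat.bijective_iff_surjective_and_card _).2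
      ⟨e₁.surjective.comp (toG xON_rel).rangeRestrict_surjective,
        by rw [card_LGrp, hcard]⟩
  let e₂ : W ≃* LGrp := (MulEquiv.ofBijective toW toW_bijective).symm
  let ι : PSL →* sub lH := f.comp (e₂.toMonoidHom.comp SemidirectProduct.inl)
  have hι : Function.Injective ι := hf.1.comp (e₂.injective.comp SemidirectProduct.inl_injective)
  have hi : ι.range.index = 2 := by
    have h := ι.range.card_mul_index
    rw [← Nat.card_congr (MonoidHom.ofInjective hι).toEquiv, card_PSL, hcard] at h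
    omega
  exact ⟨ι.range, Subgroup.normal_of_index_eq_two hi, hi, ⟨(MonoidHom.ofInjective hι).symm⟩⟩

end CfsgLib.Sporadic.ONL37
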