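import Cfsg.Agent.Lib.Sporadic.ONCoding
import Cfsg.Agent.Lib.Sporadic.CosetCertSubgroup
import Cfsg.Agent.Lib.Sporadic.ONData.ONRelators
import Cfsg.Agent.Lib.Sporadic.ONData.ONForestOK
import Cfsg.Agent.Lib.Sporadic.ONData.ONChain
import Cfsg.Prelude.Def_Sporadic

/-!
# The presented O'Nan group: order, index, simplicity
-/

set_option maxRecDepth 100000

open Cfsg.Spor

namespace CfsgLib.Sporadic.CosetCert.ONP

open ONData (table forest)

theorem table_slp : table.slpOK = true := by decide +kernel

theorem exists_hom : ∃ φ : ON →* Equiv.Perm (Fin table.N), table.Acts φ coding.gen :=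
  coding.exists_acts table ONData.certG ONData.certG_valid rfl rfl rfl ONData.table_gen
    (coding.tableOK_of_map_eq (by decide +kernel) (by decide +kernel) (by decide +kernel)
      ONData.table_relators)

/-- The action on 122760 points. -/
noncomputable def hom : ON →* Equiv.Perm (Fin table.N) := exists_hom.choose

theorem hom_acts : table.Acts hom coding.gen := exists_hom.choose_spec

theorem two_le : 2 ≤ table.N := by decide +kernel

/-- The base point. -/
noncomputable def pt : Fin table.N := ⟨0, lt_of_lt_of_le Nat.two_pos two_le⟩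

theorem lH_lt : ∀ x ∈ lH, x < table.nl := by decide +kernel

theorem rows_lt : ∀ x ∈ lH, x < table.nl + table.slp.length := fun x hx =>
  lt_of_lt_of_le (lH_lt x hx) (Nat.le_add_right _ _)

/-- The image of the subgroup of index 122760. -/
noncomputable abbrev imH : Subgroup (Equiv.Perm (Fin table.N)) := (sub lH).map hom

theorem orbit_H {c : ℕ} (b : Fin table.N) (hb : forest.cls b = c) :
    MulAction.orbit imH b = ↑(forest.classSet table c) := by
  have e : imH = Subgroup.closure (table.rowSet hom coding.gen lH) :=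
    map_closure_letters hom coding.gen lH_lt
  rw [e]
  exact Forest.orbit_eq (F := forest) hom_acts table_slp rows_lt ONData.forest_ok b hb

theorem hom_fix : ∀ k ∈ sub lH, hom k pt = pt := by
  intro k hk
  induction hk using Subgroup.closure_induction with
  | mem k hk =>
    obtain ⟨x, hx, rfl⟩ := hk
    refine Fin.ext ?_
    have h : ∀ x ∈ lH, table.img x 0 = 0 := by decide +kernel
    rw [hom_acts.img_eq x (lH_lt x hx) pt]
    exact h x hx
  | one => simp
  | mul a b _ _ ha hb => rw [map_mul, Equiv.Perm.mul_apply, hb, ha]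
  | inv a _ ha => rw [map_inv, Equiv.Perm.inv_def, Equiv.symm_apply_eq, ha]

/-- Words from the base point to the roots of the orbits. -/
def toRoot : List (List ℕ) := [[], [0], [0, 3, 0], [0, 4, 0], [0, 3, 5, 0]]

theorem toRoot_ok : ∀ c < forest.roots.length, (∀ x ∈ toRoot.getD c [], x < table.nl) ∧
    table.imgW (toRoot.getD c []) 0 = forest.roots.getD c table.N ∧
      forest.roots.getD c table.N < table.N ∧ forest.cls (forest.roots.getD c table.N) = c := by
  decide +kernel

theorem exists_apply_root {r : ℕ} (hr : r < table.N) (u : Fin table.N)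
    (h : forest.cls r = forest.cls u) : ∃ a, hom a ⟨r, hr⟩ = u := by
  have hu : u ∈ MulAction.orbit imH (⟨r, hr⟩ : Fin table.N) := by
    rw [orbit_H (⟨r, hr⟩ : Fin table.N) h]
    exact Finset.mem_coe.2 (Forest.mem_classSet.2 rfl)
  obtain ⟨⟨π, hπ⟩, e⟩ := hu
  obtain ⟨a, -, rfl⟩ := Subgroup.mem_map.1 hπ
  exact ⟨a, e⟩

theorem exists_to_root {r : ℕ} (hr : r < table.N) {L : List ℕ} (hL : ∀ x ∈ L, x < table.nl)
    (h : table.imgW L 0 = r) : ∃ a, hom a pt = ⟨r, hr⟩ :=
  ⟨appProd coding.gen L, Fin.ext ((PTab.hom_imgW hom_acts L hL pt).trans h)⟩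

theorem transitive : ∀ u, ∃ a, hom a pt = u := by
  intro u
  have hc : forest.cls u < forest.roots.length := by
    have := ONData.forest_ok u u.2
    simp only [Forest.pointOK, Bool.and_eq_true, Nat.blt_eq] at this
    exact this.1.1
  have hall := toRoot_ok (forest.cls u) hc
  revert hall
  generalize toRoot.getD (forest.cls u) [] = L
  generalize hr : forest.roots.getD (forest.cls u) table.N = r
  rintro ⟨h1, h2, h3, h4⟩
  obtain ⟨a, ha⟩ := exists_apply_root h3 u h4
  obtain ⟨b, hb⟩ := exists_to_root h3 h1 h2
  exact ⟨a * b, by rw [map_mul, Equiv.Perm.mul_apply, hb, ha]⟩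

theorem card_imH_ge : 3753792 ≤ Nat.card imH := by
  have h := PTab.chainW_le_card hom_acts (⊥ : Subgroup (Equiv.Perm (Fin table.N)))
    ONData.chainH [] imH ONData.chainH_ok
    (fun e he w hw _ => Subgroup.mem_map_of_mem hom (coding.appProd_mem_sub (l := lH) (by
      have hm : ∀ e ∈ ONData.chainH, ∀ w ∈ e.2.1, ∀ x ∈ w, x ∈ lH := by decide +kernel
      exact hm e he w hw)))
    bot_le (fun e _ u _ z hz => by rw [Subgroup.mem_bot.1 hz]; rfl)
  rwa [Subgroup.card_bot, one_mul, ONData.chainH_prod] at h

theorem finite : Finite ON := Nat.finite_of_card_ne_zero card_le.2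

theorem card_eq : Nat.card ON = 460815505920 ∧ Function.Injective hom := by
  have := finite
  have h1 : 460815505920 ≤ Nat.card hom.range := by
    let S := MulAction.stabilizer hom.range pt
    have horb : MulAction.orbit hom.range pt = Set.univ := by
      refine Set.eq_univ_of_forall fun u => ?_
      obtain ⟨a, ha⟩ := transitive u
      exact ⟨⟨hom a, a, rfl⟩, ha⟩
    have h := Nat.card_congr (MulAction.orbitProdStabilizerEquivGroup hom.range pt)
    rw [Nat.card_prod, horb, Nat.card_coe_set_eq, Set.ncard_univ, Nat.card_fin] at h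
    have hS : Nat.card imH ≤ Nat.card S := by
      refine Nat.card_le_card_of_injective (fun π => ⟨⟨π.1, ?_⟩, ?_⟩) fun a b e => ?_
      · obtain ⟨π, a, -, rfl⟩ := π
        exact ⟨a, rfl⟩
      · obtain ⟨π, a, ha, rfl⟩ := π
        exact hom_fix a ha
      · obtain ⟨a, _⟩ := a
        obtain ⟨b, _⟩ := b
        cases e
        rfl
    have hN : table.N = 122760 := rfl
    calc 460815505920 = 122760 * 3753792 := by norm_num
      _ ≤ table.N * Nat.card S := Nat.mul_le_mul hN.ge (card_imH_ge.trans hS)
      _ = Nat.card hom.range := h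
  have h2 : Nat.card hom.range ≤ Nat.card ON :=
    Nat.card_le_card_of_surjective _ hom.rangeRestrict_surjective
  have hc : Nat.card ON = 460815505920 := le_antisymm card_le.1 (h1.trans h2)
  refine ⟨hc, ?_⟩
  have hb : Function.Bijective hom.rangeRestrict :=
    (Nat.bijective_iff_surjective_and_card _).2 ⟨hom.rangeRestrict_surjective, by omega⟩
  intro a b e
  exact hb.1 (Subtype.ext e)

theorem index_H_eq : (sub lH).index = 122760 := by
  have h := (exists_quotient_equiv hom pt _ hom_fix transitive
    ⟨le_trans index_H.1 (by decide +kernel), index_H.2⟩).1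
  rw [h]
  rfl

theorem mem_sub_of_fix {a : ON} (h : hom a pt = pt) : a ∈ sub lH := by
  obtain ⟨-, e, he, -⟩ := exists_quotient_equiv hom pt _ hom_fix transitive
    ⟨le_trans index_H.1 (by decide +kernel), index_H.2⟩
  have h1 : e (a : ON ⧸ sub lH) = e ((1 : ON) : ON ⧸ sub lH) := by
    rw [he, he, h, map_one]; rfl
  simpa using QuotientGroup.eq.1 (e.injective h1)

theorem card_imH : Nat.card imH = 3753792 := by
  have := finite
  refine le_antisymm ?_ card_imH_ge
  rw [Subgroup.card_map_of_injective card_eq.2]
  exact card_H.1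

/-- An element fixing the base point and the base points of the chain is trivial. -/
theorem eq_one_of_fix {a : ON} (h0 : hom a pt = pt)
    (h : ∀ e ∈ ONData.chainH, ∀ u : Fin table.N, (u : ℕ) = e.1 → hom a u = u) : a = 1 := by
  have := finite
  have h2 := PTab.chainW_le_card hom_acts (Subgroup.zpowers (hom a))
    ONData.chainH [] imH ONData.chainH_ok
    (fun e he w hw _ => Subgroup.mem_map_of_mem hom (coding.appProd_mem_sub (l := lH) (by
      have hm : ∀ e ∈ ONData.chainH, ∀ w ∈ e.2.1, ∀ x ∈ w, x ∈ lH := by decide +kernel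
      exact hm e he w hw)))
    (by rw [Subgroup.zpowers_le]; exact Subgroup.mem_map_of_mem hom (mem_sub_of_fix h0))
    (fun e he u hu z hz => by
      have hle : Subgroup.zpowers (hom a) ≤ MulAction.stabilizer _ u :=
        Subgroup.zpowers_le.2 (h e he u hu)
      exact hle hz)
  rw [ONData.chainH_prod, card_imH, Nat.card_zpowers] at h2
  have h3 : orderOf (hom a) = 1 := by
    have := orderOf_pos (hom a)
    omega
  exact card_eq.2 (by rw [map_one]; exact orderOf_eq_one_iff.1 h3)

theorem suborbit {b c n : ℕ} (hb : b < table.N) (hc : forest.cls b = c)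
    (hn : forest.count c table.N = n) :
    ∃ O : Finset (Fin table.N),
      (O : Set _) = MulAction.orbit imH (⟨b, hb⟩ : Fin table.N) ∧
        O = forest.classSet table c ∧ O.card = n :=
  ⟨_, (orbit_H ⟨b, hb⟩ hc).symm, rfl, by rw [Forest.card_classSet, hn]⟩

/-- The orbit lengths other than 1. -/
abbrev lens : List ℕ := [58653, 52136, 5586, 6384]

theorem no_block : ∀ J ∈ lens.sublists, J ≠ [] → J.length ≠ 4 → ¬ (J.sum + 1) ∣ 122760 := by
  decide +kernel

theorem isSimple : IsSimpleGroup ON := by
  have := finite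
  obtain ⟨O₁, hO₁, e₁, hc₁⟩ := suborbit (b := 1) (c := 1) (by decide +kernel) (by decide +kernel)
    ONData.forest_count1
  obtain ⟨O₂, hO₂, e₂, hc₂⟩ := suborbit (b := 6) (c := 2) (by decide +kernel) (by decide +kernel)
    ONData.forest_count2
  obtain ⟨O₃, hO₃, e₃, hc₃⟩ := suborbit (b := 12) (c := 3) (by decide +kernel) (by decide +kernel)
    ONData.forest_count3
  obtain ⟨O₄, hO₄, e₄, hc₄⟩ := suborbit (b := 32) (c := 4) (by decide +kernel) (by decide +kernel)
    ONData.forest_count4
  have hp : forest.cls (pt : ℕ) = 0 := by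
    show forest.cls 0 = 0
    decide +kernel
  have hd : ∀ {c c' : ℕ}, c ≠ c' →
      Disjoint (forest.classSet table c) (forest.classSet table c') := by
    intro c c' hne
    rw [Finset.disjoint_left]
    intro u h h'
    rw [Forest.mem_classSet] at h h'
    omega
  let t : ON := mk wordT
  have ht : t ^ 31 ^ 1 = 1 := by
    have e : t = appProd coding.gen (appWord coding.code coding.cinv wordT) := coding.mk_eq wordT
    rw [pow_one, e, ← appProd_replicate]
    have hw : appWord coding.code coding.cinv wordT = [6, 0, 4, 3, 5] := by decide +kernel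
    rw [hw]
    have hl : ∀ x ∈ (List.replicate 31 [6, 0, 4, 3, 5]).flatten, x < table.nl := by decide +kernel
    refine eq_one_of_fix ?_ fun e he u hu => ?_
    · refine Fin.ext ?_
      rw [PTab.hom_imgW hom_acts _ hl pt]
      show table.imgW _ 0 = 0
      decide +kernel
    · refine Fin.ext ?_
      rw [PTab.hom_imgW hom_acts _ hl u, hu]
      have h : ∀ e ∈ ONData.chainH,
          table.imgW (List.replicate 31 [6, 0, 4, 3, 5]).flatten e.1 = e.1 := by
        decide +kernel
      exact h e he
  refine isSimpleGroup_of hom pt card_eq.2 transitive (sub lH) hom_fix [O₁, O₂, O₃, O₄]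
    ?_ ?_ ?_ ?_ ?_ (p := 31) (k := 1) (m := 14865016320) (by norm_num) ?_ (by norm_num)
    (by decide +kernel) t 1 ht (fun M hM h => eq_top_of_wordT_mem M hM h) two_le
  · intro O hO
    simp only [List.mem_cons, List.not_mem_nil, or_false] at hO
    rcases hO with rfl | rfl | rfl | rfl
    exacts [⟨_, hO₁⟩, ⟨_, hO₂⟩, ⟨_, hO₃⟩, ⟨_, hO₄⟩]
  · intro O hO
    simp only [List.mem_cons, List.not_mem_nil, or_false] at hO
    rcases hO with rfl | rfl | rfl | rfl <;>
      simp only [e₁, e₂, e₃, e₄, Forest.mem_classSet, hp] <;> omega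
  · simp [e₁, e₂, e₃, e₄, hd]
  · have : table.N = 122760 := rfl
    simp [hc₁, hc₂, hc₃, hc₄, this]
  · intro I hI hne hlen
    have hmap : [O₁, O₂, O₃, O₄].map Finset.card = lens := by simp [hc₁, hc₂, hc₃, hc₄]
    have hs : I.map Finset.card ∈ lens.sublists :=
      List.mem_sublists.2 (hmap ▸ (List.mem_sublists.1 hI).map _)
    have hN : table.N = 122760 := rfl
    exact fun h => no_block _ hs (by simpa using hne) (by simpa using hlen) (h.trans hN.dvd)
  · rw [card_eq.1]; norm_num

theorem isON : Cfsg.IsON ON := ⟨isSimple, card_eq.1⟩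

theorem map_closure_H :
    (Subgroup.closure ({ON.a, ON.b, ON.c, ON.d, ON.e, ON.f} : Set (FreeGroup ON.Gen))).map
      (PresentedGroup.mk (coxRelators ON.edges ∪ {r | r ∈ ON.extra})) = sub lH := by
  rw [MonoidHom.map_closure]
  show _ = Subgroup.closure _
  congr 1
  simp only [lH, List.mem_cons, List.not_mem_nil, or_false, Set.setOf_or, Set.image_union,
    Set.setOf_eq_eq_singleton, Set.image_singleton, Set.image_insert_eq, Set.insert_eq]
  rfl

end CfsgLib.Sporadic.CosetCert.ONP
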