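import Cfsg.Agent.Lib.Sporadic.ONRepChecks
import Cfsg.Agent.Lib.Sporadic.ONPresented
import Mathlib.LinearAlgebra.Matrix.SpecialLinearGroup
import Mathlib.LinearAlgebra.Matrix.GeneralLinearGroup.Defs

/-!
# A triple cover of O'N in dimension 45 over the field of 7 elements

The seven matrices satisfy the relations modulo the scalars `K` of order 3, so O'N maps into
`GL₄₅(7) ⧸ K`, injectively as it is simple; the determinant is trivial on the image for the same
reason.
-/

set_option autoImplicit false
set_option maxRecDepth 100000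

namespace CfsgLib.Sporadic.ONRep

open Cfsg.Spor Matrix

attribute [local irreducible] scalOK PackedMatrix.dig ONRepData.gen

instance fact7 : Fact (Nat.Prime 7) := ⟨by norm_num⟩

theorem exists_toGL {m R : Type*} [Fintype m] [DecidableEq m] [CommRing R] (z : GL m R)
    (h : Matrix.GeneralLinearGroup.det z = 1) :
    ∃ y, Matrix.SpecialLinearGroup.toGL y = z := by
  have hd : (z : Matrix m m R).det = 1 := by
    rw [← Matrix.GeneralLinearGroup.val_det_apply, h]; rfl
  exact ⟨⟨z.1, hd⟩, Units.ext rfl⟩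

/-- The matrix of a letter. -/
noncomputable def matL (k : ℕ) : Matrix (Fin 45) (Fin 45) (ZMod 7) :=
  PackedMatrix.dec 7 45 (ONRepData.gen k)

theorem dec_scal {w : ℕ} (hw : w < 7) :
    PackedMatrix.dec 7 45 (scal 45 w) = Matrix.scalar (Fin 45) (w : ZMod 7) := by
  ext i j
  rw [PackedMatrix.dec, scal, List.getD_eq_getElem _ _ (by simp), Matrix.scalar_apply]
  simp only [List.getElem_map, List.getElem_range]
  have e : Nat.shiftLeft w (Nat.mul 16 i) =
      ∑ k ∈ Finset.range 45, (if k = (i : ℕ) then w else 0) * 65536 ^ k := by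
    show w <<< (16 * (i : ℕ)) = _
    rw [Nat.shiftLeft_eq, pow_mul]
    simp [Finset.sum_ite_eq', i.2]
  rw [e, PackedMatrix.dig_sum 45 _ (fun k _ => by split <;> omega) j j.2, Matrix.diagonal_apply]
  by_cases h : i = j
  · subst h; simp
  · rw [if_neg h, if_neg (fun e => h (Fin.ext e.symm)), Nat.cast_zero]

theorem scalOK_spec {L : List ℕ} {w : ℕ} (hw : w < 7) (hL : ∀ k ∈ L, k < 8)
    (h : scalOK L w = true) : (L.map matL).prod = Matrix.scalar (Fin 45) (w : ZMod 7) := by
  unfold scalOK at h
  obtain ⟨R, hR, -, dR⟩ := PackedMatrix.chain_spec (p := 7) (n := 45) (by norm_num) (by norm_num)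
    (by norm_num) (L.map ONRepData.gen) (fun B hB => by
      obtain ⟨k, hk, rfl⟩ := List.mem_map.1 hB
      exact List.all_eq_true.1 ok_gen _ (List.mem_range.2 (hL k hk))) _ _ ok_one h
  rw [← PackedMatrix.eqList_spec _ _ hR, dec_scal hw, PackedMatrix.dec_one, one_mul,
    List.map_map] at dR
  exact dR.symm

theorem matL_mul_self {k : ℕ} (hk : k ∈ [2, 3, 4, 5, 6, 7]) : matL k * matL k = 1 := by
  have h := scalOK_spec (L := [k, k]) (w := 1) (by norm_num) (fun j hj => by
    simp only [List.mem_cons, List.not_mem_nil, or_false] at hk hj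
    omega) (List.all_eq_true.1 sq_ok _ hk)
  simpa using h

theorem matL_g : matL 0 * matL 1 = 1 ∧ matL 1 * matL 0 = 1 := by
  constructor
  · simpa using scalOK_spec (L := [0, 1]) (w := 1) (by norm_num) (by decide) g_inv_ok.1
  · simpa using scalOK_spec (L := [1, 0]) (w := 1) (by norm_num) (by decide) g_inv_ok.2

/-- The invertible matrix of a letter. -/
noncomputable def uL : ℕ → GL (Fin 45) (ZMod 7)
  | 0 => ⟨matL 0, matL 1, matL_g.1, matL_g.2⟩
  | 1 => ⟨matL 1, matL 0, matL_g.2, matL_g.1⟩
  | 2 => ⟨matL 2, matL 2, matL_mul_self (by decide), matL_mul_self (by decide)⟩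
  | 3 => ⟨matL 3, matL 3, matL_mul_self (by decide), matL_mul_self (by decide)⟩
  | 4 => ⟨matL 4, matL 4, matL_mul_self (by decide), matL_mul_self (by decide)⟩
  | 5 => ⟨matL 5, matL 5, matL_mul_self (by decide), matL_mul_self (by decide)⟩
  | 6 => ⟨matL 6, matL 6, matL_mul_self (by decide), matL_mul_self (by decide)⟩
  | _ => ⟨matL 7, matL 7, matL_mul_self (by decide), matL_mul_self (by decide)⟩

theorem val_uL {k : ℕ} (hk : k < 8) :
    ((uL k : GL (Fin 45) (ZMod 7)) : Matrix (Fin 45) (Fin 45) (ZMod 7)) = matL k := by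
  interval_cases k <;> rfl

theorem uL_inv_zero : (uL 0)⁻¹ = uL 1 := Units.ext rfl

theorem uL_inv {k : ℕ} (hk : k ∈ [2, 3, 4, 5, 6, 7]) : (uL k)⁻¹ = uL k := by
  simp only [List.mem_cons, List.not_mem_nil, or_false] at hk
  rcases hk with rfl | rfl | rfl | rfl | rfl | rfl <;> exact Units.ext rfl

/-- The scalar `4` of order 3. -/
noncomputable def omega : GL (Fin 45) (ZMod 7) :=
  Units.map (Matrix.scalar (Fin 45)).toMonoidHom ⟨4, 2, by decide, by decide⟩

/-- The scalars of order dividing 3. -/
noncomputable def K : Subgroup (GL (Fin 45) (ZMod 7)) := Subgroup.zpowers omega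

theorem omega_comm (M : GL (Fin 45) (ZMod 7)) : Commute omega M :=
  Units.ext (Matrix.scalar_commute (4 : ZMod 7) (fun r => mul_comm 4 r) M.1).eq

theorem K_le_center : K ≤ Subgroup.center _ :=
  Subgroup.zpowers_le.2 (Subgroup.mem_center_iff.2 fun M => (omega_comm M).eq.symm)

instance K_normal : K.Normal :=
  ⟨fun z hz M => by
    rw [Subgroup.mem_center_iff.1 (K_le_center hz) M, mul_inv_cancel_right]
    exact hz⟩

theorem omega_orderOf : orderOf omega = 3 := by
  rw [omega, orderOf_injective _ (Units.map_injective fun a b h => Matrix.scalar_inj.1 h)]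
  exact orderOf_eq_prime (by decide) (by decide)

theorem card_K : Nat.card K = 3 := by rw [K, Nat.card_zpowers, omega_orderOf]

theorem val_prod (L : List ℕ) (hL : ∀ k ∈ L, k < 8) :
    (((L.map uL).prod : GL (Fin 45) (ZMod 7)) : Matrix (Fin 45) (Fin 45) (ZMod 7)) =
      (L.map matL).prod := by
  induction L with
  | nil => rfl
  | cons x t ih =>
    rw [List.map_cons, List.prod_cons, Units.val_mul, ih fun k hk => hL k (List.mem_cons_of_mem _ hk),
      val_uL (hL x List.mem_cons_self), List.map_cons, List.prod_cons]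

theorem prod_eq_one {L : List ℕ} (hL : ∀ k ∈ L, k < 8) (h : scalOK L 1 = true) :
    (L.map uL).prod = 1 :=
  Units.ext (by rw [val_prod L hL, scalOK_spec (by norm_num) hL h, Nat.cast_one, map_one]; rfl)

theorem prod_eq_omega {L : List ℕ} (hL : ∀ k ∈ L, k < 8) (h : scalOK L 4 = true) :
    (L.map uL).prod = omega :=
  Units.ext (by rw [val_prod L hL, scalOK_spec (by norm_num) hL h]; rfl)

/-- The number of a generator. -/
def num : ON.Gen → ℕ
  | .g => 0 | .a => 2 | .b => 3 | .c => 4 | .d => 5 | .e => 6 | .f => 7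

/-- The matrix of a generator. -/
noncomputable def unit (x : ON.Gen) : GL (Fin 45) (ZMod 7) := uL (num x)

open ON in
theorem nodes_eq : coxNodes ON.edges ⊆ [Gen.a, Gen.b, Gen.c, Gen.d, Gen.e, Gen.f] := by
  decide +kernel

theorem pair_pow {i j m : ℕ} (h : (i, j, m) ∈ pairs) : (uL i * uL j) ^ m = 1 := by
  have hlt : ∀ q ∈ pairs, q.1 < 8 ∧ q.2.1 < 8 := by decide
  have h' := List.all_eq_true.1 pairs_ok _ h
  have hp := prod_eq_one (L := (List.replicate m [i, j]).flatten) (fun k hk => by
    rw [List.mem_flatten] at hk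
    obtain ⟨l, hl, hk⟩ := hk
    rw [List.eq_of_mem_replicate hl] at hk
    simp only [List.mem_cons, List.not_mem_nil, or_false] at hk
    rcases hk with rfl | rfl
    exacts [(hlt _ h).1, (hlt _ h).2]) h'
  simpa [List.map_flatten, List.prod_flatten] using hp

theorem cox_cases : ∀ x ∈ coxNodes ON.edges, ∀ y ∈ coxNodes ON.edges,
    (num x = num y ∧ coxLabel ON.edges x y = 1) ∨
      (num x, num y, coxLabel ON.edges x y) ∈ pairs ∨
        (num y, num x, coxLabel ON.edges x y) ∈ pairs := by decide +kernel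

theorem num_node : ∀ x ∈ coxNodes ON.edges, num x ∈ [2, 3, 4, 5, 6, 7] := by decide +kernel

theorem cox_pow {x y : ON.Gen} (hx : x ∈ coxNodes ON.edges) (hy : y ∈ coxNodes ON.edges) :
    (unit x * unit y) ^ coxLabel ON.edges x y = 1 := by
  rcases cox_cases x hx y hy with ⟨e, h⟩ | h | h
  · rw [h, pow_one, unit, unit, e]
    nth_rewrite 1 [← uL_inv (num_node y hy)]
    exact inv_mul_cancel _
  · exact pair_pow h
  · rw [unit, unit, show uL (num x) * uL (num y) = (uL (num y) * uL (num x))⁻¹ by
      rw [_root_.mul_inv_rev, uL_inv (num_node x hx), uL_inv (num_node y hy)], inv_pow, pair_pow h,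
      inv_one]

theorem rels_mem : ∀ r ∈ coxRelators ON.edges ∪ {r | r ∈ ON.extra},
    FreeGroup.lift unit r ∈ K := by
  have hω : omega ∈ K := Subgroup.mem_zpowers omega
  rintro r (⟨x, hx, y, hy, rfl⟩ | hr)
  · rw [map_pow, map_mul, FreeGroup.lift_apply_of, FreeGroup.lift_apply_of, cox_pow hx hy]
    exact K.one_mem
  · have hi : ∀ k ∈ [2, 3, 4, 5, 6, 7], (uL k)⁻¹ = uL k := fun k hk => uL_inv hk
    have h2 := hi 2 (by decide)
    have h3 := hi 3 (by decide)
    have h4 := hi 4 (by decide)
    have h5 := hi 5 (by decide)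
    have h6 := hi 6 (by decide)
    simp only [Set.mem_ofPred_eq, ON.extra, List.mem_cons, List.not_mem_nil, or_false] at hr
    rcases hr with rfl | rfl | rfl | rfl | rfl | rfl | rfl <;>
      simp only [map_pow, map_mul, map_inv, FreeGroup.lift_apply_of, ON.a, ON.b, ON.c, ON.d,
        ON.e, ON.f, ON.g, unit, num, pow_succ, pow_zero, one_mul, _root_.mul_inv_rev, uL_inv_zero,
        h2, h3, h4, h5, h6, mul_assoc]
    · convert (prod_eq_one (by decide) rel0_ok).symm ▸ K.one_mem using 1
      simp [mul_assoc]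
    · convert (prod_eq_one (by decide) rel1_ok).symm ▸ K.one_mem using 1
      simp [mul_assoc]
    · convert (prod_eq_one (by decide) rel2_ok).symm ▸ K.one_mem using 1
      simp [mul_assoc]
    · convert (prod_eq_one (by decide) rel3_ok).symm ▸ K.one_mem using 1
      simp [mul_assoc]
    · convert (prod_eq_omega (by decide) rel4_ok).symm ▸ hω using 1
      simp [mul_assoc]
    · convert (prod_eq_omega (by decide) rel5_ok).symm ▸ hω using 1
      simp [mul_assoc]
    · convert (prod_eq_omega (by decide) rel6_ok).symm ▸ hω using 1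
      simp [mul_assoc]

theorem rels_quot : ∀ r ∈ coxRelators ON.edges ∪ {r | r ∈ ON.extra},
    FreeGroup.lift (fun x => QuotientGroup.mk' K (unit x)) r = 1 := by
  intro r hr
  have e : FreeGroup.lift (fun x => QuotientGroup.mk' K (unit x)) =
      (QuotientGroup.mk' K).comp (FreeGroup.lift unit) :=
    FreeGroup.ext_hom _ _ fun x => by simp
  rw [e, MonoidHom.comp_apply, QuotientGroup.mk'_apply, QuotientGroup.eq_one_iff]
  exact rels_mem r hr

/-- O'N in `GL₄₅(7) ⧸ K`. -/
noncomputable def proj : ON →* GL (Fin 45) (ZMod 7) ⧸ K := PresentedGroup.toGroup rels_quot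

theorem proj_of (x : ON.Gen) : proj (PresentedGroup.of x) = QuotientGroup.mk' K (unit x) :=
  PresentedGroup.toGroup.of rels_quot

theorem entry : ((PackedMatrix.dig ((ONRepData.gen 0).getD 0 0) 1 : ℕ) : ZMod 7) ≠ 0 := by
  decide +kernel

theorem K_entry {z : GL (Fin 45) (ZMod 7)} (hz : z ∈ K) :
    (z : Matrix (Fin 45) (Fin 45) (ZMod 7)) 0 1 = 0 := by
  obtain ⟨k, rfl⟩ := Subgroup.mem_zpowers_iff.1 hz
  rw [omega, ← map_zpow, Units.coe_map]
  show Matrix.scalar (Fin 45) _ 0 1 = 0
  rw [Matrix.scalar_apply, Matrix.diagonal_apply_ne]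
  decide

theorem proj_injective : Function.Injective proj := by
  have := CosetCert.ONP.isSimple
  rw [← MonoidHom.ker_eq_bot_iff]
  refine (proj.normal_ker.eq_bot_or_eq_top).resolve_right fun h => entry ?_
  have e : proj (PresentedGroup.of ON.Gen.g) = 1 :=
    MonoidHom.mem_ker.1 (h ▸ Subgroup.mem_top _)
  rw [proj_of, QuotientGroup.mk'_apply, QuotientGroup.eq_one_iff] at e
  exact K_entry e

theorem det_omega : Matrix.GeneralLinearGroup.det omega = 1 := by
  refine Units.ext ?_
  rw [Matrix.GeneralLinearGroup.val_det_apply, omega, Units.coe_map]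
  show (Matrix.scalar (Fin 45) (4 : ZMod 7)).det = 1
  rw [Matrix.scalar_apply, Matrix.det_diagonal, Finset.prod_const, Finset.card_univ,
    Fintype.card_fin]
  decide +kernel

theorem K_le_det : K ≤ Matrix.GeneralLinearGroup.det.ker := by
  rw [K, Subgroup.zpowers_le, MonoidHom.mem_ker]
  exact det_omega

/-- The determinant on `GL₄₅(7) ⧸ K`. -/
noncomputable def detQ : GL (Fin 45) (ZMod 7) ⧸ K →* (ZMod 7)ˣ :=
  QuotientGroup.lift K Matrix.GeneralLinearGroup.det
    K_le_det

theorem det_proj (a : ON) : detQ (proj a) = 1 := by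
  have := CosetCert.ONP.isSimple
  have := CosetCert.ONP.finite
  rcases (detQ.comp proj).normal_ker.eq_bot_or_eq_top with h | h
  · exfalso
    have h1 := Nat.card_le_card_of_injective _ ((MonoidHom.ker_eq_bot_iff _).1 h)
    rw [CosetCert.ONP.card_eq.1, Nat.card_eq_fintype_card, ZMod.card_units] at h1
    omega
  · have ha : a ∈ (detQ.comp proj).ker := h ▸ Subgroup.mem_top a
    exact ha

attribute [local irreducible] K omega uL unit proj

/-- The cover inside `SL₄₅(7)`. -/
noncomputable def cover : Subgroup (Matrix.SpecialLinearGroup (Fin 45) (ZMod 7)) :=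
  (proj.range.comap (QuotientGroup.mk' K)).comap Matrix.SpecialLinearGroup.toGL

/-- The cover onto the range of O'N. -/
noncomputable def onto : cover →* proj.range where
  toFun h := ⟨QuotientGroup.mk' K (Matrix.SpecialLinearGroup.toGL h.1), h.2⟩
  map_one' := Subtype.ext (by simp)
  map_mul' x y := Subtype.ext (by simp)

theorem onto_surjective : Function.Surjective onto := by
  rintro ⟨q, a, rfl⟩
  obtain ⟨z, hz⟩ := QuotientGroup.mk'_surjective K (proj a)
  have hd : Matrix.GeneralLinearGroup.det z = 1 := by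
    have := det_proj a
    rw [← hz] at this
    exact (QuotientGroup.lift_mk' K K_le_det z).symm.trans this
  obtain ⟨y, hy⟩ := exists_toGL z hd
  have hm : QuotientGroup.mk' K (Matrix.SpecialLinearGroup.toGL y) = proj a := by rw [hy, hz]
  exact ⟨⟨y, a, hm.symm⟩, Subtype.ext hm⟩

/-- The cover onto O'N. -/
noncomputable def toON : cover →* ON :=
  (MonoidHom.ofInjective proj_injective).symm.toMonoidHom.comp onto

theorem toON_surjective : Function.Surjective toON :=
  (MonoidHom.ofInjective proj_injective).symm.surjective.comp onto_surjective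

theorem mem_ker_iff (h : cover) :
    h ∈ toON.ker ↔ Matrix.SpecialLinearGroup.toGL h.1 ∈ K := by
  rw [MonoidHom.mem_ker, toON, MonoidHom.comp_apply, MulEquiv.coe_toMonoidHom,
    MulEquiv.map_eq_one_iff, Subtype.ext_iff]
  exact QuotientGroup.eq_one_iff _

theorem center_ON : Subgroup.center ON = ⊥ := by
  have := CosetCert.ONP.isSimple
  refine (inferInstance : (Subgroup.center ON).Normal).eq_bot_or_eq_top.resolve_right fun e => ?_
  let _ : CommGroup ON := Group.commGroupOfCenterEqTop e
  have h := IsSimpleGroup.prime_card (α := ON)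
  rw [CosetCert.ONP.card_eq.1] at h
  have := h.eq_one_or_self_of_dvd 2 (by norm_num)
  omega

theorem center_cover : Subgroup.center cover = toON.ker := by
  have := CosetCert.ONP.isSimple
  apply le_antisymm
  · intro h hh
    rw [MonoidHom.mem_ker]
    have hc : toON h ∈ Subgroup.center ON := Subgroup.mem_center_iff.2 fun b => by
      obtain ⟨b, rfl⟩ := toON_surjective b
      rw [← map_mul, ← map_mul, Subgroup.mem_center_iff.1 hh b]
    rw [center_ON, Subgroup.mem_bot] at hc
    exact hc
  · intro h hh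
    rw [mem_ker_iff] at hh
    refine Subgroup.mem_center_iff.2 fun k => Subtype.ext ?_
    exact Matrix.SpecialLinearGroup.toGL_injective (by
      rw [Subgroup.coe_mul, Subgroup.coe_mul, map_mul, map_mul]
      exact Subgroup.mem_center_iff.1 (K_le_center hh) _)

theorem card_center : Nat.card (Subgroup.center cover) = 3 := by
  rw [center_cover, ← card_K]
  refine Nat.card_eq_of_bijective
    (fun h => ⟨Matrix.SpecialLinearGroup.toGL h.1.1, (mem_ker_iff h.1).1 h.2⟩) ⟨?_, ?_⟩
  · intro x y e
    exact Subtype.ext (Subtype.ext (Matrix.SpecialLinearGroup.toGL_injective (Subtype.ext_iff.1 e)))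
  · rintro ⟨z, hz⟩
    obtain ⟨y, hy⟩ := exists_toGL z (MonoidHom.mem_ker.1 (K_le_det hz))
    have hy' : Matrix.SpecialLinearGroup.toGL y ∈ K := hy.symm ▸ hz
    have hm : y ∈ cover := ⟨1, by rw [map_one]; exact ((QuotientGroup.eq_one_iff _).2 hy').symm⟩
    exact ⟨⟨⟨y, hm⟩, (mem_ker_iff _).2 hy'⟩, Subtype.ext hy⟩

/-- A triple cover of O'N in `SL₄₅(7)`. -/
theorem exists_cover : ∃ H : Subgroup (Matrix.SpecialLinearGroup (Fin 45) (ZMod 7)),
    Nat.card (Subgroup.center H) = 3 ∧ Cfsg.IsON (H ⧸ Subgroup.center H) := by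
  refine ⟨cover, card_center, ?_⟩
  have e : cover ⧸ Subgroup.center cover ≃* ON :=
    (QuotientGroup.quotientMulEquivOfEq center_cover).trans
      (QuotientGroup.quotientKerEquivOfSurjective toON toON_surjective)
  have := CosetCert.ONP.isSimple
  have : Finite ON := CosetCert.ONP.finite
  exact ⟨e.isSimpleGroup, by
    rw [Nat.card_congr e.toEquiv]; exact CosetCert.ONP.card_eq.1⟩

end CfsgLib.Sporadic.ONRep
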