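import Cfsg.Agent.Lib.Sporadic.ONRepData.ONRepGens

/-!
# Kernel checks: the matrices satisfy the relations of O'N up to the scalars of order 3

Letters: `g, g⁻¹, a, b, c, d, e, f` are numbered 0 to 7. Each relator is a list of letters with
the exponent `t` for which its product is the scalar `4 ^ t`.
-/

set_option maxRecDepth 100000

namespace CfsgLib.Sporadic.ONRep

open PackedMatrix

/-- The packed scalar matrix. -/
def scal (n w : ℕ) : List ℕ := (List.range n).map fun i => Nat.shiftLeft w (Nat.mul 16 i)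

/-- The check that a product of letters is the scalar `w`. -/
noncomputable def scalOK (L : List ℕ) (w : ℕ) : Bool :=
  chain 7 45 (L.map ONRepData.gen) (eqList (scal 45 w)) (one 45)

theorem ok_gen : (List.range 8).all (fun k => ok 7 45 (ONRepData.gen k)) = true := by
  decide +kernel

theorem ok_one : ok 7 45 (one 45) = true := by decide +kernel

theorem g_inv_ok : scalOK [0, 1] 1 = true ∧ scalOK [1, 0] 1 = true := by
  constructor <;> decide +kernel

theorem sq_ok : [2, 3, 4, 5, 6, 7].all (fun k => scalOK [k, k] 1) = true := by decide +kernel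

/-- The pairs of nodes with the orders of their products. -/
def pairs : List (ℕ × ℕ × ℕ) :=
  [(2, 3, 3), (2, 4, 2), (2, 5, 2), (2, 6, 2), (2, 7, 2), (3, 4, 3), (3, 5, 2), (3, 6, 2),
    (3, 7, 2), (4, 5, 8), (4, 6, 2), (4, 7, 2), (5, 6, 3), (5, 7, 2), (6, 7, 3)]

theorem pairs_ok : pairs.all (fun q => scalOK (List.replicate q.2.2 [q.1, q.2.1]).flatten 1) =
    true := by decide +kernel

theorem rel0_ok : scalOK [2, 7, 1, 1] 1 = true := by decide +kernel

theorem rel1_ok : scalOK [2, 7, 5, 4, 5, 4, 5, 4, 5, 4] 1 = true := by decide +kernel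

theorem rel2_ok : scalOK [4, 1, 5, 1, 5, 4, 5, 0, 5, 0] 1 = true := by decide +kernel

theorem rel3_ok : scalOK [5, 1, 4, 1, 4, 5, 4, 0, 4, 0] 1 = true := by decide +kernel

theorem rel4_ok :
    scalOK [3, 4, 5, 0, 3, 4, 5, 0, 3, 4, 5, 0, 3, 4, 5, 0, 3, 4, 5, 0] 4 = true := by
  decide +kernel

theorem rel5_ok : scalOK [0, 3, 4, 0, 4, 3, 0, 3, 4, 0, 4] 4 = true := by decide +kernel

theorem rel6_ok : scalOK [0, 6, 5, 0, 5, 6, 0, 6, 5, 0, 5] 4 = true := by decide +kernel

end CfsgLib.Sporadic.ONRep
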