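import Cfsg.Agent.Lib.Sporadic.ONSubData.janChecks
import Cfsg.Agent.Lib.Sporadic.ONSubData.matChecks

/-!
# The Janko and Mathieu subgroups of the O'Nan group

Two subgroups of orders 175560 and 7920, both simple, and the permutation group they live in.
-/

open Cfsg.Spor

namespace CfsgLib.Sporadic.CosetCert.ONP

open ONSubData
open ONData (table)

theorem factorization_of_split {p k m n : ℕ} (hp : p.Prime) (hn : n = p ^ k * m) (hm : ¬ p ∣ m)
    (h0 : m ≠ 0) : n.factorization p = k := by
  subst hn
  rw [Nat.factorization_mul (pow_ne_zero _ hp.pos.ne') h0, Finsupp.add_apply,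
    hp.factorization_pow, Finsupp.single_eq_same, Nat.factorization_eq_zero_of_not_dvd hm,
    add_zero]

/-- The subgroup of order 175560. -/
noncomputable abbrev janSub : Subgroup ON := gen2 janX janY

/-- The subgroup of order 7920. -/
noncomputable abbrev matSub : Subgroup ON := gen2 matX matY

theorem card_janSub : Nat.card janSub = 175560 := by
  have := finite
  have hd : ∀ {L : List (List ℕ)}, groupOK jankey L = true → L.length ∣ Nat.card janSub :=
    fun h => dvd_card janX_lt janY_lt jankey_eq h
  have h2 : 8 ∣ Nat.card janSub := hd jansyl2_ok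
  have h3 : 3 ∣ Nat.card janSub := hd jansyl3_ok
  have h5 : 5 ∣ Nat.card janSub := hd jansyl5_ok
  have h7 : 7 ∣ Nat.card janSub := hd jansyl7_ok
  have h11 : 11 ∣ Nat.card janSub := hd jansyl11_ok
  have h19 : 19 ∣ Nat.card janSub := hd jansyl19_ok
  have a := Nat.Coprime.mul_dvd_of_dvd_of_dvd (by norm_num : Nat.Coprime 8 3) h2 h3
  have b := Nat.Coprime.mul_dvd_of_dvd_of_dvd (by norm_num : Nat.Coprime 24 5) a h5
  have c := Nat.Coprime.mul_dvd_of_dvd_of_dvd (by norm_num : Nat.Coprime 120 7) b h7
  have d := Nat.Coprime.mul_dvd_of_dvd_of_dvd (by norm_num : Nat.Coprime 840 11) c h11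
  have e := Nat.Coprime.mul_dvd_of_dvd_of_dvd (by norm_num : Nat.Coprime 9240 19) d h19
  exact le_antisymm jancard_le (Nat.le_of_dvd Nat.card_pos e)

theorem card_matSub : Nat.card matSub = 7920 := by
  have := finite
  have hd : ∀ {L : List (List ℕ)}, groupOK matkey L = true → L.length ∣ Nat.card matSub :=
    fun h => dvd_card matX_lt matY_lt matkey_eq h
  have h2 : 16 ∣ Nat.card matSub := hd matsyl2_ok
  have h3 : 9 ∣ Nat.card matSub := hd matsyl3_ok
  have h5 : 5 ∣ Nat.card matSub := hd matsyl5_ok
  have h11 : 11 ∣ Nat.card matSub := hd matsyl11_ok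
  have a := Nat.Coprime.mul_dvd_of_dvd_of_dvd (by norm_num : Nat.Coprime 16 9) h2 h3
  have b := Nat.Coprime.mul_dvd_of_dvd_of_dvd (by norm_num : Nat.Coprime 144 5) a h5
  have c := Nat.Coprime.mul_dvd_of_dvd_of_dvd (by norm_num : Nat.Coprime 720 11) b h11
  exact le_antisymm matcard_le (Nat.le_of_dvd Nat.card_pos c)

theorem isSimple_janSub : IsSimpleGroup janSub := by
  have := finite
  have : Nontrivial janSub := Finite.one_lt_card_iff_nontrivial.1 (by rw [card_janSub]; norm_num)
  refine isSimpleGroup_of_sylow fun p hp hd => ?_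
  rw [card_janSub] at hd ⊢
  have hc : p ∣ 2 ^ 3 * 3 * 5 * 7 * 11 * 19 := by norm_num; exact hd
  simp only [hp.dvd_mul] at hc
  have hp' : ∀ {q : ℕ}, q.Prime → p ∣ q → p = q := fun hq h => (Nat.prime_dvd_prime_iff_eq hp hq).1 h
  rcases hc with (((((h | h) | h) | h) | h) | h)
  · obtain rfl := hp' (by norm_num) (hp.dvd_of_dvd_pow h)
    rw [factorization_of_split hp (k := 3) (m := 21945) (by norm_num) (by norm_num) (by norm_num)]
    exact sylow_cond janX_lt janY_lt jankey_eq jansyl2_ok janfac2_ok
  · obtain rfl := hp' (by norm_num) h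
    rw [factorization_of_split hp (k := 1) (m := 58520) (by norm_num) (by norm_num) (by norm_num)]
    exact sylow_cond janX_lt janY_lt jankey_eq jansyl3_ok janfac3_ok
  · obtain rfl := hp' (by norm_num) h
    rw [factorization_of_split hp (k := 1) (m := 35112) (by norm_num) (by norm_num) (by norm_num)]
    exact sylow_cond janX_lt janY_lt jankey_eq jansyl5_ok janfac5_ok
  · obtain rfl := hp' (by norm_num) h
    rw [factorization_of_split hp (k := 1) (m := 25080) (by norm_num) (by norm_num) (by norm_num)]
    exact sylow_cond janX_lt janY_lt jankey_eq jansyl7_ok janfac7_ok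
  · obtain rfl := hp' (by norm_num) h
    rw [factorization_of_split hp (k := 1) (m := 15960) (by norm_num) (by norm_num) (by norm_num)]
    exact sylow_cond janX_lt janY_lt jankey_eq jansyl11_ok janfac11_ok
  · obtain rfl := hp' (by norm_num) h
    rw [factorization_of_split hp (k := 1) (m := 9240) (by norm_num) (by norm_num) (by norm_num)]
    exact sylow_cond janX_lt janY_lt jankey_eq jansyl19_ok janfac19_ok

theorem isSimple_matSub : IsSimpleGroup matSub := by
  have := finite
  have : Nontrivial matSub := Finite.one_lt_card_iff_nontrivial.1 (by rw [card_matSub]; norm_num)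
  refine isSimpleGroup_of_sylow fun p hp hd => ?_
  rw [card_matSub] at hd ⊢
  have hc : p ∣ 2 ^ 4 * 3 ^ 2 * 5 * 11 := by norm_num; exact hd
  simp only [hp.dvd_mul] at hc
  have hp' : ∀ {q : ℕ}, q.Prime → p ∣ q → p = q := fun hq h => (Nat.prime_dvd_prime_iff_eq hp hq).1 h
  rcases hc with (((h | h) | h) | h)
  · obtain rfl := hp' (by norm_num) (hp.dvd_of_dvd_pow h)
    rw [factorization_of_split hp (k := 4) (m := 495) (by norm_num) (by norm_num) (by norm_num)]
    exact sylow_cond matX_lt matY_lt matkey_eq matsyl2_ok matfac2_ok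
  · obtain rfl := hp' (by norm_num) (hp.dvd_of_dvd_pow h)
    rw [factorization_of_split hp (k := 2) (m := 880) (by norm_num) (by norm_num) (by norm_num)]
    exact sylow_cond matX_lt matY_lt matkey_eq matsyl3_ok matfac3_ok
  · obtain rfl := hp' (by norm_num) h
    rw [factorization_of_split hp (k := 1) (m := 1584) (by norm_num) (by norm_num) (by norm_num)]
    exact sylow_cond matX_lt matY_lt matkey_eq matsyl5_ok matfac5_ok
  · obtain rfl := hp' (by norm_num) h
    rw [factorization_of_split hp (k := 1) (m := 720) (by norm_num) (by norm_num) (by norm_num)]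
    exact sylow_cond matX_lt matY_lt matkey_eq matsyl11_ok matfac11_ok

theorem exists_permGroup_aux :
    ∃ H : Subgroup (Equiv.Perm (Fin table.N)), Cfsg.IsON H ∧
      MulAction.IsPretransitive H (Fin table.N) ∧
      Nat.card (MulAction.stabilizer H pt) = 3753792 ∧
      (∃ K : Subgroup H, Cfsg.IsJ1 K) ∧ (∃ K : Subgroup H, Cfsg.IsM11 K) := by
  have := finite
  have := isSimple
  have hinj := card_eq.2
  let e : ON ≃* hom.range := MonoidHom.ofInjective hinj
  refine ⟨hom.range, ?_⟩
  have hs : IsSimpleGroup hom.range := e.symm.isSimpleGroup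
  have hcard : Nat.card hom.range = 460815505920 := by
    rw [← Nat.card_congr e.toEquiv, card_eq.1]
  have htr : MulAction.IsPretransitive hom.range (Fin table.N) := ⟨fun u v => by
    obtain ⟨a, ha⟩ := transitive u
    obtain ⟨b, hb⟩ := transitive v
    refine ⟨⟨hom (b * a⁻¹), _, rfl⟩, ?_⟩
    show hom (b * a⁻¹) u = v
    rw [← ha, ← hb, ← Equiv.Perm.mul_apply, ← map_mul, inv_mul_cancel_right]⟩
  refine ⟨⟨hs, hcard⟩, htr, ?_, ⟨(janSub.map e.toMonoidHom), ?_⟩, ⟨(matSub.map e.toMonoidHom), ?_⟩⟩
  · have h := Nat.card_congr (MulAction.orbitProdStabilizerEquivGroup hom.range pt)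
    rw [Nat.card_prod, MulAction.orbit_eq_univ, Nat.card_coe_set_eq, Set.ncard_univ, Nat.card_fin,
      hcard] at h
    have hN : table.N = 122760 := rfl
    have h' := (congrArg (fun z => z * Nat.card (MulAction.stabilizer hom.range pt)) hN).symm.trans h
    omega
  · let f := janSub.equivMapOfInjective e.toMonoidHom e.injective
    have := isSimple_janSub
    exact ⟨f.symm.isSimpleGroup, (Nat.card_congr f.toEquiv).symm.trans card_janSub⟩
  · let f := matSub.equivMapOfInjective e.toMonoidHom e.injective
    have := isSimple_matSub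
    exact ⟨f.symm.isSimpleGroup, (Nat.card_congr f.toEquiv).symm.trans card_matSub⟩

theorem exists_permGroup :
    ∃ H : Subgroup (Equiv.Perm (Fin 122760)), Cfsg.IsON H ∧
      MulAction.IsPretransitive H (Fin 122760) ∧
      Nat.card (MulAction.stabilizer H (0 : Fin 122760)) = 3753792 ∧
      (∃ K : Subgroup H, Cfsg.IsJ1 K) ∧ (∃ K : Subgroup H, Cfsg.IsM11 K) :=
  exists_permGroup_aux

end CfsgLib.Sporadic.CosetCert.ONP
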