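import Cfsg.Agent.Lib.Sporadic.OctadOrbits

/-!
The points outside the long orbit of a group containing the pointwise stabiliser of an octad.
-/

set_option autoImplicit false

namespace CfsgLib.Sporadic.OctadRest

open Cfsg CfsgLib.SmallGroups.Golay CfsgLib.SmallGroups.GolayOctads CfsgLib.SmallGroups.M24Group
  CfsgLib.SmallGroups.MathieuSets CfsgLib.Sporadic.OctadStabilizer
  CfsgLib.Sporadic.IndexPoints CfsgLib.Sporadic.MathieuLocalCounts CfsgLib.Sporadic.OctadOrbits
open scoped Pointwise

variable {o : Finset GolayPt} {K : Subgroup (Equiv.Perm GolayPt)}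

/-- The points of the octad outside the orbit of the other points. -/
noncomputable def rest (K : Subgroup (Equiv.Perm GolayPt)) (o : Finset GolayPt) : Finset GolayPt := by
  classical
  exact o.filter fun r => ∀ x ∉ o, ∀ g ∈ K, g x ≠ r

theorem mem_rest {r : GolayPt} : r ∈ rest K o ↔ r ∈ o ∧ ∀ x ∉ o, ∀ g ∈ K, g x ≠ r := by
  classical
  simp [rest]

theorem rest_subset : rest K o ⊆ o := fun _ h => (mem_rest.1 h).1

theorem rest_invariant (ho : o ∈ octads) (hE : ptStab o ≤ K) {g : Equiv.Perm GolayPt} (hg : g ∈ K) {r : GolayPt}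
    (hr : r ∈ rest K o) : g r ∈ rest K o := by
  have hmem : g r ∈ o := by
    by_contra hgr
    exact (mem_rest.1 hr).2 _ hgr g⁻¹ (inv_mem hg) (by simp)
  refine mem_rest.2 ⟨hmem, fun x hx k hk e => (mem_rest.1 hr).2 x hx (g⁻¹ * k) (mul_mem (inv_mem hg) hk) ?_⟩
  rw [Equiv.Perm.mul_apply, e]
  simp

theorem fixed_mem_rest {z : GolayPt} (hz : z ∈ o) (hfix : ∀ g ∈ K, g z = z) : z ∈ rest K o := by
  refine mem_rest.2 ⟨hz, fun x hx g hg e => hx ?_⟩
  rw [show x = z from g.injective (e.trans (hfix g hg).symm)]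
  exact hz

/-- The complement of the rest is a single orbit. -/
theorem orbit_eq (ho : o ∈ octads) (hE : ptStab o ≤ K) {x : GolayPt} (hx : x ∉ o) :
    MulAction.orbit K x = (((rest K o)ᶜ : Finset GolayPt) : Set GolayPt) := by
  ext y
  rw [Finset.coe_compl, Set.mem_compl_iff, Finset.mem_coe]
  constructor
  · rintro ⟨g, rfl⟩ hy
    exact (mem_rest.1 hy).2 x hx g g.2 rfl
  · intro hy
    by_cases hyo : y ∈ o
    · rw [mem_rest] at hy
      push Not at hy
      obtain ⟨w, hw, g, hg, e⟩ := hy hyo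
      obtain ⟨v, hv, e'⟩ := outside_transitive ho hx hw
      exact ⟨⟨g * v, mul_mem hg (hE hv)⟩, by
        show (g * v) x = y
        rw [Equiv.Perm.mul_apply, e', e]⟩
    · obtain ⟨v, hv, e'⟩ := outside_transitive ho hx hyo
      exact ⟨⟨v, hE hv⟩, e'⟩

theorem length_dvd (ho : o ∈ octads) (hE : ptStab o ≤ K) : 24 - (rest K o).card ∣ Nat.card K := by
  obtain ⟨x, -, hx⟩ := Finset.exists_mem_notMem_of_card_lt_card (t := Finset.univ) (s := o)
    (by rw [Finset.card_univ, card_golayPt, ho.2]; norm_num)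
  have h := (MulAction.stabilizer K x).index_dvd_card
  rwa [MulAction.index_stabilizer, orbit_eq ho hE hx, Set.ncard_coe_finset, Finset.card_compl, card_golayPt] at h

theorem smul_eq_of_rest (ho : o ∈ octads) (hKM : K ≤ M24) (hE : ptStab o ≤ K) (h : 5 ≤ (rest K o).card)
    {g : Equiv.Perm GolayPt} (hg : g ∈ K) : g • o = o :=
  smul_eq_of_five ho (hKM hg) rest_subset h fun _ hr => rest_invariant ho hE hg hr

/-- With a rest of four points no element of order seven exists. -/
theorem no_seven (ho : o ∈ octads) (hKM : K ≤ M24) (hE : ptStab o ≤ K) (h4 : (rest K o).card = 4)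
    {g : Equiv.Perm GolayPt} (hg : g ∈ K) : orderOf g ≠ 7 := by
  intro hord
  have : Fact (Nat.Prime 7) := ⟨by norm_num⟩
  obtain ⟨hle, hmod⟩ := card_fixedPts_eq (hKM hg) hord (by norm_num)
  have hm := card_fixedPts_mod hord (rest K o : Set GolayPt) fun r hr => rest_invariant ho hE hg hr
  have hsub : {r | r ∈ (rest K o : Set GolayPt) ∧ g r = r}.ncard ≤ 4 := by
    refine (Set.ncard_le_ncard (fun r hr => hr.1) (Finset.finite_toSet _)).trans ?_
    rw [Set.ncard_coe_finset, h4]
  rw [Set.ncard_coe_finset, h4] at hm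
  have hge : {r | r ∈ (rest K o : Set GolayPt) ∧ g r = r}.ncard ≤ (fixedPts g).card := by
    rw [← Set.ncard_coe_finset (fixedPts g)]
    exact Set.ncard_le_ncard (fun r hr => mem_fixedPts.2 hr.2) (Finset.finite_toSet _)
  omega

/-- With a rest of four points, an element of order five fixes exactly the rest. -/
theorem fixedPts_five (ho : o ∈ octads) (hKM : K ≤ M24) (hE : ptStab o ≤ K) (h4 : (rest K o).card = 4)
    {g : Equiv.Perm GolayPt} (hg : g ∈ K) (hord : orderOf g = 5) : fixedPts g = rest K o := by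
  have : Fact (Nat.Prime 5) := ⟨by norm_num⟩
  obtain ⟨hle, -⟩ := card_fixedPts_eq (hKM hg) hord (by norm_num)
  symm
  refine Finset.eq_of_subset_of_card_le (fun r hr => mem_fixedPts.2 ?_) (by omega)
  by_contra hne
  have hsub : MulAction.orbit (Subgroup.zpowers g) r ⊆ (rest K o : Set GolayPt) := by
    rintro _ ⟨⟨w, n, rfl⟩, rfl⟩
    exact rest_invariant ho hE (zpow_mem hg n) hr
  have := Set.ncard_le_ncard hsub (Finset.finite_toSet _)
  rw [card_orbit_of_moved hord hne, Set.ncard_coe_finset, h4] at this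
  omega

end CfsgLib.Sporadic.OctadRest
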