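import Cfsg.Agent.Lib.Derangements.DihedralHom
import Cfsg.Prelude.Def_Classical

/-!
The orthogonal groups of a hyperbolic and of an anisotropic plane over a finite field are dihedral.
-/

set_option autoImplicit false

namespace CfsgLib.Sporadic.OrthPlane

open Matrix Cfsg CfsgLib.Derangements.DihedralHom

variable {F : Type*} [Field F]

theorem mem_iso {ι : Type} [Fintype ι] [DecidableEq ι] {Q : (ι → F) → F} {g : GL ι F} :
    g ∈ isometryGroup F Q ↔ ∀ v, Q ((g : Matrix ι ι F) *ᵥ v) = Q v :=
  ⟨fun h v => h v v, fun h v _ => h v⟩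

/-- Renaming the coordinates. -/
theorem transfer {ι κ : Type} [Fintype ι] [DecidableEq ι] [Fintype κ] [DecidableEq κ] (e : ι ≃ κ)
    (Q : (ι → F) → F) (Q' : (κ → F) → F) (h : ∀ v, Q' v = Q (v ∘ e)) :
    Nonempty (isometryGroup F Q ≃* isometryGroup F Q') := by
  let φ : GL ι F ≃* GL κ F := Units.mapEquiv (reindexAlgEquiv F F e).toMulEquiv
  have key : ∀ (g : GL ι F) (v : κ → F), ((φ g : GL κ F) : Matrix κ κ F) *ᵥ v = ((g : Matrix ι ι F) *ᵥ (v ∘ e)) ∘ e.symm :=
    fun g v => by
      show (Matrix.reindex e e (g : Matrix ι ι F)) *ᵥ v = _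
      rw [Matrix.reindex_apply, Matrix.submatrix_mulVec_equiv]; rfl
  have hmap : (isometryGroup F Q).map φ.toMonoidHom = isometryGroup F Q' := by
    ext g
    rw [Subgroup.mem_map_equiv, mem_iso, mem_iso]
    obtain ⟨g, rfl⟩ := φ.surjective g
    rw [φ.symm_apply_apply]
    constructor
    · intro hg v
      rw [key, h, h, Function.comp_assoc, Equiv.symm_comp_self, Function.comp_id, hg]
    · intro hg v
      have := hg (v ∘ e.symm)
      rwa [key, h, h, Function.comp_assoc, Function.comp_assoc, Equiv.symm_comp_self, Function.comp_id,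
        Function.comp_id] at this
  exact ⟨(φ.subgroupMap _).trans (MulEquiv.subgroupCongr hmap)⟩

/-- A group with an inverting involution outside a cyclic subgroup of rotations is dihedral. -/
theorem dihedral {G : Type*} [Group G] {n : ℕ} [NeZero n] (c x : G) (R : Subgroup G)
    (hR : ∀ g, g ∈ R ↔ g ∈ Subgroup.zpowers c) (hn : orderOf c = n) (hx : x * x = 1) (hxc : x * c * x = c⁻¹)
    (hxR : x ∉ R) (hall : ∀ g, g ∈ R ∨ x * g ∈ R) : Nonempty (G ≃* DihedralGroup n) := by
  have hc : c ^ n = 1 := by rw [← hn, pow_orderOf_eq_one]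
  let f : DihedralGroup n →* G := lift c x hc hx hxc
  have hpowR : ∀ i : ZMod n, c ^ i.val ∈ R := fun i => (hR _).2 (pow_mem (Subgroup.mem_zpowers c) _)
  have hget : ∀ g ∈ R, ∃ i : ZMod n, c ^ i.val = g := fun g hg => by
    obtain ⟨k, rfl⟩ := Subgroup.mem_zpowers_iff.1 ((hR g).1 hg)
    obtain ⟨m, hm⟩ : ∃ m : ℕ, (k : ℤ) % n = m := ⟨_, (Int.toNat_of_nonneg (Int.emod_nonneg k (by simp [NeZero.ne n]))).symm⟩
    refine ⟨(m : ZMod n), ?_⟩
    have hlt : m < n := by
      have := Int.emod_lt_of_pos k (show (0 : ℤ) < n by exact_mod_cast NeZero.pos n)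
      omega
    rw [ZMod.val_natCast_of_lt hlt, ← zpow_mod_orderOf c k, hn, hm, zpow_natCast]
  have hinj : ∀ i j : ZMod n, c ^ i.val = c ^ j.val → i = j := fun i j e =>
    ZMod.val_injective n (pow_injOn_Iio_orderOf (show i.val ∈ Set.Iio (orderOf c) by rw [hn]; exact ZMod.val_lt i)
      (show j.val ∈ Set.Iio (orderOf c) by rw [hn]; exact ZMod.val_lt j) e)
  have hmix : ∀ i j : ZMod n, c ^ i.val ≠ x * c ^ j.val := fun i j e => hxR (by
    have : x = c ^ i.val * (c ^ j.val)⁻¹ := by rw [e, mul_inv_cancel_right]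
    rw [this]; exact R.mul_mem (hpowR i) (R.inv_mem (hpowR j)))
  refine ⟨(MulEquiv.ofBijective f ⟨?_, ?_⟩).symm⟩
  · rintro (i | i) (j | j) e <;> simp only [f, lift_r, lift_sr] at e
    · rw [hinj i j e]
    · exact absurd e (hmix i j)
    · exact absurd e.symm (hmix j i)
    · rw [hinj i j (mul_left_cancel e)]
  · intro g
    rcases hall g with hg | hg
    · obtain ⟨i, hi⟩ := hget g hg
      exact ⟨.r i, hi⟩
    · obtain ⟨i, hi⟩ := hget _ hg
      exact ⟨.sr i, by simp only [f, lift_sr, hi, ← mul_assoc, hx, one_mul]⟩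

/-- The hyperbolic plane. -/
def qP (v : Fin 2 → F) : F := v 0 * v 1

theorem hyperbolic [Fintype F] {q : ℕ} (hF : Fintype.card F = q) :
    Nonempty (isometryGroup F (qP (F := F)) ≃* DihedralGroup (q - 1)) := by
  have hq : 1 < q := hF ▸ Fintype.one_lt_card
  haveI : NeZero (q - 1) := ⟨by omega⟩
  let D : Fˣ → GL (Fin 2) F := fun u => GeneralLinearGroup.mkOfDetNeZero !![(u : F), 0; 0, ((u⁻¹ : Fˣ) : F)]
    (by simp [det_fin_two])
  have hD : ∀ u : Fˣ, D u ∈ isometryGroup F (qP (F := F)) := fun u => mem_iso.2 fun v => by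
    simp [D, GeneralLinearGroup.mkOfDetNeZero, qP, Matrix.mulVec, dotProduct, Fin.sum_univ_two]
    field_simp
  let S : GL (Fin 2) F := GeneralLinearGroup.mkOfDetNeZero !![0, 1; 1, 0] (by simp [det_fin_two])
  have hS : S ∈ isometryGroup F (qP (F := F)) := mem_iso.2 fun v => by
    simp [S, GeneralLinearGroup.mkOfDetNeZero, qP, Matrix.mulVec, dotProduct, Fin.sum_univ_two, mul_comm]
  let d : Fˣ →* isometryGroup F (qP (F := F)) :=
    { toFun := fun u => ⟨D u, hD u⟩
      map_one' := Subtype.ext (Units.ext (by simp [D, GeneralLinearGroup.mkOfDetNeZero, one_fin_two]))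
      map_mul' := fun u w => Subtype.ext (Units.ext (by
        simp [D, GeneralLinearGroup.mkOfDetNeZero, Matrix.mul_fin_two, mul_comm])) }
  obtain ⟨ζ, hζ⟩ := IsCyclic.exists_generator (α := Fˣ)
  have dinj : Function.Injective d := fun u w e => by
    have := congrArg (fun M : isometryGroup F (qP (F := F)) => ((M : GL (Fin 2) F) : Matrix (Fin 2) (Fin 2) F) 0 0) e
    exact Units.ext (by simpa [d, D, GeneralLinearGroup.mkOfDetNeZero] using this)
  refine dihedral (d ζ) ⟨S, hS⟩ d.range (fun g => ?_) ?_ ?_ ?_ ?_ (fun g => ?_)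
  · constructor
    · rintro ⟨u, rfl⟩
      obtain ⟨k, rfl⟩ := Subgroup.mem_zpowers_iff.1 (hζ u)
      rw [map_zpow]; exact Subgroup.zpow_mem_zpowers _ k
    · intro hg
      obtain ⟨k, rfl⟩ := Subgroup.mem_zpowers_iff.1 hg
      exact ⟨ζ ^ k, map_zpow _ _ _⟩
  · rw [orderOf_injective d dinj, orderOf_eq_card_of_forall_mem_zpowers hζ, Nat.card_units,
      Nat.card_eq_fintype_card, hF]
  · exact Subtype.ext (Units.ext (by simp [S, GeneralLinearGroup.mkOfDetNeZero, Matrix.mul_fin_two, one_fin_two]))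
  · rw [← map_inv]
    exact Subtype.ext (Units.ext (by simp [d, D, S, GeneralLinearGroup.mkOfDetNeZero, Matrix.mul_fin_two]))
  · rintro ⟨u, hu⟩
    have := congrArg (fun M : isometryGroup F (qP (F := F)) => ((M : GL (Fin 2) F) : Matrix (Fin 2) (Fin 2) F) 0 1) hu
    simp [d, D, S, GeneralLinearGroup.mkOfDetNeZero] at this
  · obtain ⟨g, hg⟩ := g
    set M : Matrix (Fin 2) (Fin 2) F := (g : Matrix (Fin 2) (Fin 2) F) with hM
    have hQ := mem_iso.1 hg
    have h0 := hQ ![1, 0]; have h1 := hQ ![0, 1]; have h2 := hQ ![1, 1]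
    simp [qP, ← hM, Matrix.mulVec, dotProduct, Fin.sum_univ_two] at h0 h1 h2
    have key : (M 1 0 = 0 ∧ M 0 1 = 0 ∧ M 0 0 * M 1 1 = 1) ∨ (M 0 0 = 0 ∧ M 1 1 = 0 ∧ M 1 0 * M 0 1 = 1) := by
      rcases h0 with a | c <;> rcases h1 with b | d'
      · simp [a, b] at h2
      · exact Or.inr ⟨a, d', by simpa [a, d', mul_comm] using h2⟩
      · exact Or.inl ⟨c, b, by simpa [c, b] using h2⟩
      · simp [c, d'] at h2
    rcases key with ⟨c0, b0, hp⟩ | ⟨a0, d0, hp⟩
    · refine Or.inl ⟨⟨M 0 0, M 1 1, hp, by rw [mul_comm]; exact hp⟩, Subtype.ext (Units.ext ?_)⟩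
      ext i j
      fin_cases i <;> fin_cases j <;> simp [d, D, GeneralLinearGroup.mkOfDetNeZero, ← hM, c0, b0]
    · refine Or.inr ⟨⟨M 1 0, M 0 1, hp, by rw [mul_comm]; exact hp⟩, Subtype.ext (Units.ext ?_)⟩
      ext i j
      fin_cases i <;> fin_cases j <;>
        simp [d, D, S, GeneralLinearGroup.mkOfDetNeZero, ← hM, Matrix.mul_apply, Fin.sum_univ_two, a0, d0]

/-- An anisotropic plane. -/
def qM (a b : F) (v : Fin 2 → F) : F := v 0 ^ 2 + a * v 0 * v 1 + b * v 1 ^ 2

/-- The rotation with first column `(u, w)`. -/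
def rot (a b : F) (u w : F) : Matrix (Fin 2) (Fin 2) F := !![u, -b * w; w, u + a * w]

theorem qM_rot (a b u w : F) (v : Fin 2 → F) :
    qM a b (rot a b u w *ᵥ v) = qM a b ![u, w] * qM a b v := by
  simp [rot, qM, Matrix.mulVec, dotProduct, Fin.sum_univ_two]; ring

theorem rot_det (a b u w : F) : (rot a b u w).det = qM a b ![u, w] := by
  simp [rot, qM, det_fin_two]; ring

set_option maxHeartbeats 1600000 in
theorem anisotropic [Fintype F] {q : ℕ} (hF : Fintype.card F = q) (a b : F)
    (hab : ∀ z₁ z₂ : F, z₁ ^ 2 + a * z₁ * z₂ + b * z₂ ^ 2 = 0 → z₁ = 0 ∧ z₂ = 0) :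
    Nonempty (isometryGroup F (qM a b) ≃* DihedralGroup (q + 1)) := by
  classical
  have hne : ∀ v : Fin 2 → F, v ≠ 0 → qM a b v ≠ 0 := fun v hv e => hv (by
    obtain ⟨e0, e1⟩ := hab _ _ e
    ext i; fin_cases i <;> assumption)
  have hdisc : 4 * b - a ^ 2 ≠ 0 ∧ (a = 0 → (2 : F) ≠ 0) := by
    have h2 : a = 0 → (2 : F) ≠ 0 := fun ha h => by
      have hchar : ringChar F = 2 := by
        by_contra hc
        exact Ring.two_ne_zero hc h
      obtain ⟨r, hr⟩ := FiniteField.isSquare_of_char_two hchar b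
      have := hab r 1 (by subst ha; linear_combination (-1 : F) * 0 + hr * 1 + r * r * h)
      exact one_ne_zero this.2
    refine ⟨fun h => ?_, h2⟩
    obtain ⟨e1, e2⟩ := hab (-a) 2 (by linear_combination h)
    exact h2 (neg_eq_zero.1 e1) e2
  have hrep : ∀ c : F, c ≠ 0 → ∃ v : Fin 2 → F, qM a b v = c := by
    intro c hc
    by_cases hchar : ringChar F = 2
    · obtain ⟨r, hr⟩ := FiniteField.isSquare_of_char_two hchar c
      exact ⟨![r, 0], by simp [qM, hr, pow_two]⟩
    · have h2 : (2 : F) ≠ 0 := Ring.two_ne_zero hchar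
      have hD : b - a ^ 2 / 4 ≠ 0 := fun e => hdisc.1 (by
        have h4 : (4 : F) ≠ 0 := by rw [show (4 : F) = 2 * 2 by norm_num]; exact mul_ne_zero h2 h2
        field_simp at e; linear_combination e)
      obtain ⟨x, y, hxy⟩ := FiniteField.exists_root_sum_quadratic (R := F)
        (f := Polynomial.X ^ 2) (g := Polynomial.C (b - a ^ 2 / 4) * Polynomial.X ^ 2 + Polynomial.C (-c))
        (Polynomial.degree_X_pow 2) (by
          rw [Polynomial.degree_add_C (by rw [Polynomial.degree_C_mul_X_pow _ hD]; norm_num),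
            Polynomial.degree_C_mul_X_pow _ hD]; rfl)
        (FiniteField.odd_card_of_char_ne_two hchar)
      refine ⟨![x - a / 2 * y, y], ?_⟩
      simp only [Polynomial.eval_pow, Polynomial.eval_X, Polynomial.eval_add, Polynomial.eval_mul,
        Polynomial.eval_C] at hxy
      have h4 : (4 : F) ≠ 0 := by rw [show (4 : F) = 2 * 2 by norm_num]; exact mul_ne_zero h2 h2
      simp [qM]
      field_simp at hxy ⊢
      linear_combination hxy
  choose s hs using hrep
  -- the vectors of value one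
  let T := {v : Fin 2 → F // qM a b v = 1}
  have hT : Nat.card T = q + 1 := by
    let f : Fˣ × T → {v : Fin 2 → F // v ≠ 0} := fun p =>
      ⟨rot a b (s p.1 p.1.ne_zero 0) (s p.1 p.1.ne_zero 1) *ᵥ p.2.1, fun e => by
        have h := qM_rot a b (s p.1 p.1.ne_zero 0) (s p.1 p.1.ne_zero 1) p.2.1
        rw [e, p.2.2, mul_one] at h
        have e' : (![s p.1 p.1.ne_zero 0, s p.1 p.1.ne_zero 1] : Fin 2 → F) = s p.1 p.1.ne_zero := by
          ext i; fin_cases i <;> rfl
        rw [e', hs] at h
        simp [qM] at h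
        exact p.1.ne_zero h.symm⟩
    have hval : ∀ c (hc : c ≠ 0), (rot a b (s c hc 0) (s c hc 1)).det = c := fun c hc => by
      rw [rot_det]
      have e' : (![s c hc 0, s c hc 1] : Fin 2 → F) = s c hc := by ext i; fin_cases i <;> rfl
      rw [e', hs]
    have hf : Function.Bijective f := by
      constructor
      · rintro ⟨c, v⟩ ⟨c', v'⟩ e
        have e1 := congrArg Subtype.val e
        have hq' := congrArg (qM a b) e1
        simp only [f, qM_rot, v.2, v'.2, mul_one, ← rot_det, hval] at hq'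
        obtain rfl : c = c' := Units.ext hq'
        have hu : IsUnit (rot a b (s c c.ne_zero 0) (s c c.ne_zero 1)) := by
          rw [Matrix.isUnit_iff_isUnit_det, hval]; exact isUnit_iff_ne_zero.2 c.ne_zero
        exact Prod.ext rfl (Subtype.ext (Matrix.mulVec_injective_iff_isUnit.2 hu e1))
      · rintro ⟨w, hw⟩
        let c : Fˣ := Units.mk0 _ (hne w hw)
        set R' := rot a b (s c c.ne_zero 0) (s c c.ne_zero 1) with hR'
        have hu : IsUnit R' := by
          rw [Matrix.isUnit_iff_isUnit_det, hR', hval]; exact isUnit_iff_ne_zero.2 c.ne_zero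
        obtain ⟨v, hv⟩ := Matrix.mulVec_surjective_iff_isUnit.2 hu w
        have hv' : qM a b v = 1 := by
          have := congrArg (qM a b) hv
          rw [hR', qM_rot, ← rot_det, hval] at this
          exact mul_left_cancel₀ c.ne_zero (this.trans (by simp [c]))
        exact ⟨(c, ⟨v, hv'⟩), Subtype.ext hv⟩
    have h := Nat.card_congr (Equiv.ofBijective f hf)
    rw [Nat.card_prod, Nat.card_units, Nat.card_eq_fintype_card (α := F), hF] at h
    have hsub : Nat.card {v : Fin 2 → F // v ≠ 0} = q ^ 2 - 1 := by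
      rw [Nat.card_eq_fintype_card, Fintype.card_subtype_compl, Fintype.card_fun, hF, Fintype.card_fin,
        Fintype.card_subtype_eq]
    rw [hsub] at h
    have hq : 1 < q := hF ▸ Fintype.one_lt_card
    have he : q ^ 2 - 1 = (q - 1) * (q + 1) := by
      zify [hq.le, Nat.one_le_pow 2 q (by omega)]; ring
    rw [he] at h
    exact Nat.eq_of_mul_eq_mul_left (by omega) h
  have hrot : ∀ v : T, rot a b (v.1 0) (v.1 1) ∈ Set.univ ∧ (rot a b (v.1 0) (v.1 1)).det = 1 := fun v => by
    refine ⟨trivial, ?_⟩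
    rw [rot_det, show (![v.1 0, v.1 1] : Fin 2 → F) = v.1 by ext i; fin_cases i <;> rfl, v.2]
  let G := isometryGroup F (qM a b)
  let M : G → Matrix (Fin 2) (Fin 2) F := fun g => ((g : GL (Fin 2) F) : Matrix (Fin 2) (Fin 2) F)
  have Mext : ∀ g h : G, M g = M h → g = h := fun g h e => Subtype.ext (Units.ext e)
  have Mmul : ∀ g h : G, M (g * h) = M g * M h := fun _ _ => rfl
  let R : Subgroup G :=
    { carrier := {g | M g = rot a b (M g 0 0) (M g 1 0)}
      one_mem' := by
        show M 1 = _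
        simp [M, rot, one_fin_two]
      mul_mem' := fun {g h} hg hh => by
        simp only [Set.mem_ofPred_eq] at hg hh ⊢
        rw [Mmul, hg, hh]
        ext i j
        fin_cases i <;> fin_cases j <;> simp [rot, Matrix.mul_apply, Fin.sum_univ_two] <;> ring
      inv_mem' := fun {g} hg => by
        simp only [Set.mem_ofPred_eq] at hg ⊢
        have h1 := congrArg (fun X : G => M X) (mul_inv_cancel g)
        simp only [Mmul] at h1
        have hq1 : qM a b ![M g 0 0, M g 1 0] = 1 := by
          have h := mem_iso.1 g.2 ![1, 0]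
          change qM a b (M g *ᵥ ![1, 0]) = _ at h
          simpa [qM, Matrix.mulVec, dotProduct, Fin.sum_univ_two] using h
        have hinv : M g⁻¹ = rot a b (M g 0 0 + a * M g 1 0) (-(M g 1 0)) := by
          have h2 : rot a b (M g 0 0 + a * M g 1 0) (-(M g 1 0)) * M g = 1 := by
            rw [hg]
            ext i j
            simp [qM] at hq1
            fin_cases i <;> fin_cases j <;> simp [rot, Matrix.mul_apply, Fin.sum_univ_two] <;>
              first | linear_combination hq1 | ring
          calc M g⁻¹ = (rot a b (M g 0 0 + a * M g 1 0) (-(M g 1 0)) * M g) * M g⁻¹ := by rw [h2, one_mul]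
            _ = _ := by rw [mul_assoc, h1]; exact mul_one _
        rw [hinv]
        ext i j
        fin_cases i <;> fin_cases j <;> simp [rot] }
  -- the field containing the rotations
  let P : Polynomial F := Polynomial.X ^ 2 - Polynomial.C a * Polynomial.X + Polynomial.C b
  have hdeg : P.natDegree = 2 := by
    show (Polynomial.X ^ 2 - Polynomial.C a * Polynomial.X + Polynomial.C b).natDegree = 2
    compute_degree!
  haveI : Fact (Irreducible P) := ⟨by
    rw [Polynomial.irreducible_iff_roots_eq_zero_of_degree_le_three (by omega) (by omega),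
      Multiset.eq_zero_iff_forall_notMem]
    intro r hr
    obtain ⟨-, hr⟩ := Polynomial.mem_roots'.1 hr
    simp [P] at hr
    exact one_ne_zero (hab (-r) 1 (by linear_combination hr)).2⟩
  let ρ := AdjoinRoot.root P
  have hρ : ρ ^ 2 = (AdjoinRoot.of P a) * ρ - AdjoinRoot.of P b := by
    have h := AdjoinRoot.eval₂_root P
    simp [P] at h
    linear_combination h
  let φ : R →* AdjoinRoot P :=
    { toFun := fun g => AdjoinRoot.of P (M g 0 0) + AdjoinRoot.of P (M g 1 0) * ρ
      map_one' := by simp [M]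
      map_mul' := fun g h => by
        have hg : M (g : G) = _ := g.2
        have hh : M (h : G) = _ := h.2
        simp only [Subgroup.coe_mul, Mmul]
        conv_lhs => rw [hg, hh]
        simp [rot, Matrix.mul_apply, Fin.sum_univ_two]
        linear_combination (-(AdjoinRoot.of P (M (g : G) 1 0) * AdjoinRoot.of P (M (h : G) 1 0))) * hρ }
  have hφ : Function.Injective φ := fun g h e => by
    change AdjoinRoot.of P (M g 0 0) + AdjoinRoot.of P (M g 1 0) * ρ =
      AdjoinRoot.of P (M h 0 0) + AdjoinRoot.of P (M h 1 0) * ρ at e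
    have h1 : M (g : G) 1 0 = M (h : G) 1 0 := by
      by_contra hne'
      set r := -((M (g : G) 0 0 - M (h : G) 0 0) / (M (g : G) 1 0 - M (h : G) 1 0))
      have hr : AdjoinRoot.of P r = ρ := by
        have hd : (AdjoinRoot.of P (M (g : G) 1 0 - M (h : G) 1 0)) ≠ 0 := (map_ne_zero _).2 (sub_ne_zero.2 hne')
        rw [map_neg, map_div₀, neg_eq_iff_eq_neg, div_eq_iff hd, map_sub, map_sub]
        linear_combination e
      have hev : AdjoinRoot.of P (r ^ 2 - a * r + b) = 0 := by
        rw [map_add, map_sub, map_mul, map_pow, hr]; linear_combination hρ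
      rw [map_eq_zero] at hev
      exact one_ne_zero (hab (-r) 1 (by linear_combination hev)).2
    have h0 : M (g : G) 0 0 = M (h : G) 0 0 := by
      rw [h1] at e
      exact (AdjoinRoot.of P).injective (add_right_cancel e)
    exact Subtype.ext (Mext _ _ (by rw [g.2, h.2, h0, h1]))
  haveI : IsCyclic R := isCyclic_of_injective_ringHom φ hφ
  have hR : Nat.card R = q + 1 := by
    rw [← hT]
    refine Nat.card_congr (Equiv.ofBijective (fun g : R => (⟨![M g 0 0, M g 1 0], by
      have h := mem_iso.1 (g : G).2 ![1, 0]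
      change qM a b (M g *ᵥ ![1, 0]) = _ at h
      simpa [qM, Matrix.mulVec, dotProduct, Fin.sum_univ_two] using h⟩ : T)) ⟨fun g h e => ?_, fun v => ?_⟩)
    · have e' := congrArg Subtype.val e
      have e0 := congrFun e' 0; have e1 := congrFun e' 1
      simp at e0 e1
      exact Subtype.ext (Mext _ _ (by rw [g.2, h.2, e0, e1]))
    · let gg : GL (Fin 2) F := GeneralLinearGroup.mkOfDetNeZero (rot a b (v.1 0) (v.1 1))
        (by rw [(hrot v).2]; exact one_ne_zero)
      have hgg : gg ∈ G := mem_iso.2 fun w => by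
        show qM a b (rot a b (v.1 0) (v.1 1) *ᵥ w) = _
        rw [qM_rot, show (![v.1 0, v.1 1] : Fin 2 → F) = v.1 by ext i; fin_cases i <;> rfl, v.2, one_mul]
      refine ⟨⟨⟨gg, hgg⟩, ?_⟩, Subtype.ext ?_⟩
      · show rot a b (v.1 0) (v.1 1) = _
        simp [M, gg, GeneralLinearGroup.mkOfDetNeZero, rot]
      · ext i; fin_cases i <;> simp [M, gg, GeneralLinearGroup.mkOfDetNeZero, rot]
  let S₀ : GL (Fin 2) F := GeneralLinearGroup.mkOfDetNeZero !![1, a; 0, -1] (by simp [det_fin_two])
  have hS₀ : S₀ ∈ G := mem_iso.2 fun v => by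
    simp [S₀, GeneralLinearGroup.mkOfDetNeZero, qM, Matrix.mulVec, dotProduct, Fin.sum_univ_two]; ring
  let S : G := ⟨S₀, hS₀⟩
  have hMS : M S = !![1, a; 0, -1] := rfl
  obtain ⟨c, hc⟩ := IsCyclic.exists_generator (α := R)
  refine dihedral (c : G) S R (fun g => ?_) ?_ ?_ ?_ ?_ (fun g => ?_)
  · constructor
    · intro hg
      obtain ⟨k, hk⟩ := Subgroup.mem_zpowers_iff.1 (hc ⟨g, hg⟩)
      exact ⟨k, by simpa using congrArg Subtype.val hk⟩
    · intro hg
      obtain ⟨k, rfl⟩ := Subgroup.mem_zpowers_iff.1 hg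
      exact R.zpow_mem c.2 k
  · rw [Subgroup.orderOf_coe, orderOf_eq_card_of_forall_mem_zpowers hc, hR]
  · refine Mext _ _ ?_
    rw [Mmul, hMS]
    simp [M, Matrix.mul_fin_two, one_fin_two]
  · refine eq_inv_of_mul_eq_one_left (Mext _ _ ?_)
    have hg : M (c : G) = _ := c.2
    have hq1 : qM a b ![M (c : G) 0 0, M (c : G) 1 0] = 1 := by
      have h := mem_iso.1 (c : G).2 ![1, 0]
      change qM a b (M (c : G) *ᵥ ![1, 0]) = _ at h
      simpa [qM, Matrix.mulVec, dotProduct, Fin.sum_univ_two] using h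
    simp [qM] at hq1
    rw [Mmul, Mmul, Mmul, hMS, hg]
    ext i j
    fin_cases i <;> fin_cases j <;> simp [M, rot, Matrix.mul_apply, Fin.sum_univ_two] <;>
      first | linear_combination hq1 | ring
  · intro h
    have h' : M S = _ := h
    rw [hMS] at h'
    have e01 := congrFun (congrFun h' 0) 1
    have e11 := congrFun (congrFun h' 1) 1
    simp [rot] at e01 e11
    exact hdisc.2 e01 (by linear_combination -e11)
  · have hq := mem_iso.1 g.2
    have h0 := hq ![1, 0]; have h1 := hq ![0, 1]; have h2 := hq ![1, 1]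
    change qM a b (M g *ᵥ _) = _ at h0 h1 h2
    simp [qM, Matrix.mulVec, dotProduct, Fin.sum_univ_two] at h0 h1 h2
    set u := M g 0 0; set w := M g 1 0; set p := M g 0 1; set r := M g 1 1
    -- the second column in the coordinates of the first rotation
    set X := (u + a * w) * p + b * w * r with hX
    set Y := -w * p + u * r with hY
    have hXY : X ^ 2 + a * X * Y + b * Y ^ 2 = b := by
      linear_combination (p ^ 2 + a * p * r + b * r ^ 2) * h0 + h1
    have hlin : 2 * X + a * Y = a := by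
      linear_combination h2 - h0 - h1
    have hcases : X = 0 ∧ Y = 1 ∨ X = a ∧ Y = -1 := by
      have hpoly : X * (X - a) * (4 * b - a ^ 2) = 0 := by
        linear_combination a ^ 2 * hXY - (a ^ 2 * X + b * (a * Y + a - 2 * X)) * hlin
      rcases mul_eq_zero.1 hpoly with h | h
      · by_cases ha : a = 0
        · have hX0 : X = 0 := by
            rw [ha, zero_mul, add_zero] at hlin
            exact (mul_eq_zero.1 hlin).resolve_left (hdisc.2 ha)
          have hb : b ≠ 0 := fun e => one_ne_zero (hab 0 1 (by simp [e])).2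
          rw [hX0, ha] at hXY
          have hY2 : (Y - 1) * (Y + 1) = 0 := mul_left_cancel₀ hb (by linear_combination hXY)
          rcases mul_eq_zero.1 hY2 with e | e
          · exact Or.inl ⟨hX0, sub_eq_zero.1 e⟩
          · exact Or.inr ⟨hX0.trans ha.symm, eq_neg_of_add_eq_zero_left e⟩
        · rcases mul_eq_zero.1 h with e | e
          · rw [e, mul_zero, zero_add] at hlin
            exact Or.inl ⟨e, mul_left_cancel₀ ha (hlin.trans (mul_one a).symm)⟩
          · rw [sub_eq_zero.1 e] at hlin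
            exact Or.inr ⟨sub_eq_zero.1 e, mul_left_cancel₀ ha (by linear_combination hlin)⟩
      · exact absurd h hdisc.1
    have hMg : M g = !![u, p; w, r] := eta_fin_two _
    rcases hcases with ⟨e1, e2⟩ | ⟨e1, e2⟩
    · left
      show M g = rot a b u w
      rw [hMg]
      ext i j
      fin_cases i <;> fin_cases j <;> simp [rot]
      · linear_combination u * e1 - b * w * e2 - p * h0
      · linear_combination w * e1 + (u + a * w) * e2 - r * h0
    · right
      show M (S * g) = rot a b (M (S * g) 0 0) (M (S * g) 1 0)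
      rw [Mmul, hMS, hMg]
      have hp : p = a * u + b * w := by linear_combination u * e1 - b * w * e2 - p * h0
      have hr : r = -u := by linear_combination w * e1 + (u + a * w) * e2 - r * h0
      ext i j
      fin_cases i <;> fin_cases j <;> simp [rot, hp, hr] <;> ring

theorem plus (F : Type*) [Field F] [Fintype F] {q : ℕ} (hF : Fintype.card F = q) :
    Nonempty (isometryGroup F (quadFormPlus 1 F) ≃* DihedralGroup (q - 1)) := by
  obtain ⟨e⟩ := hyperbolic hF
  obtain ⟨t⟩ := transfer (finSumFinEquiv (m := 1) (n := 1)) (quadFormPlus 1 F) (qP (F := F))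
    (fun v => by simp [qP, quadFormPlus]; rfl)
  exact ⟨t.trans e⟩

theorem minus (F : Type*) [Field F] [Fintype F] {q : ℕ} (hF : Fintype.card F = q) (a b : F)
    (hab : ∀ z₁ z₂ : F, z₁ ^ 2 + a * z₁ * z₂ + b * z₂ ^ 2 = 0 → z₁ = 0 ∧ z₂ = 0) :
    Nonempty (isometryGroup F (quadFormMinus 0 F a b) ≃* DihedralGroup (q + 1)) := by
  obtain ⟨e⟩ := anisotropic hF a b hab
  obtain ⟨t⟩ := transfer (Equiv.emptySum (Fin 0 ⊕ Fin 0) (Fin 2)) (quadFormMinus 0 F a b) (qM a b)
    (fun v => by simp [qM, quadFormMinus])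
  exact ⟨t.trans e⟩

end CfsgLib.Sporadic.OrthPlane
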