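import Cfsg.Agent.Lib.SmallGroups.MathieuSimple
import Cfsg.Agent.Lib.Sporadic.MathieuMultiplier

/-!
# `PSL(2, 23)` and `23 : 11` are maximal in `M24` and `M23`

The orders of the overgroups of `23 : 11` in `M23` are cut down by counting Sylow subgroups for the
primes `23` and `11`; the normalisers of both inside `M23` are read off from the code.
-/

set_option autoImplicit false

namespace CfsgLib.Sporadic.PSL23Maximal

open Cfsg Subgroup Equiv CfsgLib.SmallGroups.Golay CfsgLib.SmallGroups.GolayOctads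
  CfsgLib.SmallGroups.M24Group CfsgLib.SmallGroups.MathieuSets
  CfsgLib.Sporadic.MathieuMultiplier
open scoped Pointwise

/-! ### Counting Sylow subgroups of prime order -/

theorem sylow_split {G : Type*} [Group G] [Finite G] (H : Subgroup G) {x : G} (hx : x ∈ H) {p : ℕ}
    [Fact p.Prime] (ho : orderOf x = p) (hp : ¬ p ^ 2 ∣ Nat.card H) :
    ∃ n, n % p = 1 ∧
      Nat.card H = n * Nat.card ↥(H ⊓ normalizer (zpowers x : Set G)) := by
  have hle : zpowers x ≤ H := zpowers_le.2 hx
  set P := (zpowers x).subgroupOf H with hP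
  have hc : Nat.card P = p := by
    rw [Nat.card_congr (subgroupOfEquivOfLe hle).toEquiv, Nat.card_zpowers, ho]
  have hpp : p.Prime := Fact.out
  have hfac : (Nat.card H).factorization p = 1 := by
    have h1 : p ^ 1 ∣ Nat.card H := by rw [pow_one, ← hc]; exact card_subgroup_dvd_card P
    have h2 := (hpp.pow_dvd_iff_le_factorization Nat.card_pos.ne').1 h1
    have h3 : ¬ 2 ≤ (Nat.card H).factorization p := fun h =>
      hp ((hpp.pow_dvd_iff_le_factorization Nat.card_pos.ne').2 h)
    omega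
  let S : Sylow p H := Sylow.ofCard P (by rw [hc, hfac, pow_one])
  refine ⟨(normalizer (P : Set H)).index, ?_, ?_⟩
  · have h := card_sylow_modEq_one p H
    rw [Sylow.card_eq_index_normalizer S, show (S : Set H) = (P : Set H) from rfl] at h
    rw [Nat.ModEq, Nat.mod_eq_of_lt hpp.one_lt] at h
    exact h
  · rw [show Nat.card ↥(H ⊓ normalizer (zpowers x : Set G)) = Nat.card (normalizer (P : Set H)) by
      rw [hP, ← subgroupOf_normalizer_eq hle, inf_comm, ← subgroupOf_map_subtype,
        card_map_of_injective H.subtype_injective]]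
    exact (index_mul_card _).symm

/-! ### Affine maps of the line -/

instance fact_prime_twentythree : Fact (Nat.Prime 23) := ⟨by norm_num⟩


/-- The unit `2`. -/
def u2 : (ZMod 23)ˣ := ⟨2, 12, by decide, by decide⟩

/-- `x ↦ x + 1`. -/
def shift : Perm GolayPt := Equiv.optionCongr (Equiv.addRight (1 : ZMod 23))

/-- `x ↦ u x`. -/
def mul (u : (ZMod 23)ˣ) : Perm GolayPt := Equiv.optionCongr (Units.mulLeft u)

/-- `x ↦ 2 ^ i x + b`. -/
def aff (i : Fin 11) (b : ZMod 23) : Perm GolayPt :=
  Equiv.optionCongr ((Units.mulLeft (u2 ^ (i : ℕ))).trans (Equiv.addRight b))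

theorem aff_some (i : Fin 11) (b x : ZMod 23) :
    aff i b (some x) = some ((2 : ZMod 23) ^ (i : ℕ) * x + b) := by
  show some (((u2 ^ (i : ℕ) : (ZMod 23)ˣ) : ZMod 23) * x + b) = _
  rw [Units.val_pow_eq_pow_val]
  rfl

theorem aff_none (i : Fin 11) (b : ZMod 23) : aff i b none = none := rfl

theorem pow_two_add : ∀ i j : Fin 11,
    (2 : ZMod 23) ^ (i : ℕ) * 2 ^ (j : ℕ) = 2 ^ ((i + j : Fin 11) : ℕ) := by decide +kernel

theorem aff_mul (i j : Fin 11) (b c : ZMod 23) :
    aff i b * aff j c = aff (i + j) ((2 : ZMod 23) ^ (i : ℕ) * c + b) := by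
  refine Equiv.ext fun q => ?_
  rcases q with _ | x
  · rfl
  · rw [Perm.mul_apply, aff_some, aff_some, aff_some, ← pow_two_add i j]
    ring_nf

theorem aff_zero : aff 0 0 = 1 := by decide +kernel

/-- The group `23 : 11`. -/
def affine : Subgroup (Perm GolayPt) where
  carrier := {g | ∃ i b, g = aff i b}
  one_mem' := ⟨0, 0, aff_zero.symm⟩
  mul_mem' := by
    rintro _ _ ⟨i, b, rfl⟩ ⟨j, c, rfl⟩
    exact ⟨_, _, aff_mul i j b c⟩
  inv_mem' := by
    rintro _ ⟨i, b, rfl⟩
    refine ⟨-i, -((2 : ZMod 23) ^ ((-i : Fin 11) : ℕ) * b), inv_eq_of_mul_eq_one_left ?_⟩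
    rw [aff_mul, neg_add_cancel, ← aff_zero]
    congr 1
    ring

theorem card_affine : Nat.card affine = 253 := by
  rw [show 253 = Nat.card (Fin 11 × ZMod 23) by
    rw [Nat.card_eq_fintype_card, Fintype.card_prod, Fintype.card_fin, ZMod.card]]
  refine (Nat.card_congr (Equiv.ofBijective
    (fun p : Fin 11 × ZMod 23 => (⟨aff p.1 p.2, _, _, rfl⟩ : affine)) ⟨?_, ?_⟩)).symm
  · rintro ⟨i, b⟩ ⟨j, c⟩ h
    have h0 := congrArg (fun g : affine => (g : Perm GolayPt) (some 0)) h
    have h1 := congrArg (fun g : affine => (g : Perm GolayPt) (some 1)) h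
    simp only [aff_some, mul_zero, zero_add, mul_one, Option.some.injEq] at h0 h1
    subst h0
    exact Prod.ext ((by decide +kernel :
      ∀ i j : Fin 11, (2 : ZMod 23) ^ (i : ℕ) = 2 ^ (j : ℕ) → i = j) i j (add_right_cancel h1)) rfl
  · rintro ⟨_, i, b, rfl⟩
    exact ⟨(i, b), rfl⟩

theorem sq_eq_two_pow : ∀ r : ZMod 23, r ≠ 0 → ∃ i : Fin 11, r * r = 2 ^ (i : ℕ) := by
  decide +kernel

/-- The generators of `23 : 11`. -/
def gensN : Set (Perm GolayPt) :=
  {shift} ∪ {g | ∃ u : (ZMod 23)ˣ, IsSquare u ∧ g = mul u}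

theorem closure_gensN : closure gensN = affine := by
  refine le_antisymm ((closure_le _).2 ?_) ?_
  · rintro g (rfl | ⟨u, ⟨r, rfl⟩, rfl⟩)
    · exact ⟨0, 1, (by decide +kernel : shift = aff 0 1)⟩
    · obtain ⟨i, hi⟩ := sq_eq_two_pow r r.ne_zero
      refine ⟨i, 0, Equiv.ext fun q => ?_⟩
      rcases q with _ | x
      · rfl
      · rw [aff_some, ← hi, add_zero]
        rfl
  · rintro _ ⟨i, b, rfl⟩
    have hT : ∀ n : ℕ, aff 0 (n : ZMod 23) ∈ closure gensN := by
      intro n
      induction n with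
      | zero => rw [Nat.cast_zero, aff_zero]; exact one_mem _
      | succ n ih =>
        have := mul_mem (subset_closure (Or.inl rfl) : shift ∈ closure gensN) ih
        rw [(by decide +kernel : shift = aff 0 1), aff_mul] at this
        rw [Nat.cast_succ]
        simpa using this
    have hM : aff i 0 ∈ closure gensN := subset_closure (Or.inr ⟨u2 ^ (i : ℕ),
      IsSquare.pow _ ⟨⟨5, 14, by decide, by decide⟩, Units.ext (by decide)⟩, Equiv.ext fun q => by
        rcases q with _ | x
        · rfl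
        · rw [aff_some, add_zero]
          show _ = some (((u2 ^ (i : ℕ) : (ZMod 23)ˣ) : ZMod 23) * x)
          rw [Units.val_pow_eq_pow_val]
          rfl⟩)
    have := mul_mem (hT b.val) hM
    rw [ZMod.natCast_zmod_val, aff_mul, mul_zero, zero_add, zero_add] at this
    exact this

theorem affine_le : affine ≤ Spor.M23 := by
  rw [← closure_gensN, closure_le]
  have hS : shift ∈ M24 := sgen_mem 0
  rintro g (rfl | ⟨u, hu, rfl⟩)
  · exact ⟨hS, rfl⟩
  · refine ⟨mem_M24_of_basis (f := fun q => q.map fun x => (u : ZMod 23) * x)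
      (fun q => by rcases q with _ | x <;> rfl) ?_, rfl⟩
    obtain ⟨r, rfl⟩ := hu
    obtain ⟨i, hi⟩ := sq_eq_two_pow r r.ne_zero
    rw [Units.val_mul, hi]
    exact (by decide +kernel : ∀ i : Fin 11, ∀ k < 12, isCW (mask fun q : GolayPt =>
      word (bas k) (q.map fun x => (2 : ZMod 23) ^ (i : ℕ) * x)) = true) i

/-! ### The normalisers in `M23` -/

theorem isCW_of_mem {g : Perm GolayPt} (hg : g ∈ M24) {i : ℕ} (hi : i < 12) :
    isCW (mask fun q => word (bas i) (g q)) = true := by
  obtain ⟨v, hv, e⟩ := smul_mem_supports (inv_mem hg)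
    (S := toSet (bas i)) ⟨_, word_bas_mem hi, support₂_word _⟩
  rw [← support₂_word, ← support₂_comp] at e
  rw [support₂_injective e] at hv
  exact mem_code_iff_isCW.1 hv

/-- Conjugation of a power relation: the element is determined along an orbit. -/
theorem apply_pow {g x : Perm GolayPt} {k : ℕ} (h : g * x * g⁻¹ = x ^ k) (n : ℕ) (q : GolayPt) :
    g ((x ^ n) q) = (x ^ (k * n)) (g q) := by
  have h1 : g * x ^ n * g⁻¹ = x ^ (k * n) := by rw [← conj_pow, h, ← pow_mul]
  rw [← h1]
  simp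

theorem exists_pow_of_normalizes {g x : Perm GolayPt}
    (h : g ∈ normalizer (zpowers x : Set (Perm GolayPt))) : ∃ k : ℕ, g * x * g⁻¹ = x ^ k := by
  have h1 : g * x * g⁻¹ ∈ zpowers x := (mem_normalizer_iff.1 h x).1 (mem_zpowers x)
  rw [← mem_powers_iff_mem_zpowers] at h1
  obtain ⟨k, hk⟩ := h1
  exact ⟨k, hk.symm⟩

theorem shift_pow (n : ℕ) (x : ZMod 23) : (shift ^ n) (some x) = some (x + n) := by
  induction n with
  | zero => simp
  | succ n ih =>
    rw [pow_succ', Perm.mul_apply, ih, Nat.cast_succ]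
    show some (x + n + 1) = _
    rw [add_assoc]

theorem orderOf_shift : orderOf shift = 23 := by
  haveI : Fact (Nat.Prime 23) := ⟨by norm_num⟩
  refine orderOf_eq_prime (Equiv.ext fun q => ?_) (by decide +kernel)
  rcases q with _ | x
  · exact Perm.pow_apply_eq_self_of_apply_eq_self rfl _
  · rw [shift_pow, show ((23 : ℕ) : ZMod 23) = 0 from ZMod.natCast_self 23, add_zero]
    rfl

theorem normalizes_shift {g : Perm GolayPt} (hg : g ∈ Spor.M23)
    (h : g ∈ normalizer (zpowers shift : Set (Perm GolayPt))) : g ∈ affine := by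
  obtain ⟨k, hk⟩ := exists_pow_of_normalizes h
  have h0 : g none = none := hg.2
  obtain ⟨y, hy⟩ : ∃ y, g (some 0) = some y := by
    rcases hgq : g (some 0) with _ | y
    · exact absurd (g.injective (hgq.trans h0.symm)) (by simp)
    · exact ⟨y, rfl⟩
  have hform : ∀ x : ZMod 23, g (some x) = some ((k : ZMod 23) * x + y) := fun x => by
    have := apply_pow hk x.val (some 0)
    rw [shift_pow, zero_add, ZMod.natCast_zmod_val, hy, shift_pow, Nat.cast_mul,
      ZMod.natCast_zmod_val] at this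
    rw [this, add_comm]
  have hk0 : (k : ZMod 23) ≠ 0 := fun e => by
    have := g.injective ((hform 0).trans ((by rw [e, zero_mul, zero_mul] :
      some ((k : ZMod 23) * 0 + y) = some ((k : ZMod 23) * 1 + y)).trans (hform 1).symm))
    exact absurd this (by decide)
  rcases (by decide +kernel : ∀ z : ZMod 23, z ≠ 0 →
      (∃ i : Fin 11, z = 2 ^ (i : ℕ)) ∨ ∃ i : Fin 11, z = -(2 ^ (i : ℕ))) _ hk0 with
    ⟨i, hi⟩ | ⟨i, hi⟩
  · refine ⟨i, y, Equiv.ext fun q => ?_⟩
    rcases q with _ | x
    · exact h0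
    · rw [aff_some, hform, hi]
  · exfalso
    have hm : (aff i y)⁻¹ * g ∈ M24 :=
      mul_mem (inv_mem (affine_le ⟨i, y, rfl⟩).1) hg.1
    have he : ∀ q, ((aff i y)⁻¹ * g) q = q.map fun x : ZMod 23 => -x := fun q => by
      rw [Perm.mul_apply, Perm.inv_eq_iff_eq]
      rcases q with _ | x
      · exact h0
      · rw [Option.map_some, aff_some, hform, hi]
        ring_nf
    have hc := isCW_of_mem hm (i := 0) (by norm_num)
    simp only [he] at hc
    exact absurd hc (by decide +kernel)

/-- `x ↦ 2 x`. -/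
def dbl : Perm GolayPt := aff 1 0

theorem dbl_pow (n : ℕ) (x : ZMod 23) : (dbl ^ n) (some x) = some (2 ^ n * x) := by
  induction n with
  | zero => simp
  | succ n ih =>
    rw [pow_succ', Perm.mul_apply, ih, dbl, aff_some, add_zero, ← mul_assoc, Fin.val_one, pow_one,
      ← pow_succ']

theorem orderOf_dbl : orderOf dbl = 11 := by
  haveI : Fact (Nat.Prime 11) := ⟨by norm_num⟩
  refine orderOf_eq_prime (Equiv.ext fun q => ?_) (by decide +kernel)
  rcases q with _ | x
  · exact Perm.pow_apply_eq_self_of_apply_eq_self rfl _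
  · rw [dbl_pow, show (2 : ZMod 23) ^ 11 = 1 by decide, one_mul]
    rfl

/-- The powers of two modulo twenty-three. -/
def pows : List ℕ := [1, 2, 4, 8, 16, 9, 18, 13, 3, 6, 12]

/-- The table with `2 ^ i ↦ a 2 ^ (k i)` and `-2 ^ i ↦ b 2 ^ (k i)`. -/
def candTbl (k a b : ℕ) : List ℕ :=
  (List.range 24).map fun j => if j = 0 ∨ j = 23 then j else
    if pows.contains j then a * pows.getD (k * pows.idxOf j % 11) 0 % 23
    else b * pows.getD (k * pows.idxOf (23 - j) % 11) 0 % 23

/-- The possible multipliers, each with the image ratio of `-1` and `1`. -/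
def ratios : List (ℕ × ℕ) := [(1, 22), (3, 11), (4, 7), (5, 17), (9, 10)]

theorem cand_facts : ∀ k : Fin 11, ∀ b : Fin 23, ∀ a ∈ [1, 22], (b : ℕ) ≠ 0 →
    (∀ i < 12, isCW (mask fun q => word (bas i) (tfun (candTbl k a b) q)) = true) →
    ∃ r : Fin 5, (k : ℕ) = (ratios.getD r (0, 0)).1 ∧ a = 1 ∧
      (b : ℕ) = (ratios.getD r (0, 0)).2 := by
  decide +kernel

theorem point_cases : ∀ q : GolayPt, q = none ∨ q = some 0 ∨
    ∃ i : Fin 11, q = some ((2 : ZMod 23) ^ (i : ℕ)) ∨ q = some (-(2 : ZMod 23) ^ (i : ℕ)) := by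
  decide +kernel

theorem cand_apply : ∀ k < 11, ∀ i : Fin 11, ∀ a < 23, ∀ b < 23,
    idx (tfun (candTbl k a b) (some ((2 : ZMod 23) ^ (i : ℕ)))) =
      a * pows.getD (k * i % 11) 0 % 23 ∧
    idx (tfun (candTbl k a b) (some (-(2 : ZMod 23) ^ (i : ℕ)))) =
      b * pows.getD (k * i % 11) 0 % 23 := by
  have h1 : ∀ i : Fin 11, idx (some ((2 : ZMod 23) ^ (i : ℕ))) = pows.getD i 0 ∧
      idx (some (-(2 : ZMod 23) ^ (i : ℕ))) = 23 - pows.getD i 0 ∧
      pows.getD i 0 < 23 ∧ pows.getD i 0 ≠ 0 ∧ pows.contains (pows.getD i 0) = true ∧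
      pows.contains (23 - pows.getD i 0) = false ∧ pows.idxOf (pows.getD i 0) = i := by
    decide +kernel
  intro k hk i a ha b hb
  obtain ⟨e1, e2, e3, e4, e5, e6, e7⟩ := h1 i
  have h2 : ∀ q, idx (tfun (candTbl k a b) q) = if idx q = 0 ∨ idx q = 23 then idx q else
      if pows.contains (idx q) then a * pows.getD (k * pows.idxOf (idx q) % 11) 0 % 23
      else b * pows.getD (k * pows.idxOf (23 - idx q) % 11) 0 % 23 := fun q => by
    rw [tfun, candTbl, List.getD_eq_getElem _ _ (by simp [idx_lt]), List.getElem_map,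
      List.getElem_range, idx_pt]
    have := idx_lt q
    split_ifs <;> first | omega | exact (Nat.mod_lt _ (by norm_num)).trans (by norm_num)
  constructor
  · rw [h2, e1, if_neg (by omega), if_pos e5, e7]
  · rw [h2, e2, if_neg (by omega), if_neg (by rw [e6]; exact Bool.false_ne_true),
      show 23 - (23 - pows.getD (i : ℕ) 0) = pows.getD (i : ℕ) 0 by omega, e7]

theorem normalizes_dbl {g : Perm GolayPt} (hg : g ∈ Spor.M22)
    (h : g ∈ normalizer (zpowers dbl : Set (Perm GolayPt))) :
    ∃ r : Fin 5, ∃ j : Fin 11, ∀ q, g q =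
      aff j 0 (tfun (candTbl (ratios.getD r (0, 0)).1 1 (ratios.getD r (0, 0)).2) q) := by
  obtain ⟨k, hk⟩ := exists_pow_of_normalizes h
  obtain ⟨j, a, hj1, hga⟩ : ∃ j : Fin 11, ∃ a : ℕ, a ∈ [1, 22] ∧
      g (some 1) = aff j 0 (some (a : ZMod 23)) := by
    have h1 : g (some 1) ≠ none ∧ g (some 1) ≠ some 0 := by
      constructor <;> intro e
      · exact absurd (g.injective (e.trans hg.1.2.symm)) (by simp)
      · exact absurd (g.injective (e.trans hg.2.symm)) (by decide +kernel)
    rcases point_cases (g (some 1)) with e | e | ⟨i, e | e⟩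
    · exact absurd e h1.1
    · exact absurd e h1.2
    · refine ⟨i, 1, by simp, ?_⟩
      rw [e, aff_some, Nat.cast_one, mul_one, add_zero]
    · refine ⟨i, 22, by simp, ?_⟩
      rw [e, aff_some, (by decide +kernel : ((22 : ℕ) : ZMod 23) = -1), mul_neg, mul_one, add_zero]
  -- move the image of `1` to `1` or `-1`
  suffices hsuff : ∀ g : Perm GolayPt, g ∈ Spor.M22 → g * dbl * g⁻¹ = dbl ^ k →
      g (some 1) = some (a : ZMod 23) → ∃ r : Fin 5, ∀ q, g q =
        tfun (candTbl (ratios.getD r (0, 0)).1 1 (ratios.getD r (0, 0)).2) q by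
    have hc : aff j 0 * dbl = dbl * aff j 0 := by
      rw [dbl, aff_mul, aff_mul, add_comm j 1]
      simp
    have hj : aff j 0 ∈ Spor.M22 := ⟨affine_le ⟨j, 0, rfl⟩, by
      show aff j 0 (some 0) = some 0
      rw [aff_some, mul_zero, add_zero]⟩
    have hc' : Commute ((aff j 0)⁻¹) (dbl ^ k) := ((show Commute (aff j 0) dbl from hc).inv_left).pow_right k
    obtain ⟨r, hr⟩ := hsuff ((aff j 0)⁻¹ * g) (mul_mem (inv_mem hj) hg) (by
        calc (aff j 0)⁻¹ * g * dbl * ((aff j 0)⁻¹ * g)⁻¹
            = (aff j 0)⁻¹ * (g * dbl * g⁻¹) * aff j 0 := by group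
          _ = dbl ^ k := by rw [hk, hc'.eq, inv_mul_cancel_right])
      (by rw [Perm.mul_apply, hga]; simp)
    exact ⟨r, j, fun q => by rw [← hr, Perm.mul_apply]; simp⟩
  clear hga hg h hk g
  intro g hg hk hga
  have hk' : g * dbl * g⁻¹ = dbl ^ (k % 11) := by
    rw [hk, ← orderOf_dbl, pow_mod_orderOf]
  have h0 : g none = none := hg.1.2
  have h00 : g (some 0) = some 0 := hg.2
  have hval : ∀ x : ZMod 23, x ≠ 0 → ∃ a : ℕ, a < 23 ∧ a ≠ 0 ∧ g (some x) = some (a : ZMod 23) := fun x hx => by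
    rcases hgq : g (some x) with _ | y
    · exact absurd (g.injective (hgq.trans h0.symm)) (by simp)
    · refine ⟨y.val, y.val_lt, fun e => hx ?_, by rw [ZMod.natCast_zmod_val]⟩
      rw [ZMod.val_eq_zero] at e
      subst e
      exact Option.some.inj (g.injective (hgq.trans h00.symm))
  have ha : a < 23 := by
    rcases (by simpa using hj1 : a = 1 ∨ a = 22) with e | e <;> omega
  obtain ⟨b, hb, hb0, hgb⟩ := hval (-1) (by decide)
  have hk11 : k % 11 < 11 := Nat.mod_lt _ (by norm_num)
  have hpow : ∀ m : ℕ, ((2 : ZMod 23) ^ m) = ((pows.getD (m % 11) 0 : ℕ) : ZMod 23) := fun m => by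
    conv_lhs => rw [← Nat.mod_add_div m 11, pow_add, pow_mul,
      show (2 : ZMod 23) ^ 11 = 1 by decide, one_pow, mul_one]
    exact (by decide +kernel : ∀ r < 11, (2 : ZMod 23) ^ r = ((pows.getD r 0 : ℕ) : ZMod 23)) _
      (Nat.mod_lt _ (by norm_num))
  have horb : ∀ (i : Fin 11) (x : ZMod 23) (c : ℕ), g (some x) = some (c : ZMod 23) →
      idx (g (some ((2 : ZMod 23) ^ (i : ℕ) * x))) = c * pows.getD (k % 11 * i % 11) 0 % 23 := by
    intro i x c hc
    have := apply_pow hk' i (some x)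
    rw [dbl_pow, hc, dbl_pow, hpow (k % 11 * i)] at this
    rw [this, ← Nat.cast_mul, mul_comm]
    rw [show ∀ z : ZMod 23, idx (some z) = z.val from fun _ => rfl, ZMod.val_natCast]
  have heq : ∀ q, g q = tfun (candTbl (k % 11) a b) q := fun q => by
    rcases point_cases q with rfl | rfl | ⟨i, rfl | rfl⟩
    · rw [h0]; rfl
    · rw [h00]; rfl
    · refine idx_injective ?_
      rw [(cand_apply _ hk11 i a ha b hb).1, ← horb i 1 a hga, mul_one]
    · refine idx_injective ?_
      rw [(cand_apply _ hk11 i a ha b hb).2, ← horb i (-1) b hgb, mul_neg, mul_one]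
  obtain ⟨r, e1, e2, e3⟩ := cand_facts ⟨_, hk11⟩ ⟨b, hb⟩ a hj1 hb0 fun i hi => by
    have := isCW_of_mem hg.1.1 hi
    simpa only [heq] using this
  simp only at e1 e3
  exact ⟨r, fun q => by rw [heq, e1, e3, e2]⟩

/-- An element of order five normalising the subgroup of order eleven. -/
def fiveTbl : List ℕ := candTbl 3 1 11

theorem fiveTbl_facts : IsTbl fiveTbl ∧ tfun fiveTbl none = none ∧
    tfun fiveTbl (some 0) = some 0 ∧
    (∀ q, tfun fiveTbl (tfun fiveTbl (tfun fiveTbl (tfun fiveTbl (tfun fiveTbl q)))) = q) ∧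
    (∀ q, tfun fiveTbl (dbl q) = dbl (dbl (dbl (tfun fiveTbl q)))) ∧
    ∃ q, tfun fiveTbl q ≠ q := by
  decide +kernel

theorem dbl_mem : dbl ∈ Spor.M22 := ⟨affine_le ⟨1, 0, rfl⟩, (by decide +kernel : dbl (some 0) = some 0)⟩

theorem card_normalizer_dbl :
    Nat.card ↥(Spor.M22 ⊓ normalizer (zpowers dbl : Set (Perm GolayPt))) = 55 := by
  set F := Spor.M22 ⊓ normalizer (zpowers dbl : Set (Perm GolayPt)) with hF
  refine le_antisymm ?_ (Nat.le_of_dvd Nat.card_pos ?_)
  · choose r j hrj using fun g : F => normalizes_dbl g.2.1 g.2.2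
    refine (Nat.card_le_card_of_injective (fun g => (r g, j g)) fun g h e => ?_).trans_eq ?_
    · simp only [Prod.mk.injEq] at e
      exact Subtype.ext (Equiv.ext fun q => by rw [hrj, hrj, e.1, e.2])
    · simp [Nat.card_eq_fintype_card]
  · obtain ⟨hT, hn, h0, h5, hd, hne⟩ := fiveTbl_facts
    set e := tperm fiveTbl hT with he
    have hdF : dbl ∈ F := ⟨dbl_mem, le_normalizer (mem_zpowers dbl)⟩
    have hed : e * dbl * e⁻¹ = dbl ^ 3 := by
      rw [mul_inv_eq_iff_eq_mul]
      exact Equiv.ext fun q => hd q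
    have heF : e ∈ F := by
      refine ⟨⟨⟨tperm_mem _ _, hn⟩, h0⟩, ?_⟩
      have hle : (zpowers dbl).map (MulAut.conj e).toMonoidHom ≤ zpowers dbl := by
        rw [MonoidHom.map_zpowers, zpowers_le]
        show e * dbl * e⁻¹ ∈ zpowers dbl
        rw [hed]
        exact pow_mem (mem_zpowers dbl) 3
      have heq := eq_of_le_of_card_ge hle (le_of_eq (Nat.card_congr
        ((zpowers dbl).equivMapOfInjective _ (MulAut.conj e).injective).toEquiv))
      refine mem_normalizer_iff.2 fun x => ⟨fun hx => hle ⟨x, hx, rfl⟩, fun hx => ?_⟩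
      obtain ⟨y, hy, hyx⟩ : e * x * e⁻¹ ∈ (zpowers dbl).map (MulAut.conj e).toMonoidHom := by
        rw [heq]; exact hx
      rwa [← (MulAut.conj e).injective (show MulAut.conj e y = MulAut.conj e x from hyx)]
    haveI : Fact (Nat.Prime 5) := ⟨Nat.prime_five⟩
    have ho5 : orderOf e = 5 := by
      refine orderOf_eq_prime (Equiv.ext fun q => ?_) fun h => ?_
      · simp only [pow_succ, pow_zero, one_mul, Perm.mul_apply]
        exact h5 q
      · obtain ⟨q, hq⟩ := hne
        exact hq (congrArg (fun g : Perm GolayPt => g q) h)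
    have h1 := card_dvd_of_le (zpowers_le.2 hdF)
    have h2 := card_dvd_of_le (zpowers_le.2 heF)
    rw [Nat.card_zpowers, orderOf_dbl] at h1
    rw [Nat.card_zpowers, ho5] at h2
    exact Nat.Coprime.mul_dvd_of_dvd_of_dvd (by norm_num : Nat.Coprime 11 5) h1 h2

/-! ### Maximality -/

theorem affine_eq_normalizer {H : Subgroup (Perm GolayPt)} (hN : affine ≤ H) (hH : H ≤ Spor.M23) :
    H ⊓ normalizer (zpowers shift : Set (Perm GolayPt)) = affine := by
  refine le_antisymm (fun g hg => normalizes_shift (hH hg.1) hg.2) fun g hg => ⟨hN hg, ?_⟩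
  obtain ⟨i, b, rfl⟩ := hg
  have hs : shift = aff 0 1 := by decide +kernel
  have key : ∀ i b, aff i b * shift * (aff i b)⁻¹ ∈ zpowers shift := fun i b => by
    have : aff i b * shift * (aff i b)⁻¹ = shift ^ ((2 : ZMod 23) ^ (i : ℕ)).val := by
      rw [mul_inv_eq_iff_eq_mul]
      refine Equiv.ext fun q => ?_
      rcases q with _ | x
      · rw [Perm.mul_apply, Perm.mul_apply, aff_none, hs, aff_none, aff_none,
          ← hs, Perm.pow_apply_eq_self_of_apply_eq_self (by rfl)]
      · rw [Perm.mul_apply, Perm.mul_apply, aff_some, shift_pow, ZMod.natCast_zmod_val]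
        show aff i b (some (x + 1)) = _
        rw [aff_some]
        ring_nf
    rw [this]
    exact pow_mem (mem_zpowers _) _
  have hle : (zpowers shift).map (MulAut.conj (aff i b)).toMonoidHom ≤ zpowers shift := by
    rw [MonoidHom.map_zpowers, zpowers_le]
    exact key i b
  have heq := eq_of_le_of_card_ge hle (le_of_eq (Nat.card_congr
    ((zpowers shift).equivMapOfInjective _ (MulAut.conj (aff i b)).injective).toEquiv))
  refine mem_normalizer_iff.2 fun x => ⟨fun hx => hle ⟨x, hx, rfl⟩, fun hx => ?_⟩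
  obtain ⟨y, hy, hyx⟩ : aff i b * x * (aff i b)⁻¹ ∈
      (zpowers shift).map (MulAut.conj (aff i b)).toMonoidHom := by rw [heq]; exact hx
  rwa [← (MulAut.conj (aff i b)).injective
    (show MulAut.conj (aff i b) y = MulAut.conj (aff i b) x from hyx)]

theorem card_M23' : Nat.card Spor.M23 = 10200960 := by
  rw [← CfsgLib.SmallGroups.MathieuSimple.card_stab_point none]
  exact Nat.card_congr ⟨fun g => ⟨⟨g, g.2.1⟩, g.2.2⟩, fun g => ⟨g.1, g.1.2, g.2⟩,
    fun _ => rfl, fun _ => rfl⟩

theorem shift_eq : shift = aff 0 1 := by decide +kernel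

theorem overgroup_affine {H : Subgroup (Perm GolayPt)} (hN : affine ≤ H) (hH : H ≤ Spor.M23) :
    H = affine ∨ H = Spor.M23 := by
  haveI : Fact (Nat.Prime 23) := ⟨by norm_num⟩
  haveI : Fact (Nat.Prime 11) := ⟨by norm_num⟩
  have hdvd : Nat.card H ∣ 10200960 := card_M23' ▸ card_dvd_of_le hH
  obtain ⟨n, hn, hcard⟩ := sylow_split H (hN ⟨0, 1, shift_eq⟩)
    orderOf_shift (fun h => absurd (h.trans hdvd) (by norm_num))
  rw [affine_eq_normalizer hN hH, card_affine] at hcard
  have hn' : n ∣ 40320 :=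
    Nat.dvd_of_mul_dvd_mul_right (by norm_num : 0 < 253) (by rw [← hcard]; exact hdvd)
  rcases (by decide +kernel : ∀ n ∈ Nat.divisors 40320, n % 23 = 1 →
      n ∈ [1, 24, 70, 576, 1680, 40320]) n (Nat.mem_divisors.2 ⟨hn', by norm_num⟩) hn with h
  simp only [List.mem_cons, List.not_mem_nil, or_false] at h
  by_cases h1 : n = 1
  · exact Or.inl (eq_of_le_of_card_ge hN (by rw [hcard, h1, card_affine])).symm
  by_cases h2 : n = 40320
  · exact Or.inr (eq_of_le_of_card_ge hH (by rw [hcard, h2, card_M23']))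
  exfalso
  -- the stabiliser of zero
  set H0 := H ⊓ MulAction.stabilizer (Perm GolayPt) (some 0 : GolayPt) with hH0
  have hstep := card_step H (some 0) (Finset.univ.erase (none : GolayPt)) (fun g hg => by
      refine Finset.mem_erase.2 ⟨fun e => ?_, Finset.mem_univ _⟩
      exact absurd (g.injective (e.trans (hH hg).2.symm)) (by simp)) (fun q hq => by
      rcases q with _ | x
      · simp at hq
      · exact ⟨aff 0 x, hN ⟨0, x, rfl⟩, by rw [aff_some]; simp⟩)
  rw [show (Finset.univ.erase (none : GolayPt)).card = 23 by decide +kernel, ← hH0, hcard] at hstep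
  have hc0 : Nat.card H0 = 11 * n := by omega
  have hd0 : dbl ∈ H0 := ⟨hN ⟨1, 0, rfl⟩, dbl_mem.2⟩
  obtain ⟨m, hm, hm'⟩ := sylow_split H0 hd0 orderOf_dbl (fun h => by
    rw [hc0, pow_two] at h
    have := Nat.dvd_of_mul_dvd_mul_left (by norm_num : 0 < 11) h
    rcases h with h' | _ <;> omega)
  have hM : Nat.card ↥(H0 ⊓ normalizer (zpowers dbl : Set (Perm GolayPt))) ∣ 55 :=
    card_normalizer_dbl ▸ card_dvd_of_le
      (inf_le_inf_right _ (inf_le_inf_right _ hH) : H0 ⊓ _ ≤ Spor.M22 ⊓ _)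
  rw [hc0] at hm'
  have hM2 : Nat.card ↥(H0 ⊓ normalizer (zpowers dbl : Set (Perm GolayPt))) ∈ [1, 5, 11, 55] :=
    (by decide +kernel : ∀ d ∈ Nat.divisors 55, d ∈ [1, 5, 11, 55]) _
      (Nat.mem_divisors.2 ⟨hM, by norm_num⟩)
  simp only [List.mem_cons, List.not_mem_nil, or_false] at hM2
  rcases hM2 with e | e | e | e <;> rw [e] at hm' <;> omega

/-- The generators of `PSL(2, 23)`. -/
def gensL : Set (Perm GolayPt) :=
  {shift, projInv} ∪ {g | ∃ u : (ZMod 23)ˣ, IsSquare u ∧ g = mul u}

theorem affine_le_L : affine ≤ closure gensL := by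
  rw [← closure_gensN]
  refine closure_mono ?_
  rintro g (rfl | hg)
  · exact Or.inl (Or.inl rfl)
  · exact Or.inr hg

theorem projInv_mem : projInv ∈ M24 := sgen_mem 1

theorem L_le : closure gensL ≤ M24 := by
  refine (closure_le _).2 ?_
  rintro g ((rfl | rfl) | hg)
  · exact sgen_mem 0
  · exact projInv_mem
  · exact (affine_le (closure_gensN.le (subset_closure (Or.inr hg)))).1

/-- The Bruhat form. -/
def Bruhat (g : Perm GolayPt) : Prop :=
  g ∈ affine ∨ ∃ n ∈ affine, ∃ c, g = n * projInv * aff 0 c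

theorem move_left : ∀ (j : Fin 11) (q : GolayPt),
    projInv (aff j 0 q) = aff (-j) 0 (projInv q) := by decide +kernel

theorem bruhat_sq : ∀ c : ZMod 23, c ≠ 0 → ∃ (i : Fin 11) (b : ZMod 23) (c' : ZMod 23),
    b = -c⁻¹ ∧ c' = -c⁻¹ ∧ c * c * 2 ^ (i : ℕ) = 1 ∧
    ∀ q, projInv (aff 0 c (projInv q)) = aff i b (projInv (aff 0 c' q)) := by
  have : ∀ c : ZMod 23, c ≠ 0 → ∃ i : Fin 11, c * c * 2 ^ (i : ℕ) = 1 ∧
    ∀ q, projInv (aff 0 c (projInv q)) = aff i (-c⁻¹) (projInv (aff 0 (-c⁻¹) q)) := by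
    decide +kernel
  intro c hc
  obtain ⟨i, h1, h2⟩ := this c hc
  exact ⟨i, _, _, rfl, rfl, h1, h2⟩

theorem bruhat_closed {g : Perm GolayPt} (hg : Bruhat g) {x : Perm GolayPt} (hx : x ∈ gensL) :
    Bruhat (g * x) := by
  rcases hx with (hu | hu) | hu
  rotate_left
  · -- `projInv`
    subst hu
    rcases hg with hg | ⟨n, hn, c, rfl⟩
    · exact Or.inr ⟨g, hg, 0, by rw [aff_zero, mul_one]⟩
    · by_cases hc : c = 0
      · refine Or.inl ?_
        rwa [hc, aff_zero, mul_one, mul_assoc,
          (by decide +kernel : projInv * projInv = (1 : Perm GolayPt)), mul_one]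
      · obtain ⟨i, b, c', -, -, -, hi⟩ := bruhat_sq c hc
        refine Or.inr ⟨n * aff i b, mul_mem hn ⟨i, b, rfl⟩, c', ?_⟩
        simp only [mul_assoc]
        congr 1
        exact Equiv.ext hi
  all_goals
    obtain ⟨j, d, hx⟩ : x ∈ affine := by
      rw [← closure_gensN]
      first
        | exact subset_closure (Or.inr hu)
        | exact subset_closure (Or.inl hu)
    rcases hg with hg | ⟨n, hn, c, rfl⟩
    · exact Or.inl (mul_mem hg (hx ▸ ⟨j, d, rfl⟩))
    · refine Or.inr ⟨n * aff (-j) 0, mul_mem hn ⟨_, _, rfl⟩,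
        (2 : ZMod 23) ^ ((-j : Fin 11) : ℕ) * (d + c), ?_⟩
      rw [hx]
      have e : aff 0 c * aff j d =
          aff j 0 * aff 0 ((2 : ZMod 23) ^ ((-j : Fin 11) : ℕ) * (d + c)) := by
        rw [aff_mul, aff_mul, zero_add, add_zero, add_zero, ← mul_assoc, pow_two_add,
          add_neg_cancel]
        simp
      rw [mul_assoc _ (aff 0 c), e]
      simp only [mul_assoc]
      congr 1
      rw [← mul_assoc, ← mul_assoc, show projInv * aff j 0 = aff (-j) 0 * projInv from
        Equiv.ext (move_left j)]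

theorem L_stab : closure gensL ⊓ MulAction.stabilizer (Perm GolayPt) (none : GolayPt) = affine := by
  refine le_antisymm (fun g hg => ?_) fun g hg => ⟨affine_le_L hg, (affine_le hg).2⟩
  have hB : Bruhat g := by
    have h : g ∈ (closure gensL).toSubmonoid := hg.1
    rw [closure_toSubmonoid_of_finite] at h
    clear hg
    induction h using Submonoid.closure_induction_right with
    | one => exact Or.inl (one_mem _)
    | mul_right x _ y hy ih => exact bruhat_closed ih hy
  rcases hB with h | ⟨n, hn, c, rfl⟩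
  · exact h
  · exfalso
    have h0 : (n * projInv * aff 0 c) none = none := hg.2
    rw [Perm.mul_apply, Perm.mul_apply, aff_none] at h0
    exact absurd (n.injective (h0.trans (affine_le hn).2.symm)) (by decide +kernel)

theorem L_transitive (q : GolayPt) : ∃ g ∈ closure gensL, g none = q := by
  rcases q with _ | x
  · exact ⟨1, one_mem _, rfl⟩
  · refine ⟨aff 0 x * projInv, mul_mem (affine_le_L ⟨0, x, rfl⟩)
      (subset_closure (Or.inl (Or.inr rfl))), ?_⟩
    rw [Perm.mul_apply, show projInv none = some 0 from rfl, aff_some]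
    simp

theorem card_L : Nat.card ↥(closure gensL) = 6072 := by
  rw [card_step (closure gensL) none Finset.univ (fun _ _ => Finset.mem_univ _)
    (fun q _ => L_transitive q), L_stab, card_affine]
  rfl

theorem overgroup_L {H : Subgroup (Perm GolayPt)} (hL : closure gensL ≤ H) (hH : H ≤ M24) :
    H = closure gensL ∨ H = M24 := by
  have hstep := card_step H none Finset.univ (fun _ _ => Finset.mem_univ _) (fun q _ =>
    let ⟨g, hg, e⟩ := L_transitive q; ⟨g, hL hg, e⟩)
  rw [Finset.card_univ, show Fintype.card GolayPt = 24 from rfl] at hstep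
  rcases overgroup_affine (H := H ⊓ MulAction.stabilizer (Perm GolayPt) (none : GolayPt))
    (L_stab ▸ inf_le_inf_right _ hL) (inf_le_inf_right _ hH) with h | h
  · rw [h, card_affine] at hstep
    exact Or.inl (eq_of_le_of_card_ge hL (by rw [card_L, hstep])).symm
  · rw [h, card_M23'] at hstep
    exact Or.inr (eq_of_le_of_card_ge hH (by rw [card_M24, hstep]))

/-- Relative maximality from the list of overgroups. -/
theorem isCoatom_subgroupOf {G : Type*} [Group G] [Finite G] {A B : Subgroup G} (hAB : A ≤ B)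
    (hne : Nat.card A < Nat.card B) (h : ∀ H, A ≤ H → H ≤ B → H = A ∨ H = B) :
    IsCoatom (A.subgroupOf B) := by
  refine ⟨fun e => ?_, fun K hK => ?_⟩
  · rw [subgroupOf_eq_top] at e
    exact hne.ne (congrArg (fun S : Subgroup G => Nat.card S) (le_antisymm hAB e))
  · rcases h (K.map B.subtype) (by rw [← map_subgroupOf_eq_of_le hAB]; exact map_mono hK.le)
      (map_subtype_le K) with e | e
    · refine absurd ?_ hK.ne'
      exact map_injective B.subtype_injective (e.trans (map_subgroupOf_eq_of_le hAB).symm)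
    · refine map_injective B.subtype_injective (e.trans ?_)
      rw [← MonoidHom.range_eq_map, range_subtype]

end CfsgLib.Sporadic.PSL23Maximal
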