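import Cfsg.Agent.Lib.Involution.ZStar.Main
import Cfsg.Agent.Lib.Involution.ZStar.Corollaries
import Cfsg.Agent.Lib.Solvable.Cores

/-!
# Classes of involutions whose pairwise products have odd prime power order
-/

set_option autoImplicit false
set_option linter.style.haveILetI false

namespace CfsgLib.Sporadic.PTransposition

variable {G : Type*} [Group G] [Finite G]

/-- The group generated by such a class is a `p`-group extended by the involution. -/
theorem exists_normal_sylow {p : ℕ} (hp : p.Prime) (hodd : p ≠ 2) {d : G} (hd2 : orderOf d = 2)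
    {D : Set G} (hdD : d ∈ D) (hD : D = conjugatesOf d) (hgen : Subgroup.closure D = ⊤)
    (hprod : ∀ x ∈ D, ∀ y ∈ D, x ≠ y → ∃ k : ℕ, orderOf (x * y) = p ^ k) :
    ∃ P : Sylow p G, (P : Subgroup G).Normal ∧ ∀ g : G, d * (g * d * g⁻¹) ∈ (P : Subgroup G) := by
  have hsq : d * d = 1 := by rw [← pow_two, ← hd2]; exact pow_orderOf_eq_one d
  have hdinv : d⁻¹ = d := inv_eq_of_mul_eq_one_right hsq
  have hmem : ∀ g : G, g * d * g⁻¹ ∈ D := fun g => by
    rw [hD]; exact isConj_iff.2 ⟨g, rfl⟩
  have hpow : ∀ g : G, ∃ k, orderOf (d * (g * d * g⁻¹)) ∣ p ^ k := by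
    intro g
    by_cases h : d = g * d * g⁻¹
    · exact ⟨0, by rw [← h, hsq, orderOf_one]; exact one_dvd _⟩
    · obtain ⟨k, hk⟩ := hprod d hdD _ (hmem g) h
      exact ⟨k, hk ▸ dvd_rfl⟩
  have hiso : Cfsg.IsIsolatedInvolution d := by
    refine ⟨hd2, fun g hc => ?_⟩
    obtain ⟨k, hk⟩ := hpow g
    have h2 : (d * (g * d * g⁻¹)) ^ 2 = 1 := by
      rw [hc.mul_pow, pow_two, pow_two, hsq, one_mul]
      simp [mul_assoc, ← mul_assoc d d, hsq]
    have h1 : d * (g * d * g⁻¹) = 1 := by
      rw [← orderOf_eq_one_iff]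
      exact Nat.eq_one_of_dvd_coprimes (((Nat.coprime_primes hp Nat.prime_two).2 hodd).pow_left k) hk
        (orderOf_dvd_of_pow_eq_one h2)
    rw [eq_inv_of_mul_eq_one_right h1, hdinv]
  set C := Subgroup.centralizer ({d} : Set G) with hC
  have hinvar : ∀ q : ℕ, q.Prime → ∃ Q : Sylow q G,
      d ∈ Subgroup.normalizer ((Q : Subgroup G) : Set G) := by
    intro q hq
    haveI := Fact.mk hq
    rcases eq_or_ne q 2 with rfl | hne
    · obtain ⟨Q, hQ⟩ := (CfsgLib.Involution.Basic.isPGroup_zpowers_of_two hd2).exists_le_sylow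
      exact ⟨Q, Subgroup.le_normalizer (hQ (Subgroup.mem_zpowers d))⟩
    · obtain ⟨Q, -, hQ⟩ := CfsgLib.Involution.ZStar.exists_invariant_sylow_ge
        (CfsgLib.Involution.ZStar.starCentral G) hiso hne (IsPGroup.of_bot (p := q) (G := G)) bot_le
      exact ⟨Q, hQ⟩
  -- the other Sylow subgroups centralize `d`
  have hcent : ∀ q : ℕ, q.Prime → q ≠ p → ¬ q ∣ C.index := by
    intro q hq hne hdvd
    haveI := Fact.mk hq
    obtain ⟨Q, hQ⟩ := hinvar q hq
    have hle : (Q : Subgroup G) ≤ C := by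
      intro x hx
      rw [hC, Subgroup.mem_centralizer_singleton_iff]
      have h1 : d * x * d⁻¹ ∈ (Q : Subgroup G) := (Subgroup.mem_normalizer_iff.1 hQ x).1 hx
      have h2 : d * (x * d * x⁻¹) ∈ (Q : Subgroup G) := by
        have h3 := (Q : Subgroup G).mul_mem h1 ((Q : Subgroup G).inv_mem hx)
        rw [hdinv] at h3
        simpa [mul_assoc] using h3
      obtain ⟨k, hk⟩ := hpow x
      obtain ⟨l, hl⟩ := Q.isPGroup' ⟨_, h2⟩
      have h4 : d * (x * d * x⁻¹) = 1 := by
        rw [← orderOf_eq_one_iff]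
        exact Nat.eq_one_of_dvd_coprimes (((Nat.coprime_primes hp hq).2 (Ne.symm hne)).pow k l) hk
          (orderOf_dvd_of_pow_eq_one (by simpa using congrArg Subtype.val hl))
      have h5 := eq_inv_of_mul_eq_one_right h4
      rw [hdinv] at h5
      exact mul_inv_eq_iff_eq_mul.1 h5
    exact Q.not_dvd_index (hdvd.trans (Subgroup.index_dvd_of_le hle))
  haveI := Fact.mk hp
  obtain ⟨P, hP⟩ := hinvar p hp
  set A := (P : Subgroup G) with hA
  have hcop : C.index.Coprime A.index := by
    refine Nat.coprime_of_dvd fun q hq h1 h2 => ?_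
    by_cases e : q = p
    · exact P.not_dvd_index (e ▸ h2)
    · exact hcent q hq e h1
  have h1 : (C ⊓ A).index = C.relIndex A * A.index := by
    rw [← Subgroup.inf_relIndex_right, Subgroup.relIndex_mul_index inf_le_right]
  have h2 : (C ⊓ A).index = A.relIndex C * C.index := by
    rw [inf_comm, ← Subgroup.inf_relIndex_right, Subgroup.relIndex_mul_index inf_le_right]
  have hdvd : C.index ∣ C.relIndex A :=
    hcop.dvd_of_dvd_mul_right ⟨A.relIndex C, by rw [← h1, h2]; ring⟩
  let f : A ⧸ C.subgroupOf A → G ⧸ C := Quotient.lift (fun a : A => ((a : G) : G ⧸ C))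
    fun a b h => by
      have h' := QuotientGroup.leftRel_apply.1 h
      exact QuotientGroup.eq.2 (by simpa [Subgroup.mem_subgroupOf] using h')
  have hinj : Function.Injective f := by
    intro x y
    induction x using QuotientGroup.induction_on with
    | _ a =>
      induction y using QuotientGroup.induction_on with
      | _ b =>
        intro h
        refine QuotientGroup.eq.2 ?_
        simpa [Subgroup.mem_subgroupOf] using QuotientGroup.eq.1 (show ((a : G) : G ⧸ C) = (b : G) from h)
  have hle : Nat.card (G ⧸ C) ≤ Nat.card (A ⧸ C.subgroupOf A) := by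
    rw [← Subgroup.index_eq_card, ← Subgroup.index_eq_card]
    exact Nat.le_of_dvd (Nat.pos_of_ne_zero Subgroup.index_ne_zero_of_finite) hdvd
  have hsurj : Function.Surjective f := (hinj.bijective_of_nat_card_le hle).2
  -- every member differs from `d` by an element of the Sylow subgroup
  have hDP : ∀ g : G, g * d * g⁻¹ ∈ A ⊔ Subgroup.zpowers d := by
    intro g
    obtain ⟨x, hx⟩ := hsurj (g : G ⧸ C)
    induction x using QuotientGroup.induction_on with
    | _ a =>
      have hc : (a : G)⁻¹ * g ∈ C := QuotientGroup.eq.1 (show ((a : G) : G ⧸ C) = g from hx)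
      have e : g * d * g⁻¹ = (a : G) * d * (a : G)⁻¹ := by
        rw [hC, Subgroup.mem_centralizer_singleton_iff] at hc
        calc g * d * g⁻¹ = (a : G) * ((a : G)⁻¹ * g * d) * g⁻¹ := by simp [mul_assoc]
          _ = (a : G) * d * (a : G)⁻¹ := by rw [hc]; simp [mul_assoc]
      rw [e]
      exact Subgroup.mul_mem _ (Subgroup.mul_mem _ (le_sup_left (α := Subgroup G) a.2)
        (le_sup_right (α := Subgroup G) (Subgroup.mem_zpowers d)))
        (Subgroup.inv_mem _ (le_sup_left (α := Subgroup G) a.2))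
  have htop : A ⊔ Subgroup.zpowers d = ⊤ := by
    rw [eq_top_iff, ← hgen, Subgroup.closure_le]
    intro x hx
    rw [hD] at hx
    obtain ⟨g, rfl⟩ := isConj_iff.1 hx
    exact hDP g
  haveI hAn : A.Normal := by
    refine Subgroup.normalizer_eq_top_iff.1 (top_le_iff.1 ?_)
    rw [← htop]
    exact sup_le Subgroup.le_normalizer (Subgroup.zpowers_le.2 hP)
  refine ⟨P, hAn, fun g => ?_⟩
  have hcA : d * (g * d * g⁻¹) ∈ A := by
    obtain ⟨x, hx⟩ := hsurj (g : G ⧸ C)
    induction x using QuotientGroup.induction_on with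
    | _ a =>
      have hc : (a : G)⁻¹ * g ∈ C := QuotientGroup.eq.1 (show ((a : G) : G ⧸ C) = g from hx)
      rw [hC, Subgroup.mem_centralizer_singleton_iff] at hc
      have e : d * (g * d * g⁻¹) = (d * (a : G) * d⁻¹) * (a : G)⁻¹ := by
        rw [hdinv]
        calc d * (g * d * g⁻¹) = d * ((a : G) * ((a : G)⁻¹ * g * d) * g⁻¹) := by simp [mul_assoc]
          _ = d * (a : G) * d * (a : G)⁻¹ := by rw [hc]; simp [mul_assoc]
      rw [e]
      exact A.mul_mem (hAn.conj_mem _ a.2 d) (A.inv_mem a.2)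
  exact hcA

/-- In the ambient group the products lie in the `p`-core. -/
theorem mul_mem_pCore {p : ℕ} (hp : p.Prime) (hodd : p ≠ 2) {d : G} (hd : orderOf d = 2)
    (hprod : ∀ a ∈ conjugatesOf d, ∀ b ∈ conjugatesOf d, ∃ k : ℕ, orderOf (a * b) = p ^ k) :
    ∀ a ∈ conjugatesOf d, ∀ b ∈ conjugatesOf d, a * b ∈ Cfsg.pCore p G := by
  set H := Subgroup.closure (conjugatesOf d) with hH
  set d' : H := ⟨d, Subgroup.subset_closure mem_conjugatesOf_self⟩ with hd'
  set D' : Set H := {z | (z : G) ∈ conjugatesOf d} with hD'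
  have hsq : ∀ a ∈ conjugatesOf d, a * a = 1 := by
    intro a ha
    obtain ⟨g, rfl⟩ := isConj_iff.1 ha
    rw [conj_mul, ← pow_two, ← hd, pow_orderOf_eq_one, mul_one, mul_inv_cancel]
  -- any two members are conjugate in the generated group
  have hone : D' = conjugatesOf d' := by
    ext z
    constructor
    · intro hz
      obtain ⟨k, hk⟩ := hprod d mem_conjugatesOf_self z hz
      obtain ⟨m, hm⟩ : Odd (p ^ k) := (hp.odd_of_ne_two hodd).pow
      refine isConj_iff.2 ⟨(z * d') ^ m * z, Subtype.ext ?_⟩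
      have ha := hsq d mem_conjugatesOf_self
      have hb := hsq (z : G) hz
      have hai : d⁻¹ = d := inv_eq_of_mul_eq_one_right ha
      have hbi : (z : G)⁻¹ = z := inv_eq_of_mul_eq_one_right hb
      set u := (z : G) * d with hu
      have hu1 : u ^ (2 * m + 1) = 1 := by
        have h1 : (d * (z : G)) ^ (2 * m + 1) = 1 := by
          rw [← hm, ← hk]; exact pow_orderOf_eq_one _
        have h2 : u = (d * (z : G))⁻¹ := by rw [mul_inv_rev, hbi, hai]
        rw [h2, inv_pow, h1, inv_one]
      show u ^ m * (z : G) * d * (u ^ m * (z : G))⁻¹ = z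
      rw [mul_inv_rev, hbi, ← inv_pow, show u⁻¹ = d * (z : G) by rw [hu, mul_inv_rev, hai, hbi]]
      have hconj : ∀ n : ℕ, (z : G) * (d * (z : G)) ^ n = u ^ n * z := by
        intro n
        induction n with
        | zero => simp
        | succ n ih => rw [pow_succ, pow_succ, ← mul_assoc, ih, hu]; simp only [mul_assoc]
      calc u ^ m * (z : G) * d * ((z : G) * (d * (z : G)) ^ m)
          = u ^ m * u * (u ^ m * z) := by rw [hconj, hu]; simp only [mul_assoc]
        _ = u ^ (2 * m + 1) * z := by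
            rw [← mul_assoc, ← pow_succ, ← pow_add, show m + 1 + m = 2 * m + 1 by ring]
        _ = z := by rw [hu1, one_mul]
    · intro hz
      obtain ⟨g, rfl⟩ := isConj_iff.1 hz
      exact isConj_iff.2 ⟨g, rfl⟩
  have hgen : Subgroup.closure D' = ⊤ := Subgroup.closure_closure_coe_preimage
  obtain ⟨P, hPn, hP⟩ := exists_normal_sylow hp hodd (d := d')
    (by rw [← Subgroup.orderOf_coe]; exact hd) (D := D') (mem_conjugatesOf_self (a := d)) hone hgen
    (fun x hx y hy _ => by
      obtain ⟨k, hk⟩ := hprod x hx y hy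
      exact ⟨k, by rw [← Subgroup.orderOf_coe]; exact hk⟩)
  haveI : H.Normal := by
    refine ⟨fun h hh g => ?_⟩
    refine (Subgroup.closure_le (H.comap (MulAut.conj g).toMonoidHom)).2 ?_ hh
    intro a ha
    obtain ⟨c, rfl⟩ := isConj_iff.1 ha
    exact Subgroup.subset_closure (isConj_iff.2 ⟨g * c, by simp [mul_assoc]⟩)
  haveI := hPn
  haveI : Fact p.Prime := ⟨hp⟩
  haveI : (P : Subgroup H).Characteristic := P.characteristic_of_normal hPn
  have hle : (P : Subgroup H).map H.subtype ≤ Cfsg.pCore p G :=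
    CfsgLib.Solvable.Cores.le_pCore (P.isPGroup'.map H.subtype)
  intro a ha b hb
  have key : ∀ c ∈ conjugatesOf d, d * c ∈ Cfsg.pCore p G := by
    intro c hc
    have hc' : (⟨c, Subgroup.subset_closure hc⟩ : H) ∈ conjugatesOf d' := hone ▸ hc
    obtain ⟨g, hg⟩ := isConj_iff.1 hc'
    have := hle ⟨_, hP g, rfl⟩
    rw [hg] at this
    exact this
  have := (Cfsg.pCore p G).mul_mem ((Cfsg.pCore p G).inv_mem (key a ha)) (key b hb)
  rw [mul_inv_rev, inv_eq_of_mul_eq_one_right (hsq a ha)] at this
  simpa [mul_assoc] using this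

end CfsgLib.Sporadic.PTransposition
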