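import Cfsg.Prelude.Def_Sporadic_a
import Cfsg.Agent.Lib.SmallGroups.Steiner

/-!
Projective planes of order four (Steiner systems S(2, 5, 21)).  A quadrangle `X, Y, O, I` coordinatises the
plane: the lines through neither `X` nor `Y` other than the line at infinity have as graphs exactly the even
permutations of four symbols.  This gives uniqueness of the plane and of its hyperovals.
-/

set_option autoImplicit false
set_option maxRecDepth 20000
set_option synthInstance.maxSize 20000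
set_option synthInstance.maxHeartbeats 200000

namespace CfsgLib.Sporadic.PlaneFour

open Finset Cfsg CfsgLib.SmallGroups.Steiner

/-- The twelve even permutations of four symbols, in cosets of the four-group. -/
def alt : Fin 12 → Fin 4 → Fin 4 :=
  ![![0, 1, 2, 3], ![1, 0, 3, 2], ![2, 3, 0, 1], ![3, 2, 1, 0],
    ![0, 2, 3, 1], ![1, 3, 2, 0], ![2, 0, 1, 3], ![3, 1, 0, 2],
    ![0, 3, 1, 2], ![1, 2, 0, 3], ![2, 1, 3, 0], ![3, 0, 2, 1]]

/-- The coset of an even permutation. -/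
def cls (k : Fin 12) : Fin 3 := ⟨(k : ℕ) / 4, by omega⟩

/-- A representative of a coset. -/
def rep (c : Fin 3) : Fin 12 := ⟨4 * (c : ℕ), by omega⟩

/-- The sixteen affine points and the five points at infinity. -/
abbrev Pt : Type := (Fin 4 × Fin 4) ⊕ Fin 5

/-- The names of the twenty-one lines. -/
abbrev Ln : Type := Option ((Fin 4 ⊕ Fin 4) ⊕ Fin 12)

/-- The lines of the model. -/
def pts : Ln → Finset Pt
  | none => univ.image Sum.inr
  | some (Sum.inl (Sum.inl b)) => insert (Sum.inr 3) (univ.image fun a => Sum.inl (a, b))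
  | some (Sum.inl (Sum.inr a)) => insert (Sum.inr 4) (univ.image fun b => Sum.inl (a, b))
  | some (Sum.inr k) => insert (Sum.inr (Fin.castLE (by norm_num) (cls k))) (univ.image fun a => Sum.inl (a, alt k a))

theorem pts_card : ∀ k, (pts k).card = 5 := by decide +kernel

theorem pts_join : ∀ p q : Pt, p ≠ q → ∃ k, p ∈ pts k ∧ q ∈ pts k := by decide +kernel

theorem pts_unique : ∀ k k' : Ln, ∀ p ∈ pts k, p ∈ pts k' → ∀ q ∈ pts k, q ∈ pts k' → p ≠ q → k = k' := by
  decide +kernel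

theorem pts_meet : ∀ k k' : Ln, k ≠ k' → (pts k ∩ pts k').card = 1 := by decide +kernel

/-- The hyperoval completing the standard quadrangle. -/
def oval : Fin 6 → Pt :=
  ![Sum.inr 3, Sum.inr 4, Sum.inl (0, 0), Sum.inl (1, 1), Sum.inl (2, 3), Sum.inl (3, 2)]

theorem oval_inj : Function.Injective oval := by decide +kernel

theorem oval_indep : ∀ i j l : Fin 6, i ≠ j → i ≠ l → j ≠ l → ∀ k, oval i ∈ pts k → oval j ∈ pts k →
    oval l ∈ pts k → False := by decide +kernel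

theorem oval_ext : ∀ p : Pt, (∀ i, p ≠ oval i) → ∃ i j : Fin 6, (i : ℕ) < 4 ∧ (j : ℕ) < 4 ∧ i ≠ j ∧
    ∃ k, p ∈ pts k ∧ oval i ∈ pts k ∧ oval j ∈ pts k := by decide +kernel

/-- The field automorphism. -/
def frob : Equiv.Perm Pt :=
  Equiv.sumCongr (Equiv.prodCongr (Equiv.swap (2 : Fin 4) 3) (Equiv.swap (2 : Fin 4) 3)) (Equiv.swap (1 : Fin 5) 2)

theorem frob_lines : ∀ k, ∃ k', (pts k).image frob = pts k' := by decide +kernel

theorem frob_oval : frob (oval 0) = oval 0 ∧ frob (oval 1) = oval 1 ∧ frob (oval 2) = oval 2 ∧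
    frob (oval 3) = oval 3 ∧ frob (oval 4) = oval 5 ∧ frob (oval 5) = oval 4 := by decide +kernel

theorem affine_det : ∀ a b : Fin 4, ∃ k k' : Ln, k ≠ k' ∧ Sum.inl (a, b) ∈ pts k ∧ Sum.inl (a, b) ∈ pts k' ∧
    (∃ i j, i ≠ j ∧ oval i ∈ pts k ∧ oval j ∈ pts k) ∧ (∃ i j, i ≠ j ∧ oval i ∈ pts k' ∧ oval j ∈ pts k') := by
  decide +kernel

theorem infinite_det : ∀ c : Fin 5, (∃ i, oval i = Sum.inr c) ∨ ∃ k k' : Ln, k ≠ k' ∧ Sum.inr c ∈ pts k ∧
    Sum.inr c ∈ pts k' ∧ (∃ p q : Fin 4 × Fin 4, p ≠ q ∧ Sum.inl p ∈ pts k ∧ Sum.inl q ∈ pts k) ∧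
    (∃ i j, i ≠ j ∧ oval i ∈ pts k' ∧ oval j ∈ pts k') := by
  decide +kernel

/-- A permutation of the model fixing the standard hyperoval pointwise and mapping lines to lines is trivial. -/
theorem model_rigid (g : Equiv.Perm Pt) (hg : ∀ k, ∃ k', (pts k).image g = pts k')
    (hf : ∀ i, g (oval i) = oval i) : g = 1 := by
  have key : ∀ (p : Pt) (k k' : Ln), k ≠ k' → p ∈ pts k → p ∈ pts k' →
      (∃ q r, q ≠ r ∧ q ∈ pts k ∧ r ∈ pts k ∧ g q = q ∧ g r = r) →
      (∃ q r, q ≠ r ∧ q ∈ pts k' ∧ r ∈ pts k' ∧ g q = q ∧ g r = r) → g p = p := by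
    have fixline : ∀ (p : Pt) (k : Ln), p ∈ pts k →
        (∃ q r, q ≠ r ∧ q ∈ pts k ∧ r ∈ pts k ∧ g q = q ∧ g r = r) → g p ∈ pts k := by
      rintro p k hp ⟨q, r, hqr, hq, hr, eq, er⟩
      obtain ⟨k₁, e⟩ := hg k
      have h1 : q ∈ pts k₁ := e ▸ mem_image.2 ⟨q, hq, eq⟩
      have h2 : r ∈ pts k₁ := e ▸ mem_image.2 ⟨r, hr, er⟩
      rw [pts_unique k k₁ q hq h1 r hr h2 hqr, ← e]
      exact mem_image_of_mem g hp
    intro p k k' hne hp hp' h1 h2
    exact card_le_one.1 (pts_meet k k' hne).le _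
      (mem_inter.2 ⟨fixline p k hp h1, fixline p k' hp' h2⟩) _ (mem_inter.2 ⟨hp, hp'⟩)
  have haff : ∀ q : Fin 4 × Fin 4, g (Sum.inl q) = Sum.inl q := by
    rintro ⟨a, b⟩
    obtain ⟨k, k', hne, h, h', ⟨i, j, hij, hi, hj⟩, ⟨i', j', hij', hi', hj'⟩⟩ := affine_det a b
    exact key _ k k' hne h h' ⟨_, _, oval_inj.ne hij, hi, hj, hf i, hf j⟩
      ⟨_, _, oval_inj.ne hij', hi', hj', hf i', hf j'⟩
  refine Equiv.ext fun p => ?_
  rcases p with q | c
  · exact haff q
  · show g (Sum.inr c) = Sum.inr c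
    rcases infinite_det c with ⟨i, e⟩ | ⟨k, k', hne, h, h', ⟨p, q, hpq, hp, hq⟩, ⟨i, j, hij, hi, hj⟩⟩
    · rw [← e, hf]
    · exact key _ k k' hne h h' ⟨_, _, fun e => hpq (Sum.inl_injective e), hp, hq, haff p, haff q⟩
        ⟨_, _, oval_inj.ne hij, hi, hj, hf i, hf j⟩

/-! ### Facts on permutations of four symbols -/

theorem alt_inj : ∀ k, Function.Injective (alt k) := by decide +kernel

theorem three_step : ∀ k : Fin 12, 4 ≤ (k : ℕ) → ∃ a : Fin 4, alt k a = a ∧ alt k (a + 1) ≠ a + 1 ∧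
    alt k (a + 1) ≠ a ∧ ∀ ρ : Fin 4 → Fin 4, Function.Injective ρ → ρ a = a → ρ (a + 1) = alt k (a + 1) →
      (∀ x y : Fin 4, x ≠ y → ρ x = x → ρ y = y → ρ = id) → ρ = alt k := by
  decide +kernel

theorem all_even : ∀ ρ : Fin 4 → Fin 4, Function.Injective ρ →
    (∀ x y : Fin 4, x ≠ y → ρ x = x → ρ y = y → ρ = id) →
    (∀ k : Fin 12, 4 ≤ (k : ℕ) → ∀ x y : Fin 4, x ≠ y → ρ x = alt k x → ρ y = alt k y → ρ = alt k) →
    ∃ k, ρ = alt k := by
  decide +kernel

theorem alt_two : ∀ j k : Fin 12, alt j 0 = alt k 0 → alt j 1 = alt k 1 → j = k := by decide +kernel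

theorem alt_same : ∀ j k : Fin 12, j ≠ k → cls j = cls k → ∀ a, alt j a ≠ alt k a := by decide +kernel

theorem alt_diff : ∀ j k : Fin 12, cls j ≠ cls k → ∃ a, alt j a = alt k a := by decide +kernel

theorem cls_rep : ∀ c, cls (rep c) = c := by decide +kernel

/-! ### Coordinates -/

variable {α : Type*} [Fintype α] [DecidableEq α] {L : Set (Finset α)}

theorem join (hL : IsSteinerSystem 2 5 L) {x y : α} (h : x ≠ y) : ∃ l, l ∈ L ∧ x ∈ l ∧ y ∈ l := by
  obtain ⟨l, ⟨hl, hs⟩, -⟩ := hL.2 {x, y} (card_pair h)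
  exact ⟨l, hl, hs (by simp), hs (by simp)⟩

theorem line_unique (hL : IsSteinerSystem 2 5 L) {l m : Finset α} {x y : α} (hl : l ∈ L) (hm : m ∈ L)
    (h : x ≠ y) (h1 : x ∈ l) (h2 : y ∈ l) (h3 : x ∈ m) (h4 : y ∈ m) : l = m :=
  (hL.2 {x, y} (card_pair h)).unique ⟨hl, by simp [insert_subset_iff, h1, h2]⟩
    ⟨hm, by simp [insert_subset_iff, h3, h4]⟩

theorem meet_unique (hL : IsSteinerSystem 2 5 L) {l m : Finset α} {x y : α} (hl : l ∈ L) (hm : m ∈ L)
    (hne : l ≠ m) (h1 : x ∈ l) (h3 : x ∈ m) (h2 : y ∈ l) (h4 : y ∈ m) : x = y := by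
  by_contra h
  exact hne (line_unique hL hl hm h h1 h2 h3 h4)

theorem meet (hα : Fintype.card α = 21) (hL : IsSteinerSystem 2 5 L) {l m : Finset α} (hl : l ∈ L)
    (hm : m ∈ L) (hne : l ≠ m) : ∃ p, p ∈ l ∧ p ∈ m := by
  classical
  obtain ⟨x, hxm, hxl⟩ : ∃ x ∈ m, x ∉ l := by
    by_contra! hall
    exact hne (eq_of_subset_of_card_le hall (by rw [hL.1 l hl, hL.1 m hm])).symm
  have hT : ((blocks L).filter ({x} ⊆ ·)).card = 5 :=
    count_eq hL (by norm_num) hα (card_singleton x) (by norm_num) (by decide)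
  choose f hf hfx hfy using fun (y : {y // y ∈ l}) => join hL (x := x) (y := y.1) (fun e => hxl (e ▸ y.2))
  have hinj : Function.Injective f := by
    intro y z e
    refine Subtype.ext ?_
    by_contra hyz
    exact hxl (line_unique hL (hf y) hl hyz (hfy y) (e ▸ hfy z) y.2 z.2 ▸ hfx y)
  have hsub : (univ.image f) ⊆ (blocks L).filter ({x} ⊆ ·) := by
    intro b hb
    obtain ⟨y, -, rfl⟩ := mem_image.1 hb
    exact mem_filter.2 ⟨mem_blocks.2 (hf y), singleton_subset_iff.2 (hfx y)⟩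
  have heq := eq_of_subset_of_card_le hsub (by
    rw [hT, card_image_of_injective _ hinj, card_univ, Fintype.card_coe, hL.1 l hl])
  obtain ⟨y, -, hy⟩ := mem_image.1 (heq.symm ▸ mem_filter.2
    ⟨mem_blocks.2 hm, singleton_subset_iff.2 hxm⟩ : m ∈ univ.image f)
  exact ⟨y, y.2, hy ▸ hfy y⟩

/-- No line of the system contains the three points. -/
def NoThree (L : Set (Finset α)) (a b c : α) : Prop := ∀ l ∈ L, a ∈ l → b ∈ l → c ∈ l → False

/-- A quadrangle coordinatises the plane. -/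
theorem exists_coord (hα : Fintype.card α = 21) (hL : IsSteinerSystem 2 5 L) {X Y O I : α} (hXY : X ≠ Y)
    (hOI : O ≠ I) (hXYO : NoThree L X Y O) (hXYI : NoThree L X Y I) (hXOI : NoThree L X O I)
    (hYOI : NoThree L Y O I) :
    ∃ e : Pt ≃ α, (∀ k, (pts k).image e ∈ L) ∧ e (oval 0) = X ∧ e (oval 1) = Y ∧ e (oval 2) = O ∧
      e (oval 3) = I := by
  classical
  obtain ⟨linf, hinf, hXi, hYi⟩ := join hL hXY
  obtain ⟨l, hl, hOl, hIl⟩ := join hL hOI
  have hXl : X ∉ l := fun h => hXOI l hl h hOl hIl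
  have hYl : Y ∉ l := fun h => hYOI l hl h hOl hIl
  have hOi : O ∉ linf := fun h => hXYO linf hinf hXi hYi h
  have hIi : I ∉ linf := fun h => hXYI linf hinf hXi hYi h
  have hli : l ≠ linf := fun h => hXl (h ▸ hXi)
  obtain ⟨M, hMl, hMi⟩ := meet hα hL hl hinf hli
  obtain ⟨U, W, hUW, hset⟩ : ∃ U W, U ≠ W ∧ ((l.erase M).erase O).erase I = {U, W} := by
    refine card_eq_two.1 ?_
    rw [card_erase_of_mem, card_erase_of_mem, card_erase_of_mem hMl, hL.1 l hl]
    · exact mem_erase.2 ⟨fun h => hOi (h ▸ hMi), hOl⟩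
    · exact mem_erase.2 ⟨hOI.symm, mem_erase.2 ⟨fun h => hIi (h ▸ hMi), hIl⟩⟩
  have hU : U ∈ ((l.erase M).erase O).erase I := by rw [hset]; simp
  have hW : W ∈ ((l.erase M).erase O).erase I := by rw [hset]; simp
  simp only [mem_erase] at hU hW
  obtain ⟨hUI, hUO, hUM, hUl⟩ := hU
  obtain ⟨hWI, hWO, hWM, hWl⟩ := hW
  obtain ⟨s, hs⟩ : ∃ s : Fin 4 → α, s = ![O, I, U, W] := ⟨_, rfl⟩
  have hsl : ∀ a, s a ∈ l := by intro a; rw [hs]; fin_cases a <;> simp [hOl, hIl, hUl, hWl]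
  have hsM : ∀ a, s a ≠ M := by
    intro a; rw [hs]
    fin_cases a
    exacts [fun (h : O = M) => hOi (h ▸ hMi), fun (h : I = M) => hIi (h ▸ hMi), hUM, hWM]
  have hsi : ∀ a, s a ∉ linf := fun a h => hsM a (meet_unique hL hl hinf hli (hsl a) h hMl hMi)
  have hsinj : Function.Injective s := by
    intro a b e
    rw [hs] at e
    fin_cases a <;> fin_cases b <;> simp_all [eq_comm]
  have hsall : ∀ p ∈ l, p ≠ M → ∃ a, s a = p := by
    intro p hp hpM
    rw [hs]
    by_cases h1 : p = O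
    · exact ⟨0, h1.symm⟩
    by_cases h2 : p = I
    · exact ⟨1, h2.symm⟩
    have : p ∈ ((l.erase M).erase O).erase I := by simp [hp, hpM, h1, h2]
    rw [hset, mem_insert, mem_singleton] at this
    rcases this with h | h
    · exact ⟨2, h.symm⟩
    · exact ⟨3, h.symm⟩
  have hXs : ∀ b, X ≠ s b := fun b h => hXl (h ▸ hsl b)
  have hYs : ∀ a, Y ≠ s a := fun a h => hYl (h ▸ hsl a)
  choose H hH hHX hHs using fun b => join hL (hXs b)
  choose V hV hVY hVs using fun a => join hL (hYs a)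
  have hHi : ∀ b, H b ≠ linf := fun b h => hsi b (h ▸ hHs b)
  have hVi : ∀ a, V a ≠ linf := fun a h => hsi a (h ▸ hVs a)
  have hHY : ∀ b, Y ∉ H b := fun b h => hHi b (line_unique hL (hH b) hinf hXY (hHX b) h hXi hYi)
  have hHV : ∀ b a, H b ≠ V a := fun b a h => hHY b (h ▸ hVY a)
  choose pt hptH hptV using fun a b => meet hα hL (hH b) (hV a) (hHV b a)
  have hpti : ∀ a b, pt a b ∉ linf := by
    intro a b h
    have hX := meet_unique hL (hH b) hinf (hHi b) (hptH a b) h (hHX b) hXi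
    exact hVi a (line_unique hL (hV a) hinf hXY (hX ▸ hptV a b) (hVY a) hXi hYi)
  have hptX : ∀ a b, pt a b ≠ X := fun a b h => hpti a b (h ▸ hXi)
  have hptY : ∀ a b, pt a b ≠ Y := fun a b h => hpti a b (h ▸ hYi)
  have hVu : ∀ a a', V a = V a' → a = a' := by
    intro a a' h
    by_contra hne
    exact hYl (line_unique hL (hV a) hl (hsinj.ne hne) (hVs a) (h ▸ hVs a') (hsl a) (hsl a') ▸ hVY a)
  have hHu : ∀ b b', H b = H b' → b = b' := by
    intro b b' h
    by_contra hne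
    exact hXl (line_unique hL (hH b) hl (hsinj.ne hne) (hHs b) (h ▸ hHs b') (hsl b) (hsl b') ▸ hHX b)
  have hVin : ∀ a a' b, pt a b ∈ V a' → a = a' := fun a a' b h =>
    hVu a a' (line_unique hL (hV a) (hV a') (hptY a b) (hptV a b) (hVY a) h (hVY a'))
  have hHin : ∀ a b b', pt a b ∈ H b' → b = b' := fun a b b' h =>
    hHu b b' (line_unique hL (hH b) (hH b') (hptX a b) (hptH a b) (hHX b) h (hHX b'))
  have hdiag : ∀ a, pt a a = s a := fun a =>
    meet_unique hL (hH a) (hV a) (hHV a a) (hptH a a) (hptV a a) (hHs a) (hVs a)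
  have hcover : ∀ p, p ∉ linf → ∃ a b, pt a b = p := by
    intro p hp
    have hpY : Y ≠ p := fun h => hp (h ▸ hYi)
    have hpX : X ≠ p := fun h => hp (h ▸ hXi)
    obtain ⟨m, hm, hmY, hmp⟩ := join hL hpY
    obtain ⟨n, hn, hnX, hnp⟩ := join hL hpX
    obtain ⟨q, hql, hqm⟩ := meet hα hL hl hm (fun h => hYl (h ▸ hmY))
    obtain ⟨r, hrl, hrn⟩ := meet hα hL hl hn (fun h => hXl (h ▸ hnX))
    obtain ⟨a, rfl⟩ := hsall q hql (fun h => hp (line_unique hL hm hinf (fun e : Y = M => hYl (e ▸ hMl))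
      hmY (h ▸ hqm) hYi hMi ▸ hmp))
    obtain ⟨b, rfl⟩ := hsall r hrl (fun h => hp (line_unique hL hn hinf (fun e : X = M => hXl (e ▸ hMl))
      hnX (h ▸ hrn) hXi hMi ▸ hnp))
    have e1 : m = V a := line_unique hL hm (hV a) (hYs a) hmY hqm (hVY a) (hVs a)
    have e2 : n = H b := line_unique hL hn (hH b) (hXs b) hnX hrn (hHX b) (hHs b)
    exact ⟨a, b, meet_unique hL (hH b) (hV a) (hHV b a) (hptH a b) (hptV a b) (e2 ▸ hnp) (e1 ▸ hmp)⟩
  let Sl : Finset α → (Fin 4 → Fin 4) → Prop := fun m ρ =>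
    m ∈ L ∧ X ∉ m ∧ Y ∉ m ∧ Function.Injective ρ ∧ ∀ a, pt a (ρ a) ∈ m
  have through : ∀ a a' b b', a ≠ a' → b ≠ b' → ∃ m ρ, Sl m ρ ∧ ρ a = b ∧ ρ a' = b' := by
    intro a a' b b' ha hb
    have hne : pt a b ≠ pt a' b' := fun h => ha (hVin a a' b (h ▸ hptV a' b'))
    obtain ⟨m, hm, h1, h2⟩ := join hL hne
    have hXm : X ∉ m := fun h => hb ((hHin a' b' b
      (line_unique hL hm (hH b) (hptX a b) h1 h (hptH a b) (hHX b) ▸ h2)).symm)
    have hYm : Y ∉ m := fun h => ha ((hVin a' a b'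
      (line_unique hL hm (hV a) (hptY a b) h1 h (hptV a b) (hVY a) ▸ h2)).symm)
    have hmV : ∀ x, V x ≠ m := fun x h => hYm (h ▸ hVY x)
    have hmH : ∀ y, H y ≠ m := fun y h => hXm (h ▸ hHX y)
    have hex : ∀ x, ∃ y, pt x y ∈ m := by
      intro x
      obtain ⟨p, hpV, hpm⟩ := meet hα hL (hV x) hm (hmV x)
      have hpi : p ∉ linf := fun h =>
        hYm (meet_unique hL (hV x) hinf (hVi x) hpV h (hVY x) hYi ▸ hpm)
      obtain ⟨x', y, rfl⟩ := hcover p hpi
      obtain rfl := hVin x' x y hpV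
      exact ⟨y, hpm⟩
    choose ρ hρ using hex
    have hval : ∀ x y, pt x y ∈ m → ρ x = y := fun x y h =>
      hHin x (ρ x) y ((meet_unique hL (hV x) hm (hmV x) (hptV x (ρ x)) (hρ x) (hptV x y) h).symm ▸ hptH x y)
    refine ⟨m, ρ, ⟨hm, hXm, hYm, ?_, hρ⟩, hval a b h1, hval a' b' h2⟩
    intro x x' e
    exact hVin x x' (ρ x) (meet_unique hL (hH (ρ x)) hm (hmH _) (hptH x (ρ x)) (hρ x) (hptH x' (ρ x))
      (e ▸ hρ x') ▸ hptV x' (ρ x))
  have val : ∀ m ρ, Sl m ρ → ∀ x y, pt x y ∈ m → ρ x = y := by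
    rintro m ρ ⟨hm, -, hYm, -, hρ⟩ x y h
    exact hHin x (ρ x) y ((meet_unique hL (hV x) hm (fun e => hYm (e ▸ hVY x)) (hptV x (ρ x)) (hρ x)
      (hptV x y) h).symm ▸ hptH x y)
  have agree : ∀ m ρ m' ρ', Sl m ρ → Sl m' ρ' → ∀ x y, x ≠ y → ρ x = ρ' x → ρ y = ρ' y → ρ = ρ' := by
    intro m ρ m' ρ' h h' x y hxy ex ey
    have hm : m = m' := line_unique hL h.1 h'.1 (fun (e : pt x (ρ x) = pt y (ρ y)) => hxy (hVin x y (ρ x) (e.symm ▸ hptV y (ρ y))))
      (h.2.2.2.2 x) (h.2.2.2.2 y) (ex ▸ h'.2.2.2.2 x) (ey ▸ h'.2.2.2.2 y)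
    subst hm
    exact funext fun a => val m ρ h a (ρ' a) (h'.2.2.2.2 a)
  have hid : Sl l id := ⟨hl, hXl, hYl, Function.injective_id, fun a => (hdiag a).symm ▸ hsl a⟩
  have hfixid : ∀ m ρ, Sl m ρ → ∀ x y : Fin 4, x ≠ y → ρ x = x → ρ y = y → ρ = id := fun m ρ h x y =>
    agree m ρ l id h hid x y
  have hthree : ∀ k : Fin 12, 4 ≤ (k : ℕ) → ∃ m, Sl m (alt k) := by
    intro k hk
    obtain ⟨a, h1, h2, h3, h4⟩ := three_step k hk
    obtain ⟨m, ρ, hS, e1, e2⟩ := through a (a + 1) a (alt k (a + 1))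
      (fun e => h3 (by rw [← e, h1])) h3.symm
    exact ⟨m, h4 ρ hS.2.2.2.1 e1 e2 (hfixid m ρ hS) ▸ hS⟩
  have heven : ∀ m ρ, Sl m ρ → ∃ k, ρ = alt k := fun m ρ h =>
    all_even ρ h.2.2.2.1 (hfixid m ρ h) fun k hk x y hxy ex ey => by
      obtain ⟨m', hm'⟩ := hthree k hk
      exact agree m ρ m' (alt k) h hm' x y hxy ex ey
  have hall : ∀ k, ∃ m, Sl m (alt k) := by
    intro k
    obtain ⟨m, ρ, hS, e1, e2⟩ := through 0 1 (alt k 0) (alt k 1) (by decide) ((alt_inj k).ne (by decide))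
    obtain ⟨j, rfl⟩ := heven m ρ hS
    exact ⟨m, alt_two j k e1 e2 ▸ hS⟩
  choose mk hmk using hall
  have hmi : ∀ k, mk k ≠ linf := fun k h => (hmk k).2.1 (h ▸ hXi)
  choose Mk hMkm hMki using fun k => meet hα hL (hmk k).1 hinf (hmi k)
  have hne : ∀ j k, mk j = mk k → j = k := fun j k h => by
    have hf : alt j = alt k := funext fun a => val _ _ (hmk j) a (alt k a) (h ▸ (hmk k).2.2.2.2 a)
    exact alt_two j k (congrFun hf 0) (congrFun hf 1)
  have hsame : ∀ j k, cls j = cls k → Mk j = Mk k := by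
    intro j k hc
    by_cases hjk : j = k
    · rw [hjk]
    obtain ⟨p, hpj, hpk⟩ := meet hα hL (hmk j).1 (hmk k).1 (fun h => hjk (hne j k h))
    by_cases hp : p ∈ linf
    · rw [← meet_unique hL (hmk j).1 hinf (hmi j) hpj hp (hMkm j) (hMki j),
        ← meet_unique hL (hmk k).1 hinf (hmi k) hpk hp (hMkm k) (hMki k)]
    · obtain ⟨a, b, rfl⟩ := hcover p hp
      exact absurd ((val _ _ (hmk j) a b hpj).trans (val _ _ (hmk k) a b hpk).symm) (alt_same j k hjk hc a)
  have hdiff : ∀ j k, cls j ≠ cls k → Mk j ≠ Mk k := by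
    intro j k hc h
    obtain ⟨a, ha⟩ := alt_diff j k hc
    refine hc (congrArg cls (hne j k (line_unique hL (hmk j).1 (hmk k).1 (x := Mk j) (y := pt a (alt j a))
      (fun e => hpti _ _ (e ▸ hMki j)) (hMkm j) ((hmk j).2.2.2.2 a) (h ▸ hMkm k) (ha ▸ (hmk k).2.2.2.2 a))))
  let inf : Fin 5 → α := ![Mk (rep 0), Mk (rep 1), Mk (rep 2), X, Y]
  let f : Pt → α := Sum.elim (fun p => pt p.1 p.2) inf
  have hinfmem : ∀ c, inf c ∈ linf := by
    intro c
    fin_cases c
    exacts [hMki _, hMki _, hMki _, hXi, hYi]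
  have hinfinj : Function.Injective inf := by
    have d : ∀ c c' : Fin 3, c ≠ c' → Mk (rep c) ≠ Mk (rep c') := fun c c' h =>
      hdiff _ _ (by rw [cls_rep, cls_rep]; exact h)
    have nX : ∀ c, Mk c ≠ X := fun c e => (hmk c).2.1 (e ▸ hMkm c)
    have nY : ∀ c, Mk c ≠ Y := fun c e => (hmk c).2.2.1 (e ▸ hMkm c)
    intro c c' e
    fin_cases c <;> fin_cases c' <;> first | rfl | (simp only [inf] at e; simp at e) <;>
      first
      | exact absurd e (d _ _ (by decide))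
      | exact absurd e (nX _)
      | exact absurd e (nY _)
      | exact absurd e.symm (nX _)
      | exact absurd e.symm (nY _)
      | exact absurd e hXY
      | exact absurd e.symm hXY
  have hfinj : Function.Injective f := by
    rintro (⟨a, b⟩ | c) (⟨a', b'⟩ | c') e <;> simp only [f, Sum.elim_inl, Sum.elim_inr] at e
    · obtain rfl := hVin a a' b (e.symm ▸ hptV a' b')
      obtain rfl := hHin a b b' (e.symm ▸ hptH a b')
      rfl
    · exact absurd (e ▸ hinfmem c') (hpti a b)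
    · exact absurd (e.symm ▸ hinfmem c) (hpti a' b')
    · rw [hinfinj e]
  have hbij : Function.Bijective f :=
    (Fintype.bijective_iff_injective_and_card f).2 ⟨hfinj, by rw [hα]; rfl⟩
  refine ⟨Equiv.ofBijective f hbij, fun k => ?_, rfl, rfl, ?_, ?_⟩
  · show (pts k).image f ∈ L
    have key : ∀ m ∈ L, (∀ p ∈ pts k, f p ∈ m) → (pts k).image f ∈ L := by
      intro m hm hsub
      rw [eq_of_subset_of_card_le (image_subset_iff.2 hsub)
        (by rw [card_image_of_injective _ hfinj, pts_card, hL.1 m hm])]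
      exact hm
    rcases k with _ | (b | a) | j
    · refine key linf hinf fun p hp => ?_
      obtain ⟨c, -, rfl⟩ := mem_image.1 hp
      exact hinfmem c
    · refine key (H b) (hH b) fun p hp => ?_
      rcases mem_insert.1 hp with rfl | hp
      · exact hHX b
      · obtain ⟨a, -, rfl⟩ := mem_image.1 hp
        exact hptH a b
    · refine key (V a) (hV a) fun p hp => ?_
      rcases mem_insert.1 hp with rfl | hp
      · exact hVY a
      · obtain ⟨b, -, rfl⟩ := mem_image.1 hp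
        exact hptV a b
    · refine key (mk j) (hmk j).1 fun p hp => ?_
      rcases mem_insert.1 hp with rfl | hp
      · have h1 : Mk (rep (cls j)) = Mk j := hsame _ _ (cls_rep _)
        have h2 : ∀ c : Fin 3, inf (Fin.castLE (by norm_num) c) = Mk (rep c) := by
          intro c; fin_cases c <;> rfl
        show inf _ ∈ mk j
        rw [h2, h1]
        exact hMkm j
      · obtain ⟨a, -, rfl⟩ := mem_image.1 hp
        exact (hmk j).2.2.2.2 a
  · show pt 0 0 = O
    rw [hdiag, hs]; rfl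
  · show pt 1 1 = I
    rw [hdiag, hs]; rfl

/-! ### Consequences -/

/-- A bijection carrying model lines to lines carries the model onto the system. -/
theorem image_eq (hL : IsSteinerSystem 2 5 L) (e : Pt ≃ α) (he : ∀ k, (pts k).image e ∈ L) {l : Finset α}
    (hl : l ∈ L) : ∃ k, (pts k).image e = l := by
  obtain ⟨x, hx, y, hy, hxy⟩ := one_lt_card.1 (show 1 < l.card by rw [hL.1 l hl]; norm_num)
  obtain ⟨k, hk1, hk2⟩ := pts_join (e.symm x) (e.symm y) (e.symm.injective.ne hxy)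
  exact ⟨k, line_unique hL (he k) hl hxy (mem_image.2 ⟨_, hk1, e.apply_symm_apply x⟩)
    (mem_image.2 ⟨_, hk2, e.apply_symm_apply y⟩) hx hy⟩

/-- A set is independent when no line meets it in more than two points. -/
theorem indep_iff {S : Finset α} : (∀ l ∈ L, (l ∩ S).card ≤ 2) ↔
    ∀ a ∈ S, ∀ b ∈ S, ∀ c ∈ S, a ≠ b → a ≠ c → b ≠ c → NoThree L a b c := by
  constructor
  · intro h a ha b hb c hc hab hac hbc l hl h1 h2 h3
    have hsub : ({a, b, c} : Finset α) ⊆ l ∩ S := by simp [insert_subset_iff, ha, hb, hc, h1, h2, h3]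
    have := (card_le_card hsub).trans (h l hl)
    rw [card_insert_of_notMem (by simp [hab, hac]), card_pair hbc] at this
    omega
  · intro h l hl
    by_contra hlt
    obtain ⟨a, b, c, ha, hb, hc, hab, hac, hbc⟩ := two_lt_card_iff.1 (not_le.1 hlt)
    rw [mem_inter] at ha hb hc
    exact h a ha.2 b hb.2 c hc.2 hab hac hbc l hl ha.1 hb.1 hc.1

/-- Hyperovals are coordinatised. -/
theorem exists_coord_oval (hα : Fintype.card α = 21) (hL : IsSteinerSystem 2 5 L) (h : Fin 6 → α)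
    (hinj : Function.Injective h)
    (hind : ∀ i j l : Fin 6, i ≠ j → i ≠ l → j ≠ l → NoThree L (h i) (h j) (h l)) :
    ∃ e : Pt ≃ α, (∀ k, (pts k).image e ∈ L) ∧ ∀ i, e (oval i) = h i := by
  obtain ⟨e, he, e0, e1, e2, e3⟩ := exists_coord hα hL (hinj.ne (show (0 : Fin 6) ≠ 1 by decide))
    (hinj.ne (show (2 : Fin 6) ≠ 3 by decide))
    (hind 0 1 2 (by decide) (by decide) (by decide)) (hind 0 1 3 (by decide) (by decide) (by decide))
    (hind 0 2 3 (by decide) (by decide) (by decide)) (hind 1 2 3 (by decide) (by decide) (by decide))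
  have hq : ∀ i : Fin 6, (i : ℕ) < 4 → e (oval i) = h i := by
    intro i hi
    fin_cases i <;> first | assumption | (norm_num at hi)
  have hin : ∀ n : Fin 6, 4 ≤ (n : ℕ) → e (oval 4) = h n ∨ e (oval 5) = h n := by
    intro n hn
    by_contra hne
    rw [not_or] at hne
    obtain ⟨i, j, hi, hj, hij, k, h1, h2, h3⟩ := oval_ext (e.symm (h n)) (by
      intro i hi'
      have e' : e (oval i) = h n := by rw [← hi', e.apply_symm_apply]
      by_cases hi4 : (i : ℕ) < 4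
      · rw [hq i hi4] at e'
        rw [hinj e'] at hi4
        omega
      · obtain rfl | rfl : i = 4 ∨ i = 5 := by omega
        · exact hne.1 e'
        · exact hne.2 e')
    refine hind n i j (fun e' => ?_) (fun e' => ?_) hij _ (he k)
      (mem_image.2 ⟨_, h1, e.apply_symm_apply _⟩) (mem_image.2 ⟨_, h2, hq i hi⟩) (mem_image.2 ⟨_, h3, hq j hj⟩)
    · rw [← e'] at hi; omega
    · rw [← e'] at hj; omega
  rcases hin 4 (by decide) with h4 | h4
  · have h5 : e (oval 5) = h 5 := by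
      rcases hin 5 (by decide) with h5 | h5
      · exact absurd (hinj (h4.symm.trans h5)) (by decide)
      · exact h5
    refine ⟨e, he, fun i => ?_⟩
    fin_cases i
    exacts [e0, e1, e2, e3, h4, h5]
  · have h5 : e (oval 4) = h 5 := by
      rcases hin 5 (by decide) with h5 | h5
      · exact h5
      · exact absurd (hinj (h4.symm.trans h5)) (by decide)
    obtain ⟨f0, f1, f2, f3, f4, f5⟩ := frob_oval
    refine ⟨frob.trans e, fun k => ?_, fun i => ?_⟩
    · obtain ⟨k', hk'⟩ := frob_lines k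
      rw [Equiv.coe_trans, ← image_image, hk']
      exact he k'
    · rw [Equiv.trans_apply]
      fin_cases i
      exacts [f0.symm ▸ e0, f1.symm ▸ e1, f2.symm ▸ e2, f3.symm ▸ e3, f4.symm ▸ h4, f5.symm ▸ h5]

/-- Quadrangles exist. -/
theorem exists_quad (hα : Fintype.card α = 21) (hL : IsSteinerSystem 2 5 L) :
    ∃ X Y O I : α, X ≠ Y ∧ O ≠ I ∧ NoThree L X Y O ∧ NoThree L X Y I ∧ NoThree L X O I ∧ NoThree L Y O I := by
  obtain ⟨X, Y, hXY⟩ := Fintype.exists_pair_of_one_lt_card (show 1 < Fintype.card α by omega)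
  obtain ⟨n, hn, hnX, hnY⟩ := join hL hXY
  obtain ⟨O, -, hO⟩ := exists_mem_notMem_of_card_lt_card
    (show n.card < (univ : Finset α).card by rw [hL.1 n hn, card_univ, hα]; norm_num)
  have hXO : X ≠ O := fun h => hO (h ▸ hnX)
  have hYO : Y ≠ O := fun h => hO (h ▸ hnY)
  obtain ⟨n₁, hn₁, hn₁X, hn₁O⟩ := join hL hXO
  obtain ⟨n₂, hn₂, hn₂Y, hn₂O⟩ := join hL hYO
  obtain ⟨I, -, hI⟩ := exists_mem_notMem_of_card_lt_card
    (show (n ∪ n₁ ∪ n₂).card < (univ : Finset α).card by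
      have := card_union_le (n ∪ n₁) n₂
      have := card_union_le n n₁
      rw [hL.1 n hn, hL.1 n₁ hn₁] at *
      rw [hL.1 n₂ hn₂] at *
      rw [card_univ, hα]; omega)
  simp only [mem_union, not_or] at hI
  refine ⟨X, Y, O, I, hXY, fun h => hI.1.2 (h ▸ hn₁O), ?_, ?_, ?_, ?_⟩ <;> intro m hm h1 h2 h3
  · exact hO (line_unique hL hm hn hXY h1 h2 hnX hnY ▸ h3)
  · exact hI.1.1 (line_unique hL hm hn hXY h1 h2 hnX hnY ▸ h3)
  · exact hI.1.2 (line_unique hL hm hn₁ hXO h1 h2 hn₁X hn₁O ▸ h3)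
  · exact hI.2 (line_unique hL hm hn₂ hYO h1 h2 hn₂Y hn₂O ▸ h3)

/-- Every plane of order four is the model. -/
theorem iso_model (hα : Fintype.card α = 21) (hL : IsSteinerSystem 2 5 L) :
    ∃ e : Pt ≃ α, (∀ k, (pts k).image e ∈ L) ∧ (fun b => b.image e) '' Set.range pts = L := by
  obtain ⟨X, Y, O, I, hXY, hOI, a, b, c, d⟩ := exists_quad hα hL
  obtain ⟨e, he, -⟩ := exists_coord hα hL hXY hOI a b c d
  refine ⟨e, he, Set.Subset.antisymm ?_ fun l hl => ?_⟩
  · rintro _ ⟨_, ⟨k, rfl⟩, rfl⟩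
    exact he k
  · obtain ⟨k, hk⟩ := image_eq hL e he hl
    exact ⟨_, ⟨k, rfl⟩, hk⟩

/-- Uniqueness of the projective plane of order four. -/
theorem unique {β : Type*} [Fintype β] [DecidableEq β] (hα : Fintype.card α = 21) (hβ : Fintype.card β = 21)
    {L' : Set (Finset β)} (hL : IsSteinerSystem 2 5 L) (hL' : IsSteinerSystem 2 5 L') : SetSystemIso L L' := by
  obtain ⟨e, -, h⟩ := iso_model hα hL
  obtain ⟨e', -, h'⟩ := iso_model hβ hL'
  refine ⟨e.symm.trans e', ?_⟩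
  rw [← h, Set.image_image, ← h']
  refine Set.image_congr' fun b => ?_
  rw [image_image]
  congr 1
  funext p
  simp

/-- Every independent quadruple lies in exactly one hyperoval. -/
theorem exists_unique_oval (hα : Fintype.card α = 21) (hL : IsSteinerSystem 2 5 L) {S : Finset α}
    (hS : S.card = 4) (hI : ∀ l ∈ L, (l ∩ S).card ≤ 2) :
    ∃! H : Finset α, (H.card = 6 ∧ ∀ l ∈ L, (l ∩ H).card ≤ 2) ∧ S ⊆ H := by
  let q : Fin 4 ≃ S := (S.equivFinOfCardEq hS).symm
  have hq : ∀ i j, i ≠ j → (q i : α) ≠ q j := fun i j h e => h (q.injective (Subtype.ext e))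
  have hq3 : ∀ i j l, i ≠ j → i ≠ l → j ≠ l → NoThree L (q i : α) (q j) (q l) := fun i j l a b c =>
    indep_iff.1 hI _ (q i).2 _ (q j).2 _ (q l).2 (hq i j a) (hq i l b) (hq j l c)
  obtain ⟨e, he, e0, e1, e2, e3⟩ := exists_coord hα hL (hq 0 1 (by decide)) (hq 2 3 (by decide))
    (hq3 0 1 2 (by decide) (by decide) (by decide)) (hq3 0 1 3 (by decide) (by decide) (by decide))
    (hq3 0 2 3 (by decide) (by decide) (by decide)) (hq3 1 2 3 (by decide) (by decide) (by decide))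
  have hsub : ∀ i : Fin 4, e (oval (Fin.castLE (by norm_num) i)) = q i := by
    intro i; fin_cases i <;> assumption
  have hcard : (univ.image (e ∘ oval)).card = 6 := by
    rw [card_image_of_injective _ (e.injective.comp oval_inj)]; rfl
  have hS' : ∀ x ∈ S, ∃ i : Fin 6, (i : ℕ) < 4 ∧ e (oval i) = x := fun x hx =>
    ⟨Fin.castLE (by norm_num) (q.symm ⟨x, hx⟩), (q.symm ⟨x, hx⟩).isLt, by rw [hsub, q.apply_symm_apply]⟩
  refine ⟨univ.image (e ∘ oval), ⟨⟨hcard, indep_iff.2 ?_⟩, fun x hx => ?_⟩, ?_⟩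
  · intro a ha b hb c hc hab hac hbc l hl h1 h2 h3
    obtain ⟨i, -, rfl⟩ := mem_image.1 ha
    obtain ⟨j, -, rfl⟩ := mem_image.1 hb
    obtain ⟨n, -, rfl⟩ := mem_image.1 hc
    obtain ⟨k, rfl⟩ := image_eq hL e he hl
    simp only [Function.comp_apply, mem_image, e.injective.eq_iff, exists_eq_right] at h1 h2 h3
    exact oval_indep i j n (fun h => hab (by rw [h])) (fun h => hac (by rw [h])) (fun h => hbc (by rw [h])) k
      h1 h2 h3
  · obtain ⟨i, -, hi⟩ := hS' x hx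
    exact mem_image.2 ⟨i, mem_univ i, hi⟩
  · rintro H ⟨⟨hH6, hH⟩, hSH⟩
    refine eq_of_subset_of_card_le (fun p hp => ?_) (by rw [hcard, hH6])
    by_contra hpn
    obtain ⟨i, j, hi, hj, hij, k, h1, h2, h3⟩ := oval_ext (e.symm p) (fun i hi => hpn
      (mem_image.2 ⟨i, mem_univ i, by rw [Function.comp_apply, ← hi, e.apply_symm_apply]⟩))
    have hne : ∀ n, p ≠ e (oval n) := fun n h => hpn (h ▸ mem_image_of_mem _ (mem_univ n))
    have hmem : ∀ n : Fin 6, (n : ℕ) < 4 → e (oval n) ∈ H := fun n hn => hSH (by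
      have h := (q ⟨n, hn⟩).2
      rw [← hsub ⟨n, hn⟩] at h
      exact h)
    exact indep_iff.1 hH p hp _ (hmem i hi) _ (hmem j hj) (hne i) (hne j) (e.injective.ne (oval_inj.ne hij)) _
      (he k) (mem_image.2 ⟨_, h1, e.apply_symm_apply p⟩) (mem_image_of_mem e h2) (mem_image_of_mem e h3)

end CfsgLib.Sporadic.PlaneFour
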