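import Mathlib

/-!
Triples of points of a projective line under two by two matrices.
-/

set_option autoImplicit false

namespace CfsgLib.Sporadic.ProjLineTriples

open Matrix Projectivization
open scoped LinearAlgebra.Projectivization

variable {F : Type*} [Field F]

/-- The first standard vector. -/
def e₀ : Fin 2 → F := ![1, 0]

/-- The second standard vector. -/
def e₁ : Fin 2 → F := ![0, 1]

/-- Their sum. -/
def e₂ : Fin 2 → F := ![1, 1]

theorem e₀_ne : (e₀ : Fin 2 → F) ≠ 0 := fun h => by simpa [e₀] using congrFun h 0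
theorem e₁_ne : (e₁ : Fin 2 → F) ≠ 0 := fun h => by simpa [e₁] using congrFun h 1
theorem e₂_ne : (e₂ : Fin 2 → F) ≠ 0 := fun h => by simpa [e₂] using congrFun h 0

theorem exists_combination {a b c : ℙ F (Fin 2 → F)} (hab : a ≠ b) (hac : a ≠ c) (hbc : b ≠ c) :
    ∃ α β : F, α ≠ 0 ∧ β ≠ 0 ∧ c.rep = α • a.rep + β • b.rep := by
  have hli : LinearIndependent F ![a.rep, b.rep] := linearIndependent_pair_iff_ne.2 hab
  have hspan : Submodule.span F (Set.range ![a.rep, b.rep]) = ⊤ :=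
    hli.span_eq_top_of_card_eq_finrank (by simp)
  have hc : c.rep ∈ Submodule.span F (Set.range ![a.rep, b.rep]) := hspan ▸ Submodule.mem_top
  rw [Submodule.mem_span_range_iff_exists_fun] at hc
  obtain ⟨k, hk⟩ := hc
  simp [Fin.sum_univ_two] at hk
  refine ⟨k 0, k 1, fun h => hbc ?_, fun h => hac ?_, hk.symm⟩
  · rw [h, zero_smul, zero_add] at hk
    rw [← mk_rep b, ← mk_rep c, eq_comm, mk_eq_mk_iff']
    exact ⟨k 1, hk⟩
  · rw [h, zero_smul, add_zero] at hk
    rw [← mk_rep a, ← mk_rep c, eq_comm, mk_eq_mk_iff']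
    exact ⟨k 0, hk⟩

theorem exists_from_std {a b c : ℙ F (Fin 2 → F)} (hab : a ≠ b) (hac : a ≠ c) (hbc : b ≠ c) :
    ∃ g : GL (Fin 2) F, g • mk F e₀ e₀_ne = a ∧ g • mk F e₁ e₁_ne = b ∧ g • mk F e₂ e₂_ne = c := by
  obtain ⟨α, β, hα, hβ, hc⟩ := exists_combination hab hac hbc
  set M : Matrix (Fin 2) (Fin 2) F := Matrix.of fun i j => (![α • a.rep, β • b.rep] j) i
  have hdet : M.det ≠ 0 := by
    have hli : LinearIndependent F ![a.rep, b.rep] := linearIndependent_pair_iff_ne.2 hab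
    have hli' : LinearIndependent F M.col := by
      have h := hli.units_smul ![Units.mk0 α hα, Units.mk0 β hβ]
      have e : M.col = ![Units.mk0 α hα, Units.mk0 β hβ] • ![a.rep, b.rep] := by
        funext j i; fin_cases j <;> simp [M, Units.smul_def]
      rw [e]; exact h
    exact ((Matrix.isUnit_iff_isUnit_det M).1 (linearIndependent_cols_iff_isUnit.1 hli')).ne_zero
  refine ⟨GeneralLinearGroup.mkOfDetNeZero M hdet, ?_, ?_, ?_⟩
  · rw [smul_mk]; conv_rhs => rw [← mk_rep a]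
    rw [mk_eq_mk_iff']
    exact ⟨α, by ext i; simp [M, e₀, Units.smul_def, GeneralLinearGroup.mkOfDetNeZero, Matrix.mulVec, dotProduct, Fin.sum_univ_two]⟩
  · rw [smul_mk]; conv_rhs => rw [← mk_rep b]
    rw [mk_eq_mk_iff']
    exact ⟨β, by ext i; simp [M, e₁, Units.smul_def, GeneralLinearGroup.mkOfDetNeZero, Matrix.mulVec, dotProduct, Fin.sum_univ_two]⟩
  · rw [smul_mk]; conv_rhs => rw [← mk_rep c]
    rw [mk_eq_mk_iff']
    exact ⟨1, by ext i; simp [M, hc, e₂, Units.smul_def, GeneralLinearGroup.mkOfDetNeZero, Matrix.mulVec, dotProduct, Fin.sum_univ_two]⟩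

theorem scalar_of_fix_std {g : GL (Fin 2) F}
    (h0 : g • mk F (e₀ : Fin 2 → F) (e₀_ne (F := F)) = mk F (e₀ : Fin 2 → F) (e₀_ne (F := F)))
    (h1 : g • mk F (e₁ : Fin 2 → F) (e₁_ne (F := F)) = mk F (e₁ : Fin 2 → F) (e₁_ne (F := F)))
    (h2 : g • mk F (e₂ : Fin 2 → F) (e₂_ne (F := F)) = mk F (e₂ : Fin 2 → F) (e₂_ne (F := F))) :
    g ∈ Subgroup.center (GL (Fin 2) F) := by
  rw [smul_mk, mk_eq_mk_iff'] at h0 h1 h2
  obtain ⟨a, ha⟩ := h0
  obtain ⟨b, hb⟩ := h1
  obtain ⟨c, hc⟩ := h2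
  have a0 := congrFun ha 0; have a1 := congrFun ha 1
  have b0 := congrFun hb 0; have b1 := congrFun hb 1
  have c0 := congrFun hc 0; have c1 := congrFun hc 1
  simp [e₀, e₁, e₂, Units.smul_def, Matrix.mulVec, dotProduct, Fin.sum_univ_two] at a0 a1 b0 b1 c0 c1
  rw [Subgroup.mem_center_iff]
  intro k
  apply Units.ext
  have hg : (g : Matrix (Fin 2) (Fin 2) F) = (g : Matrix (Fin 2) (Fin 2) F) 0 0 • (1 : Matrix (Fin 2) (Fin 2) F) := by
    have hdiag : (g : Matrix (Fin 2) (Fin 2) F) 1 1 = (g : Matrix (Fin 2) (Fin 2) F) 0 0 := by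
      linear_combination a1 - b0 + c0 - c1
    ext i j
    fin_cases i <;> fin_cases j <;> simp [← a1, ← b0, hdiag]
  simp only [Units.val_mul]
  rw [hg]; simp

theorem pgl_pretransitive :
    MulAction.IsMultiplyPretransitive (ProjGenLinGroup (Fin 2) F) (ℙ F (Fin 2 → F)) 3 := by
  rw [MulAction.isMultiplyPretransitive_iff]
  intro x y
  have hx : ∀ i j : Fin 3, i ≠ j → x i ≠ x j := fun i j h e => h (x.injective e)
  have hy : ∀ i j : Fin 3, i ≠ j → y i ≠ y j := fun i j h e => h (y.injective e)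
  obtain ⟨g, g0, g1, g2⟩ := exists_from_std (hx 0 1 (by decide)) (hx 0 2 (by decide)) (hx 1 2 (by decide))
  obtain ⟨h, h0, h1, h2⟩ := exists_from_std (hy 0 1 (by decide)) (hy 0 2 (by decide)) (hy 1 2 (by decide))
  refine ⟨ProjGenLinGroup.mk (h * g⁻¹), ?_⟩
  ext i
  show ProjGenLinGroup.mk (h * g⁻¹) • x i = y i
  have e : ∀ (k : GL (Fin 2) F) (p : ℙ F (Fin 2 → F)), ProjGenLinGroup.mk k • p = k • p := fun k p => by
    induction p using Projectivization.ind with | h v hv => rw [PGL.mk_smul_mk, smul_mk]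
  rw [e, mul_smul]
  fin_cases i
  · rw [show x ⟨0, _⟩ = x 0 from rfl, ← g0, inv_smul_smul]; exact h0
  · rw [show x ⟨1, _⟩ = x 1 from rfl, ← g1, inv_smul_smul]; exact h1
  · rw [show x ⟨2, _⟩ = x 2 from rfl, ← g2, inv_smul_smul]; exact h2

theorem pgl_rigid (g : ProjGenLinGroup (Fin 2) F) (a b c : ℙ F (Fin 2 → F)) (hab : a ≠ b) (hac : a ≠ c)
    (hbc : b ≠ c) (ha : g • a = a) (hb : g • b = b) (hc : g • c = c) : g = 1 := by
  induction g using ProjGenLinGroup.induction_on with | mk g =>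
  have e : ∀ (k : GL (Fin 2) F) (p : ℙ F (Fin 2 → F)), ProjGenLinGroup.mk k • p = k • p := fun k p => by
    induction p using Projectivization.ind with | h v hv => rw [PGL.mk_smul_mk, smul_mk]
  rw [e] at ha hb hc
  obtain ⟨k, k0, k1, k2⟩ := exists_from_std hab hac hbc
  have hfix : ∀ {p q : ℙ F (Fin 2 → F)}, k • p = q → g • q = q → (k⁻¹ * g * k) • p = p := by
    intro p q hpq hq
    rw [mul_smul, mul_smul, hpq, hq, ← hpq, inv_smul_smul]
  have h := scalar_of_fix_std (hfix k0 ha) (hfix k1 hb) (hfix k2 hc)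
  rw [ProjGenLinGroup.mk_eq_one]
  have h' := (inferInstance : (Subgroup.center (GL (Fin 2) F)).Normal).conj_mem _ h k
  simpa [mul_assoc] using h'

set_option maxHeartbeats 800000 in
theorem sl_pretransitive_iff [Fintype F] :
    MulAction.IsMultiplyPretransitive (SpecialLinearGroup (Fin 2) F) (ℙ F (Fin 2 → F)) 3 ↔ ringChar F = 2 := by
  have esl : ∀ (s : SpecialLinearGroup (Fin 2) F) (v : Fin 2 → F) (hv : v ≠ 0) (hv' : (s : Matrix (Fin 2) (Fin 2) F).mulVec v ≠ 0),
      s • mk F v hv = mk F _ hv' := fun s v hv hv' => rfl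
  constructor
  · intro h
    by_contra hchar
    obtain ⟨ν, hν⟩ := FiniteField.exists_nonsquare hchar
    have hν0 : ν ≠ 0 := fun e => hν (e ▸ IsSquare.zero)
    have he : (![1, ν] : Fin 2 → F) ≠ 0 := fun h => by simpa using congrFun h 0
    have hne : ∀ {v w : Fin 2 → F} (hv : v ≠ 0) (hw : w ≠ 0) (i : Fin 2), v i = 0 → w i ≠ 0 →
        mk F v hv ≠ mk F w hw := by
      intro v w hv hw i hvi hwi e
      obtain ⟨a, ha⟩ := (mk_eq_mk_iff' F v w hv hw).1 e
      have h1 := congrFun ha i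
      simp [hvi, hwi] at h1
      refine hv ?_
      rw [← ha, h1, zero_smul]
    rw [MulAction.isMultiplyPretransitive_iff] at h
    let x : Fin 3 ↪ ℙ F (Fin 2 → F) := ⟨![mk F e₀ e₀_ne, mk F e₁ e₁_ne, mk F e₂ e₂_ne], by
      have a := hne e₀_ne e₁_ne 1 (by simp [e₀]) (by simp [e₁])
      have b := hne e₀_ne e₂_ne 1 (by simp [e₀]) (by simp [e₂])
      have c := hne e₁_ne e₂_ne 0 (by simp [e₁]) (by simp [e₂])
      intro i j e
      fin_cases i <;> fin_cases j <;> simp_all [eq_comm]⟩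
    let y : Fin 3 ↪ ℙ F (Fin 2 → F) := ⟨![mk F e₀ e₀_ne, mk F e₁ e₁_ne, mk F _ he], by
      have a := hne e₀_ne e₁_ne 1 (by simp [e₀]) (by simp [e₁])
      have b := hne e₀_ne he 1 (by simp [e₀]) (by simpa using hν0)
      have c := hne e₁_ne he 0 (by simp [e₁]) (by simp)
      intro i j e
      fin_cases i <;> fin_cases j <;> simp_all [eq_comm]⟩
    obtain ⟨s, hs⟩ := h x y
    have e0 : s • mk F (e₀ : Fin 2 → F) (e₀_ne (F := F)) = mk F (e₀ : Fin 2 → F) (e₀_ne (F := F)) := by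
      have h' := congrArg (fun f : Fin 3 ↪ _ => f 0) hs
      simp only [Function.Embedding.smul_apply, x, y, Function.Embedding.coeFn_mk, Matrix.cons_val] at h'
      exact h'
    have e1 : s • mk F (e₁ : Fin 2 → F) (e₁_ne (F := F)) = mk F (e₁ : Fin 2 → F) (e₁_ne (F := F)) := by
      have h' := congrArg (fun f : Fin 3 ↪ _ => f 1) hs
      simp only [Function.Embedding.smul_apply, x, y, Function.Embedding.coeFn_mk, Matrix.cons_val] at h'
      exact h'
    have e2 : s • mk F (e₂ : Fin 2 → F) (e₂_ne (F := F)) = mk F _ he := by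
      have h' := congrArg (fun f : Fin 3 ↪ _ => f 2) hs
      simp only [Function.Embedding.smul_apply, x, y, Function.Embedding.coeFn_mk, Matrix.cons_val] at h'
      exact h'
    rw [smul_mk, mk_eq_mk_iff'] at e0 e1 e2
    obtain ⟨a, ha⟩ := e0
    obtain ⟨b, hb⟩ := e1
    obtain ⟨c, hc⟩ := e2
    have a1 := congrFun ha 1; have b0 := congrFun hb 0
    have c0 := congrFun hc 0; have c1 := congrFun hc 1
    change _ = ((s : Matrix (Fin 2) (Fin 2) F).mulVec e₀) 1 at a1
    change _ = ((s : Matrix (Fin 2) (Fin 2) F).mulVec e₁) 0 at b0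
    change _ = ((s : Matrix (Fin 2) (Fin 2) F).mulVec e₂) 0 at c0
    change _ = ((s : Matrix (Fin 2) (Fin 2) F).mulVec e₂) 1 at c1
    simp [e₀, e₁, e₂, Matrix.mulVec, dotProduct, Fin.sum_univ_two] at a1 b0 c0 c1
    have hd : (s : Matrix (Fin 2) (Fin 2) F).det = 1 := s.2
    rw [Matrix.det_fin_two, ← a1, ← b0] at hd
    rw [← b0] at c0
    rw [← a1] at c1
    simp at hd c0 c1
    rw [← c0, ← c1] at hd
    have hc0 : c ≠ 0 := fun e => by simp [e] at hd
    exact hν ⟨c⁻¹, by field_simp; linear_combination hd⟩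
  · intro hchar
    rw [MulAction.isMultiplyPretransitive_iff]
    intro x y
    obtain ⟨g, hg⟩ := (MulAction.isMultiplyPretransitive_iff (α := ℙ F (Fin 2 → F))).1 pgl_pretransitive x y
    obtain ⟨g, rfl⟩ := ProjGenLinGroup.mk_surjective g
    obtain ⟨r, hr⟩ := FiniteField.isSquare_of_char_two hchar ((g : Matrix (Fin 2) (Fin 2) F).det)
    have hd0 : (g : Matrix (Fin 2) (Fin 2) F).det ≠ 0 := GeneralLinearGroup.det_ne_zero g
    have hr0 : r ≠ 0 := fun e => hd0 (by rw [hr, e, mul_zero])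
    let s : SpecialLinearGroup (Fin 2) F := ⟨r⁻¹ • (g : Matrix (Fin 2) (Fin 2) F), by
      rw [Matrix.det_smul, hr, Fintype.card_fin]; field_simp⟩
    refine ⟨s, ?_⟩
    ext i
    have hi := congrArg (fun f : Fin 3 ↪ _ => f i) hg
    change ProjGenLinGroup.mk g • x i = y i at hi
    refine Eq.trans (Function.Embedding.smul_apply _ x i) ?_
    rw [← hi]
    generalize x i = p
    induction p using Projectivization.ind with | h v hv =>
    rw [PGL.mk_smul_mk, smul_mk, mk_eq_mk_iff']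
    exact ⟨r⁻¹, (Matrix.smul_mulVec r⁻¹ (g : Matrix (Fin 2) (Fin 2) F) v).symm⟩

end CfsgLib.Sporadic.ProjLineTriples
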