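import Cfsg.Agent.Lib.Sporadic.DodecadQuartets

/-!
The stabiliser of a quartet in a dodecad stabiliser: its order, its affine structure, its transitivity
on the dodecad and its orbits on quartets.
-/

set_option autoImplicit false
set_option maxRecDepth 40000

namespace CfsgLib.Sporadic.QuartetStabilizer

open Cfsg CfsgLib.SmallGroups.Golay CfsgLib.SmallGroups.GolayOctads CfsgLib.SmallGroups.M24Group
open CfsgLib.SmallGroups.Mathieu CfsgLib.Sporadic.M24Orbits CfsgLib.Sporadic.M24Config
open CfsgLib.Sporadic.QuartetData CfsgLib.Sporadic.GroupTables CfsgLib.Sporadic.DodecadQuartets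
open scoped Pointwise

/-- The stabiliser of the base dodecad and the first quartet. -/
abbrev H₀ : Subgroup M24 :=
  MulAction.stabilizer M24 (toSet dodB) ⊓ MulAction.stabilizer M24 (qset q₀)

theorem card_H₀ : Nat.card H₀ = 432 := by
  have horb : MulAction.orbit (MulAction.stabilizer M24 (toSet dodB)) (qset q₀) = quartets (toSet dodB) := by
    ext X
    constructor
    · rintro ⟨⟨g, hg⟩, rfl⟩
      have h := smul_quartets g.2 (qset_mem q₀_mem)
      rwa [show ((g : M24) : Equiv.Perm GolayPt) • toSet dodB = toSet dodB from hg] at h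
    · intro hX
      obtain ⟨g, hg, hd, he⟩ := exists_from_q₀ hX
      exact ⟨⟨⟨g, hg⟩, hd⟩, he⟩
  have h := card_orbit_mul (MulAction.stabilizer M24 (toSet dodB)) (qset q₀)
  rw [horb, ncard_base, card_stab_dodecad dodB_mem] at h
  show Nat.card ↥(MulAction.stabilizer M24 (toSet dodB) ⊓ MulAction.stabilizer M24 (qset q₀)) = 432
  omega

/-- The table of the element with a given number. -/
def val (k : ℕ) : ℕ := ev hGens (hWords.getD k [])

theorem hGens_ok : gensP hGens [dodB] = true := by decide +kernel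

theorem val_ok : distinct ((List.range 432).map val) = true ∧
    (List.range 432).all (fun k => qStep (val k) q₀ q₀) = true := by
  decide +kernel

theorem exists_val {k : ℕ} (hk : k < 432) : ∃ g : M24, g ∈ H₀ ∧ IsTbl (g : Equiv.Perm GolayPt) (val k) := by
  obtain ⟨g, hg, hd, hn⟩ := exists_ev hGens_ok (hWords.getD k [])
  refine ⟨⟨g, hg⟩, ⟨hd _ (List.mem_singleton_self _), ?_⟩, hn⟩
  exact qStep_sound hn q₀_mem q₀_mem (List.all_eq_true.1 val_ok.2 k (List.mem_range.2 hk))

theorem listed_H₀ {g : M24} (hg : g ∈ H₀) : ∃ k < 432, IsTbl (g : Equiv.Perm GolayPt) (val k) := by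
  obtain ⟨n, hn, h⟩ := listed (S := (fun x : M24 => (x : Equiv.Perm GolayPt)) '' (H₀ : Set M24))
    val_ok.1 (by
      rw [Set.ncard_image_of_injective _ Subtype.val_injective, List.length_map, List.length_range,
        ← Nat.card_coe_set_eq]
      exact card_H₀.le) (fun n hn => by
      obtain ⟨k, hk, rfl⟩ := List.mem_map.1 hn
      obtain ⟨x, hx, hxn⟩ := exists_val (List.mem_range.1 hk)
      exact ⟨x, ⟨x, hx, rfl⟩, hxn⟩) _ ⟨g, hg, rfl⟩
  obtain ⟨k, hk, rfl⟩ := List.mem_map.1 hn
  exact ⟨k, List.mem_range.1 hk, h⟩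

/-! ### The affine action on nine points -/

/-- Vectors of length two over the field with three elements. -/
abbrev V : Type := Fin 2 → ZMod 3

/-- The point with given coordinates. -/
def np (v : V) : GolayPt := pt (nine.getD (3 * (v 0).val + (v 1).val) 0)

theorem np_injective : Function.Injective np := by decide +kernel

/-- Where a table sends the `k`th of the nine points. -/
def pos (n k : ℕ) : ℕ := nine.idxOf (pw n (nine.getD k 0))

/-- The entries of the linear part and translation of a table. -/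
def co (n : ℕ) : ℕ × ℕ × ℕ × ℕ × ℕ × ℕ :=
  let o := pos n 0
  let e := pos n 3
  let h := pos n 1
  ((e / 3 + 3 - o / 3) % 3, (h / 3 + 3 - o / 3) % 3, (e % 3 + 3 - o % 3) % 3, (h % 3 + 3 - o % 3) % 3,
    o / 3, o % 3)

/-- The table acts affinely. -/
def affOK (n : ℕ) : Bool :=
  match co n with
  | (a, b, c, d, o, o') => (List.range 3).all fun x => (List.range 3).all fun y =>
      pw n (nine.getD (3 * x + y) 0) ==
        nine.getD (3 * ((a * x + b * y + o) % 3) + ((c * x + d * y + o') % 3)) 0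

theorem aff_ok : (List.range 432).all (fun k => affOK (val k)) = true ∧
    nine.all (fun i => decide (i < 24)) = true := by
  decide +kernel

/-- The matrix of a table. -/
def linM (n : ℕ) : Matrix (Fin 2) (Fin 2) (ZMod 3) :=
  match co n with
  | (a, b, c, d, _, _) => !![(a : ZMod 3), (b : ZMod 3); (c : ZMod 3), (d : ZMod 3)]

theorem val_affine {k : ℕ} (hk : k < 432) {g : Equiv.Perm GolayPt} (hg : IsTbl g (val k)) :
    ∃ o : V, ∀ v, g (np v) = np (Matrix.mulVec (linM (val k)) v + o) := by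
  have hok := List.all_eq_true.1 aff_ok.1 k (List.mem_range.2 hk)
  rcases hco : co (val k) with ⟨a, b, c, d, o, o'⟩
  rw [affOK, hco] at hok
  refine ⟨![(o : ZMod 3), (o' : ZMod 3)], fun v => ?_⟩
  have hx : (v 0).val < 3 := ZMod.val_lt _
  have hy : (v 1).val < 3 := ZMod.val_lt _
  have h := List.all_eq_true.1 (List.all_eq_true.1 hok _ (List.mem_range.2 hx)) _ (List.mem_range.2 hy)
  rw [beq_iff_eq] at h
  have hlt : nine.getD (3 * (v 0).val + (v 1).val) 0 < 24 := by
    by_cases hi : 3 * (v 0).val + (v 1).val < nine.length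
    · rw [List.getD_eq_getElem _ _ hi]
      exact of_decide_eq_true (List.all_eq_true.1 aff_ok.2 _ (List.getElem_mem hi))
    · rw [List.getD_eq_default _ _ (not_lt.1 hi)]; norm_num
  rw [np, hg.apply hlt h, np]
  have e : ∀ (p q r : ℕ), ((p : ZMod 3) * v 0 + (q : ZMod 3) * v 1 + (r : ZMod 3)).val =
      (p * (v 0).val + q * (v 1).val + r) % 3 := fun p q r => by
    rw [← ZMod.val_natCast]
    push_cast [ZMod.natCast_zmod_val]
    rfl
  simp [linM, hco, Matrix.mulVec, dotProduct, Fin.sum_univ_two, e]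

theorem exists_affine (g : H₀) :
    ∃ A : Matrix (Fin 2) (Fin 2) (ZMod 3), ∃ o : V,
      ∀ v, ((g : M24) : Equiv.Perm GolayPt) (np v) = np (A.mulVec v + o) := by
  obtain ⟨k, hk, h⟩ := listed_H₀ g.2
  exact ⟨linM (val k), val_affine hk h⟩

/-- The linear part. -/
noncomputable def linF (g : H₀) : Matrix (Fin 2) (Fin 2) (ZMod 3) := (exists_affine g).choose

theorem linF_unique {g : H₀} {A : Matrix (Fin 2) (Fin 2) (ZMod 3)} {o : V}
    (h : ∀ v, ((g : M24) : Equiv.Perm GolayPt) (np v) = np (A.mulVec v + o)) : linF g = A := by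
  obtain ⟨o₁, h1⟩ := (exists_affine g).choose_spec
  have e : ∀ v, (linF g).mulVec v + o₁ = A.mulVec v + o := fun v => np_injective ((h1 v).symm.trans (h v))
  have e0 := e 0
  rw [Matrix.mulVec_zero, Matrix.mulVec_zero, zero_add, zero_add] at e0
  subst e0
  exact Matrix.ext_of_mulVec_single fun i => add_right_cancel (e (Pi.single i 1))

/-- The linear part, as a homomorphism. -/
noncomputable def linHom : H₀ →* Matrix (Fin 2) (Fin 2) (ZMod 3) where
  toFun := linF
  map_one' := linF_unique (o := 0) fun v => by rw [Matrix.one_mulVec, add_zero]; rfl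
  map_mul' g h := by
    obtain ⟨o, hg⟩ := (exists_affine g).choose_spec
    obtain ⟨o', hh⟩ := (exists_affine h).choose_spec
    refine linF_unique (o := (linF g).mulVec o' + o) fun v => ?_
    show ((g : M24) : Equiv.Perm GolayPt) (((h : M24) : Equiv.Perm GolayPt) (np v)) = _
    rw [hh, hg, Matrix.mulVec_add, ← Matrix.mulVec_mulVec, add_assoc]
    rfl

/-- The map onto `GL(2, 3)`. -/
noncomputable def gl : H₀ →* GL (Fin 2) (ZMod 3) := linHom.toHomUnits

theorem glWit_ok : ∀ a < 3, ∀ b < 3, ∀ c < 3, ∀ d < 3, (a * d + 2 * b * c) % 3 ≠ 0 →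
    glWit.any (fun p => decide (p.2 < 432) &&
      ((co (val p.2)).1 == a && (co (val p.2)).2.1 == b && (co (val p.2)).2.2.1 == c &&
        (co (val p.2)).2.2.2.1 == d && p.1 == 27 * a + 9 * b + 3 * c + d)) = true := by
  decide +kernel

theorem gl_surjective : Function.Surjective gl := by
  intro A
  set M := (A : Matrix (Fin 2) (Fin 2) (ZMod 3)) with hM
  have hdet : ((M 0 0).val * (M 1 1).val + 2 * (M 0 1).val * (M 1 0).val) % 3 ≠ 0 := by
    rw [← ZMod.val_natCast]
    push_cast [ZMod.natCast_zmod_val]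
    intro e
    refine Matrix.GeneralLinearGroup.det_ne_zero A ?_
    rw [← hM, Matrix.det_fin_two]
    have e' := (ZMod.val_eq_zero _).1 e
    rw [← e', show (2 : ZMod 3) = -1 by decide]
    ring
  obtain ⟨p, -, hp⟩ := List.any_eq_true.1 (glWit_ok _ (ZMod.val_lt (M 0 0)) _ (ZMod.val_lt (M 0 1))
    _ (ZMod.val_lt (M 1 0)) _ (ZMod.val_lt (M 1 1)) hdet)
  simp only [Bool.and_eq_true, decide_eq_true_iff, beq_iff_eq] at hp
  obtain ⟨hk, ⟨⟨⟨ha, hb⟩, hc⟩, hd⟩, -⟩ := hp
  obtain ⟨g, hg, hn⟩ := exists_val hk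
  obtain ⟨o, ho⟩ := val_affine hk hn
  refine ⟨⟨g, hg⟩, Units.ext ?_⟩
  show linF ⟨g, hg⟩ = M
  rw [linF_unique (g := ⟨g, hg⟩) ho]
  rcases hco : co (val p.2) with ⟨a, b, c, d, o, o'⟩
  rw [hco] at ha hb hc hd
  simp only at ha hb hc hd
  subst ha hb hc hd
  ext i j
  fin_cases i <;> fin_cases j <;> simp [linM, hco]

theorem card_GL2 : Nat.card (GL (Fin 2) (ZMod 3)) = 48 := by
  rw [Matrix.card_GL_field, ZMod.card]
  decide +kernel

/-! ### Transitivity on the dodecad -/

theorem pWit_ok : pWit.all (fun p => decide (p.2 < 432) && pw (val p.2) 0 == p.1) = true ∧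
    ((List.range 24).all fun i => !dodB.testBit i || pWit.any fun p => p.1 == i) = true := by
  decide +kernel

theorem exists_point {p : GolayPt} (hp : p ∈ toSet dodB) :
    ∃ g : H₀, ((g : M24) : Equiv.Perm GolayPt) (pt 0) = p := by
  have h := List.all_eq_true.1 pWit_ok.2 (idx p) (List.mem_range.2 (idx_lt p))
  rw [mem_toSet.1 hp, Bool.not_true, Bool.false_or, List.any_eq_true] at h
  obtain ⟨q, hq, e⟩ := h
  have h2 := List.all_eq_true.1 pWit_ok.1 q hq
  rw [Bool.and_eq_true, decide_eq_true_iff, beq_iff_eq] at h2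
  obtain ⟨g, hg, hn⟩ := exists_val h2.1
  exact ⟨⟨g, hg⟩, by rw [hn.apply (by norm_num) h2.2, beq_iff_eq.1 e, pt_idx]⟩

theorem structureTheorem {d : Finset GolayPt} (hd : d ∈ dodecads) {Q : Finset (Finset GolayPt)}
    (hQ : Q ∈ quartets d) :
    Nat.card ↥(MulAction.stabilizer M24 d ⊓ MulAction.stabilizer M24 Q) = 432 ∧
    (∃ (N : Subgroup ↥(MulAction.stabilizer M24 d ⊓ MulAction.stabilizer M24 Q)) (_ : N.Normal),
      Nat.card N = 9 ∧ Nonempty (↥(MulAction.stabilizer M24 d ⊓ MulAction.stabilizer M24 Q) ⧸ N ≃*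
        GL (Fin 2) (ZMod 3))) ∧
    ∀ p ∈ d, ∀ q ∈ d, ∃ g ∈ (MulAction.stabilizer M24 d ⊓ MulAction.stabilizer M24 Q),
      ((g : ↥M24) : Equiv.Perm GolayPt) p = q := by
  obtain ⟨a, ha, had, haQ⟩ := exists_to_q₀ hd hQ
  let e := conjStab (⟨a, ha⟩ : M24) (show (⟨a, ha⟩ : M24) • d = toSet dodB from had)
    (show (⟨a, ha⟩ : M24) • Q = qset q₀ from haQ)
  let ψ : ↥(MulAction.stabilizer M24 d ⊓ MulAction.stabilizer M24 Q) →* GL (Fin 2) (ZMod 3) :=
    gl.comp e.toMonoidHom
  have hψ : Function.Surjective ψ := gl_surjective.comp e.surjective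
  have hcard : Nat.card ↥(MulAction.stabilizer M24 d ⊓ MulAction.stabilizer M24 Q) = 432 :=
    (Nat.card_congr e.toEquiv).trans card_H₀
  refine ⟨hcard, ⟨ψ.ker, inferInstance, ?_, ⟨QuotientGroup.quotientKerEquivOfSurjective ψ hψ⟩⟩, ?_⟩
  · have h := Subgroup.card_mul_index ψ.ker
    rw [Subgroup.index_ker, MonoidHom.range_eq_top.2 hψ, Subgroup.card_top, card_GL2, hcard] at h
    omega
  · intro p hp q hq
    have hm : ∀ x ∈ d, a x ∈ toSet dodB := fun x hx => had ▸ mem_smul_iff.2 hx
    obtain ⟨g, hg⟩ := exists_point (hm p hp)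
    obtain ⟨h, hh⟩ := exists_point (hm q hq)
    refine ⟨(e.symm (h * g⁻¹) : ↥(MulAction.stabilizer M24 d ⊓ MulAction.stabilizer M24 Q)),
      Subtype.coe_prop _, ?_⟩
    have he := congrArg (fun x : M24 => (x : Equiv.Perm GolayPt))
      (conjStab_apply (⟨a, ha⟩ : M24) (show (⟨a, ha⟩ : M24) • d = toSet dodB from had)
        (show (⟨a, ha⟩ : M24) • Q = qset q₀ from haQ) (e.symm (h * g⁻¹)))
    simp only [Subgroup.coe_mul, Subgroup.coe_inv] at he
    have hp' := congrArg (fun x : Equiv.Perm GolayPt => x (a p)) he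
    rw [e.apply_symm_apply] at hp'
    simp only [Subgroup.coe_mul, Subgroup.coe_inv, Equiv.Perm.mul_apply, Equiv.Perm.coe_inv,
      Equiv.symm_apply_apply] at hp'
    rw [← hg, Equiv.symm_apply_apply, hh] at hp'
    exact a.injective hp'.symm

/-! ### Orbits on quartets -/

/-- The quartet with a given number. -/
def quart (k : ℕ) : ℕ := qs.getD k 0

theorem quart_mem {k : ℕ} (hk : k < 220) : quart k ∈ qs := by
  rw [quart, List.getD_eq_getElem _ _ (show k < qs.length by rw [qs_facts.2.1]; exact hk)]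
  exact List.getElem_mem _

/-- The orbit data is right: members are reached from the root and permuted by the generators. -/
def orbOK (O : ℕ × List (ℕ × ℕ)) (I : List (List ℕ)) : Bool :=
  decide (O.1 < 220) && O.2.any (fun p => p.1 == O.1) && incr (O.2.map Prod.fst) &&
    O.2.all (fun p => decide (p.1 < 220) && decide (p.2 < 432) && qStep (val p.2) (quart O.1) (quart p.1)) &&
    (List.range hGens.length).all fun i => (List.range O.2.length).all fun m =>
      decide ((I.getD i []).getD m O.2.length < O.2.length) &&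
        qStep (hGens.getD i idT) (quart (O.2.getD m (0, 0)).1)
          (quart (O.2.getD ((I.getD i []).getD m O.2.length) (0, 0)).1)

/-- The members of an orbit. -/
def members (O : ℕ × List (ℕ × ℕ)) : Finset (Finset (Finset GolayPt)) :=
  (O.2.map fun p => qset (quart p.1)).toFinset

theorem mem_members {O : ℕ × List (ℕ × ℕ)} {X : Finset (Finset GolayPt)} :
    X ∈ members O ↔ ∃ p ∈ O.2, qset (quart p.1) = X := by
  simp [members]

theorem orbit_eq {O : ℕ × List (ℕ × ℕ)} {I : List (List ℕ)} (h : orbOK O I = true) :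
    MulAction.orbit H₀ (qset (quart O.1)) = ↑(members O) ∧ (members O).card = O.2.length := by
  simp only [orbOK, Bool.and_eq_true, decide_eq_true_iff, List.any_eq_true, List.all_eq_true,
    List.mem_range, beq_iff_eq] at h
  obtain ⟨⟨⟨⟨hr, p₀, hp₀, hp₀r⟩, hinc⟩, hmem⟩, hclosed⟩ := h
  constructor
  · apply Set.Subset.antisymm
    · rintro _ ⟨⟨g, hg⟩, rfl⟩
      obtain ⟨k, -, hk⟩ := listed_H₀ hg
      show ((g : M24) : Equiv.Perm GolayPt) • qset (quart O.1) ∈ members O
      have key : ∀ (w : List ℕ) (x : Equiv.Perm GolayPt), IsTbl x (ev hGens w) →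
          x • qset (quart O.1) ∈ members O := by
        intro w
        induction w with
        | nil =>
          intro x hx
          rw [hx.ext isTbl_one, one_smul]
          exact mem_members.2 ⟨p₀, hp₀, by rw [hp₀r]⟩
        | cons i w ih =>
          intro x hx
          obtain ⟨y, -, -, hy⟩ := exists_ev hGens_ok w
          obtain ⟨p, hp, e⟩ := mem_members.1 (ih y hy)
          by_cases hi : i < hGens.length
          · obtain ⟨z, -, -, hz⟩ := exists_ev hGens_ok [i]
            have hgen : IsTbl z (comp (hGens.getD i idT) idT) := hz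
            have hok := List.all_eq_true.1 hGens_ok (hGens.getD i idT) (by
              rw [List.getD_eq_getElem _ _ hi]; exact List.getElem_mem hi)
            rw [Bool.and_eq_true] at hok
            obtain ⟨u, -, hu⟩ := exists_isTbl hok.1
            rw [hx.ext (hu.comp hy), mul_smul, ← e]
            obtain ⟨m, hm, rfl⟩ := List.getElem_of_mem hp
            obtain ⟨hlt, hst⟩ := hclosed i hi m hm
            rw [List.getD_eq_getElem _ _ hm, List.getD_eq_getElem _ _ hlt] at hst
            have hp' := List.getElem_mem hlt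
            rw [qStep_sound hu (quart_mem (hmem _ hp).1.1) (quart_mem (hmem _ hp').1.1) hst]
            exact mem_members.2 ⟨_, hp', rfl⟩
          · rw [hx.ext (show IsTbl (1 * y) (ev hGens (i :: w)) by
              rw [ev, List.getD_eq_default _ _ (not_lt.1 hi)]; exact isTbl_one.comp hy), one_mul, ← e]
            exact mem_members.2 ⟨p, hp, rfl⟩
      exact key (hWords.getD k []) _ hk
    · intro X hX
      obtain ⟨p, hp, rfl⟩ := mem_members.1 hX
      obtain ⟨⟨hp1, hp2⟩, hst⟩ := hmem p hp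
      obtain ⟨g, hg, hn⟩ := exists_val hp2
      exact ⟨⟨g, hg⟩, qStep_sound hn (quart_mem hr) (quart_mem hp1) hst⟩
  · rw [members, List.toFinset_card_of_nodup, List.length_map]
    have hn : (O.2.map Prod.fst).Nodup := (incr_pairwise _ hinc).imp fun h => ne_of_lt h
    refine (List.Nodup.of_map _ hn).map_on fun p hp q hq e => ?_
    have e' := qset_inj (quart_mem (hmem p hp).1.1) (quart_mem (hmem q hq).1.1) e
    refine List.inj_on_of_nodup_map hn hp hq ?_
    have hlp := (hmem p hp).1.1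
    have hlq := (hmem q hq).1.1
    rw [← qs_facts.2.1] at hlp hlq
    simp only [quart, List.getD_eq_getElem _ _ hlp, List.getD_eq_getElem _ _ hlq] at e'
    exact qs_facts.2.2.getElem_inj_iff.1 e'

theorem orbs_ok : orbOK orbA orbAImg = true ∧ orbOK orbB orbBImg = true ∧ orbOK orbC orbCImg = true ∧
    orbOK orbD orbDImg = true ∧ orbA.2.length = 12 ∧ orbB.2.length = 27 ∧ orbC.2.length = 72 ∧
    orbD.2.length = 108 := by
  decide +kernel

theorem orbs_cover : ∀ k < 220, k = 0 ∨ (orbA.2.any fun p => p.1 == k) = true ∨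
    (orbB.2.any fun p => p.1 == k) = true ∨ (orbC.2.any fun p => p.1 == k) = true ∨
    (orbD.2.any fun p => p.1 == k) = true := by
  decide +kernel

theorem orbit_moved_back {a : M24} {d : Finset GolayPt} {Q : Finset (Finset GolayPt)}
    (had : a • d = toSet dodB) (haQ : a • Q = qset q₀) (X : Finset (Finset GolayPt)) :
    MulAction.orbit ↥(MulAction.stabilizer M24 d ⊓ MulAction.stabilizer M24 Q) (a⁻¹ • X) =
      (fun Y => a⁻¹ • Y) '' MulAction.orbit H₀ X := by
  apply Set.Subset.antisymm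
  · rintro _ ⟨g, rfl⟩
    refine ⟨_, ⟨conjStab a had haQ g, rfl⟩, ?_⟩
    show a⁻¹ • ((conjStab a had haQ g : M24) • X) = (g : M24) • a⁻¹ • X
    rw [conjStab_apply, mul_smul, mul_smul, inv_smul_smul]
  · rintro _ ⟨_, ⟨h, rfl⟩, rfl⟩
    refine ⟨(conjStab a had haQ).symm h, ?_⟩
    show ((conjStab a had haQ).symm h : M24) • a⁻¹ • X = a⁻¹ • ((h : M24) • X)
    conv_rhs => rw [← (conjStab a had haQ).apply_symm_apply h, conjStab_apply, mul_smul, mul_smul,
      inv_smul_smul]

theorem orbit_subset {d : Finset GolayPt} {Q X : Finset (Finset GolayPt)} (hX : X ∈ quartets d) :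
    MulAction.orbit ↥(MulAction.stabilizer M24 d ⊓ MulAction.stabilizer M24 Q) X ⊆ quartets d := by
  rintro _ ⟨g, rfl⟩
  have hgd : ((g : M24) : Equiv.Perm GolayPt) • d = d := g.2.1
  have h := smul_quartets (g : M24).2 hX
  rw [hgd] at h
  exact h

theorem orbitTheorem {d : Finset GolayPt} (hd : d ∈ dodecads) {Q : Finset (Finset GolayPt)}
    (hQ : Q ∈ quartets d) :
    ∃ X₁ ∈ quartets d, ∃ X₂ ∈ quartets d, ∃ X₃ ∈ quartets d, ∃ X₄ ∈ quartets d,
      (MulAction.orbit ↥(MulAction.stabilizer M24 d ⊓ MulAction.stabilizer M24 Q) X₁).ncard = 12 ∧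
      (MulAction.orbit ↥(MulAction.stabilizer M24 d ⊓ MulAction.stabilizer M24 Q) X₂).ncard = 27 ∧
      (MulAction.orbit ↥(MulAction.stabilizer M24 d ⊓ MulAction.stabilizer M24 Q) X₃).ncard = 72 ∧
      (MulAction.orbit ↥(MulAction.stabilizer M24 d ⊓ MulAction.stabilizer M24 Q) X₄).ncard = 108 ∧
      quartets d = {Q} ∪ MulAction.orbit ↥(MulAction.stabilizer M24 d ⊓ MulAction.stabilizer M24 Q) X₁ ∪
        MulAction.orbit ↥(MulAction.stabilizer M24 d ⊓ MulAction.stabilizer M24 Q) X₂ ∪
        MulAction.orbit ↥(MulAction.stabilizer M24 d ⊓ MulAction.stabilizer M24 Q) X₃ ∪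
        MulAction.orbit ↥(MulAction.stabilizer M24 d ⊓ MulAction.stabilizer M24 Q) X₄ := by
  obtain ⟨a', ha, had, haQ⟩ := exists_to_q₀ hd hQ
  obtain ⟨a, rfl⟩ : ∃ a : M24, (a : Equiv.Perm GolayPt) = a' := ⟨⟨a', ha⟩, rfl⟩
  change a • d = toSet dodB at had
  change a • Q = qset q₀ at haQ
  have hq : ∀ X ∈ quartets (toSet dodB), a⁻¹ • X ∈ quartets d := fun X hX => by
    have h := smul_quartets (a⁻¹ : M24).2 hX
    rwa [show ((a⁻¹ : M24) : Equiv.Perm GolayPt) • toSet dodB = d from inv_smul_eq_iff.2 had.symm] at h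
  obtain ⟨hA, hB, hC, hD, lA, lB, lC, lD⟩ := orbs_ok
  have hroot : ∀ {O : ℕ × List (ℕ × ℕ)} {I : List (List ℕ)}, orbOK O I = true →
      a⁻¹ • qset (quart O.1) ∈ quartets d ∧
      MulAction.orbit ↥(MulAction.stabilizer M24 d ⊓ MulAction.stabilizer M24 Q) (a⁻¹ • qset (quart O.1)) =
        (fun Y => a⁻¹ • Y) '' ↑(members O) ∧
      ((fun Y => a⁻¹ • Y) '' (↑(members O) : Set (Finset (Finset GolayPt)))).ncard = O.2.length := by
    intro O I h
    obtain ⟨h1, h2⟩ := orbit_eq h
    refine ⟨hq _ (qset_mem (quart_mem ?_)), by rw [orbit_moved_back had haQ, h1], ?_⟩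
    · simp only [orbOK, Bool.and_eq_true, decide_eq_true_iff] at h
      exact h.1.1.1.1
    · rw [Set.ncard_image_of_injective _ (MulAction.injective _), Set.ncard_coe_finset, h2]
  obtain ⟨mA, eA, cA⟩ := hroot hA
  obtain ⟨mB, eB, cB⟩ := hroot hB
  obtain ⟨mC, eC, cC⟩ := hroot hC
  obtain ⟨mD, eD, cD⟩ := hroot hD
  refine ⟨_, mA, _, mB, _, mC, _, mD, by rw [eA, cA, lA], by rw [eB, cB, lB], by rw [eC, cC, lC],
    by rw [eD, cD, lD], ?_⟩
  apply Set.Subset.antisymm
  · intro X hX
    have hX' : a • X ∈ quartets (toSet dodB) := had ▸ smul_quartets a.2 hX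
    obtain ⟨q, hq', e⟩ := exists_qs hX'
    obtain ⟨k, hk, rfl⟩ := List.getElem_of_mem hq'
    have hqk : qset (quart k) = a • X := by rw [quart, List.getD_eq_getElem _ _ hk, e]
    have hin : ∀ O : ℕ × List (ℕ × ℕ), (O.2.any fun p => p.1 == k) = true →
        X ∈ (fun Y => a⁻¹ • Y) '' (↑(members O) : Set (Finset (Finset GolayPt))) := fun O h => by
      obtain ⟨p, hp, rfl⟩ : ∃ p ∈ O.2, p.1 = k := by simpa using h
      exact ⟨_, Finset.mem_coe.2 (mem_members.2 ⟨p, hp, hqk⟩), inv_smul_smul a X⟩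
    rcases orbs_cover k (qs_facts.2.1 ▸ hk) with rfl | h | h | h | h
    · refine Or.inl (Or.inl (Or.inl (Or.inl ?_)))
      rw [show quart 0 = q₀ from rfl, ← haQ] at hqk
      exact (smul_left_cancel a hqk).symm
    · exact Or.inl (Or.inl (Or.inl (Or.inr (eA ▸ hin _ h))))
    · exact Or.inl (Or.inl (Or.inr (eB ▸ hin _ h)))
    · exact Or.inl (Or.inr (eC ▸ hin _ h))
    · exact Or.inr (eD ▸ hin _ h)
  · rintro X ((((rfl | h) | h) | h) | h)
    · exact hQ
    exacts [orbit_subset mA h, orbit_subset mB h, orbit_subset mC h, orbit_subset mD h]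

end CfsgLib.Sporadic.QuartetStabilizer
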