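import Cfsg.Agent.Lib.Sporadic.M24Orbits

/-!
Data for the stabiliser of a sextet: generators, orbit trees, and elements inducing transpositions or
lying in the elementary abelian normal subgroup.
-/

set_option autoImplicit false
set_option maxRecDepth 40000

namespace CfsgLib.Sporadic.SextetData

open CfsgLib.Sporadic.M24Orbits

/-- Generators fixing the base sextet. -/
def gens : List (List ℕ) := [[5, 17, 14, 1, 18, 23, 16, 22, 7, 20, 10, 6, 19, 8, 2, 15, 11, 0, 21, 13, 9, 4, 12, 3],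
  [0, 1, 2, 3, 4, 5, 6, 7, 8, 9, 10, 11, 12, 13, 14, 15, 16, 17, 18, 19, 20, 21, 22, 23],
  [16, 22, 4, 7, 9, 6, 3, 17, 12, 1, 23, 11, 8, 10, 19, 2, 20, 21, 18, 14, 0, 5, 15, 13]]

/-- The tetrads of the base sextet. -/
def tetrads : List ℕ := [8388615, 147496, 268544, 1082880, 2621632, 4268048]

/-- Elements inducing adjacent transpositions of the tetrads. -/
def swaps : List (List ℕ) := [[3, 5, 14, 0, 4, 1, 6, 19, 12, 20, 10, 11, 8, 22, 2, 15, 16, 23, 18, 7, 9, 21, 13, 17],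
  [2, 1, 0, 12, 4, 11, 6, 7, 14, 15, 10, 5, 3, 22, 8, 9, 16, 18, 17, 21, 20, 19, 13, 23],
  [1, 0, 2, 14, 13, 17, 6, 19, 15, 8, 11, 20, 10, 16, 5, 18, 22, 3, 9, 7, 12, 21, 4, 23],
  [0, 1, 23, 14, 22, 3, 10, 9, 11, 21, 19, 18, 8, 13, 17, 6, 16, 5, 12, 15, 7, 20, 4, 2],
  [0, 1, 23, 14, 21, 17, 13, 4, 11, 20, 10, 12, 18, 19, 5, 15, 6, 3, 8, 16, 9, 22, 7, 2]]

/-- Elements preserving the pairings of every tetrad. -/
def pairing : List (List ℕ) := [[0, 1, 2, 3, 4, 5, 6, 7, 8, 9, 10, 11, 12, 13, 14, 15, 16, 17, 18, 19, 20, 21, 22, 23],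
  [1, 0, 23, 17, 13, 14, 21, 19, 11, 20, 15, 8, 18, 4, 5, 10, 22, 3, 12, 7, 9, 6, 16, 2],
  [1, 0, 23, 14, 16, 17, 7, 6, 18, 20, 15, 12, 11, 22, 3, 10, 4, 5, 8, 21, 9, 19, 13, 2],
  [23, 2, 1, 14, 13, 17, 19, 21, 12, 20, 15, 18, 8, 4, 3, 10, 22, 5, 11, 6, 9, 7, 16, 0],
  [23, 2, 1, 5, 22, 3, 21, 19, 18, 20, 15, 12, 11, 16, 17, 10, 13, 14, 8, 7, 9, 6, 4, 0],
  [2, 23, 0, 5, 16, 3, 19, 21, 11, 20, 15, 8, 18, 22, 17, 10, 4, 14, 12, 6, 9, 7, 13, 1],
  [2, 23, 0, 17, 22, 14, 7, 6, 12, 20, 15, 18, 8, 16, 5, 10, 13, 3, 11, 21, 9, 19, 4, 1],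
  [23, 2, 1, 3, 16, 5, 19, 21, 18, 9, 10, 12, 11, 22, 14, 15, 4, 17, 8, 6, 20, 7, 13, 0],
  [2, 23, 0, 5, 22, 3, 6, 7, 8, 10, 9, 11, 12, 16, 17, 20, 13, 14, 18, 19, 15, 21, 4, 1],
  [0, 1, 2, 14, 4, 17, 7, 6, 12, 15, 20, 18, 8, 13, 3, 9, 16, 5, 11, 21, 10, 19, 22, 23],
  [0, 1, 2, 5, 22, 3, 19, 21, 12, 9, 10, 18, 8, 16, 17, 15, 13, 14, 11, 6, 20, 7, 4, 23],
  [0, 1, 2, 5, 16, 3, 6, 7, 18, 15, 20, 12, 11, 22, 17, 9, 4, 14, 8, 19, 10, 21, 13, 23],
  [2, 23, 0, 14, 16, 17, 6, 7, 12, 9, 10, 18, 8, 22, 3, 15, 4, 5, 11, 19, 20, 21, 13, 1],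
  [2, 23, 0, 17, 4, 14, 6, 7, 11, 15, 20, 8, 18, 13, 5, 9, 16, 3, 12, 19, 10, 21, 22, 1],
  [23, 2, 1, 3, 13, 5, 21, 19, 8, 10, 9, 11, 12, 4, 14, 20, 22, 17, 18, 7, 15, 6, 16, 0],
  [2, 23, 0, 3, 22, 5, 21, 19, 11, 9, 10, 8, 18, 16, 14, 15, 13, 17, 12, 7, 20, 6, 4, 1],
  [2, 23, 0, 3, 4, 5, 19, 21, 12, 10, 9, 18, 8, 13, 14, 20, 16, 17, 11, 6, 15, 7, 22, 1],
  [23, 2, 1, 17, 4, 14, 21, 19, 12, 9, 10, 18, 8, 13, 5, 15, 16, 3, 11, 7, 20, 6, 22, 0],
  [2, 23, 0, 17, 16, 14, 21, 19, 18, 10, 9, 12, 11, 22, 5, 20, 4, 3, 8, 7, 15, 6, 13, 1],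
  [2, 23, 0, 14, 13, 17, 7, 6, 11, 10, 9, 8, 18, 4, 3, 20, 22, 5, 12, 21, 15, 19, 16, 1],
  [1, 0, 23, 5, 13, 3, 19, 21, 18, 10, 9, 12, 11, 4, 17, 20, 22, 14, 8, 6, 15, 7, 16, 2],
  [1, 0, 23, 3, 22, 5, 19, 21, 8, 20, 15, 11, 12, 16, 14, 10, 13, 17, 18, 6, 9, 7, 4, 2],
  [1, 0, 23, 5, 4, 3, 6, 7, 12, 20, 15, 18, 8, 13, 17, 10, 16, 14, 11, 19, 9, 21, 22, 2],
  [2, 23, 0, 3, 16, 5, 7, 6, 8, 15, 20, 11, 12, 22, 14, 9, 4, 17, 18, 21, 10, 19, 13, 1],
  [0, 1, 2, 14, 22, 17, 6, 7, 11, 20, 15, 8, 18, 16, 3, 10, 13, 5, 12, 19, 9, 21, 4, 23],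
  [23, 2, 1, 5, 13, 3, 6, 7, 11, 9, 10, 8, 18, 4, 17, 15, 22, 14, 12, 19, 20, 21, 16, 0],
  [2, 23, 0, 14, 4, 17, 21, 19, 8, 20, 15, 11, 12, 13, 3, 10, 16, 5, 18, 7, 9, 6, 22, 1],
  [1, 0, 23, 17, 4, 14, 7, 6, 8, 10, 9, 11, 12, 13, 5, 20, 16, 3, 18, 21, 15, 19, 22, 2],
  [0, 1, 2, 17, 13, 14, 6, 7, 12, 10, 9, 18, 8, 4, 5, 20, 22, 3, 11, 19, 15, 21, 16, 23],
  [23, 2, 1, 3, 4, 5, 7, 6, 11, 20, 15, 8, 18, 13, 14, 10, 16, 17, 12, 21, 9, 19, 22, 0],
  [2, 23, 0, 5, 4, 3, 7, 6, 18, 9, 10, 12, 11, 13, 17, 15, 16, 14, 8, 21, 20, 19, 22, 1],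
  [23, 2, 1, 17, 16, 14, 6, 7, 8, 20, 15, 11, 12, 22, 5, 10, 4, 3, 18, 19, 9, 21, 13, 0],
  [0, 1, 2, 3, 16, 5, 21, 19, 12, 20, 15, 18, 8, 22, 14, 10, 4, 17, 11, 7, 9, 6, 13, 23],
  [1, 0, 23, 14, 13, 17, 6, 7, 8, 15, 20, 11, 12, 4, 3, 9, 22, 5, 18, 19, 10, 21, 16, 2],
  [1, 0, 23, 3, 4, 5, 21, 19, 18, 15, 20, 12, 11, 13, 14, 9, 16, 17, 8, 7, 10, 6, 22, 2],
  [0, 1, 2, 5, 13, 3, 7, 6, 8, 20, 15, 11, 12, 4, 17, 10, 22, 14, 18, 21, 9, 19, 16, 23],
  [1, 0, 23, 5, 16, 3, 21, 19, 8, 9, 10, 11, 12, 22, 17, 15, 4, 14, 18, 7, 20, 6, 13, 2],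
  [0, 1, 2, 14, 16, 17, 19, 21, 8, 10, 9, 11, 12, 22, 3, 20, 4, 5, 18, 6, 15, 7, 13, 23],
  [2, 23, 0, 17, 13, 14, 19, 21, 8, 9, 10, 11, 12, 4, 5, 15, 22, 3, 18, 6, 20, 7, 16, 1],
  [0, 1, 2, 17, 16, 14, 7, 6, 11, 9, 10, 8, 18, 22, 5, 15, 4, 3, 12, 21, 20, 19, 13, 23],
  [23, 2, 1, 3, 22, 5, 6, 7, 12, 15, 20, 18, 8, 16, 14, 9, 13, 17, 11, 19, 10, 21, 4, 0],
  [1, 0, 23, 3, 13, 5, 7, 6, 12, 9, 10, 18, 8, 4, 14, 15, 22, 17, 11, 21, 20, 19, 16, 2],
  [0, 1, 2, 5, 4, 3, 21, 19, 11, 10, 9, 8, 18, 13, 17, 20, 16, 14, 12, 7, 15, 6, 22, 23],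
  [0, 1, 2, 17, 22, 14, 21, 19, 8, 15, 20, 11, 12, 16, 5, 9, 13, 3, 18, 7, 10, 6, 4, 23],
  [1, 0, 23, 17, 16, 14, 19, 21, 12, 15, 20, 18, 8, 22, 5, 9, 4, 3, 11, 6, 10, 7, 13, 2],
  [23, 2, 1, 17, 13, 14, 7, 6, 18, 15, 20, 12, 11, 4, 5, 9, 22, 3, 8, 21, 10, 19, 16, 0],
  [2, 23, 0, 14, 22, 17, 19, 21, 18, 15, 20, 12, 11, 16, 3, 9, 13, 5, 8, 6, 10, 7, 4, 1],
  [1, 0, 23, 3, 16, 5, 6, 7, 11, 10, 9, 8, 18, 22, 14, 20, 4, 17, 12, 19, 15, 21, 13, 2],
  [1, 0, 23, 14, 22, 17, 21, 19, 12, 10, 9, 18, 8, 16, 3, 20, 13, 5, 11, 7, 15, 6, 4, 2],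
  [23, 2, 1, 17, 22, 14, 19, 21, 11, 10, 9, 8, 18, 16, 5, 20, 13, 3, 12, 6, 15, 7, 4, 0],
  [23, 2, 1, 14, 4, 17, 6, 7, 18, 10, 9, 12, 11, 13, 3, 20, 16, 5, 8, 19, 15, 21, 22, 0],
  [23, 2, 1, 14, 22, 17, 7, 6, 8, 9, 10, 11, 12, 16, 3, 15, 13, 5, 18, 21, 20, 19, 4, 0],
  [1, 0, 23, 17, 22, 14, 6, 7, 18, 9, 10, 12, 11, 16, 5, 15, 13, 3, 8, 19, 20, 21, 4, 2],
  [0, 1, 2, 14, 13, 17, 21, 19, 18, 9, 10, 12, 11, 4, 3, 15, 22, 5, 8, 7, 20, 6, 16, 23],
  [23, 2, 1, 14, 16, 17, 21, 19, 11, 15, 20, 8, 18, 22, 3, 9, 4, 5, 12, 7, 10, 6, 13, 0],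
  [1, 0, 23, 5, 22, 3, 7, 6, 11, 15, 20, 8, 18, 16, 17, 9, 13, 14, 12, 21, 10, 19, 4, 2],
  [23, 2, 1, 5, 4, 3, 19, 21, 8, 15, 20, 11, 12, 13, 17, 9, 16, 14, 18, 6, 10, 7, 22, 0],
  [1, 0, 23, 14, 4, 17, 19, 21, 11, 9, 10, 8, 18, 13, 3, 15, 16, 5, 12, 6, 20, 7, 22, 2],
  [23, 2, 1, 5, 16, 3, 7, 6, 12, 10, 9, 18, 8, 22, 17, 20, 4, 14, 11, 21, 15, 19, 13, 0],
  [0, 1, 2, 17, 4, 14, 19, 21, 18, 20, 15, 12, 11, 13, 5, 10, 16, 3, 8, 6, 9, 7, 22, 23],
  [0, 1, 2, 3, 13, 5, 19, 21, 11, 15, 20, 8, 18, 4, 14, 9, 22, 17, 12, 6, 10, 7, 16, 23],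
  [0, 1, 2, 3, 22, 5, 7, 6, 18, 10, 9, 12, 11, 16, 14, 20, 13, 17, 8, 21, 15, 19, 4, 23],
  [2, 23, 0, 3, 13, 5, 6, 7, 18, 20, 15, 12, 11, 4, 14, 10, 22, 17, 8, 19, 9, 21, 16, 1],
  [2, 23, 0, 5, 13, 3, 21, 19, 12, 15, 20, 18, 8, 4, 17, 9, 22, 14, 11, 7, 10, 6, 16, 1]]

/-- Spanning tree of the suborbit of length 240, from `8388622`. -/
def treeA : Tree := (.node 0 8388645 (.node 0 8405032 (.node 2 9699336 (.node 0 9453632 (.node 0 12632064 (.node 0 8389920 (.node 0 8389768 (.node 0 8389168 (.node 2 12615808 .leaf .leaf) (.node 2 8528000 (.node 2 8392709 .leaf .leaf) .leaf)) (.node 2 8400960 (.node 0 9438720 .leaf .leaf) .leaf)) (.node 2 8455232 (.node 2 9445384 (.node 0 8554496 (.node 0 8913440 .leaf .leaf) (.node 2 8913424 (.node 0 8913088 .leaf .leaf) .leaf)) .leaf) .leaf)) (.node 2 10567680 (.node 0 12718080 (.node 0 8520064 .leaf (.node 2 8404998 (.node 0 8388643 (.node 0 8519720 .leaf .leaf) .leaf) .leaf)) (.node 2 8388869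 (.node 0 8397568 (.node 0 12582918 .leaf (.node 2 8423440 .leaf .leaf)) (.node 2 10092544 (.node 0 13762560 (.node 0 8408064 (.node 0 8520320 .leaf .leaf) (.node 2 9437264 .leaf .leaf)) (.node 2 8978440 (.node 0 12861440 .leaf .leaf) .leaf)) .leaf)) .leaf)) .leaf)) (.node 2 14680320 (.node 0 9470464 (.node 0 8392848 (.node 0 8389637 (.node 0 8716352 (.node 0 8389638 .leaf .leaf) (.node 2 8462352 .leaf .leaf)) (.node 2 11010112 (.node 0 8391232 .leaf (.node 2 8389504 .leaf .leaf)) .leaf)) (.node 2 12648464 (.node 2 8931328 (.node 0 14680096 (.node 2 8653056 .leaf .leaf) .leaf) .leaf) .leaf)) (.node 2 11010176 (.node 0 8945920 (.node 0 8390661 (.node 0 8717312 .leaf .leaf) (.node 2 8456224 (.node 0 8390728 .leaf .leaf) .leaf)) (.node 2 11796480 (.node 2 8392728 .leaf .leaf) .leaf)) .leaf)) .leaf)) .leaf) (.node 2 8391176 (.node 0 10502656 (.node 0 8414208 (.node 0 8425504 (.node 0 8945672 (.node 0 9502752 .leaf (.node 2 13238272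 (.node 0 8650800 (.node 0 10747912 .leaf .leaf) (.node 2 8388870 .leaf .leaf)) .leaf)) .leaf) (.node 2 8922112 (.node 0 8388675 (.node 0 10490368 .leaf (.node 2 8393856 (.node 0 8650757 .leaf .leaf) .leaf)) .leaf) .leaf)) (.node 2 8405072 (.node 0 8528128 (.node 2 8519685 (.node 0 8519686 (.node 0 8388646 (.node 0 8536072 .leaf (.node 2 8782848 .leaf .leaf)) .leaf) .leaf) .leaf) (.node 2 8392710 (.node 0 8651280 .leaf .leaf) .leaf)) .leaf)) (.node 2 8978688 (.node 0 8421381 (.node 0 10487824 (.node 0 8421382 .leaf (.node 2 10485763 (.node 0 9437504 (.node 0 8650755 (.node 0 8458752 .leaf .leaf) .leaf) .leaf) .leaf)) (.node 2 12582915 (.node 0 10551808 (.node 0 8912899 (.node 0 8915968 (.node 0 8388867 .leaf (.node 2 8415232 .leaf .leaf)) .leaf) (.node 2 8486920 (.node 0 8520448 (.node 0 10486816 (.node 2 8396896 .leaf .leaf) .leaf) .leaf) .leaf)) (.node 2 10618880 (.node 0 12599424 .leaf .leaf) .leaf)) .leaf)) (.node 2 8388739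 (.node 0 8683648 (.node 0 8392707 (.node 0 8399872 (.node 0 8396803 (.node 2 8392840 .leaf .leaf) .leaf) .leaf) (.node 2 8454408 (.node 0 8392800 (.node 2 8389635 (.node 0 8923136 .leaf .leaf) .leaf) (.node 2 8404995 (.node 2 8651296 .leaf .leaf) .leaf)) .leaf)) (.node 2 10520576 (.node 0 8650758 (.node 0 12584192 (.node 0 12656640 .leaf (.node 2 8433664 (.node 0 12591120 .leaf .leaf) .leaf)) (.node 2 8520768 (.node 2 10493960 .leaf .leaf) .leaf)) (.node 2 8474624 (.node 0 8405312 (.node 0 8912944 (.node 0 8658952 (.node 0 9175072 .leaf .leaf) .leaf) .leaf) .leaf) .leaf)) .leaf)) .leaf)) .leaf)) .leaf)) (.node 2 9439264 (.node 0 8389192 (.node 0 8429600 (.node 0 8421640 (.node 0 8930304 (.node 0 9453584 (.node 2 8389776 (.node 0 8912901 .leaf (.node 2 8528384 (.node 2 14155776 .leaf .leaf) .leaf)) .leaf) (.node 2 8937472 (.node 0 8847360 (.node 0 8781888 (.node 2 8422912 .leaf .leaf) (.node 2 8536096 .leaf .leaf)) .leaf) .leaf))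 (.node 2 8388944 (.node 0 8389123 (.node 2 8388629 .leaf .leaf) (.node 2 8912902 (.node 0 8425536 (.node 0 8656896 .leaf .leaf) .leaf) .leaf)) .leaf)) (.node 2 9011200 (.node 0 8388741 (.node 0 9965568 (.node 2 8521744 .leaf .leaf) .leaf) (.node 2 8389656 (.node 0 9572352 (.node 0 8421472 .leaf (.node 2 12845184 (.node 0 8421379 (.node 2 8388627 .leaf .leaf) .leaf) .leaf)) (.node 2 8397440 (.node 0 8388742 (.node 0 10487040 .leaf (.node 2 8651840 .leaf .leaf)) (.node 2 8471040 (.node 2 14681088 .leaf .leaf) .leaf)) .leaf)) .leaf)) .leaf)) (.node 2 10616848 (.node 0 8400928 (.node 0 8913160 (.node 2 9437187 (.node 0 10555392 .leaf (.node 2 8388630 .leaf .leaf)) .leaf) (.node 2 8388619 (.node 0 8404997 (.node 0 8519683 .leaf .leaf) (.node 2 8393736 (.node 0 8437888 .leaf (.node 2 8397184 (.node 2 10485765 .leaf .leaf) .leaf)) .leaf)) .leaf)) (.node 2 8390659 (.node 0 9437456 (.node 0 8454147 .leaf (.node 2 8487168 (.node 2 12877824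 (.node 2 13635584 (.node 0 8396806 .leaf .leaf) .leaf) .leaf) .leaf)) (.node 2 10649600 (.node 0 8586240 (.node 0 8409600 .leaf (.node 2 11542528 .leaf .leaf)) (.node 2 12582984 .leaf .leaf)) .leaf)) .leaf)) .leaf)) (.node 2 13111296 (.node 0 8389126 (.node 0 8456320 (.node 0 9470976 (.node 0 10756096 (.node 0 8389125 (.node 2 12582917 (.node 2 8667264 .leaf .leaf) .leaf) .leaf) (.node 2 8396805 (.node 2 10486048 (.node 0 8388760 .leaf .leaf) .leaf) .leaf)) (.node 2 8388678 .leaf .leaf)) (.node 2 8454149 (.node 0 10518544 (.node 2 8552464 (.node 0 9453824 (.node 2 12585024 .leaf .leaf) (.node 2 9502848 (.node 2 12583432 (.node 2 12583488 .leaf .leaf) .leaf) .leaf)) .leaf) (.node 2 9048064 .leaf .leaf)) .leaf)) (.node 2 10485766 (.node 0 9175552 (.node 0 8395008 (.node 0 9707520 (.node 2 9504768 .leaf .leaf) (.node 2 11534344 (.node 0 12583968 (.node 2 8429632 (.node 0 10485952 .leaf .leaf) .leaf) (.node 2 8585280 (.node 0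 12583200 .leaf .leaf) .leaf)) .leaf)) (.node 2 12584968 (.node 0 8390816 (.node 2 9437190 (.node 0 9175056 (.node 2 8388677 .leaf .leaf) (.node 2 8454150 .leaf .leaf)) .leaf) (.node 2 8388621 (.node 2 8699904 .leaf .leaf) .leaf)) .leaf)) (.node 2 9439360 (.node 0 8655104 (.node 0 12585472 (.node 2 8393744 .leaf .leaf) .leaf) (.node 2 8405264 (.node 0 10506240 (.node 0 8454304 (.node 2 8390662 (.node 2 9437344 .leaf .leaf) .leaf) (.node 2 9437189 .leaf .leaf)) .leaf) .leaf)) .leaf)) .leaf)) .leaf)) .leaf))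

/-- Its root. -/
def rootA : ℕ := 8388622

/-- Spanning tree of the suborbit of length 1440, from `12584961`. -/
def treeB : Tree := (.node 0 8390786 (.node 0 8978434 (.node 0 8913952 (.node 0 8397832 (.node 0 8396865 (.node 2 12587136 (.node 0 9453600 (.node 2 12589056 (.node 0 10486800 (.node 2 8397344 (.node 0 9437448 .leaf (.node 2 8388873 (.node 0 8394816 .leaf .leaf) .leaf)) .leaf) .leaf) .leaf) (.node 2 9438336 (.node 0 8388658 (.node 0 8781832 (.node 0 12619776 (.node 2 10502146 .leaf .leaf) (.node 2 12583169 (.node 2 8389377 (.node 0 10486785 .leaf (.node 2 10747968 .leaf .leaf)) .leaf) .leaf)) (.node 2 8421506 (.node 2 8929408 (.node 0 10485856 .leaf (.node 2 12583044 .leaf .leaf)) .leaf) .leaf)) (.node 2 8527873 (.node 0 12650496 (.node 0 8388770 (.node 0 12713992 (.node 2 8917024 .leaf .leaf) .leaf) (.node 2 8929792 (.node 2 8388720 .leaf .leaf) .leaf)) (.node 2 8388912 (.node 0 8650888 .leaf .leaf) .leaf)) .leaf))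 .leaf)) .leaf) (.node 2 8397952 (.node 0 10633216 (.node 0 10486528 (.node 0 8425984 (.node 0 10616836 (.node 0 12583104 (.node 2 8409152 (.node 2 12615696 .leaf .leaf) .leaf) (.node 2 8455424 (.node 0 8651024 (.node 0 8409092 .leaf .leaf) .leaf) .leaf)) .leaf) (.node 2 12714240 (.node 0 9044224 (.node 0 8423428 (.node 0 8531968 .leaf .leaf) (.node 2 12583440 .leaf .leaf)) (.node 2 8913056 .leaf .leaf)) .leaf)) (.node 2 8425600 (.node 0 8397072 (.node 0 8391696 (.node 0 8470560 (.node 0 8390668 .leaf .leaf) .leaf) (.node 2 9437280 .leaf .leaf)) (.node 2 8716296 (.node 2 8912968 (.node 0 9469984 (.node 2 8667648 (.node 0 9076736 .leaf .leaf) .leaf) .leaf) .leaf) .leaf)) .leaf)) (.node 2 8528896 (.node 0 8396866 (.node 0 8658948 (.node 0 12715008 (.node 2 10526720 (.node 2 8650882 (.node 2 8389712 .leaf .leaf) .leaf) .leaf) (.node 2 12714048 (.node 2 8652288 (.node 0 8388769 .leaf (.node 2 8658946 (.node 2 8519760 .leaf .leaf)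 .leaf)) .leaf) .leaf)) (.node 2 8458368 (.node 0 10486400 .leaf (.node 2 8422528 (.node 2 8527876 (.node 0 9732096 (.node 0 8659968 .leaf .leaf) (.node 2 8454432 (.node 2 8390176 .leaf .leaf) .leaf)) .leaf) .leaf)) .leaf)) (.node 2 10494976 (.node 0 8652928 (.node 0 8396836 (.node 0 8405256 (.node 0 13631744 .leaf .leaf) .leaf) (.node 2 8393344 (.node 0 8409120 (.node 0 8912908 (.node 0 12847104 .leaf .leaf) (.node 2 10617344 (.node 2 8391169 .leaf .leaf) .leaf)) (.node 2 12587040 (.node 0 8917000 (.node 0 8393220 .leaf .leaf) (.node 2 8652832 .leaf .leaf)) .leaf)) .leaf)) (.node 2 8397856 (.node 0 8389896 .leaf (.node 2 8397888 .leaf .leaf)) .leaf)) .leaf)) .leaf)) .leaf)) (.node 2 8413248 (.node 0 8790016 (.node 0 8389140 (.node 0 8421633 (.node 0 12976128 (.node 0 12615682 .leaf (.node 2 8390152 (.node 0 8785920 (.node 2 12583041 (.node 2 14682112 .leaf .leaf) .leaf) (.node 2 8396930 (.node 0 10503168 .leaf (.node 2 8650832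 (.node 2 10519552 .leaf .leaf) .leaf)) .leaf)) .leaf)) (.node 2 8407072 (.node 0 8388684 (.node 0 8392976 (.node 0 9445440 (.node 0 9962496 .leaf .leaf) (.node 2 8486913 .leaf .leaf)) .leaf) .leaf) .leaf)) (.node 2 9699584 (.node 0 13109248 (.node 0 8568832 (.node 0 8398976 (.node 0 8655360 .leaf (.node 2 8912936 (.node 0 8396810 .leaf .leaf) .leaf)) (.node 2 8652816 (.node 0 8521729 (.node 2 12746752 .leaf .leaf) (.node 2 8523904 (.node 2 8913472 (.node 0 8421410 .leaf .leaf) .leaf) .leaf)) .leaf)) (.node 2 9961984 (.node 0 12713985 (.node 0 8658960 (.node 0 8912930 .leaf .leaf) (.node 2 12716032 .leaf .leaf)) (.node 2 9441408 (.node 0 10487936 (.node 2 8913928 .leaf .leaf) .leaf) .leaf)) .leaf)) (.node 2 8388664 .leaf .leaf)) .leaf)) (.node 2 8421896 (.node 0 8462368 (.node 0 8390920 (.node 0 8394784 (.node 2 8683552 (.node 0 10518536 (.node 0 8650820 .leaf .leaf) .leaf) .leaf) (.node 2 8782336 (.node 0 8389792 (.node 0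 12583944 (.node 2 8429696 .leaf .leaf) .leaf) (.node 2 8458304 (.node 0 8687616 (.node 2 8585224 .leaf .leaf) (.node 2 10491904 .leaf .leaf)) .leaf)) .leaf)) (.node 2 8393248 (.node 0 9961480 (.node 0 8916996 .leaf (.node 2 9441282 (.node 2 10748032 (.node 2 11550720 .leaf .leaf) .leaf) .leaf)) (.node 2 8389641 (.node 2 8462464 (.node 0 8454177 .leaf (.node 2 8421760 (.node 0 8781856 .leaf .leaf) .leaf)) .leaf) .leaf)) .leaf)) (.node 2 8651808 (.node 0 10486792 (.node 0 12583456 (.node 0 9441288 .leaf (.node 2 12583552 (.node 0 8929312 (.node 0 8396812 .leaf .leaf) .leaf) .leaf)) (.node 2 8396960 (.node 0 12583176 (.node 0 8390752 (.node 0 8454216 .leaf .leaf) .leaf) .leaf) .leaf)) (.node 2 8659008 (.node 0 8421568 (.node 0 8405508 (.node 2 8405088 .leaf .leaf) .leaf) (.node 2 10519040 (.node 2 8651904 .leaf .leaf) .leaf)) .leaf)) .leaf)) .leaf)) (.node 2 8521760 (.node 0 8388681 (.node 0 9478144 (.node 0 8521730 (.node 0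 10749952 (.node 0 8918016 .leaf (.node 2 8421696 (.node 0 10486080 (.node 0 8912932 .leaf (.node 2 8650769 .leaf .leaf)) (.node 2 8913410 (.node 2 8652808 (.node 2 8524288 .leaf .leaf) .leaf) .leaf)) .leaf)) (.node 2 8617984 (.node 0 8396932 (.node 0 10617856 (.node 2 10493984 (.node 0 8388888 (.node 2 8783872 .leaf .leaf) .leaf) .leaf) (.node 2 12845120 (.node 2 10487296 .leaf .leaf) .leaf)) (.node 2 8454784 (.node 0 8422464 .leaf .leaf) .leaf)) .leaf)) (.node 2 10620928 (.node 0 9439234 (.node 0 8389764 (.node 0 10617088 .leaf .leaf) .leaf) (.node 2 8455184 (.node 0 8389008 .leaf (.node 2 9445888 .leaf .leaf)) .leaf)) .leaf)) (.node 2 12588032 (.node 0 10485840 (.node 0 15728640 (.node 2 12600320 (.node 0 8421664 .leaf .leaf) .leaf) (.node 2 8405376 (.node 0 9437442 (.node 2 8915008 (.node 0 8391184 (.node 0 8921216 .leaf .leaf) .leaf) .leaf) (.node 2 9502736 (.node 0 9437220 .leaf .leaf) .leaf)) .leaf)) (.node 2 8429824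 (.node 0 10551360 (.node 0 8397376 (.node 0 8914432 .leaf (.node 2 8388929 (.node 0 8912916 .leaf .leaf) .leaf)) (.node 2 8486914 .leaf .leaf)) (.node 2 10616833 (.node 0 8663040 (.node 0 8650786 .leaf .leaf) .leaf) .leaf)) .leaf)) .leaf)) (.node 2 8406144 (.node 0 9175041 (.node 0 12582980 (.node 0 8388882 (.node 2 10502160 (.node 2 12910592 (.node 0 9445632 .leaf .leaf) .leaf) .leaf) .leaf) (.node 2 8421520 (.node 0 8519840 (.node 2 8913664 (.node 0 9175104 (.node 2 12584962 .leaf .leaf) (.node 2 9437313 .leaf .leaf)) .leaf) (.node 2 8421424 .leaf .leaf)) .leaf)) (.node 2 9052160 (.node 0 8389698 (.node 0 8421393 (.node 0 12714112 .leaf (.node 2 11534464 .leaf .leaf)) (.node 2 12591112 (.node 0 8470544 (.node 0 9437728 .leaf .leaf) (.node 2 9568512 (.node 0 8716290 (.node 0 8650817 .leaf .leaf) .leaf) .leaf)) .leaf)) (.node 2 8390848 (.node 0 9043970 (.node 0 13632000 .leaf .leaf) .leaf) .leaf)) .leaf)) .leaf)) .leaf)) .leaf))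 (.node 2 8454464 (.node 0 9584640 (.node 0 10486032 (.node 0 8391936 (.node 0 8520196 (.node 0 8683776 (.node 2 13664256 (.node 0 9437328 (.node 0 8393024 .leaf .leaf) (.node 2 8390792 (.node 0 9109504 .leaf .leaf) .leaf)) .leaf) (.node 2 8519816 (.node 0 10522624 (.node 0 12591360 (.node 2 8390674 (.node 0 10487809 .leaf .leaf) .leaf) .leaf) (.node 2 8388634 (.node 0 9442304 (.node 0 9502976 (.node 0 15204352 .leaf (.node 2 8405122 (.node 0 8394768 .leaf .leaf) .leaf)) .leaf) (.node 2 8421442 (.node 0 8389649 (.node 0 8470592 .leaf (.node 2 8462848 .leaf .leaf)) .leaf) .leaf)) .leaf)) .leaf)) (.node 2 8402944 (.node 0 8407044 (.node 0 8915200 (.node 0 10223616 (.node 0 8684544 .leaf .leaf) (.node 2 8454180 (.node 2 10518529 (.node 0 10504192 .leaf .leaf) .leaf) .leaf)) (.node 2 10747908 (.node 0 8423456 (.node 0 8421448 .leaf .leaf) .leaf) .leaf)) (.node 2 12583428 (.node 0 13107232 (.node 0 8400904 (.node 0 10747936 .leaf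 (.node 2 9601024 (.node 2 8524800 (.node 0 12845060 .leaf .leaf) .leaf) .leaf)) (.node 2 8523784 .leaf .leaf)) (.node 2 8395776 (.node 0 10489872 (.node 0 8536576 .leaf (.node 2 8405128 .leaf .leaf)) .leaf) .leaf)) .leaf)) .leaf)) (.node 2 9438272 (.node 0 9961728 (.node 2 9437314 (.node 0 9445377 (.node 0 8413312 (.node 2 8390696 .leaf .leaf) (.node 2 9701376 (.node 0 9453570 .leaf (.node 2 9503744 .leaf .leaf)) .leaf)) (.node 2 9437704 (.node 0 10502208 (.node 2 8522752 (.node 2 10496000 .leaf .leaf) .leaf) (.node 2 9457664 (.node 0 8400898 .leaf .leaf) .leaf)) .leaf)) .leaf) (.node 2 8396809 (.node 0 11272192 (.node 0 8519810 (.node 2 8488960 (.node 0 13632512 .leaf (.node 2 8519746 .leaf .leaf)) .leaf) .leaf) .leaf) .leaf)) .leaf)) (.node 2 8470536 (.node 0 10552320 (.node 0 8651136 (.node 0 8915456 (.node 0 9175168 (.node 0 8388708 .leaf (.node 2 11534368 (.node 0 8389144 .leaf (.node 2 8585344 .leaf .leaf)) .leaf)) (.node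 2 12845064 .leaf .leaf)) (.node 2 8391296 (.node 0 8424448 (.node 0 13633536 .leaf .leaf) (.node 2 9437252 .leaf .leaf)) .leaf)) (.node 2 9445408 (.node 0 8389384 (.node 0 12583172 (.node 2 8391682 (.node 0 8389252 .leaf .leaf) .leaf) (.node 2 9453569 (.node 2 10502152 (.node 0 8683584 .leaf .leaf) .leaf) .leaf)) (.node 2 8388874 (.node 0 10493968 (.node 2 9441344 (.node 0 9438464 .leaf .leaf) .leaf) .leaf) .leaf)) .leaf)) (.node 2 8650824 (.node 0 8391684 (.node 2 8398864 .leaf .leaf) (.node 2 9961536 (.node 0 8390736 (.node 0 8406048 (.node 0 8389644 (.node 0 8945792 (.node 0 8913168 .leaf (.node 2 13107328 .leaf .leaf)) .leaf) (.node 2 8921152 (.node 0 8781828 .leaf .leaf) .leaf)) (.node 2 8454224 .leaf .leaf)) .leaf) .leaf)) .leaf)) .leaf)) (.node 2 10488064 (.node 0 12599297 (.node 0 8422656 (.node 0 8929282 (.node 0 8716544 (.node 0 13107712 .leaf (.node 2 12615684 (.node 0 8527936 .leaf (.node 2 8520224 (.node 0 9437193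 .leaf (.node 2 8720384 .leaf .leaf)) .leaf)) .leaf)) (.node 2 8519812 (.node 2 8388746 (.node 0 8978496 (.node 0 8389200 (.node 0 14680080 .leaf .leaf) .leaf) (.node 2 8929284 (.node 0 9438224 (.node 2 8397313 .leaf .leaf) (.node 2 8388706 .leaf .leaf)) .leaf)) .leaf) .leaf)) (.node 2 8400900 (.node 0 8390724 .leaf (.node 2 10551328 (.node 0 8390680 .leaf (.node 2 8394240 (.node 0 8454912 (.node 0 8601600 .leaf (.node 2 8405121 .leaf .leaf)) (.node 2 8397058 (.node 0 8916993 .leaf (.node 2 8454280 .leaf .leaf)) .leaf)) .leaf)) .leaf)) .leaf)) (.node 2 8389700 (.node 0 8650848 (.node 0 10551304 (.node 0 9961473 (.node 2 11010056 .leaf .leaf) (.node 2 12584976 (.node 2 9977856 .leaf .leaf) .leaf)) (.node 2 9961600 (.node 0 9568257 (.node 0 8945728 (.node 0 9437218 .leaf .leaf) (.node 2 8929288 (.node 0 8917504 (.node 0 8650944 .leaf .leaf) .leaf) .leaf)) .leaf) .leaf)) (.node 2 8396824 (.node 0 11010080 (.node 2 8912914 (.node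 0 8454404 .leaf .leaf) .leaf) .leaf) .leaf)) .leaf)) (.node 2 8470532 (.node 0 8913216 (.node 2 8552512 (.node 0 8520720 (.node 2 10494464 (.node 0 8519776 (.node 2 12582948 .leaf .leaf) (.node 2 8650884 (.node 0 8520960 (.node 2 10498048 .leaf .leaf) (.node 2 12584000 .leaf .leaf)) .leaf)) .leaf) (.node 2 12583008 (.node 0 8458248 (.node 2 8553472 (.node 0 8585232 (.node 2 8454276 .leaf .leaf) (.node 2 10493956 (.node 0 8458242 .leaf (.node 2 10551552 (.node 2 8390208 .leaf .leaf) .leaf)) .leaf)) .leaf) .leaf) .leaf)) .leaf) (.node 2 8589312 (.node 0 9437202 (.node 0 8929296 (.node 0 8585472 (.node 0 8429572 (.node 0 9699329 .leaf (.node 2 9453576 (.node 2 8390160 .leaf .leaf) .leaf)) .leaf) (.node 2 9472000 (.node 0 8912929 (.node 0 8396840 .leaf .leaf) (.node 2 8421512 (.node 0 10489857 .leaf (.node 2 13123584 .leaf .leaf)) .leaf)) .leaf)) (.node 2 9568264 (.node 2 12845312 (.node 0 8667140 (.node 2 10487812 .leaf .leaf)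 (.node 2 13631492 (.node 0 8391681 .leaf (.node 2 11534400 .leaf .leaf)) .leaf)) .leaf) .leaf)) (.node 2 8394760 (.node 0 12779520 (.node 2 8388689 (.node 0 8406080 (.node 2 8921096 .leaf .leaf) .leaf) .leaf) .leaf) .leaf)) .leaf)) .leaf)) .leaf)) .leaf)) (.node 2 10584064 (.node 0 10502176 (.node 0 8388636 (.node 0 12593152 (.node 0 12845568 (.node 0 8399104 (.node 2 8421394 .leaf .leaf) (.node 2 9043969 (.node 0 8654864 (.node 0 8388898 (.node 2 8914945 (.node 0 14680068 .leaf (.node 2 8392740 .leaf .leaf)) .leaf) .leaf) (.node 2 8912905 (.node 2 8683536 (.node 2 8405057 .leaf .leaf) .leaf) .leaf)) .leaf)) (.node 2 8392722 (.node 0 8405520 (.node 0 8391200 (.node 0 9437256 (.node 0 8650881 (.node 2 8388876 .leaf .leaf) .leaf) (.node 2 9568260 (.node 2 9470016 (.node 0 12599300 .leaf .leaf) .leaf) .leaf)) (.node 2 8392716 (.node 2 8392772 .leaf .leaf) .leaf)) .leaf) .leaf)) (.node 2 8913921 (.node 0 9046016 (.node 0 8389890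 (.node 0 8389188 (.node 0 8521856 (.node 0 8405136 .leaf (.node 2 12681216 (.node 0 9240576 (.node 0 9441536 .leaf (.node 2 10616864 .leaf .leaf)) (.node 2 12849152 .leaf .leaf)) .leaf)) (.node 2 10616960 (.node 0 8405184 (.node 0 8438272 .leaf .leaf) (.node 2 9715712 (.node 0 8388881 .leaf .leaf) .leaf)) .leaf)) (.node 2 12595200 (.node 0 8519809 (.node 2 12617728 (.node 0 8544256 (.node 0 10486288 .leaf .leaf) (.node 2 8388745 .leaf .leaf)) .leaf) (.node 2 9568384 (.node 0 9576448 .leaf (.node 2 8393732 .leaf .leaf)) .leaf)) .leaf)) (.node 2 8389824 (.node 0 8401024 (.node 0 8429584 (.node 2 12585216 (.node 0 8390690 .leaf (.node 2 8389650 (.node 2 12591616 .leaf .leaf) .leaf)) .leaf) (.node 2 9470080 (.node 2 10490880 (.node 2 8397088 .leaf .leaf) .leaf) .leaf)) (.node 2 8527880 (.node 2 8407104 (.node 2 8520736 (.node 2 10494016 .leaf .leaf) .leaf) .leaf) .leaf)) .leaf)) (.node 2 8478720 (.node 2 14680066 (.node 0 12584964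 (.node 0 8560640 (.node 2 8523777 .leaf .leaf) (.node 2 8393730 .leaf .leaf)) (.node 2 8406017 (.node 2 8986624 (.node 0 11538432 (.node 2 9961476 (.node 2 8521984 .leaf .leaf) .leaf) .leaf) .leaf) .leaf)) .leaf) .leaf)) .leaf)) (.node 2 8405010 (.node 0 8462592 (.node 0 8651792 (.node 0 8430080 (.node 0 8667137 (.node 0 12591168 (.node 2 10748416 .leaf .leaf) .leaf) (.node 2 8650912 (.node 0 14680072 (.node 0 8470784 (.node 0 8429569 .leaf .leaf) .leaf) (.node 2 12583952 (.node 0 9568258 .leaf .leaf) .leaf)) .leaf)) (.node 2 8659456 (.node 2 8388772 (.node 0 12599304 (.node 0 8921600 .leaf .leaf) (.node 2 12846080 (.node 0 8912976 (.node 0 8519940 .leaf (.node 2 8389024 .leaf .leaf)) .leaf) .leaf)) .leaf) .leaf)) (.node 2 8389216 (.node 0 9502728 (.node 0 8552704 (.node 0 8398852 (.node 0 8914948 .leaf .leaf) (.node 2 8520705 (.node 2 10559488 .leaf .leaf) .leaf)) (.node 2 8409090 (.node 0 11567104 .leaf (.node 2 8421400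 (.node 0 8388692 (.node 2 8456256 .leaf .leaf) .leaf) .leaf)) .leaf)) (.node 2 8389889 (.node 0 11534337 (.node 0 12583938 (.node 2 12623872 (.node 0 8389668 (.node 0 8406024 (.node 0 10553344 .leaf .leaf) .leaf) .leaf) .leaf) (.node 2 8519872 (.node 0 8390944 (.node 2 13107201 .leaf .leaf) (.node 2 8388754 .leaf .leaf)) .leaf)) (.node 2 8466432 (.node 0 8405060 (.node 0 12616192 (.node 2 10502400 (.node 0 8978464 .leaf (.node 2 10518656 .leaf .leaf)) .leaf) .leaf) (.node 2 8552576 (.node 0 10489858 (.node 2 8523778 .leaf .leaf) (.node 2 8393729 .leaf .leaf)) .leaf)) .leaf)) .leaf)) .leaf)) (.node 2 8716320 (.node 0 10487816 (.node 0 8683524 (.node 0 8390704 (.node 2 8454168 (.node 0 12607488 .leaf .leaf) .leaf) (.node 2 11012096 (.node 0 8456704 (.node 0 12616704 (.node 0 8388900 .leaf .leaf) (.node 2 8519748 .leaf .leaf)) .leaf) .leaf)) (.node 2 13631504 (.node 0 12583232 (.node 0 12592128 (.node 0 8421412 (.node 0 8437768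 (.node 2 12730368 .leaf .leaf) (.node 2 8393088 .leaf .leaf)) (.node 2 8430592 .leaf .leaf)) (.node 2 8536128 (.node 2 8470529 (.node 0 9699840 .leaf (.node 2 8523792 (.node 0 12583940 .leaf .leaf) .leaf)) .leaf) .leaf)) (.node 2 8458496 .leaf .leaf)) .leaf)) (.node 2 8913032 (.node 0 8669184 (.node 0 12591136 (.node 0 8392968 .leaf (.node 2 8978436 (.node 0 12845058 (.node 0 8454688 (.node 0 9439240 .leaf .leaf) (.node 2 9441284 (.node 0 8781840 .leaf .leaf) .leaf)) .leaf) .leaf)) (.node 2 10485780 (.node 2 8552452 (.node 2 9177088 (.node 2 12582922 (.node 2 8389186 .leaf .leaf) .leaf) .leaf) .leaf) .leaf)) (.node 2 13107204 (.node 2 8716416 (.node 0 8913536 .leaf .leaf) .leaf) .leaf)) .leaf)) .leaf)) .leaf)) (.node 2 8913153 (.node 0 8405760 (.node 0 12583170 (.node 2 9699332 (.node 0 9437250 (.node 0 10489888 (.node 0 8912920 (.node 2 8388904 .leaf .leaf) (.node 2 8685568 (.node 0 8454528 (.node 0 11010560 .leaf (.node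 2 8978448 (.node 0 12599298 .leaf .leaf) .leaf)) (.node 2 11010064 (.node 0 8392737 .leaf (.node 2 8389000 (.node 0 9437444 .leaf .leaf) .leaf)) .leaf)) .leaf)) (.node 2 9568768 (.node 0 12722176 (.node 0 9044096 (.node 2 9699360 .leaf .leaf) (.node 2 8651272 (.node 0 8405568 .leaf .leaf) .leaf)) .leaf) .leaf)) (.node 2 8392744 (.node 2 8392724 (.node 0 8520208 (.node 0 8438016 (.node 0 8398849 (.node 0 9568272 .leaf .leaf) .leaf) (.node 2 8390689 (.node 0 8388712 .leaf .leaf) .leaf)) (.node 2 9699330 .leaf .leaf)) .leaf) .leaf)) .leaf) (.node 2 8389132 (.node 0 10486336 (.node 0 14942208 (.node 0 8913984 (.node 2 8413192 (.node 0 13631616 (.node 0 8651072 .leaf .leaf) (.node 2 8389137 (.node 0 8391172 .leaf .leaf) .leaf)) .leaf) (.node 2 8390976 (.node 0 10518784 (.node 0 9441792 (.node 2 8389704 .leaf .leaf) (.node 2 8472576 .leaf .leaf)) (.node 2 11534592 (.node 0 9474048 (.node 0 8388705 (.node 0 8454184 .leaf .leaf) (.node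 2 9961504 (.node 0 8397320 .leaf .leaf) .leaf)) (.node 2 8650776 .leaf .leaf)) .leaf)) .leaf)) (.node 2 9535488 (.node 0 8519938 (.node 0 8917248 .leaf .leaf) (.node 2 8913184 (.node 0 8396936 (.node 0 9437316 (.node 0 8486916 .leaf .leaf) (.node 2 9470208 (.node 0 9441296 (.node 0 8536080 .leaf (.node 2 8491008 .leaf .leaf)) .leaf) .leaf)) (.node 2 8552456 (.node 0 14684160 (.node 2 8652864 .leaf .leaf) (.node 2 9503232 (.node 0 8650788 .leaf .leaf) .leaf)) .leaf)) .leaf)) .leaf)) (.node 2 10616840 (.node 0 9963520 (.node 0 8456208 (.node 2 8962048 (.node 0 8390785 (.node 2 14712832 (.node 0 9437824 .leaf .leaf) .leaf) .leaf) .leaf) (.node 2 8519952 (.node 0 8454658 (.node 0 8470656 (.node 2 8458256 .leaf .leaf) (.node 2 11011072 (.node 0 9453572 .leaf (.node 2 8413216 .leaf .leaf)) .leaf)) (.node 2 12599312 (.node 2 9455616 .leaf .leaf) .leaf)) .leaf)) (.node 2 8949760 (.node 0 12583184 (.node 2 8454401 (.node 0 8392770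 (.node 0 12582978 .leaf (.node 2 8945680 .leaf .leaf)) (.node 2 9043984 .leaf .leaf)) .leaf) (.node 2 10518530 (.node 0 8455169 .leaf (.node 2 10485832 (.node 0 8409344 (.node 0 8454192 (.node 2 8393760 .leaf .leaf) (.node 2 8668160 .leaf .leaf)) .leaf) .leaf)) .leaf)) .leaf)) .leaf)) .leaf)) (.node 2 8390692 (.node 0 8405064 (.node 0 10488832 (.node 0 11014144 (.node 0 12615936 (.node 0 9437712 .leaf (.node 2 13893632 .leaf .leaf)) (.node 2 8389256 (.node 0 8388996 .leaf (.node 2 10485784 (.node 0 8421444 (.node 2 9454592 (.node 2 8921089 .leaf .leaf) .leaf) .leaf) .leaf)) .leaf)) (.node 2 8398880 (.node 0 8388936 (.node 0 8651265 (.node 2 10489920 (.node 2 8405632 (.node 0 8388994 .leaf .leaf) .leaf) .leaf) .leaf) (.node 2 10502272 (.node 0 8525824 (.node 0 8421920 (.node 0 9469960 .leaf .leaf) .leaf) (.node 2 8391688 (.node 0 8397057 (.node 0 8413696 (.node 0 12583042 .leaf .leaf) (.node 2 12583048 .leaf .leaf)) .leaf)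 .leaf)) .leaf)) .leaf)) (.node 2 9699392 (.node 0 8523808 (.node 2 9044480 (.node 0 12714496 (.node 0 8454212 (.node 2 8406020 (.node 2 8921104 .leaf .leaf) .leaf) .leaf) (.node 2 8421636 (.node 0 8913922 (.node 0 8914976 .leaf .leaf) (.node 2 8389056 (.node 0 8401920 (.node 2 8398080 .leaf .leaf) .leaf) .leaf)) .leaf)) .leaf) (.node 2 8392752 (.node 0 9175048 (.node 0 8519824 .leaf .leaf) (.node 2 11141120 (.node 0 8654880 .leaf (.node 2 9830400 (.node 0 8388884 .leaf .leaf) .leaf)) .leaf)) .leaf)) .leaf)) (.node 2 8454664 (.node 0 8912913 (.node 0 8392721 (.node 0 10486018 (.node 0 10493954 (.node 2 8437761 .leaf .leaf) .leaf) (.node 2 8425473 (.node 0 8389185 (.node 0 8429570 .leaf .leaf) .leaf) .leaf)) (.node 2 8520706 (.node 0 8486928 (.node 0 8982528 (.node 2 12648512 (.node 0 9207808 .leaf (.node 2 8454178 .leaf .leaf)) .leaf) (.node 2 10551424 (.node 0 8523780 (.node 2 8455200 .leaf .leaf) (.node 2 10764288 (.node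 2 12648960 (.node 0 10494208 .leaf .leaf) .leaf) .leaf)) .leaf)) (.node 2 14688256 (.node 0 8470530 (.node 0 12587024 .leaf (.node 2 10486786 .leaf .leaf)) .leaf) .leaf)) .leaf)) (.node 2 8409089 (.node 0 8454288 (.node 0 8413186 (.node 0 8724480 (.node 0 9449472 (.node 2 8388682 (.node 2 8459264 .leaf .leaf) .leaf) (.node 2 8456193 (.node 2 8651777 .leaf .leaf) .leaf)) .leaf) (.node 2 12582921 (.node 2 8667152 (.node 0 8409216 .leaf .leaf) .leaf) .leaf)) .leaf) .leaf)) .leaf)) .leaf)) .leaf)) .leaf)) (.node 2 14811136 (.node 0 8658976 (.node 0 10486024 (.node 0 10625024 (.node 0 10486276 (.node 0 8397828 (.node 2 8397840 (.node 2 8398336 (.node 0 8978944 (.node 0 10490112 (.node 2 12713986 (.node 0 8913280 .leaf .leaf) .leaf) (.node 2 8392833 (.node 2 8650764 (.node 0 9437760 .leaf .leaf) .leaf) .leaf)) (.node 2 8397826 (.node 0 14696448 .leaf .leaf) .leaf)) .leaf) .leaf) (.node 2 8929344 (.node 0 8782080 (.node 0 9438240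 .leaf (.node 2 8454210 (.node 0 9453696 (.node 0 8503296 (.node 0 8396929 .leaf (.node 2 8388897 .leaf .leaf)) (.node 2 8683522 .leaf .leaf)) (.node 2 8520193 (.node 0 10486912 (.node 2 8527904 (.node 2 8407168 .leaf .leaf) .leaf) .leaf) .leaf)) .leaf)) (.node 2 10551297 (.node 0 10534912 (.node 0 8650818 (.node 2 8407042 (.node 0 8390272 .leaf (.node 2 8392769 .leaf .leaf)) .leaf) .leaf) (.node 2 8421386 (.node 0 8391424 (.node 0 9183232 (.node 0 9443328 .leaf .leaf) (.node 2 8422416 .leaf .leaf)) (.node 2 9060352 (.node 0 8423552 (.node 0 9440256 .leaf .leaf) (.node 2 8454153 (.node 0 8392896 .leaf .leaf) .leaf)) .leaf)) .leaf)) .leaf)) .leaf)) (.node 2 8454416 (.node 0 8389904 (.node 0 8390928 (.node 2 8781952 (.node 0 8425474 (.node 2 8392192 (.node 2 8398850 (.node 0 9437232 .leaf .leaf) .leaf) .leaf) .leaf) .leaf) (.node 2 8401408 (.node 0 8455680 (.node 0 12615744 .leaf (.node 2 9445378 (.node 0 8423426 (.node 0 8417280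 .leaf .leaf) .leaf) .leaf)) .leaf) .leaf)) (.node 2 8389728 (.node 0 8455176 (.node 0 10551300 (.node 0 10518560 .leaf .leaf) (.node 2 9445504 (.node 0 8654912 (.node 0 8413185 (.node 0 8426496 (.node 2 8397060 .leaf .leaf) .leaf) (.node 2 8585220 .leaf .leaf)) (.node 2 10489860 .leaf .leaf)) .leaf)) (.node 2 8396872 (.node 0 8409104 (.node 0 12583937 (.node 2 8495104 (.node 0 8520194 .leaf (.node 2 8405016 .leaf .leaf)) .leaf) (.node 2 10616896 .leaf .leaf)) (.node 2 12652544 (.node 0 8749056 (.node 0 8405040 .leaf .leaf) (.node 2 8520832 (.node 0 9175044 (.node 0 8978433 .leaf .leaf) .leaf) .leaf)) .leaf)) .leaf)) .leaf)) .leaf)) (.node 2 11042816 (.node 0 13107456 (.node 0 12649472 (.node 0 8405505 (.node 0 8653312 (.node 0 8405506 (.node 2 11535360 (.node 0 12582946 (.node 2 8389250 .leaf .leaf) (.node 2 8396833 .leaf .leaf)) .leaf) .leaf) (.node 2 8391040 (.node 0 8405009 (.node 0 9439744 (.node 2 10486304 .leaf .leaf)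 (.node 2 12845088 .leaf .leaf)) .leaf) .leaf)) .leaf) (.node 2 8519752 (.node 0 8651392 (.node 0 8716304 (.node 0 8519745 (.node 2 8929281 (.node 0 14680128 (.node 0 8405250 .leaf .leaf) (.node 2 10485769 .leaf .leaf)) .leaf) .leaf) (.node 2 8945665 (.node 0 9502722 (.node 0 8421634 .leaf (.node 2 8520200 (.node 0 8914960 .leaf .leaf) .leaf)) .leaf) .leaf)) (.node 2 8519698 (.node 0 10487872 (.node 0 8399360 (.node 0 8519728 .leaf (.node 2 8425488 (.node 2 12585984 .leaf .leaf) .leaf)) (.node 2 9044992 (.node 0 8388930 (.node 2 8455296 .leaf .leaf) (.node 2 10510336 (.node 0 10486273 (.node 0 8520000 .leaf .leaf) (.node 2 8521736 .leaf .leaf)) .leaf)) .leaf)) .leaf) .leaf)) .leaf)) (.node 2 8460288 (.node 0 8405252 (.node 0 10752000 (.node 0 8393792 (.node 0 9437952 .leaf (.node 2 8397064 (.node 2 12648456 (.node 0 8388832 .leaf .leaf) .leaf) .leaf)) (.node 2 8423488 (.node 0 10486144 .leaf (.node 2 8421505 .leaf .leaf)) .leaf))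 (.node 2 9633792 (.node 0 8410112 (.node 0 12845057 (.node 0 8585728 (.node 2 13108224 (.node 2 8445952 .leaf .leaf) .leaf) .leaf) (.node 2 8921344 (.node 0 8405536 .leaf (.node 2 9175296 (.node 2 8914176 .leaf .leaf) .leaf)) .leaf)) (.node 2 8421456 (.node 0 8919040 (.node 0 9699456 .leaf (.node 2 8519697 .leaf .leaf)) (.node 2 8916994 (.node 0 8391712 (.node 2 8398912 .leaf .leaf) (.node 2 9502784 (.node 0 8396880 (.node 2 10780672 .leaf .leaf) .leaf) .leaf)) .leaf)) .leaf)) .leaf)) (.node 2 10489864 (.node 0 9439233 (.node 2 9700352 (.node 0 8691712 (.node 0 8454336 (.node 2 12583425 .leaf .leaf) .leaf) (.node 2 8658945 (.node 0 9175042 (.node 2 8390666 .leaf .leaf) .leaf) .leaf)) .leaf) (.node 2 8405512 (.node 0 12583296 (.node 0 8463360 (.node 0 8650896 (.node 2 8394880 (.node 0 8585218 .leaf .leaf) .leaf) .leaf) .leaf) (.node 2 8456448 (.node 0 8392738 (.node 0 9043976 (.node 0 8389952 .leaf .leaf) (.node 2 9519104 .leaf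 .leaf)) .leaf) .leaf)) .leaf)) .leaf)) .leaf)) .leaf)) (.node 2 12714000 (.node 0 8396848 (.node 0 8651016 (.node 0 8527888 (.node 0 9486336 (.node 0 12664832 (.node 2 8407552 (.node 0 8458241 (.node 2 12599360 .leaf .leaf) .leaf) .leaf) (.node 2 9437472 .leaf .leaf)) (.node 2 8683528 (.node 0 12587009 (.node 0 13647872 (.node 2 8781826 (.node 2 8388993 (.node 2 9961488 .leaf .leaf) .leaf) .leaf) (.node 2 8393217 (.node 0 12603392 (.node 0 8397314 .leaf (.node 2 12582936 .leaf .leaf)) (.node 2 8915072 (.node 0 10485796 .leaf .leaf) .leaf)) .leaf)) (.node 2 8389666 (.node 0 8520712 (.node 0 8397120 (.node 0 10518592 .leaf (.node 2 12648576 (.node 0 8519700 .leaf .leaf) .leaf)) .leaf) .leaf) .leaf)) .leaf)) (.node 2 8522240 (.node 0 8458244 (.node 0 8388932 (.node 0 9570304 (.node 0 8945696 (.node 0 8429576 .leaf .leaf) (.node 2 8389154 .leaf .leaf)) (.node 2 8650785 (.node 0 10485800 (.node 2 8585217 (.node 0 12648704 .leaf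 .leaf) .leaf) .leaf) .leaf)) (.node 2 8651266 (.node 0 8945668 (.node 0 8523840 .leaf (.node 2 9438216 (.node 0 12582960 .leaf .leaf) .leaf)) (.node 2 8407048 (.node 2 8454402 .leaf .leaf) .leaf)) .leaf)) (.node 2 8389153 (.node 0 9437224 (.node 0 8389130 (.node 2 8421952 (.node 0 8396834 .leaf .leaf) .leaf) (.node 2 8585248 (.node 0 8390665 (.node 2 8913154 .leaf .leaf) .leaf) .leaf)) .leaf) .leaf)) .leaf)) (.node 2 9441312 (.node 0 8913416 (.node 0 8486944 (.node 0 8423432 (.node 0 8650772 (.node 0 8392836 (.node 2 8407041 .leaf .leaf) .leaf) .leaf) .leaf) (.node 2 9441281 (.node 0 8421441 .leaf .leaf) .leaf)) (.node 2 8389642 (.node 0 9703424 (.node 0 12585088 (.node 0 8651520 (.node 0 8389665 (.node 0 8389672 .leaf .leaf) .leaf) (.node 2 14745600 (.node 0 12713988 (.node 2 9437249 .leaf .leaf) (.node 2 8454154 .leaf .leaf)) .leaf)) (.node 2 14680192 (.node 0 8521732 (.node 0 12583056 (.node 2 8388660 .leaf .leaf) .leaf)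 .leaf) .leaf)) (.node 2 12591232 (.node 0 8651328 (.node 0 12845072 (.node 0 8405124 (.node 0 8487424 (.node 2 8521792 .leaf .leaf) (.node 2 9506816 .leaf .leaf)) .leaf) (.node 2 12601344 (.node 2 9454080 (.node 2 8814592 .leaf .leaf) .leaf) .leaf)) (.node 2 9437568 (.node 2 10486788 (.node 0 9445380 .leaf .leaf) .leaf) .leaf)) .leaf)) .leaf)) .leaf)) (.node 2 8651784 (.node 0 8456196 (.node 0 8913156 (.node 0 8389408 (.node 0 9437320 (.node 0 8389680 .leaf (.node 2 8454240 (.node 0 8456200 (.node 0 8392864 .leaf .leaf) .leaf) .leaf)) (.node 2 10813440 (.node 0 8437792 (.node 0 8421388 (.node 0 8914048 .leaf .leaf) (.node 2 8487936 (.node 0 13631552 (.node 2 8390788 .leaf .leaf) .leaf) .leaf)) .leaf) .leaf)) (.node 2 14680576 (.node 0 8422016 (.node 0 8391744 (.node 0 8667168 .leaf (.node 2 8398856 .leaf .leaf)) (.node 2 9439296 (.node 2 8421508 (.node 0 8454660 .leaf .leaf) .leaf) .leaf)) .leaf) .leaf)) (.node 2 12583072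 (.node 0 12587016 (.node 0 8397316 (.node 0 8683521 (.node 0 8407056 .leaf (.node 2 8519944 (.node 0 8716800 .leaf .leaf) .leaf)) (.node 2 8427520 (.node 2 12584448 .leaf .leaf) .leaf)) (.node 2 9569280 (.node 0 8411136 (.node 0 8407296 (.node 0 8521216 (.node 0 10485920 .leaf .leaf) .leaf) (.node 2 8454274 (.node 2 8389129 .leaf .leaf) .leaf)) (.node 2 10493953 (.node 0 9568320 .leaf .leaf) .leaf)) .leaf)) (.node 2 8409096 (.node 2 8456194 (.node 0 10747905 (.node 0 8439808 (.node 0 8650770 (.node 0 8390721 .leaf .leaf) .leaf) .leaf) (.node 2 8388784 .leaf .leaf)) .leaf) .leaf)) .leaf)) (.node 2 8659072 (.node 0 8537088 (.node 0 13369344 (.node 0 9439488 (.node 0 8520708 (.node 0 8395264 .leaf .leaf) (.node 2 13107264 (.node 0 12584064 .leaf .leaf) .leaf)) .leaf) (.node 2 11018240 (.node 0 13139968 .leaf (.node 2 12615681 (.node 0 8389892 (.node 0 8945666 .leaf (.node 2 8400912 .leaf .leaf)) .leaf) .leaf)) .leaf)) (.node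 2 12582992 (.node 0 8947712 (.node 0 8540160 (.node 2 8520256 .leaf .leaf) (.node 2 8458272 (.node 0 8914952 (.node 2 10486848 (.node 0 8552449 .leaf .leaf) .leaf) .leaf) .leaf)) (.node 2 10748928 (.node 0 8917056 (.node 0 10502145 (.node 0 8978560 .leaf .leaf) (.node 2 8389280 (.node 0 13631496 .leaf .leaf) .leaf)) .leaf) .leaf)) .leaf)) .leaf)) .leaf)) .leaf)) (.node 2 8917120 (.node 0 8421648 (.node 0 12714016 (.node 0 8392713 (.node 0 10748160 (.node 0 8527874 (.node 2 9961474 (.node 2 8422432 (.node 0 8422408 .leaf (.node 2 8396868 .leaf .leaf)) .leaf) .leaf) (.node 2 8388633 (.node 0 11010304 (.node 0 10616834 .leaf .leaf) (.node 2 11534340 (.node 0 9306112 (.node 0 8994816 (.node 2 8423936 .leaf .leaf) (.node 2 9568288 (.node 2 9469968 .leaf .leaf) .leaf)) (.node 2 8654856 (.node 0 8651040 (.node 0 10485896 (.node 2 8454209 .leaf .leaf) .leaf) (.node 2 14680065 .leaf .leaf)) .leaf)) .leaf)) .leaf)) (.node 2 8914946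 (.node 0 8441856 (.node 0 11665408 (.node 0 10486020 (.node 0 12582977 .leaf (.node 2 8650761 (.node 2 8437776 (.node 0 8388690 .leaf .leaf) .leaf) .leaf)) (.node 2 8391170 (.node 2 8667144 (.node 0 8457216 .leaf .leaf) .leaf) .leaf)) (.node 2 9437217 (.node 0 8389160 (.node 0 9437194 (.node 0 8423680 .leaf .leaf) .leaf) .leaf) .leaf)) (.node 2 8650762 (.node 0 8396944 (.node 0 8393280 (.node 0 8390400 (.node 0 10485793 .leaf .leaf) (.node 2 8389697 (.node 0 8667200 .leaf .leaf) .leaf)) .leaf) (.node 2 10486017 .leaf .leaf)) .leaf)) .leaf)) (.node 2 9437201 (.node 0 9439236 (.node 0 11534338 (.node 0 9191424 (.node 2 8393984 (.node 0 8437762 (.node 0 12058624 .leaf .leaf) (.node 2 8401152 .leaf .leaf)) .leaf) (.node 2 8438784 (.node 0 8392992 (.node 2 8388756 .leaf .leaf) (.node 2 8921092 (.node 2 9437196 .leaf .leaf) .leaf)) .leaf)) (.node 2 8536320 (.node 0 8431616 (.node 2 12583680 (.node 0 8421904 (.node 0 8405249 .leaf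 .leaf) .leaf) .leaf) (.node 2 8421536 (.node 0 12615688 .leaf .leaf) .leaf)) .leaf)) (.node 2 8425728 (.node 0 8406018 (.node 0 8389312 (.node 0 10747920 (.node 0 13697024 .leaf (.node 2 13172736 .leaf .leaf)) .leaf) (.node 2 13115392 (.node 0 11536384 (.node 0 8464384 (.node 2 8716289 .leaf .leaf) (.node 2 10486274 (.node 0 8388960 .leaf (.node 2 8524032 .leaf .leaf)) .leaf)) .leaf) .leaf)) (.node 2 8388816 (.node 0 11534352 (.node 2 10487810 .leaf .leaf) (.node 2 13631489 (.node 0 10682368 (.node 2 8798208 (.node 0 8389392 .leaf (.node 2 8390676 .leaf .leaf)) .leaf) .leaf) .leaf)) .leaf)) .leaf)) .leaf)) (.node 2 8912906 (.node 0 10485904 (.node 0 11599872 (.node 0 8462400 (.node 0 12582945 (.node 2 8913924 (.node 0 9437204 .leaf .leaf) .leaf) (.node 2 8405012 (.node 0 10489984 (.node 2 12587010 .leaf .leaf) (.node 2 8389761 (.node 0 8389138 .leaf .leaf) .leaf)) .leaf)) .leaf) (.node 2 8421396 (.node 0 9437441 (.node 0 8413440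 (.node 0 13631490 .leaf (.node 2 8667392 (.node 0 8671232 .leaf (.node 2 8406272 (.node 2 8925184 .leaf .leaf) .leaf)) .leaf)) (.node 2 8422144 (.node 0 8393232 (.node 0 8396992 .leaf (.node 2 9699344 .leaf .leaf)) .leaf) .leaf)) (.node 2 8552480 (.node 0 8421385 (.node 0 9510912 (.node 0 8552450 .leaf (.node 2 8718336 (.node 0 8781825 .leaf .leaf) .leaf)) (.node 2 11534848 (.node 2 10488320 .leaf .leaf) .leaf)) (.node 2 12582952 (.node 0 8392714 .leaf (.node 2 12583426 (.node 0 8651778 (.node 0 12599552 .leaf .leaf) .leaf) .leaf)) .leaf)) .leaf)) .leaf)) (.node 2 9043972 (.node 0 11075584 (.node 0 8454720 (.node 0 8536192 (.node 0 9176064 (.node 0 8684032 .leaf (.node 2 8675328 .leaf .leaf)) (.node 2 8389440 (.node 0 8538112 .leaf .leaf) .leaf)) .leaf) (.node 2 10878976 (.node 0 8389380 (.node 0 8587264 .leaf .leaf) .leaf) .leaf)) (.node 2 12587520 (.node 0 12599328 (.node 2 8455172 (.node 2 9445392 (.node 0 12587072 .leaf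 (.node 2 8913040 .leaf .leaf)) .leaf) .leaf) (.node 2 10502148 (.node 0 9446400 (.node 0 10027008 (.node 2 8392834 .leaf .leaf) (.node 2 8397825 (.node 0 8425476 (.node 0 8389762 .leaf .leaf) .leaf) .leaf)) (.node 2 8405058 .leaf .leaf)) .leaf)) .leaf)) .leaf)) .leaf)) (.node 2 8390673 (.node 0 8471552 (.node 0 10551298 (.node 0 12587012 (.node 0 13631520 (.node 0 8393224 (.node 2 8980480 (.node 0 8454672 (.node 0 8389156 .leaf .leaf) (.node 2 8946176 .leaf .leaf)) .leaf) .leaf) (.node 2 13107208 (.node 0 8913412 (.node 0 8389652 (.node 2 8397328 .leaf .leaf) (.node 2 8912992 (.node 0 8462344 .leaf (.node 2 8556544 .leaf .leaf)) .leaf)) .leaf) .leaf)) (.node 2 8390800 (.node 0 8393472 .leaf (.node 2 8654976 (.node 2 8454156 (.node 0 12853248 (.node 0 9447424 (.node 2 9764864 .leaf .leaf) (.node 2 10486280 (.node 2 8651780 .leaf .leaf) .leaf)) (.node 2 12584992 (.node 0 8392776 .leaf .leaf) .leaf)) .leaf) .leaf)) .leaf)) (.node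 2 9969664 (.node 0 8405152 (.node 0 12582924 (.node 2 8732672 (.node 0 8455170 (.node 0 8921120 .leaf (.node 2 13639680 .leaf .leaf)) (.node 2 8388808 (.node 0 9044032 (.node 0 11026432 .leaf .leaf) (.node 2 10485778 .leaf .leaf)) .leaf)) .leaf) .leaf) (.node 2 12615712 (.node 0 8425480 (.node 2 8392784 .leaf .leaf) (.node 2 8979456 (.node 0 9044000 (.node 2 8391808 (.node 2 8529920 .leaf .leaf) .leaf) (.node 2 9461760 (.node 0 10485777 (.node 0 8400897 (.node 0 10747906 .leaf (.node 2 10485808 .leaf .leaf)) .leaf) (.node 2 8389264 (.node 0 10551312 (.node 0 8390016 .leaf .leaf) .leaf) .leaf)) .leaf)) .leaf)) .leaf)) .leaf)) (.node 2 8388696 (.node 0 8389249 (.node 0 8933376 (.node 0 8393218 (.node 0 10518532 (.node 0 10487840 .leaf (.node 2 8552960 .leaf .leaf)) .leaf) (.node 2 8655872 (.node 2 8659200 (.node 0 8486976 (.node 0 9179136 .leaf (.node 2 8406032 .leaf .leaf)) (.node 2 8929536 (.node 0 8423425 (.node 0 8913409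 .leaf .leaf) (.node 2 8652032 .leaf .leaf)) .leaf)) .leaf) .leaf)) (.node 2 8406528 (.node 0 8413200 (.node 0 8593408 (.node 0 12648480 .leaf (.node 2 13107202 (.node 0 8437824 (.node 0 12599808 .leaf .leaf) .leaf) .leaf)) (.node 2 8388753 .leaf .leaf)) (.node 2 8921090 (.node 0 8716292 (.node 2 8389378 (.node 2 8519968 .leaf .leaf) .leaf) (.node 2 8421409 (.node 0 8421416 .leaf (.node 2 8946688 (.node 2 8413188 .leaf .leaf) .leaf)) .leaf)) .leaf)) .leaf)) (.node 2 8405280 (.node 0 8388748 (.node 0 8660992 (.node 0 8487040 (.node 2 8390722 (.node 2 8667138 (.node 0 9994240 .leaf .leaf) .leaf) .leaf) (.node 2 9502721 (.node 2 8653824 (.node 0 8917008 (.node 0 9437376 (.node 0 8437764 .leaf .leaf) (.node 2 8388776 .leaf .leaf)) .leaf) .leaf) .leaf)) (.node 2 10485770 (.node 0 10494080 (.node 0 8953856 (.node 0 13107216 (.node 0 8388657 (.node 0 8650792 .leaf .leaf) .leaf) (.node 2 9437208 (.node 0 8454273 .leaf (.node 2 8913936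 .leaf .leaf)) .leaf)) .leaf) (.node 2 9439248 (.node 0 12587264 (.node 0 8519937 .leaf (.node 2 8454657 (.node 0 8651268 .leaf .leaf) .leaf)) (.node 2 10485794 (.node 0 8519704 (.node 2 9502724 .leaf .leaf) (.node 2 10485772 .leaf .leaf)) .leaf)) .leaf)) .leaf)) .leaf) .leaf)) .leaf)) .leaf)) .leaf)) .leaf))

/-- Its root. -/
def rootB : ℕ := 12584961

/-- Spanning tree of the suborbit of length 90, from `8913026`. -/
def treeC : Tree := (.node 0 9437697 (.node 0 8652804 (.node 0 9437698 (.node 0 12591105 (.node 0 8422404 .leaf (.node 2 8912964 (.node 0 11010049 (.node 0 8654849 .leaf (.node 2 8394756 .leaf .leaf)) .leaf) .leaf)) (.node 2 8454164 (.node 0 12591106 (.node 0 8913025 (.node 0 10485828 (.node 0 8392962 .leaf .leaf) (.node 2 8390146 .leaf .leaf)) .leaf) (.node 2 8651010 (.node 2 9469956 (.node 0 12648452 .leaf .leaf) .leaf) .leaf)) .leaf)) (.node 2 11010052 (.node 0 9438212 (.node 0 8394753 (.node 0 8421889 (.node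 2 12582929 (.node 2 8392961 .leaf .leaf) .leaf) .leaf) (.node 2 8396817 (.node 0 11010050 (.node 0 10485890 .leaf (.node 2 8422401 .leaf .leaf)) (.node 2 8536066 .leaf .leaf)) .leaf)) (.node 2 8912962 (.node 0 8651012 (.node 2 8388649 .leaf .leaf) .leaf) .leaf)) .leaf)) (.node 2 12582932 (.node 0 10485892 (.node 0 8388801 .leaf (.node 2 8421892 (.node 0 8651009 (.node 2 10485826 .leaf .leaf) (.node 2 12648449 (.node 0 8388802 .leaf (.node 2 8388650 (.node 2 8421890 (.node 2 8454161 .leaf .leaf) .leaf) .leaf)) .leaf)) .leaf)) (.node 2 8519716 (.node 0 8405001 (.node 0 8536065 .leaf (.node 2 8390914 .leaf .leaf)) (.node 2 9469953 (.node 0 8912961 (.node 0 9469954 .leaf .leaf) (.node 2 12582930 (.node 0 9438210 (.node 0 8388804 .leaf .leaf) .leaf) .leaf)) .leaf)) .leaf)) .leaf)) (.node 2 8913028 (.node 0 8652802 (.node 0 8652801 (.node 0 12591108 (.node 0 8454162 (.node 0 10485825 .leaf (.node 2 8519689 (.node 2 9437700 .leaf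 .leaf) .leaf)) .leaf) (.node 2 9438209 (.node 2 8462337 .leaf .leaf) .leaf)) (.node 2 8405002 (.node 0 8405025 (.node 0 8388652 (.node 2 8392964 (.node 0 8422402 .leaf .leaf) .leaf) .leaf) (.node 2 8536068 (.node 0 8519714 .leaf .leaf) .leaf)) .leaf)) (.node 2 8390913 (.node 0 8394754 (.node 0 12648450 (.node 2 8654852 .leaf .leaf) (.node 2 8390148 (.node 0 8396820 .leaf (.node 2 8396818 (.node 0 8462340 .leaf (.node 2 8390916 .leaf .leaf)) .leaf)) .leaf)) (.node 2 8405028 (.node 0 8405004 (.node 0 8519713 (.node 2 8654850 .leaf .leaf) (.node 2 8390145 (.node 0 10485889 .leaf (.node 2 8462338 .leaf .leaf)) .leaf)) (.node 2 8405026 (.node 0 8519692 (.node 2 8519690 .leaf .leaf) .leaf) .leaf)) .leaf)) .leaf)) .leaf))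

/-- Its root. -/
def rootC : ℕ := 8913026

end CfsgLib.Sporadic.SextetData
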