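import Cfsg.Agent.Lib.Sporadic.SpiderGroup
import Cfsg.Prelude.Def_Spor_M

/-!
# The spider relation alone gives the relations of type E7 in Y555
-/

set_option autoImplicit false
set_option maxRecDepth 100000

open Cfsg.Spor

namespace CfsgLib.Sporadic.Spider

open CosetCert

open Bimonster in
/-- The spider relation of Y555. -/
def extraM : List (FreeGroup Bimonster.Gen) := [(a * b1 * c1 * a * b2 * c2 * a * b3 * c3) ^ 10]

/-- Y555 with the spider relation. -/
abbrev MG : Type := CoxPresented Bimonster.Gen Bimonster.edges extraM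

/-- The nodes b, c, d, e, f of an arm. -/
def arm : Fin 3 → List Bimonster.Gen
  | 0 => [.b1, .c1, .d1, .e1, .f1]
  | 1 => [.b2, .c2, .d2, .e2, .f2]
  | 2 => [.b3, .c3, .d3, .e3, .f3]

/-- Node number `n` of arm `s`. -/
def node (s : Fin 3) (n : ℕ) : Bimonster.Gen := (arm s).getD n .a

theorem mem_nodesM (x : Bimonster.Gen) : x ∈ coxNodes Bimonster.edges := by cases x <;> decide

theorem word_rotate {α : Type} {H : Type*} [Group H] (φ : FreeGroup α →* H) (L M : List α) (n : ℕ)
    (h : φ (word (L ++ M) ^ n) = 1) : φ (word (M ++ L) ^ n) = 1 := by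
  have e : φ (word (M ++ L)) = (φ (word L))⁻¹ * φ (word (L ++ M)) * φ (word L) := by
    simp only [word, List.map_append, List.prod_append, map_mul]
    group
  rw [map_pow] at h ⊢
  rw [e]
  have h2 := conj_pow (i := n) (a := (φ (word L))⁻¹) (b := φ (word (L ++ M)))
  rw [inv_inv] at h2
  rw [h2, h]
  group

/-- The letters of the spider with the arms in an order. -/
def spiderM (s t u : Fin 3) : List Bimonster.Gen :=
  [.a, node s 0, node s 1, .a, node t 0, node t 1, .a, node u 0, node u 1]

/-- The map of Y322 to Y555 turning the spider into the given one. -/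
def inM : Sg → Bimonster.Gen
  | .b => .c1 | .c => .b1 | .d => .a | .e => .b2 | .f => .c2 | .g => .d2 | .h => .b3 | .i => .c3

theorem spider_all (s t u : Fin 3) (hst : s ≠ t) (hsu : s ≠ u) (htu : t ≠ u) :
    mkW Bimonster.edges extraM (spiderM s t u) 10 = 1 := by
  have h0 : mkW Bimonster.edges extraM (spiderM 0 1 2) 10 = 1 := by
    refine PresentedGroup.one_of_mem (Or.inr ?_)
    simp [spiderM, node, arm, extraM, word, mul_assoc]
  have h1 : mkW Bimonster.edges extraM (spiderM 1 0 2) 10 = 1 := by
    obtain ⟨φ, hφ⟩ := exists_relabel (eA := edgesS) (xA := extraS) inM (MonoidHom.id MG)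
      (fun x => mem_nodesM _) (by decide +kernel) (by
        intro r hr
        simp only [extraS, List.mem_cons, List.not_mem_nil, or_false] at hr
        subst hr
        simp only [map_pow, map_mul, FreeGroup.map.of, inM, MonoidHom.id_apply]
        simp only [mkW, spiderM, node, arm, word, List.getD_cons_zero, List.getD_cons_succ, List.map_cons,
          List.map_nil, List.prod_cons, List.prod_nil, mul_one, ← mul_assoc, map_pow, map_mul] at h0
        exact h0)
    have := hφ (word lT ^ 10)
    rw [show PresentedGroup.mk _ (word lT ^ 10) = (1 : SG) from tau_eq_one, map_one, map_word] at this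
    exact this.symm
  have rot : ∀ s t u, mkW Bimonster.edges extraM (spiderM s t u) 10 = 1 →
      mkW Bimonster.edges extraM (spiderM t u s) 10 = 1 := fun s t u h =>
    word_rotate (PresentedGroup.mk (coxRelators Bimonster.edges ∪ {r | r ∈ extraM}))
      [.a, node s 0, node s 1] [.a, node t 0, node t 1, .a, node u 0, node u 1] 10 h
  fin_cases s <;> fin_cases t <;> fin_cases u <;>
    first
      | exact absurd rfl hst
      | exact absurd rfl hsu
      | exact absurd rfl htu
      | exact h0
      | exact h1
      | exact rot _ _ _ h0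
      | exact rot _ _ _ h1
      | exact rot _ _ _ (rot _ _ _ h0)
      | exact rot _ _ _ (rot _ _ _ h1)

/-- Y532 in Y555: the long arm is `s`, then `t`, then `u`. -/
def inArms (s t u : Fin 3) : Qg → Bimonster.Gen
  | .a => node t 2 | .b => node t 1 | .c => node t 0 | .d => .a
  | .e => node s 0 | .f => node s 1 | .g => node s 2 | .j => node s 3 | .k => node s 4
  | .h => node u 0 | .i => node u 1

theorem label_arms : ∀ s t u : Fin 3, s ≠ t → s ≠ u → t ≠ u → ∀ x ∈ gensQ, ∀ y ∈ gensQ,
    coxLabel edgesQ x y = coxLabel Bimonster.edges (inArms s t u x) (inArms s t u y) := by decide +kernel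

theorem end_node (s t u : Fin 3) (hst : s ≠ t) (hsu : s ≠ u) (htu : t ≠ u) :
    PresentedGroup.mk (coxRelators Bimonster.edges ∪ {r | r ∈ extraM})
      (FreeGroup.of (node s 4) * (word [.a, node s 0, node t 0, node u 0, node s 1, node t 1, node s 2] ^ 9)⁻¹) =
      1 := by
  obtain ⟨φ, hφ⟩ := exists_relabel (eA := edgesQ) (xA := extraQ) (inArms s t u) (MonoidHom.id MG)
    (fun x => mem_nodesM _) (fun x _ y _ => label_arms s t u hst hsu htu x (mem_gensQ x) y (mem_gensQ y)) (by
      intro r hr
      simp only [extraQ, List.mem_cons, List.not_mem_nil, or_false] at hr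
      subst hr
      have h := spider_all t s u hst.symm htu hsu
      simp only [mkW, spiderM, word, List.map_cons, List.map_nil, List.prod_cons, List.prod_nil, mul_one,
        ← mul_assoc, map_pow, map_mul] at h
      simp only [spiderQ, map_pow, map_mul, FreeGroup.map.of, inArms, MonoidHom.id_apply]
      exact h)
  have h := congrArg φ k_mul_w
  rw [map_one, w, mkW, show (PresentedGroup.of Qg.k : QG) = PresentedGroup.mk _ (FreeGroup.of Qg.k) from rfl,
    ← map_inv, ← map_mul, hφ, map_mul, map_inv, map_word, FreeGroup.map.of] at h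
  exact h

theorem extra_mem : ∀ r ∈ Bimonster.extra, r ∈ extraM ∨ ∃ s t u : Fin 3, s ≠ t ∧ s ≠ u ∧ t ≠ u ∧
    r = FreeGroup.of (node s 4) *
      (word [.a, node s 0, node t 0, node u 0, node s 1, node t 1, node s 2] ^ 9)⁻¹ := by
  intro r hr
  simp only [Bimonster.extra, List.mem_cons, List.not_mem_nil, or_false] at hr
  rcases hr with rfl | rfl | rfl | rfl | rfl | rfl | rfl
  · exact Or.inl List.mem_cons_self
  · exact Or.inr ⟨0, 1, 2, by decide, by decide, by decide, by simp [node, arm, word, mul_assoc]⟩
  · exact Or.inr ⟨0, 2, 1, by decide, by decide, by decide, by simp [node, arm, word, mul_assoc]⟩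
  · exact Or.inr ⟨1, 0, 2, by decide, by decide, by decide, by simp [node, arm, word, mul_assoc]⟩
  · exact Or.inr ⟨1, 2, 0, by decide, by decide, by decide, by simp [node, arm, word, mul_assoc]⟩
  · exact Or.inr ⟨2, 0, 1, by decide, by decide, by decide, by simp [node, arm, word, mul_assoc]⟩
  · exact Or.inr ⟨2, 1, 0, by decide, by decide, by decide, by simp [node, arm, word, mul_assoc]⟩

/-- Every further relator of the presented Bimonster follows from the spider relation. -/
theorem extra_eq_one : ∀ r ∈ Bimonster.extra,
    PresentedGroup.mk (coxRelators Bimonster.edges ∪ {r | r ∈ extraM}) r = 1 := by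
  intro r hr
  rcases extra_mem r hr with h | ⟨s, t, u, hst, hsu, htu, rfl⟩
  · exact PresentedGroup.one_of_mem (Or.inr h)
  · exact end_node s t u hst hsu htu

end CfsgLib.Sporadic.Spider
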