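import Cfsg.Agent.Lib.Sporadic.SpiderSub
import Cfsg.Agent.Lib.Sporadic.Fi23Presented
import Cfsg.Agent.Lib.Sporadic.SpiderData.SpiderTop

/-!
# The Coxeter group Y532 with the spider relation: the end node is the ninth power of a Coxeter element

With the element of an E7 subdiagram divided out, the group is an image of Fi23; the end node goes to an
element centralising the subgroup of index 31671, so to its central involution.
-/

set_option autoImplicit false
set_option maxRecDepth 100000

open Cfsg.Spor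

namespace CfsgLib.Sporadic.Spider

open CosetCert

variable {α β : Type} [DecidableEq α] [DecidableEq β]

/-- The group of a diagram and further relators. -/
abbrev mkW (edges : List (α × ℕ × α)) (extra : List (FreeGroup α)) (L : List α) (n : ℕ) :
    CoxPresented α edges extra :=
  PresentedGroup.mk (coxRelators edges ∪ {r | r ∈ extra}) (word L ^ n)

theorem map_word (f : α → β) (L : List α) (n : ℕ) :
    FreeGroup.map f (word L ^ n) = word (L.map f) ^ n := by
  rw [map_pow]
  congr 1
  induction L with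
  | nil => simp [word]
  | cons x t ih =>
    simp only [word, List.map_cons, List.prod_cons, map_mul, FreeGroup.map.of] at ih ⊢
    rw [ih]

theorem word_eq_prod {G : Type*} [Group G] (φ : FreeGroup α →* G) (L : List α) :
    φ (word L) = (L.map fun x => φ (FreeGroup.of x)).prod := by
  rw [word, map_list_prod, List.map_map]
  rfl

theorem exists_relabel (f : α → β) {H : Type*} [Group H] {eA : List (α × ℕ × α)}
    {xA : List (FreeGroup α)} {eB : List (β × ℕ × β)} {xB : List (FreeGroup β)}
    (π : CoxPresented β eB xB →* H) (hnode : ∀ x, f x ∈ coxNodes eB)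
    (hl : ∀ x ∈ coxNodes eA, ∀ y ∈ coxNodes eA, coxLabel eA x y = coxLabel eB (f x) (f y))
    (hx : ∀ r ∈ xA,
      π (PresentedGroup.mk (coxRelators eB ∪ {r | r ∈ xB}) (FreeGroup.map f r)) = 1) :
    ∃ φ : CoxPresented α eA xA →* H, ∀ r, φ (PresentedGroup.mk (coxRelators eA ∪ {r | r ∈ xA}) r) =
      π (PresentedGroup.mk (coxRelators eB ∪ {r | r ∈ xB}) (FreeGroup.map f r)) := by
  let g : α → H := fun x => π (PresentedGroup.of (f x))
  have key : FreeGroup.lift g =
      (π.comp (PresentedGroup.mk (coxRelators eB ∪ {r | r ∈ xB}))).comp (FreeGroup.map f) :=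
    FreeGroup.ext_hom _ _ fun x => by simp [g, PresentedGroup.of]
  have hrel : ∀ r ∈ coxRelators eA ∪ {r | r ∈ xA}, FreeGroup.lift g r = 1 := by
    intro r hr
    rw [key, MonoidHom.comp_apply, MonoidHom.comp_apply]
    rcases hr with ⟨x, hx', y, hy', rfl⟩ | hr
    · rw [map_pow (FreeGroup.map f), map_mul, FreeGroup.map.of, FreeGroup.map.of, hl x hx' y hy',
        PresentedGroup.one_of_mem (Or.inl ⟨_, hnode x, _, hnode y, rfl⟩), map_one]
    · exact hx r hr
  refine ⟨PresentedGroup.toGroup hrel, fun r => ?_⟩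
  show FreeGroup.lift g r = _
  rw [key]
  rfl

theorem of_comm {edges : List (α × ℕ × α)} {extra : List (FreeGroup α)} {x y : α}
    (hx : x ∈ coxNodes edges) (hy : y ∈ coxNodes edges) (h : coxLabel edges x y = 2) :
    Commute (PresentedGroup.of x : CoxPresented α edges extra) (PresentedGroup.of y) := by
  have h2 : PresentedGroup.mk (coxRelators edges ∪ {r | r ∈ extra})
      ((FreeGroup.of x * FreeGroup.of y) ^ coxLabel edges x y) = 1 :=
    PresentedGroup.one_of_mem (Or.inl ⟨x, hx, y, hy, rfl⟩)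
  rw [h, map_pow, map_mul, pow_two] at h2
  have h3 := mul_eq_one_iff_eq_inv.1 h2
  rw [mul_inv_rev] at h3
  change PresentedGroup.of x * PresentedGroup.of y =
    (PresentedGroup.of y : CoxPresented α edges extra)⁻¹ * (PresentedGroup.of x)⁻¹ at h3
  rw [node_inv hx, node_inv hy] at h3
  exact h3

theorem commute_mkW {edges : List (α × ℕ × α)} {extra : List (FreeGroup α)} {x : α} (hx : x ∈ coxNodes edges)
    {L : List α} (hL : ∀ y ∈ L, y ∈ coxNodes edges ∧ (coxLabel edges x y = 2 ∨ x = y)) (n : ℕ) :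
    Commute (PresentedGroup.of x : CoxPresented α edges extra) (mkW edges extra L n) := by
  rw [mkW, map_pow, word_eq_prod]
  refine (Commute.list_prod_right _ _ fun z hz => ?_).pow_right n
  obtain ⟨y, hy, rfl⟩ := List.mem_map.1 hz
  obtain ⟨hy', h | rfl⟩ := hL y hy
  · exact of_comm hx hy' h
  · exact Commute.refl _

/-- The eleven nodes of Y532: arms d–c–b–a, d–e–f–g–j–k, d–h–i. -/
inductive Qg
  | a | b | c | d | e | f | g | j | h | i | k
  deriving DecidableEq

/-- The diagram Y532. -/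
def edgesQ : List (Qg × ℕ × Qg) :=
  [(.a, 3, .b), (.b, 3, .c), (.c, 3, .d), (.d, 3, .e), (.d, 3, .h), (.e, 3, .f), (.f, 3, .g), (.g, 3, .j),
    (.h, 3, .i), (.j, 3, .k)]

/-- The spider of Y532. -/
def spiderQ : FreeGroup Qg :=
  (FreeGroup.of Qg.d * FreeGroup.of Qg.c * FreeGroup.of Qg.b * FreeGroup.of Qg.d * FreeGroup.of Qg.e *
    FreeGroup.of Qg.f * FreeGroup.of Qg.d * FreeGroup.of Qg.h * FreeGroup.of Qg.i) ^ 10

/-- The spider relation alone. -/
def extraQ : List (FreeGroup Qg) := [spiderQ]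

/-- The spider and two forms of the central element. -/
def extraB : List (FreeGroup Qg) :=
  [spiderQ, word [Qg.a, .b, .c, .d, .e, .f, .h] ^ 9, word [Qg.a, .b, .c, .d, .e, .h, .i] ^ 9]

/-- Y532 with the spider relation. -/
abbrev QG : Type := CoxPresented Qg edgesQ extraQ

/-- The nodes in order. -/
def gensQ : List Qg := [.a, .b, .c, .d, .e, .f, .g, .j, .h, .i, .k]

/-- The position of a node. -/
def codeQ : Qg → ℕ
  | .a => 0 | .b => 1 | .c => 2 | .d => 3 | .e => 4 | .f => 5 | .g => 6 | .j => 7 | .h => 8 | .i => 9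
  | .k => 10

theorem mem_nodesQ (x : Qg) : x ∈ coxNodes edgesQ := by cases x <;> decide

theorem mem_gensQ (x : Qg) : x ∈ gensQ := by cases x <;> decide

/-- The coding of letters. -/
def codingB : Coding edgesQ extraB 11 0xba9876543210 where
  lets := gensQ.map fun x => (x, true)
  code := codeQ
  cinv := codeQ
  pairs := (List.range 11).flatMap fun i =>
    ((List.range 11).filter fun j => decide (i ≤ j)).map fun j =>
      (gensQ.getD i Qg.a, gensQ.getD j Qg.a)
  len := rfl
  code_eq a := by cases a <;> rfl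
  cinv_eq a := Or.inr ⟨rfl, mem_nodesQ a⟩
  inv_eq x hx := by
    refine ⟨gensQ.getD x Qg.a, Or.inl ?_⟩
    revert x
    decide
  pairs_mem p hp := ⟨mem_nodesQ _, mem_nodesQ _⟩
  pairs_cover := by decide +kernel

/-- The first ten nodes as generators of a subgroup. -/
def subsB : List (FreeGroup Qg) := ([.a, .b, .c, .d, .e, .f, .g, .j, .h, .i] : List Qg).map FreeGroup.of

theorem subB_top : Subgroup.closure ((PresentedGroup.of : Qg → CoxPresented Qg edgesQ extraB) ''
    {x | x ≠ Qg.k}) = ⊤ := by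
  let S := Subgroup.closure ((PresentedGroup.of : Qg → CoxPresented Qg edgesQ extraB) '' {x | x ≠ Qg.k})
  have := codingB.relIndex_sub_le SpiderData.certTop SpiderData.certTop_valid (by decide +kernel)
    [0, 1, 2, 3, 4, 5, 6, 7, 8, 9, 10] (by decide +kernel) rfl (relList edgesQ extraB codingB.pairs) subsB
    (fun r hr => mk_relList codingB.pairs_mem hr)
    (codingB.wordsOK_of_map_eq (by decide +kernel) (by decide +kernel)) S (by
      intro r hr
      obtain ⟨x, hx, rfl⟩ := List.mem_map.1 hr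
      refine Subgroup.subset_closure ⟨x, ?_, rfl⟩
      intro e
      subst e
      revert hx
      decide)
  rw [codingB.sub_eq_top (by decide), Subgroup.relIndex_top_right,
    show SpiderData.certTop.N = 1 from rfl] at this
  exact Subgroup.index_eq_one.1 (show S.index = 1 by omega)

/-- The names of Y322 in Y532. -/
def inQ : Sg → Qg
  | .b => .b | .c => .c | .d => .d | .e => .e | .f => .f | .g => .g | .h => .h | .i => .i

/-- The names of Y322 in Y532 with two arms exchanged. -/
def inQ' : Sg → Qg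
  | .b => .f | .c => .e | .d => .d | .e => .c | .f => .b | .g => .a | .h => .h | .i => .i

theorem exists_inQ : ∃ φ : SG →* QG, ∀ L n, φ (mkW edgesS extraS L n) =
    mkW edgesQ extraQ (L.map inQ) n := by
  obtain ⟨φ, hφ⟩ := exists_relabel (eA := edgesS) (xA := extraS) inQ (MonoidHom.id QG)
    (fun x => mem_nodesQ _) (by decide +kernel) (by
      intro r hr
      simp only [extraS, List.mem_cons, List.not_mem_nil, or_false] at hr
      subst hr
      simp only [map_pow, map_mul, FreeGroup.map.of, inQ, MonoidHom.id_apply]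
      exact PresentedGroup.one_of_mem (Or.inr List.mem_cons_self))
  exact ⟨φ, fun L n => by rw [hφ, map_word]; rfl⟩

theorem tauQ : mkW edgesQ extraQ (lT.map inQ) 10 = 1 := by
  obtain ⟨φ, hφ⟩ := exists_inQ
  rw [← hφ, show mkW edgesS extraS lT 10 = 1 from tau_eq_one, map_one]

theorem exists_inQ' : ∃ φ : SG →* QG, ∀ L n, φ (mkW edgesS extraS L n) =
    mkW edgesQ extraQ (L.map inQ') n := by
  obtain ⟨φ, hφ⟩ := exists_relabel (eA := edgesS) (xA := extraS) inQ' (MonoidHom.id QG)
    (fun x => mem_nodesQ _) (by decide +kernel) (by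
      intro r hr
      simp only [extraS, List.mem_cons, List.not_mem_nil, or_false] at hr
      subst hr
      have h := tauQ
      simp only [mkW, word, lT, List.map_cons, List.map_nil, List.prod_cons, List.prod_nil, mul_one,
        ← mul_assoc, inQ] at h
      simp only [map_pow, map_mul, FreeGroup.map.of, inQ', MonoidHom.id_apply] at h ⊢
      exact h)
  exact ⟨φ, fun L n => by rw [hφ, map_word]; rfl⟩

/-- The central element. -/
noncomputable def v : QG := mkW edgesQ extraQ [.a, .b, .c, .d, .e, .f, .h] 9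

/-- The ninth power of the Coxeter element. -/
noncomputable def w : QG := mkW edgesQ extraQ [.d, .e, .c, .h, .f, .b, .g] 9

theorem mkW_single {edges : List (α × ℕ × α)} {extra : List (FreeGroup α)} (x : α) :
    mkW edges extra [x] 1 = PresentedGroup.of x := by
  simp [mkW, word, PresentedGroup.of]

theorem v_eq : mkW edgesQ extraQ [.a, .b, .c, .d, .e, .h, .i] 9 = v := by
  obtain ⟨φ, hφ⟩ := exists_inQ'
  show mkW edgesQ extraQ (lB.map inQ') 9 = mkW edgesQ extraQ (lA.map inQ') 9
  rw [← hφ, ← hφ, show mkW edgesS extraS lB 9 = zS from word_eq_zS _ (by simp)]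
  rfl

theorem v_sq : v * v = 1 := by
  obtain ⟨φ, hφ⟩ := exists_inQ'
  show mkW edgesQ extraQ (lA.map inQ') 9 * mkW edgesQ extraQ (lA.map inQ') 9 = 1
  rw [← hφ, ← map_mul, show mkW edgesS extraS lA 9 = zS from rfl, zS_sq, map_one]

theorem v_comm_of (x : Qg) : Commute (PresentedGroup.of x : QG) v := by
  have h1 : ∀ y : Sg, Commute (PresentedGroup.of (inQ' y) : QG) v := by
    intro y
    obtain ⟨φ, hφ⟩ := exists_inQ'
    show Commute (PresentedGroup.of (inQ' y) : QG) (mkW edgesQ extraQ (lA.map inQ') 9)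
    rw [← hφ, ← mkW_single (edges := edgesQ) (inQ' y), show [inQ' y] = [y].map inQ' from rfl, ← hφ]
    exact Commute.map (zS_central _) φ
  have h2 : ∀ y, (∀ z ∈ ([.a, .b, .c, .d, .e, .h, .i] : List Qg),
      z ∈ coxNodes edgesQ ∧ (coxLabel edgesQ y z = 2 ∨ y = z)) →
      Commute (PresentedGroup.of y : QG) v := fun y hy => v_eq ▸ commute_mkW (mem_nodesQ y) hy 9
  cases x
  · exact h1 .g
  · exact h1 .f
  · exact h1 .e
  · exact h1 .d
  · exact h1 .c
  · exact h1 .b
  · exact h2 _ (by decide +kernel)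
  · exact h2 _ (by decide +kernel)
  · exact h1 .h
  · exact h1 .i
  · exact h2 _ (by decide +kernel)

theorem w_comm_of (x : Qg) (hx : x ≠ Qg.j) (hk : x ≠ Qg.k) : Commute (PresentedGroup.of x : QG) w := by
  obtain ⟨φ, hφ⟩ := exists_inQ
  have e : ∀ L ∈ [lA, lB, lC], mkW edgesQ extraQ (L.map inQ) 9 = φ zS := fun L hL => by
    rw [← hφ, show mkW edgesS extraS L 9 = zS from word_eq_zS L hL]
  have hw : w = φ zS := e lC (by simp)
  have h1 : ∀ y : Sg, Commute (PresentedGroup.of (inQ y) : QG) w := by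
    intro y
    rw [hw, ← mkW_single (edges := edgesQ) (inQ y), show [inQ y] = [y].map inQ from rfl, ← hφ]
    exact Commute.map (zS_central _) φ
  cases x
  · rw [hw, ← e lB (by simp)]
    exact commute_mkW (mem_nodesQ _) (by decide +kernel) 9
  · exact h1 .b
  · exact h1 .c
  · exact h1 .d
  · exact h1 .e
  · exact h1 .f
  · exact h1 .g
  · exact absurd rfl hx
  · exact h1 .h
  · exact h1 .i
  · exact absurd rfl hk

theorem v_central (y : QG) : Commute y v := by
  induction y using PresentedGroup.induction_on with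
  | _ r =>
    induction r using FreeGroup.induction_on with
    | C1 => rw [map_one]; exact Commute.one_left v
    | of x => exact v_comm_of x
    | inv_of x ih => rw [map_inv]; exact ih.inv_left
    | mul x y hx hy => rw [map_mul]; exact hx.mul_left hy

/-- The subgroup of the central element. -/
noncomputable abbrev Zv : Subgroup QG := Subgroup.zpowers v

instance Zv_normal : Zv.Normal := ⟨fun n hn g => by
  obtain ⟨m, rfl⟩ := Subgroup.mem_zpowers_iff.1 hn
  rw [((v_central g).zpow_right m).eq, mul_inv_cancel_right]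
  exact Subgroup.mem_zpowers_iff.2 ⟨m, rfl⟩⟩

theorem mem_Zv {y : QG} (h : y ∈ Zv) : y = 1 ∨ y = v := by
  obtain ⟨m, rfl⟩ := Subgroup.mem_zpowers_iff.1 h
  have h2 : v ^ (2 : ℤ) = 1 := by rw [zpow_two, v_sq]
  rcases Int.even_or_odd' m with ⟨l, rfl | rfl⟩
  · left; rw [zpow_mul, h2, one_zpow]
  · right; rw [zpow_add, zpow_mul, h2, one_zpow, one_mul, zpow_one]

theorem sign_relsQ : ∀ r ∈ coxRelators edgesQ ∪ {r | r ∈ extraQ},
    FreeGroup.lift (fun _ : Qg => (-1 : ℤˣ)) r = 1 := by
  rintro r (⟨x, -, y, -, rfl⟩ | hr)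
  · simp only [map_pow, map_mul, FreeGroup.lift_apply_of]
    norm_num
  · simp only [Set.mem_ofPred_eq, extraQ, List.mem_cons, List.not_mem_nil, or_false] at hr
    subst hr
    simp only [spiderQ, map_pow, map_mul, FreeGroup.lift_apply_of]
    decide

/-- The sign. -/
noncomputable def signQ : QG →* ℤˣ := PresentedGroup.toGroup sign_relsQ

theorem sign_values : signQ v = -1 ∧ signQ w = -1 ∧ signQ (PresentedGroup.of Qg.k) = -1 := by
  refine ⟨?_, ?_, PresentedGroup.toGroup.of sign_relsQ⟩
  · rw [v, mkW]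
    show FreeGroup.lift (fun _ : Qg => (-1 : ℤˣ)) (word [.a, .b, .c, .d, .e, .f, .h] ^ 9) = -1
    simp only [word, List.map_cons, List.map_nil, List.prod_cons, List.prod_nil, map_pow, map_mul,
      map_one, FreeGroup.lift_apply_of]
    decide
  · rw [w, mkW]
    show FreeGroup.lift (fun _ : Qg => (-1 : ℤˣ)) (word [.d, .e, .c, .h, .f, .b, .g] ^ 9) = -1
    simp only [word, List.map_cons, List.map_nil, List.prod_cons, List.prod_nil, map_pow, map_mul,
      map_one, FreeGroup.lift_apply_of]
    decide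

/-- The names of Fi23 in Y532. -/
def in23 : Fi23.Gen → Qg
  | .a => .a | .b => .b | .c => .c | .d => .d | .e => .e | .f => .f | .g => .g | .j => .j | .h => .h | .i => .i

theorem label23 : ∀ x ∈ coxNodes Fi23.edges, ∀ y ∈ coxNodes Fi23.edges,
    coxLabel Fi23.edges x y = coxLabel edgesQ (in23 x) (in23 y) := by decide +kernel

theorem mk_v_one : (QuotientGroup.mk' Zv) v = 1 :=
  (QuotientGroup.eq_one_iff v).2 (Subgroup.mem_zpowers v)

theorem exists_rho : ∃ ρ : Fi23 →* QG ⧸ Zv,
    (∀ r, ρ (PresentedGroup.mk (coxRelators Fi23.edges ∪ {r | r ∈ Fi23.extra}) r) =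
      QuotientGroup.mk' Zv (PresentedGroup.mk _ (FreeGroup.map in23 r))) ∧
    QuotientGroup.mk' Zv (PresentedGroup.of Qg.k) ∈ ρ.range := by
  obtain ⟨ρ, hρ⟩ := exists_relabel (eA := Fi23.edges) (xA := Fi23.extra) in23 (QuotientGroup.mk' Zv)
    (fun x => mem_nodesQ _) label23 (by
      intro r hr
      simp only [Fi23.extra, List.mem_cons, List.not_mem_nil, or_false] at hr
      rcases hr with rfl | rfl
      · rw [show FreeGroup.map in23 _ = spiderQ by simp [spiderQ, in23, FreeGroup.map.of],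
          PresentedGroup.one_of_mem (Or.inr List.mem_cons_self), map_one]
      · rw [show FreeGroup.map in23 _ = word [Qg.a, .b, .c, .d, .e, .f, .h] ^ 9 by
          simp [word, in23, FreeGroup.map.of, mul_assoc]]
        exact mk_v_one)
  refine ⟨ρ, hρ, ?_⟩
  obtain ⟨β, hβ⟩ := exists_relabel (eA := edgesQ) (xA := extraB) id (QuotientGroup.mk' Zv)
    (fun x => mem_nodesQ x) (fun _ _ _ _ => rfl) (by
      intro r hr
      simp only [extraB, List.mem_cons, List.not_mem_nil, or_false] at hr
      rw [FreeGroup.map.id]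
      rcases hr with rfl | rfl | rfl
      · rw [PresentedGroup.one_of_mem (Or.inr List.mem_cons_self), map_one]
      · exact mk_v_one
      · show QuotientGroup.mk' Zv (mkW edgesQ extraQ [.a, .b, .c, .d, .e, .h, .i] 9) = 1
        rw [v_eq, mk_v_one])
  have hle : Subgroup.closure ((PresentedGroup.of : Qg → CoxPresented Qg edgesQ extraB) ''
      {x | x ≠ Qg.k}) ≤ ρ.range.comap β := by
    rw [Subgroup.closure_le]
    rintro _ ⟨x, hx, rfl⟩
    obtain ⟨y, hy⟩ : ∃ y, in23 y = x := by
      cases x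
      exacts [⟨.a, rfl⟩, ⟨.b, rfl⟩, ⟨.c, rfl⟩, ⟨.d, rfl⟩, ⟨.e, rfl⟩, ⟨.f, rfl⟩, ⟨.g, rfl⟩, ⟨.j, rfl⟩,
        ⟨.h, rfl⟩, ⟨.i, rfl⟩, absurd rfl hx]
    refine ⟨PresentedGroup.mk _ (FreeGroup.of y), ?_⟩
    rw [hρ]
    show _ = β (PresentedGroup.mk _ (FreeGroup.of x))
    rw [hβ, FreeGroup.map.id, FreeGroup.map.of, hy]
  rw [subB_top] at hle
  have h := hle (Subgroup.mem_top (PresentedGroup.mk _ (FreeGroup.of Qg.k)))
  rw [Subgroup.mem_comap, hβ, FreeGroup.map.id] at h
  exact h

/-- Some letter of the subgroup of index 31671 moves every other point. -/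
theorem moved : allBelow (fun u => Nat.beq u 0 ||
    Fi23P.lH.any fun x => !Nat.beq (Fi23Data.table.img x u) u) Fi23Data.table.N = true := by
  decide +kernel

theorem mem_sub_of_comm {x : Fi23}
    (hx : ∀ y : Fi23.Gen, y ≠ Fi23.Gen.j → Commute (PresentedGroup.of y : Fi23) x) :
    ∃ h : x ∈ Fi23P.sub Fi23P.lH, (⟨x, h⟩ : Fi23P.sub Fi23P.lH) ∈ Subgroup.center (Fi23P.sub Fi23P.lH) := by
  have hgen : ∀ n ∈ Fi23P.lH, ∃ y : Fi23.Gen, y ≠ Fi23.Gen.j ∧ Fi23P.coding.gen n = PresentedGroup.of y ∧
      Fi23P.code y = n := by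
    intro n hn
    have : ∀ n ∈ Fi23P.lH, ∃ y ∈ Fi23P.gens, y ≠ Fi23.Gen.j ∧ Fi23P.code y = n := by decide
    obtain ⟨y, -, hy, rfl⟩ := this n hn
    exact ⟨y, hy, Fi23P.coding.gen_code y, rfl⟩
  have hpt : Fi23P.hom x Fi23P.pt = Fi23P.pt := by
    set u := Fi23P.hom x Fi23P.pt with hu
    by_contra hne
    have h := of_allBelow moved u u.2
    rw [Bool.or_eq_true, List.any_eq_true] at h
    rcases h with h | ⟨n, hn, h⟩
    · exact hne (Fin.ext (Nat.eq_of_beq_eq_true h))
    · obtain ⟨y, hy, hg, hcode⟩ := hgen n hn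
      have hfix : Fi23P.hom (Fi23P.coding.gen n) u = u := by
        rw [hu, ← Equiv.Perm.mul_apply, ← map_mul, hg, (hx y hy).eq, map_mul, Equiv.Perm.mul_apply]
        congr 1
        rw [← hg]
        exact Fi23P.hom_fix _ (Subgroup.subset_closure ⟨n, hn, rfl⟩)
      have e := Fi23P.hom_acts.img_eq n (Fi23P.lH_lt n hn) u
      rw [hfix] at e
      rw [Bool.not_eq_true', ← e] at h
      rw [show Nat.beq (u : ℕ) u = true from Nat.beq_refl _] at h
      exact Bool.false_ne_true h.symm
  have hle : (Fi23P.sub Fi23P.lH).index ≤ Fi23Data.table.N ∧ (Fi23P.sub Fi23P.lH).index ≠ 0 :=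
    ⟨Fi23P.index_H_eq.le.trans (le_of_eq rfl), by rw [Fi23P.index_H_eq]; norm_num⟩
  obtain ⟨-, e, he, -⟩ := exists_quotient_equiv Fi23P.hom Fi23P.pt _ Fi23P.hom_fix Fi23P.transitive hle
  have hmem : x ∈ Fi23P.sub Fi23P.lH := by
    have h1 : e (x : Fi23 ⧸ Fi23P.sub Fi23P.lH) = e ((1 : Fi23) : Fi23 ⧸ Fi23P.sub Fi23P.lH) := by
      rw [he, he, hpt, map_one]
      rfl
    have h2 := QuotientGroup.eq.1 (e.injective h1)
    rw [mul_one] at h2
    exact inv_mem_iff.1 h2
  refine ⟨hmem, Subgroup.mem_center_iff.2 fun g => Subtype.ext ?_⟩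
  obtain ⟨g, hg⟩ := g
  show g * x = x * g
  induction hg using Subgroup.closure_induction with
  | mem g hg =>
    obtain ⟨n, hn, rfl⟩ := hg
    obtain ⟨y, hy, e, -⟩ := hgen n hn
    rw [e]
    exact (hx y hy).eq
  | one => simp
  | mul a b _ _ ha hb => exact (Commute.mul_left ha hb)
  | inv a _ ha => exact (Commute.inv_left ha)

/-- The word in Fi23. -/
noncomputable def w23 : Fi23 := mkW Fi23.edges Fi23.extra [.d, .e, .c, .h, .f, .b, .g] 9

theorem w23_ne : w23 ≠ 1 := by
  intro h
  have h1 : ∀ u : Fin Fi23Data.table.N, Fi23P.hom w23 u = u := fun u => by rw [h, map_one]; rfl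
  obtain ⟨u, hu, hmove⟩ : ∃ u ∈ List.range 40, u < Fi23Data.table.N ∧
      (appWord Fi23P.code Fi23P.code (word ([.d, .e, .c, .h, .f, .b, .g] : List Fi23.Gen) ^ 9)).foldl
        (fun w x => Fi23Data.table.img x w) u ≠ u := by decide +kernel
  have h2 := congrArg Fin.val (h1 ⟨u, hmove.1⟩)
  rw [w23, mkW, Fi23P.coding.mk_eq, Fi23P.hom_word _ (by decide +kernel)] at h2
  exact hmove.2 h2

theorem j_ne : (PresentedGroup.of Fi23.Gen.j : Fi23) ≠ 1 := by
  intro h
  have e := Fi23P.hom_acts.img_eq 7 (by decide +kernel) Fi23P.pt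
  rw [show Fi23P.coding.gen 7 = PresentedGroup.of Fi23.Gen.j from Fi23P.coding.gen_code Fi23.Gen.j, h,
    map_one] at e
  revert e
  show (0 : ℕ) = Fi23Data.table.img 7 0 → False
  decide +kernel

theorem k_mul_w : (PresentedGroup.of Qg.k : QG) * w⁻¹ = 1 := by
  obtain ⟨ρ, hρ, hk⟩ := exists_rho
  have hρof : ∀ y, ρ (PresentedGroup.of y) = QuotientGroup.mk' Zv (PresentedGroup.of (in23 y)) := fun y => by
    show ρ (PresentedGroup.mk _ (FreeGroup.of y)) = _
    rw [hρ, FreeGroup.map.of]
    rfl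
  have hρw : ρ w23 = QuotientGroup.mk' Zv w := by
    rw [w23, mkW, hρ, map_word]
    rfl
  suffices h : QuotientGroup.mk' Zv (PresentedGroup.of Qg.k) = QuotientGroup.mk' Zv w by
    have hmem : (PresentedGroup.of Qg.k : QG) * w⁻¹ ∈ Zv := by
      rw [← QuotientGroup.eq_one_iff, ← QuotientGroup.mk'_apply, map_mul, map_inv, h, mul_inv_cancel]
    rcases mem_Zv hmem with e | e
    · exact e
    · exfalso
      have h1 := congrArg signQ e
      obtain ⟨hv, hw, hkk⟩ := sign_values
      rw [map_mul, map_inv, hv, hw, hkk, mul_inv_cancel] at h1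
      exact absurd h1 (by decide)
  obtain ⟨x, hx⟩ := hk
  have := Fi23P.isSimple
  rcases ρ.normal_ker.eq_bot_or_eq_top with hbot | htop
  · have hinj : Function.Injective ρ := (MonoidHom.ker_eq_bot_iff ρ).1 hbot
    have hxc : ∀ y : Fi23.Gen, y ≠ Fi23.Gen.j → Commute (PresentedGroup.of y : Fi23) x := by
      intro y hy
      apply hinj
      rw [map_mul, map_mul, hx, hρof]
      refine (Commute.map (of_comm (mem_nodesQ _) (mem_nodesQ _) ?_) _).eq
      cases y <;> first | (exact absurd rfl hy) | decide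
    have hwc : ∀ y : Fi23.Gen, y ≠ Fi23.Gen.j → Commute (PresentedGroup.of y : Fi23) w23 := by
      intro y hy
      apply hinj
      rw [map_mul, map_mul, hρw, hρof]
      refine (Commute.map (w_comm_of _ ?_ ?_) _).eq
      · cases y <;> first | (exact absurd rfl hy) | decide
      · cases y <;> decide
    obtain ⟨hx1, hx2⟩ := mem_sub_of_comm hxc
    obtain ⟨hw1, hw2⟩ := mem_sub_of_comm hwc
    have hc : Nat.card (Subgroup.center (Fi23P.sub Fi23P.lH)) = 2 := by
      rw [Fi23P.center_eq]; exact Fi23P.card_ker_toFi22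
    obtain ⟨z, hz, hzu⟩ := (Nat.card_eq_two_iff' (1 : Subgroup.center (Fi23P.sub Fi23P.lH))).1 hc
    by_cases hxone : x = 1
    · exfalso
      have hk1 : QuotientGroup.mk' Zv (PresentedGroup.of Qg.k) = 1 := by rw [← hx, hxone, map_one]
      have hkc : ∀ y : QG, Commute (PresentedGroup.of Qg.k) y := by
        intro y
        rcases mem_Zv ((QuotientGroup.eq_one_iff _).1 hk1) with e | e <;> rw [e]
        · exact Commute.one_left y
        · exact (v_central y).symm
      have hb : ((PresentedGroup.of Qg.k : QG) * PresentedGroup.of Qg.j) ^ 3 = 1 :=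
        PresentedGroup.one_of_mem (Or.inl ⟨Qg.k, mem_nodesQ _, Qg.j, mem_nodesQ _, rfl⟩)
      have hk2 : (PresentedGroup.of Qg.k : QG) * PresentedGroup.of Qg.k = 1 :=
        inv_eq_iff_mul_eq_one.1 (node_inv (mem_nodesQ Qg.k))
      have hj2 : (PresentedGroup.of Qg.j : QG) * PresentedGroup.of Qg.j = 1 :=
        inv_eq_iff_mul_eq_one.1 (node_inv (mem_nodesQ Qg.j))
      rw [(hkc _).mul_pow, pow_succ, pow_two, hk2, one_mul, pow_succ, pow_two, hj2, one_mul] at hb
      have hj1 : ρ (PresentedGroup.of Fi23.Gen.j) = 1 := by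
        rw [hρof, show in23 Fi23.Gen.j = Qg.j from rfl, ← inv_eq_of_mul_eq_one_right hb,
          node_inv (mem_nodesQ Qg.k), hk1]
      exact j_ne (hinj (hj1.trans (map_one ρ).symm))
    · have e1 := hzu ⟨_, hx2⟩ fun e => hxone (congrArg (fun t : Subgroup.center (Fi23P.sub Fi23P.lH) =>
        ((t : Fi23P.sub Fi23P.lH) : Fi23)) e)
      have e2 := hzu ⟨_, hw2⟩ fun e => w23_ne (congrArg (fun t : Subgroup.center (Fi23P.sub Fi23P.lH) =>
        ((t : Fi23P.sub Fi23P.lH) : Fi23)) e)
      have e3 : x = w23 := congrArg (fun t : Subgroup.center (Fi23P.sub Fi23P.lH) =>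
        ((t : Fi23P.sub Fi23P.lH) : Fi23)) (e1.trans e2.symm)
      rw [← hx, e3, hρw]
  · have h0 : ∀ y, ρ y = 1 := fun y => MonoidHom.mem_ker.1 (htop ▸ Subgroup.mem_top y)
    rw [← hx, ← hρw, h0, h0]

end CfsgLib.Sporadic.Spider
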