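import Cfsg.Agent.Lib.Sporadic.FiPresented
import Cfsg.Agent.Lib.Sporadic.PackedMatrix
import Cfsg.Agent.Lib.Sporadic.Fi23Data.Fi23CertO1
import Cfsg.Agent.Lib.Sporadic.Fi23Data.Fi23CertE7
import Cfsg.Agent.Lib.Sporadic.Fi23Data.Fi23CertE6
import Cfsg.Agent.Lib.Sporadic.Fi23Data.Fi23CertD5
import Cfsg.Agent.Lib.Sporadic.Fi23Data.Fi23CertD4
import Cfsg.Agent.Lib.Sporadic.Fi23Data.Fi23CertA3
import Cfsg.Agent.Lib.Sporadic.Fi23Data.Fi23CertA2

/-!
# The Coxeter group Y322 with the spider relation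

It has order at most twice that of the simple orthogonal group in dimension 7 over the field of three
elements, and so embeds in Fi22 times a sign; words are compared there.
-/

set_option autoImplicit false
set_option maxRecDepth 100000

open Cfsg.Spor

namespace CfsgLib.Sporadic.Spider

open CosetCert

/-- The eight nodes: centre d, arms d–c–b, d–e–f–g, d–h–i. -/
inductive Sg
  | b | c | d | e | f | g | h | i
  deriving DecidableEq

/-- The diagram Y322. -/
def edgesS : List (Sg × ℕ × Sg) :=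
  [(.b, 3, .c), (.c, 3, .d), (.d, 3, .e), (.d, 3, .h), (.e, 3, .f), (.f, 3, .g), (.h, 3, .i)]

/-- A product of nodes as a word. -/
def word {α : Type} (L : List α) : FreeGroup α := (L.map FreeGroup.of).prod

/-- The spider relation. -/
def extraS : List (FreeGroup Sg) :=
  [(FreeGroup.of Sg.d * FreeGroup.of Sg.c * FreeGroup.of Sg.b * FreeGroup.of Sg.d * FreeGroup.of Sg.e *
    FreeGroup.of Sg.f * FreeGroup.of Sg.d * FreeGroup.of Sg.h * FreeGroup.of Sg.i) ^ 10]

/-- Y322 with the spider relation. -/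
abbrev SG : Type := CoxPresented Sg edgesS extraS

/-- The nodes in order. -/
def gensS : List Sg := [.b, .c, .d, .e, .f, .g, .h, .i]

/-- The position of a node. -/
def codeS : Sg → ℕ
  | .b => 0 | .c => 1 | .d => 2 | .e => 3 | .f => 4 | .g => 5 | .h => 6 | .i => 7

theorem mem_nodesS (x : Sg) : x ∈ coxNodes edgesS := by cases x <;> decide

theorem mem_gensS (x : Sg) : x ∈ gensS := by cases x <;> decide

/-- The coding of letters. -/
def codingS : Coding edgesS extraS 8 0x876543210 where
  lets := gensS.map fun x => (x, true)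
  code := codeS
  cinv := codeS
  pairs := (List.range 8).flatMap fun i =>
    ((List.range 8).filter fun j => decide (i ≤ j)).map fun j =>
      (gensS.getD i Sg.b, gensS.getD j Sg.b)
  len := rfl
  code_eq a := by cases a <;> rfl
  cinv_eq a := Or.inr ⟨rfl, mem_nodesS a⟩
  inv_eq x hx := by
    refine ⟨gensS.getD x Sg.b, Or.inl ?_⟩
    revert x
    decide
  pairs_mem p hp := ⟨mem_nodesS _, mem_nodesS _⟩
  pairs_cover := by decide +kernel

/-- All relators. -/
def allRelsS : List (FreeGroup Sg) := relList edgesS extraS codingS.pairs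

/-- The relators in some letters only. -/
def relsInS (l : List ℕ) : List (FreeGroup Sg) :=
  allRelsS.filter fun r => (appWord codeS codeS r).all fun x => decide (x ∈ l)

/-- The words of generators of a subgroup. -/
def subsOfS (l : List ℕ) : List (FreeGroup Sg) :=
  l.map fun i => FreeGroup.of (gensS.getD i Sg.b)

theorem subsOfS_mem {l : List ℕ} (hl : ∀ i ∈ l, i < 8) :
    ∀ r ∈ subsOfS l, PresentedGroup.mk (coxRelators edgesS ∪ {r | r ∈ extraS}) r ∈ codingS.sub l := by
  intro r hr
  obtain ⟨i, hi, rfl⟩ := List.mem_map.1 hr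
  refine Subgroup.subset_closure ⟨i, hi, ?_⟩
  have e : i = codeS (gensS.getD i Sg.b) := by
    have h : ∀ j < 8, j = codeS (gensS.getD j Sg.b) := by decide
    exact h i (hl i hi)
  conv_lhs => rw [e]
  exact codingS.gen_code _

theorem stepS {C : Cert} (hV : C.Valid) (hN : 0 < C.N) {n : ℕ} (hn : C.N = n) {σ l : List ℕ}
    (hσ : ∀ x < C.nl, σ.getD x 8 < 8 ∧
      σ.getD (C.inv x) 8 = Nat.mod (Nat.shiftRight 0x876543210 (Nat.mul 4 (σ.getD x 8))) 16)
    (hlen : σ.length = C.nl) (hl : ∀ i ∈ l, i < 8)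
    (hrl : (relsInS σ).length = C.nr)
    (hW : (relsInS σ ++ subsOfS l).map (appWord codeS codeS) =
      (List.range C.words.length).map fun i => (C.letters i).map (σ.getD · 8)) :
    (codingS.sub l).relIndex (codingS.sub σ) ≤ n ∧ (codingS.sub l).relIndex (codingS.sub σ) ≠ 0 := by
  subst hn
  exact codingS.relIndex_sub_le C hV hN σ hσ hlen (relsInS σ) (subsOfS l)
    (fun _ hr => mk_relList codingS.pairs_mem (List.mem_filter.1 hr).1)
    (codingS.wordsOK_of_map_eq hrl hW) (codingS.sub l) (subsOfS_mem hl)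

theorem card_cS : Nat.card (codingS.sub [1]) ≤ 2 ∧ Nat.card (codingS.sub [1]) ≠ 0 := by
  have e : codingS.sub [1] = Subgroup.closure {codingS.gen 1} := by
    show Subgroup.closure _ = _
    congr 1
    ext z
    simp [eq_comm]
  rw [e]
  refine card_closure_involution ?_
  rw [show codingS.gen 1 = PresentedGroup.of Sg.c from codingS.gen_code Sg.c]
  exact inv_eq_iff_mul_eq_one.1 (node_inv (mem_nodesS _))

theorem card_le : Nat.card SG ≤ 9170703360 ∧ Nat.card SG ≠ 0 := by
  have s0 : (codingS.sub [1]).relIndex (codingS.sub [1, 2]) ≤ 3 ∧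
      (codingS.sub [1]).relIndex (codingS.sub [1, 2]) ≠ 0 :=
    stepS Fi23Data.certA2_valid (by decide +kernel) rfl (by decide +kernel) rfl (by decide)
      (by decide +kernel) (by decide +kernel)
  have c0 := card_le_of_relIndex (codingS.sub_mono (by decide)) s0 card_cS
  have s1 : (codingS.sub [1, 2]).relIndex (codingS.sub [1, 2, 3]) ≤ 4 ∧
      (codingS.sub [1, 2]).relIndex (codingS.sub [1, 2, 3]) ≠ 0 :=
    stepS Fi23Data.certA3_valid (by decide +kernel) rfl (by decide +kernel) rfl (by decide)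
      (by decide +kernel) (by decide +kernel)
  have c1 := card_le_of_relIndex (codingS.sub_mono (by decide)) s1 c0
  have s2 : (codingS.sub [1, 2, 3]).relIndex (codingS.sub [1, 2, 3, 6]) ≤ 8 ∧
      (codingS.sub [1, 2, 3]).relIndex (codingS.sub [1, 2, 3, 6]) ≠ 0 :=
    stepS Fi23Data.certD4_valid (by decide +kernel) rfl (by decide +kernel) rfl (by decide)
      (by decide +kernel) (by decide +kernel)
  have c2 := card_le_of_relIndex (codingS.sub_mono (by decide)) s2 c1
  have s3 : (codingS.sub [1, 2, 3, 6]).relIndex (codingS.sub [1, 2, 3, 4, 6]) ≤ 10 ∧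
      (codingS.sub [1, 2, 3, 6]).relIndex (codingS.sub [1, 2, 3, 4, 6]) ≠ 0 :=
    stepS Fi23Data.certD5_valid (by decide +kernel) rfl (by decide +kernel) rfl (by decide)
      (by decide +kernel) (by decide +kernel)
  have c3 := card_le_of_relIndex (codingS.sub_mono (by decide)) s3 c2
  have s4 : (codingS.sub [1, 2, 3, 4, 6]).relIndex (codingS.sub [0, 1, 2, 3, 4, 6]) ≤ 27 ∧
      (codingS.sub [1, 2, 3, 4, 6]).relIndex (codingS.sub [0, 1, 2, 3, 4, 6]) ≠ 0 :=
    stepS Fi23Data.certE6_valid (by decide +kernel) rfl (by decide +kernel) rfl (by decide)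
      (by decide +kernel) (by decide +kernel)
  have c4 := card_le_of_relIndex (codingS.sub_mono (by decide)) s4 c3
  have s5 : (codingS.sub [0, 1, 2, 3, 4, 6]).relIndex (codingS.sub [0, 1, 2, 3, 4, 5, 6]) ≤ 56 ∧
      (codingS.sub [0, 1, 2, 3, 4, 6]).relIndex (codingS.sub [0, 1, 2, 3, 4, 5, 6]) ≠ 0 :=
    stepS Fi23Data.certE7_valid (by decide +kernel) rfl (by decide +kernel) rfl (by decide)
      (by decide +kernel) (by decide +kernel)
  have c5 := card_le_of_relIndex (codingS.sub_mono (by decide)) s5 c4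
  have s6 : (codingS.sub [0, 1, 2, 3, 4, 5, 6]).relIndex (codingS.sub [0, 1, 2, 3, 4, 5, 6, 7]) ≤ 3159 ∧
      (codingS.sub [0, 1, 2, 3, 4, 5, 6]).relIndex (codingS.sub [0, 1, 2, 3, 4, 5, 6, 7]) ≠ 0 :=
    stepS Fi23Data.certO1_valid (by decide +kernel) rfl (by decide +kernel) rfl (by decide)
      (by decide +kernel) (by decide +kernel)
  have c6 := card_le_of_relIndex (codingS.sub_mono (by decide)) s6 c5
  rw [codingS.sub_eq_top (by decide), Subgroup.card_top] at c6
  exact c6

/-- The names in Fi22. -/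
def incl22 : Sg → Fi22.Gen
  | .b => .b | .c => .c | .d => .d | .e => .e | .f => .f | .g => .g | .h => .h | .i => .i

theorem label22 : ∀ x ∈ gensS, ∀ y ∈ gensS,
    coxLabel edgesS x y = coxLabel Fi22.edges (incl22 x) (incl22 y) := by decide +kernel

theorem rels22 : ∀ r ∈ coxRelators edgesS ∪ {r | r ∈ extraS},
    FreeGroup.lift (fun x => (PresentedGroup.of (incl22 x) : Fi22)) r = 1 := by
  have key : ∀ r, FreeGroup.lift (fun x => (PresentedGroup.of (incl22 x) : Fi22)) r =
      PresentedGroup.mk (coxRelators Fi22.edges ∪ {r | r ∈ Fi22.extra}) (FreeGroup.map incl22 r) := by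
    intro r
    induction r using FreeGroup.induction_on with
    | C1 => simp
    | of x => simp [PresentedGroup.of]
    | inv_of x ih => simp [PresentedGroup.of]
    | mul x y hx hy => simp [hx, hy]
  rintro r (⟨x, -, y, -, rfl⟩ | hr)
  · rw [key, map_pow, map_mul, FreeGroup.map.of, FreeGroup.map.of, label22 x (mem_gensS x) y (mem_gensS y)]
    exact PresentedGroup.one_of_mem (Or.inl ⟨_, FiP.mem_nodes _, _, FiP.mem_nodes _, rfl⟩)
  · simp only [Set.mem_ofPred_eq, extraS, List.mem_cons, List.not_mem_nil, or_false] at hr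
    subst hr
    rw [key]
    simp only [map_pow, map_mul, FreeGroup.map.of, incl22]
    exact PresentedGroup.one_of_mem (Or.inr List.mem_cons_self)

/-- The map to Fi22. -/
noncomputable def psi : SG →* Fi22 := PresentedGroup.toGroup rels22

theorem psi_mk (L : List Sg) (n : ℕ) :
    psi (PresentedGroup.mk _ (word L ^ n)) =
      PresentedGroup.mk (coxRelators Fi22.edges ∪ {r | r ∈ Fi22.extra}) (word (L.map incl22) ^ n) := by
  rw [map_pow, map_pow, map_pow]
  congr 1
  simp only [word, map_list_prod, List.map_map]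
  congr 1

theorem sign_rels : ∀ r ∈ coxRelators edgesS ∪ {r | r ∈ extraS},
    FreeGroup.lift (fun _ : Sg => (-1 : ℤˣ)) r = 1 := by
  rintro r (⟨x, -, y, -, rfl⟩ | hr)
  · simp only [map_pow, map_mul, FreeGroup.lift_apply_of]
    norm_num
  · simp only [Set.mem_ofPred_eq, extraS, List.mem_cons, List.not_mem_nil, or_false] at hr
    subst hr
    simp only [map_pow, map_mul, FreeGroup.lift_apply_of]
    decide

/-- The sign. -/
noncomputable def sign : SG →* ℤˣ := PresentedGroup.toGroup sign_rels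

theorem sign_mk (L : List Sg) (n : ℕ) :
    sign (PresentedGroup.mk _ (word L ^ n)) = (-1 : ℤˣ) ^ (L.length * n) := by
  rw [pow_mul, map_pow, map_pow]
  congr 1
  simp only [word, map_list_prod, List.map_map]
  rw [List.prod_eq_pow_card (L.map _) (-1) (by
    intro z hz
    obtain ⟨x, -, rfl⟩ := List.mem_map.1 hz
    exact PresentedGroup.toGroup.of sign_rels), List.length_map]

/-- Both maps. -/
noncomputable def chi : SG →* Fi22 × ℤˣ := psi.prod sign

/-- The first word (arms g f e, c b, h). -/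
def lA : List Sg := [.g, .f, .e, .d, .c, .b, .h]

/-- The same central element, avoiding b. -/
def lB : List Sg := [.g, .f, .e, .d, .c, .h, .i]

/-- The same central element, in another order. -/
def lC : List Sg := [.d, .e, .c, .h, .f, .b, .g]

/-- The spider with two arms exchanged. -/
def lT : List Sg := [.d, .e, .f, .d, .c, .b, .d, .h, .i]

/-- Follow letters, bringing each point to a numeral. -/
noncomputable def runLetters (ls : List ℕ) : ℕ → ℕ :=
  List.rec (motive := fun _ => ℕ → ℕ) (fun v => v)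
    (fun x _ ih v => PackedMatrix.forced ih (FiData.table.img x v)) ls

theorem runLetters_eq : ∀ (ls : List ℕ) (v : ℕ),
    runLetters ls v = ls.foldl (fun w x => FiData.table.img x w) v := by
  intro ls
  induction ls with
  | nil => intro v; rfl
  | cons x t ih =>
    intro v
    show PackedMatrix.forced (runLetters t) (FiData.table.img x v) = _
    rw [PackedMatrix.forced_eq, ih, List.foldl_cons]

/-- Letters act trivially on the 3510 points. -/
noncomputable def trivOn (ls : List ℕ) : Bool :=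
  allBelow (fun v => PackedMatrix.forced (fun u => Nat.beq (runLetters ls u) u) v) FiData.table.N

/-- The letters of word A in Fi22. -/
def lsA : List ℕ :=
  [7, 1, 2, 3, 4, 5, 6, 7, 1, 2, 3, 4, 5, 6, 7, 1, 2, 3, 4, 5, 6, 7, 1, 2, 3, 4, 5, 6, 7, 1, 2, 3, 4, 5, 6, 7, 1, 2, 3, 4, 5, 6, 7, 1, 2, 3, 4, 5, 6, 7, 1, 2, 3, 4, 5, 6, 7, 1, 2, 3, 4, 5, 6]

theorem trivA : trivOn lsA = true := by decide +kernel

theorem lettersA : appWord FiP.code FiP.code (word (lA.map incl22) ^ 9) = lsA := by
  decide +kernel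

/-- The letters of word B in Fi22. -/
def lsB : List ℕ :=
  [8, 7, 2, 3, 4, 5, 6, 8, 7, 2, 3, 4, 5, 6, 8, 7, 2, 3, 4, 5, 6, 8, 7, 2, 3, 4, 5, 6, 8, 7, 2, 3, 4, 5, 6, 8, 7, 2, 3, 4, 5, 6, 8, 7, 2, 3, 4, 5, 6, 8, 7, 2, 3, 4, 5, 6, 8, 7, 2, 3, 4, 5, 6]

theorem trivB : trivOn lsB = true := by decide +kernel

theorem lettersB : appWord FiP.code FiP.code (word (lB.map incl22) ^ 9) = lsB := by
  decide +kernel

/-- The letters of word C in Fi22. -/
def lsC : List ℕ :=
  [6, 1, 5, 7, 2, 4, 3, 6, 1, 5, 7, 2, 4, 3, 6, 1, 5, 7, 2, 4, 3, 6, 1, 5, 7, 2, 4, 3, 6, 1, 5, 7, 2, 4, 3, 6, 1, 5, 7, 2, 4, 3, 6, 1, 5, 7, 2, 4, 3, 6, 1, 5, 7, 2, 4, 3, 6, 1, 5, 7, 2, 4, 3]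

theorem trivC : trivOn lsC = true := by decide +kernel

theorem lettersC : appWord FiP.code FiP.code (word (lC.map incl22) ^ 9) = lsC := by
  decide +kernel

/-- The letters of word T in Fi22. -/
def lsT : List ℕ :=
  [8, 7, 3, 1, 2, 3, 5, 4, 3, 8, 7, 3, 1, 2, 3, 5, 4, 3, 8, 7, 3, 1, 2, 3, 5, 4, 3, 8, 7, 3, 1, 2, 3, 5, 4, 3, 8, 7, 3, 1, 2, 3, 5, 4, 3, 8, 7, 3, 1, 2, 3, 5, 4, 3, 8, 7, 3, 1, 2, 3, 5, 4, 3, 8, 7, 3, 1, 2, 3, 5, 4, 3, 8, 7, 3, 1, 2, 3, 5, 4, 3, 8, 7, 3, 1, 2, 3, 5, 4, 3]

theorem trivT : trivOn lsT = true := by decide +kernel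

theorem lettersT : appWord FiP.code FiP.code (word (lT.map incl22) ^ 10) = lsT := by
  decide +kernel

theorem mk_eq_one22 {L : List Fi22.Gen} {n : ℕ} {ls : List ℕ}
    (hls : appWord FiP.code FiP.code (word L ^ n) = ls) (h : trivOn ls = true) :
    PresentedGroup.mk (coxRelators Fi22.edges ∪ {r | r ∈ Fi22.extra}) (word L ^ n) = 1 := by
  apply FiP.card_eq.2
  rw [map_one, FiP.coding.mk_eq]
  ext v
  rw [FiP.hom_word _ ?_ v]
  · rw [show appWord FiP.coding.code FiP.coding.cinv (word L ^ n) = ls from hls]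
    have h' := of_allBelow h v v.2
    rw [PackedMatrix.forced_eq, runLetters_eq] at h'
    exact Nat.eq_of_beq_eq_true h'
  · intro x hx
    obtain ⟨p, -, rfl⟩ := List.mem_map.1 hx
    rcases p with ⟨a, s⟩
    cases a <;> cases s <;> decide +kernel

theorem chi_central : ∀ L ∈ [lA, lB, lC], chi (PresentedGroup.mk _ (word L ^ 9)) = (1, -1) := by
  intro L hL
  simp only [List.mem_cons, List.not_mem_nil, or_false] at hL
  rcases hL with rfl | rfl | rfl
  · rw [chi, MonoidHom.prod_apply, psi_mk lA 9, mk_eq_one22 lettersA trivA, sign_mk lA 9]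
    simp [lA, pow_succ]
  · rw [chi, MonoidHom.prod_apply, psi_mk lB 9, mk_eq_one22 lettersB trivB, sign_mk lB 9]
    simp [lB, pow_succ]
  · rw [chi, MonoidHom.prod_apply, psi_mk lC 9, mk_eq_one22 lettersC trivC, sign_mk lC 9]
    simp [lC, pow_succ]

theorem chi_tau : chi (PresentedGroup.mk _ (word lT ^ 10)) = 1 := by
  rw [chi, MonoidHom.prod_apply, psi_mk lT 10, mk_eq_one22 lettersT trivT, sign_mk lT 10]
  simp [lT, pow_succ]

theorem card_range : 9170703360 ≤ Nat.card chi.range := by
  have := FiP.finite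
  let p : chi.range →* Fi22 := (MonoidHom.fst Fi22 ℤˣ).comp chi.range.subtype
  have hr : FiP.sub [1, 2, 3, 4, 5, 6, 7, 8] ≤ p.range := by
    rw [show FiP.sub [1, 2, 3, 4, 5, 6, 7, 8] = Subgroup.closure _ from rfl, Subgroup.closure_le]
    rintro _ ⟨x, hx, rfl⟩
    obtain ⟨y, hy⟩ : ∃ y : Sg, FiP.code (incl22 y) = x := by
      have : ∀ x ∈ [1, 2, 3, 4, 5, 6, 7, 8], ∃ y ∈ gensS, FiP.code (incl22 y) = x := by decide
      obtain ⟨y, -, hy⟩ := this x hx
      exact ⟨y, hy⟩
    refine ⟨⟨chi (PresentedGroup.of y), _, rfl⟩, ?_⟩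
    rw [← hy]
    exact (PresentedGroup.toGroup.of rels22).trans (FiP.coding.gen_code _).symm
  have hc : Nat.card (FiP.sub [1, 2, 3, 4, 5, 6, 7, 8]) = 4585351680 := by
    have h := (FiP.sub [1, 2, 3, 4, 5, 6, 7, 8]).card_mul_index
    rw [FiP.index_O_eq, FiP.card_eq.1] at h
    omega
  have h1 : 4585351680 ≤ Nat.card p.range := hc ▸ Subgroup.card_le_of_le hr
  have h2 : 2 ≤ Nat.card p.ker := by
    let z : chi.range := ⟨_, _, (chi_central lA List.mem_cons_self)⟩
    have hz : z ∈ p.ker := rfl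
    have hne : (-1 : ℤˣ) ≠ 1 := by decide
    have : Nontrivial p.ker := ⟨⟨⟨z, hz⟩, 1, fun e => hne
      (congrArg (fun w : p.ker => ((w : chi.range) : Fi22 × ℤˣ).2) e)⟩⟩
    exact Finite.one_lt_card
  have h := p.ker.card_mul_index
  rw [Subgroup.index_ker] at h
  calc 9170703360 = 2 * 4585351680 := by norm_num
    _ ≤ Nat.card p.ker * Nat.card p.range := Nat.mul_le_mul h2 h1
    _ = Nat.card chi.range := h

theorem chi_injective : Function.Injective chi := by
  have : Finite SG := Nat.finite_of_card_ne_zero card_le.2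
  have hle : Nat.card chi.range ≤ Nat.card SG :=
    Nat.card_le_card_of_surjective _ chi.rangeRestrict_surjective
  have hb : Function.Bijective chi.rangeRestrict :=
    (Nat.bijective_iff_surjective_and_card _).2 ⟨chi.rangeRestrict_surjective, by
      have := card_range; have := card_le.1; omega⟩
  intro a b e
  exact hb.1 (Subtype.ext e)

/-- The central involution. -/
noncomputable def zS : SG := PresentedGroup.mk _ (word lA ^ 9)

theorem word_eq_zS : ∀ L ∈ [lA, lB, lC], (PresentedGroup.mk _ (word L ^ 9) : SG) = zS := fun L hL =>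
  chi_injective ((chi_central L hL).trans (chi_central lA List.mem_cons_self).symm)

theorem tau_eq_one : (PresentedGroup.mk _ (word lT ^ 10) : SG) = 1 :=
  chi_injective (chi_tau.trans (map_one chi).symm)

theorem zS_central (x : SG) : x * zS = zS * x := by
  apply chi_injective
  rw [map_mul, map_mul, show chi zS = (1, -1) from chi_central lA List.mem_cons_self]
  exact Prod.ext (by simp) (mul_comm _ _)

theorem zS_sq : zS * zS = 1 := by
  apply chi_injective
  rw [map_mul, show chi zS = (1, -1) from chi_central lA List.mem_cons_self, map_one]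
  exact Prod.ext (one_mul _) (by simp)

end CfsgLib.Sporadic.Spider
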