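import Cfsg.Agent.Lib.Sporadic.CosetCertApply
import Cfsg.Prelude.Def_Spor_Suz
import Cfsg.Agent.Lib.Sporadic.SuzData.SuzCertH
import Cfsg.Agent.Lib.Sporadic.SuzData.SuzCertJ2
import Cfsg.Agent.Lib.Sporadic.SuzData.SuzCertA
import Cfsg.Agent.Lib.Sporadic.SuzData.SuzCertB
import Cfsg.Agent.Lib.Sporadic.SuzData.SuzCertC
import Cfsg.Agent.Lib.Sporadic.SuzData.SuzCertT
import Cfsg.Agent.Lib.Sporadic.SuzData.SuzCertU
import Cfsg.Agent.Lib.Sporadic.SuzData.SuzCertV

/-!
# Enumerations in the presented Suzuki group: upper bounds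
-/

open Cfsg.Spor

namespace CfsgLib.Sporadic.CosetCert.SuzP

open Suz in
/-- All seven generators as letters. -/
def gens : List Gen := [Gen.a, Gen.b, Gen.c, Gen.d, Gen.e, Gen.f, Gen.g]

/-- The position of a generator. -/
def code : Suz.Gen → ℕ
  | .a => 0 | .b => 1 | .c => 2 | .d => 3 | .e => 4 | .f => 5 | .g => 6

theorem mem_nodes (x : Suz.Gen) : x ∈ coxNodes Suz.edges := by
  cases x <;> decide

theorem gens_getElem (x : Suz.Gen) : gens[code x]? = some x := by
  cases x <;> rfl

/-- The coding of letters. -/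
def coding : Coding Suz.edges Suz.extra 7 0x76543210 where
  lets := gens.map fun x => (x, true)
  code := code
  cinv := code
  pairs := (List.range 7).flatMap fun i =>
    ((List.range 7).filter fun j => decide (i ≤ j)).map fun j =>
      (gens.getD i Suz.Gen.a, gens.getD j Suz.Gen.a)
  len := rfl
  code_eq a := by cases a <;> rfl
  cinv_eq a := Or.inr ⟨rfl, mem_nodes a⟩
  inv_eq x hx := by
    refine ⟨gens.getD x Suz.Gen.a, Or.inl ?_⟩
    revert x
    decide
  pairs_mem p hp := ⟨mem_nodes _, mem_nodes _⟩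
  pairs_cover := by decide +kernel

/-- The subgroup generated by some letters. -/
noncomputable abbrev sub (l : List ℕ) : Subgroup Suz := coding.sub l

/-- All relators. -/
def allRels : List (FreeGroup Suz.Gen) := relList Suz.edges Suz.extra coding.pairs

/-- The relators in some letters only. -/
def relsIn (l : List ℕ) : List (FreeGroup Suz.Gen) :=
  allRels.filter fun r => (appWord code code r).all fun x => decide (x ∈ l)

theorem relsIn_one {l : List ℕ} :
    ∀ r ∈ relsIn l, PresentedGroup.mk (coxRelators Suz.edges ∪ {r | r ∈ Suz.extra}) r = 1 :=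
  fun _ hr => mk_relList coding.pairs_mem (List.mem_filter.1 hr).1

/-- The words of generators of a subgroup. -/
def subsOf (l : List ℕ) : List (FreeGroup Suz.Gen) :=
  l.map fun i => FreeGroup.of (gens.getD i Suz.Gen.a)

theorem subsOf_mem {l : List ℕ} (hl : ∀ i ∈ l, i < 7) :
    ∀ r ∈ subsOf l, PresentedGroup.mk (coxRelators Suz.edges ∪ {r | r ∈ Suz.extra}) r ∈ sub l := by
  intro r hr
  obtain ⟨i, hi, rfl⟩ := List.mem_map.1 hr
  refine Subgroup.subset_closure ⟨i, hi, ?_⟩
  have e : i = code (gens.getD i Suz.Gen.a) := by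
    have h : ∀ j < 7, j = code (gens.getD j Suz.Gen.a) := by decide
    exact h i (hl i hi)
  conv_lhs => rw [e]
  exact coding.gen_code _

theorem step {C : Cert} (hV : C.Valid) (hN : 0 < C.N) {n : ℕ} (hn : C.N = n) {σ l : List ℕ}
    (hσ : ∀ x < C.nl, σ.getD x 7 < 7 ∧
      σ.getD (C.inv x) 7 = Nat.mod (Nat.shiftRight 0x76543210 (Nat.mul 4 (σ.getD x 7))) 16)
    (hlen : σ.length = C.nl) (hl : ∀ i ∈ l, i < 7)
    (hrl : (relsIn σ).length = C.nr)
    (hW : (relsIn σ ++ subsOf l).map (appWord code code) =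
      (List.range C.words.length).map fun i => (C.letters i).map (σ.getD · 7)) :
    (sub l).relIndex (sub σ) ≤ n ∧ (sub l).relIndex (sub σ) ≠ 0 := by
  subst hn
  exact coding.relIndex_sub_le C hV hN σ hσ hlen (relsIn σ) (subsOf l) relsIn_one
    (coding.wordsOK_of_map_eq hrl hW) (sub l) (subsOf_mem hl)

theorem sub_all : sub [0, 1, 2, 3, 4, 5, 6] = ⊤ := coding.sub_eq_top (by decide)

theorem index_H :
    (sub [0, 1, 2, 3, 4, 5]).index ≤ 1782 ∧ (sub [0, 1, 2, 3, 4, 5]).index ≠ 0 := by
  have := step (σ := [0, 1, 2, 3, 4, 5, 6]) (l := [0, 1, 2, 3, 4, 5]) SuzData.certH_valid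
    (by decide +kernel) (n := 1782) rfl (by decide +kernel) rfl (by decide) (by decide +kernel)
    (by decide +kernel)
  rwa [sub_all, Subgroup.relIndex_top_right] at this

theorem relIndex_J2 : (sub [0, 1, 2, 3, 4]).relIndex (sub [0, 1, 2, 3, 4, 5]) ≤ 416 ∧
    (sub [0, 1, 2, 3, 4]).relIndex (sub [0, 1, 2, 3, 4, 5]) ≠ 0 :=
  step SuzData.certJ2_valid (by decide +kernel) rfl (by decide +kernel) rfl (by decide)
    (by decide +kernel) (by decide +kernel)

theorem relIndex_A : (sub [0, 1, 2, 3]).relIndex (sub [0, 1, 2, 3, 4]) ≤ 280 ∧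
    (sub [0, 1, 2, 3]).relIndex (sub [0, 1, 2, 3, 4]) ≠ 0 :=
  step SuzData.certA_valid (by decide +kernel) rfl (by decide +kernel) rfl (by decide)
    (by decide +kernel) (by decide +kernel)

theorem relIndex_B : (sub [0, 1]).relIndex (sub [0, 1, 2, 3]) ≤ 216 ∧
    (sub [0, 1]).relIndex (sub [0, 1, 2, 3]) ≠ 0 :=
  step SuzData.certB_valid (by decide +kernel) rfl (by decide +kernel) rfl (by decide)
    (by decide +kernel) (by decide +kernel)

theorem relIndex_C : (sub [0]).relIndex (sub [0, 1]) ≤ 5 ∧ (sub [0]).relIndex (sub [0, 1]) ≠ 0 :=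
  step SuzData.certC_valid (by decide +kernel) rfl (by decide +kernel) rfl (by decide)
    (by decide +kernel) (by decide +kernel)

theorem card_A : Nat.card (sub [0, 1, 2, 3]) ≤ 2160 ∧ Nat.card (sub [0, 1, 2, 3]) ≠ 0 := by
  have h0 : Nat.card (sub [0]) ≤ 2 ∧ Nat.card (sub [0]) ≠ 0 := by
    have e : sub [0] = Subgroup.closure {coding.gen 0} := by
      show Subgroup.closure _ = _
      congr 1
      ext z
      simp [eq_comm]
    rw [e]
    refine card_closure_involution ?_
    have : coding.gen 0 = PresentedGroup.of Suz.Gen.a := coding.gen_code Suz.Gen.a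
    rw [this]
    exact inv_eq_iff_mul_eq_one.1 (node_inv (mem_nodes _))
  have h1 := card_le_of_relIndex (coding.sub_mono (by decide)) relIndex_C h0
  exact card_le_of_relIndex (coding.sub_mono (by decide)) relIndex_B h1

theorem card_H :
    Nat.card (sub [0, 1, 2, 3, 4, 5]) ≤ 251596800 ∧ Nat.card (sub [0, 1, 2, 3, 4, 5]) ≠ 0 :=
  card_le_of_relIndex (coding.sub_mono (by decide)) relIndex_J2
    (card_le_of_relIndex (coding.sub_mono (by decide)) relIndex_A card_A)

theorem card_le : Nat.card Suz ≤ 448345497600 ∧ Nat.card Suz ≠ 0 := by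
  have h := (sub [0, 1, 2, 3, 4, 5]).card_mul_index
  rw [← h]
  refine ⟨?_, mul_ne_zero card_H.2 index_H.2⟩
  exact (Nat.mul_le_mul card_H.1 index_H.1).trans (by norm_num)

/-- The word `(a b c g)^5`, redundant in the presentation. -/
def extraRel : FreeGroup Suz.Gen := (Suz.a * Suz.b * Suz.c * Suz.g) ^ 5

/-- The word `b c d e f g`, of order 11. -/
def wordT : FreeGroup Suz.Gen := Suz.b * Suz.c * Suz.d * Suz.e * Suz.f * Suz.g

/-- The word of order 11 and its conjugates by the generators. -/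
def wordsT : List (FreeGroup Suz.Gen) :=
  wordT :: gens.map fun x => FreeGroup.of x * wordT * FreeGroup.of x

theorem eq_top_of_wordT_mem (M : Subgroup Suz) (hM : M.Normal)
    (h : PresentedGroup.mk (coxRelators Suz.edges ∪ {r | r ∈ Suz.extra}) wordT ∈ M) : M = ⊤ := by
  have hS : ∀ r ∈ wordsT,
      PresentedGroup.mk (coxRelators Suz.edges ∪ {r | r ∈ Suz.extra}) r ∈ M := by
    intro r hr
    rcases List.mem_cons.1 hr with rfl | hr
    · exact h
    · obtain ⟨x, -, rfl⟩ := List.mem_map.1 hr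
      rw [map_mul, map_mul]
      have hx : (PresentedGroup.of x : Suz)⁻¹ = PresentedGroup.of x := node_inv (mem_nodes x)
      show (PresentedGroup.of x : Suz) * _ * PresentedGroup.of x ∈ M
      conv_lhs => rfl
      nth_rewrite 2 [← hx]
      exact hM.conj_mem _ h _
  have := coding.relIndex_sub_le SuzData.certT SuzData.certT_valid (by decide +kernel)
    [0, 1, 2, 3, 4, 5, 6] (by decide +kernel) rfl allRels wordsT
    (fun r hr => mk_relList coding.pairs_mem hr)
    (coding.wordsOK_of_map_eq (by decide +kernel) (by decide +kernel)) M hS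
  rw [coding.sub_eq_top (by decide), Subgroup.relIndex_top_right] at this
  have hN : SuzData.certT.N = 1 := rfl
  rw [hN] at this
  exact Subgroup.index_eq_one.1 (by omega)

/-- The order of `⟨a, b, c, d, f, g⟩` is at most that of `3·U₄(3):2`, given the redundant
relation. -/
theorem card_U_le
    (hx : PresentedGroup.mk (coxRelators Suz.edges ∪ {r | r ∈ Suz.extra}) extraRel = 1) :
    Nat.card (sub [0, 1, 2, 3, 5, 6]) ≤ 19595520 ∧ Nat.card (sub [0, 1, 2, 3, 5, 6]) ≠ 0 := by
  have h2 : (sub [0, 1, 2, 3]).relIndex (sub [0, 1, 2, 3, 6]) ≤ 56 ∧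
      (sub [0, 1, 2, 3]).relIndex (sub [0, 1, 2, 3, 6]) ≠ 0 := by
    refine coding.relIndex_sub_le SuzData.certV SuzData.certV_valid (by decide +kernel)
      [0, 1, 2, 3, 6] (by decide +kernel) rfl (relsIn [0, 1, 2, 3, 6] ++ [extraRel])
      (subsOf [0, 1, 2, 3]) ?_ (coding.wordsOK_of_map_eq (by decide +kernel) (by decide +kernel))
      (sub [0, 1, 2, 3]) (subsOf_mem (by decide))
    intro r hr
    rcases List.mem_append.1 hr with hr | hr
    · exact relsIn_one r hr
    · rw [List.mem_singleton.1 hr, hx]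
  have h1 : (sub [0, 1, 2, 3, 6]).relIndex (sub [0, 1, 2, 3, 5, 6]) ≤ 162 ∧
      (sub [0, 1, 2, 3, 6]).relIndex (sub [0, 1, 2, 3, 5, 6]) ≠ 0 :=
    step SuzData.certU_valid (by decide +kernel) rfl (by decide +kernel) rfl (by decide)
      (by decide +kernel) (by decide +kernel)
  exact card_le_of_relIndex (coding.sub_mono (by decide)) h1
    (card_le_of_relIndex (coding.sub_mono (by decide)) h2 card_A)

end CfsgLib.Sporadic.CosetCert.SuzP
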