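import Cfsg.Prelude.Def_SporadicCombinatorics

/-!
The length 12 ternary code on the 4 × 3 array: explicit basis and kernel-checked tables.
-/

set_option autoImplicit false

namespace CfsgLib.Sporadic.TernaryGolay

open Cfsg

/-- Position number of an array point. -/
def pos (p : ArrayPt) : Fin 12 := ⟨3 * p.1.val + p.2.val, by
  have := p.1.isLt; have := ZMod.val_lt p.2; omega⟩

/-- A basis of the code, systematic at the positions 0, 1, 2, 3, 4, 6. -/
def basisTab : Fin 6 → Fin 12 → ZMod 3 :=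
  ![![1, 0, 0, 0, 0, 1, 0, 0, 1, 1, 1, 2],
    ![0, 1, 0, 0, 0, 1, 0, 2, 2, 2, 0, 2],
    ![0, 0, 1, 0, 0, 1, 0, 1, 0, 2, 1, 1],
    ![0, 0, 0, 1, 0, 2, 0, 2, 1, 2, 1, 0],
    ![0, 0, 0, 0, 1, 2, 0, 1, 2, 0, 1, 2],
    ![0, 0, 0, 0, 0, 0, 1, 1, 1, 2, 2, 2]]

/-- The basis vectors as words on the array. -/
def bvec (i : Fin 6) : ArrayPt → ZMod 3 := fun p => basisTab i (pos p)

/-- The information positions. -/
def info : Fin 6 → ArrayPt := ![(0, 0), (0, 1), (0, 2), (1, 0), (1, 1), (2, 0)]

/-- The other positions. -/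
def rest : Fin 6 → ArrayPt := ![(1, 2), (2, 1), (2, 2), (3, 0), (3, 1), (3, 2)]

/-- The word with given information coordinates. -/
def gen (v : Fin 6 → ZMod 3) : ArrayPt → ZMod 3 := fun p => ∑ i, v i * bvec i p

/-- The nine words of the tetracode. -/
def tetWord (a b : ZMod 3) : Fin 4 → ZMod 3 := a • ![0, 1, 1, 1] + b • ![1, 0, 1, 2]

theorem mem_tetracode {t : Fin 4 → ZMod 3} : t ∈ tetracode ↔ ∃ a b, tetWord a b = t :=
  Submodule.mem_span_pair

/-- The defining equations with the scalar read off from the first column. -/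
def Eqs (x : ArrayPt → ZMod 3) : Prop :=
  (∀ i : Fin 4, ∑ r : ZMod 3, x (i, r) = ∑ r : ZMod 3, x (0, r)) ∧
    ∀ a b : ZMod 3, ∑ i : Fin 4, x (i, tetWord a b i) = -∑ r : ZMod 3, x (0, r)

instance decEqs (x : ArrayPt → ZMod 3) : Decidable (Eqs x) := by unfold Eqs; infer_instance

theorem mem_code_iff_eqs {x : ArrayPt → ZMod 3} : x ∈ ternaryGolayCode ↔ Eqs x := by
  constructor
  · rintro ⟨s, hs, ht⟩
    refine ⟨fun i => (hs i).trans (hs 0).symm, fun a b => ?_⟩
    rw [ht _ (mem_tetracode.2 ⟨a, b, rfl⟩), hs 0, neg_neg]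
  · rintro ⟨hs, ht⟩
    refine ⟨-∑ r : ZMod 3, x (0, r), fun i => by rw [neg_neg, hs i], fun t h => ?_⟩
    obtain ⟨a, b, rfl⟩ := mem_tetracode.1 h
    exact ht a b

set_option maxRecDepth 4000 in
theorem bvec_mem (i : Fin 6) : bvec i ∈ ternaryGolayCode := by
  rw [mem_code_iff_eqs]
  revert i
  decide +kernel

theorem gen_eq_sum (v : Fin 6 → ZMod 3) : gen v = ∑ i, v i • bvec i := by
  funext p
  simp [gen, Finset.sum_apply]

theorem gen_mem (v : Fin 6 → ZMod 3) : gen v ∈ ternaryGolayCode := by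
  rw [gen_eq_sum]
  exact Submodule.sum_mem _ fun i _ => Submodule.smul_mem _ _ (bvec_mem i)

/-- The word vanishing at the information positions with given other coordinates. -/
def outside (w : Fin 6 → ZMod 3) : ArrayPt → ZMod 3 :=
  fun p => ∑ i, if rest i = p then w i else 0

set_option maxRecDepth 4000 in
theorem outside_eq_zero : ∀ w : Fin 6 → ZMod 3, Eqs (outside w) → w = 0 := by
  decide +kernel

theorem cover : ∀ p : ArrayPt, (∃ i, info i = p) ∨ ∃ i, rest i = p := by decide

theorem info_outside : ∀ i j, rest i ≠ info j := by decide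

theorem rest_injective : Function.Injective rest := by decide

theorem bvec_info : ∀ i j, bvec i (info j) = if i = j then 1 else 0 := by decide

theorem gen_info (v : Fin 6 → ZMod 3) (j : Fin 6) : gen v (info j) = v j := by
  simp [gen, bvec_info]

theorem mem_iff {x : ArrayPt → ZMod 3} : x ∈ ternaryGolayCode ↔ ∃ v, gen v = x := by
  refine ⟨fun hx => ?_, fun ⟨v, hv⟩ => hv ▸ gen_mem v⟩
  refine ⟨fun i => x (info i), ?_⟩
  set v : Fin 6 → ZMod 3 := fun i => x (info i)
  have hy : x - gen v ∈ ternaryGolayCode := sub_mem hx (gen_mem v)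
  have hout : x - gen v = outside (fun i => (x - gen v) (rest i)) := by
    funext p
    rcases cover p with ⟨j, rfl⟩ | ⟨j, rfl⟩
    · simp [outside, info_outside, gen_info, v]
    · simp [outside, rest_injective.eq_iff]
  rw [hout, mem_code_iff_eqs] at hy
  have := outside_eq_zero _ hy
  rw [this] at hout
  exact (sub_eq_zero.1 (hout.trans (by funext p; simp [outside]))).symm

theorem gen_injective : Function.Injective gen := fun v w h =>
  funext fun i => by rw [← gen_info v i, h, gen_info]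

/-- The weight of the word with the given information coordinates. -/
def wt (v : Fin 6 → ZMod 3) : ℕ := (ternarySupport (gen v)).card

set_option maxRecDepth 4000 in
theorem wt_cases : ∀ v, v = 0 ∨ wt v = 6 ∨ wt v = 9 ∨ wt v = 12 := by decide +kernel

set_option maxRecDepth 4000 in
theorem wt_counts : (Finset.univ.filter fun v => wt v = 6).card = 264 ∧
    (Finset.univ.filter fun v => wt v = 9).card = 440 ∧
    (Finset.univ.filter fun v => wt v = 12).card = 24 := by
  decide +kernel

theorem card_code : Nat.card ↥ternaryGolayCode = 729 := by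
  have e : (Fin 6 → ZMod 3) ≃ ↥ternaryGolayCode :=
    Equiv.ofBijective (fun v => ⟨gen v, gen_mem v⟩)
      ⟨fun v w h => gen_injective (Subtype.ext_iff.1 h),
        fun x => (mem_iff.1 x.2).imp fun v hv => Subtype.ext hv⟩
  rw [← Nat.card_congr e]
  simp

theorem ncard_weight (k : ℕ) :
    {x : ArrayPt → ZMod 3 | x ∈ ternaryGolayCode ∧ (ternarySupport x).card = k}.ncard
      = (Finset.univ.filter fun v => wt v = k).card := by
  rw [← Set.ncard_coe_finset, ← Set.ncard_image_of_injective _ gen_injective]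
  congr 1
  ext x
  constructor
  · rintro ⟨hx, h⟩
    obtain ⟨v, rfl⟩ := mem_iff.1 hx
    exact ⟨v, Finset.mem_filter.2 ⟨Finset.mem_univ v, h⟩, rfl⟩
  · rintro ⟨v, h, rfl⟩
    exact ⟨gen_mem v, (Finset.mem_filter.1 h).2⟩

theorem bvec_dot : ∀ i j, ∑ p, bvec i p * bvec j p = 0 := by decide +kernel

theorem dot_eq_zero {x y : ArrayPt → ZMod 3} (hx : x ∈ ternaryGolayCode) (hy : y ∈ ternaryGolayCode) :
    ∑ p, x p * y p = 0 := by
  obtain ⟨v, rfl⟩ := mem_iff.1 hx
  obtain ⟨w, rfl⟩ := mem_iff.1 hy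
  simp only [gen, Finset.sum_mul_sum]
  rw [Finset.sum_comm]
  refine Finset.sum_eq_zero fun i _ => ?_
  rw [Finset.sum_comm]
  refine Finset.sum_eq_zero fun j _ => ?_
  calc ∑ p, v i * bvec i p * (w j * bvec j p) = v i * w j * ∑ p, bvec i p * bvec j p := by
        rw [Finset.mul_sum]; exact Finset.sum_congr rfl fun p _ => by ring
    _ = 0 := by rw [bvec_dot, mul_zero]

end CfsgLib.Sporadic.TernaryGolay
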