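import Cfsg.Agent.Lib.Sporadic.M24Orbits

/-!
Data for the stabiliser of a trio: generators and orbit trees. A trio is encoded by the twelve bit keys
of two of its octads.
-/

set_option autoImplicit false
set_option maxRecDepth 80000

namespace CfsgLib.Sporadic.TrioData

open CfsgLib.Sporadic.M24Orbits

/-- Generators fixing the base trio. -/
def gens : List (List ℕ) := [[18, 17, 7, 9, 21, 12, 14, 8, 4, 5, 3, 2, 20, 19, 11, 15, 10, 13, 0, 1, 22, 6, 16, 23],
  [0, 1, 2, 3, 4, 5, 6, 7, 8, 9, 10, 11, 12, 13, 14, 15, 16, 17, 18, 19, 20, 21, 22, 23],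
  [8, 3, 18, 23, 22, 19, 4, 6, 0, 7, 9, 10, 12, 2, 1, 20, 15, 5, 16, 14, 17, 13, 11, 21]]

/-- The base trio. -/
def base : ℕ := 12588

/-- The root of the suborbit of length 1008. -/
def rootA : ℕ := 28065

/-- Its spanning tree. -/
def treeA : Tree := (.node 0 13119772 (.node 0 1100896 (.node 0 6887438 (.node 0 1221713 (.node 0 2440200 (.node 0 132496 (.node 0 8655524 (.node 2 2134242 (.node 0 2229507 (.node 0 4339736 .leaf (.node 2 4522795 .leaf .leaf)) (.node 2 10109016 (.node 0 1916969 (.node 2 1183370 (.node 0 12656833 .leaf .leaf) .leaf) (.node 2 76684 .leaf .leaf)) .leaf)) .leaf) (.node 2 14254118 (.node 0 3265730 (.node 0 3080458 (.node 0 1447052 (.node 0 8716326 (.node 2 12324908 .leaf .leaf) (.node 2 2359571 .leaf .leaf)) (.node 2 196352 (.node 0 11011394 .leaf (.node 2 1222273 (.node 0 2439300 (.node 0 134598 .leaf .leaf) .leaf) .leaf)) .leaf)) (.node 2 1577596 (.node 0 1383072 (.node 0 4272776 .leaf .leaf) .leaf) .leaf)) (.node 2 6557740 (.node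 2 27536 (.node 0 13120008 (.node 0 1097938 .leaf .leaf) (.node 2 11730954 (.node 0 224833 (.node 2 8665012 .leaf .leaf) .leaf) .leaf)) .leaf) .leaf)) .leaf)) .leaf) (.node 2 40160 (.node 0 14950576 (.node 0 195216 (.node 0 11010136 (.node 0 1200344 (.node 0 600172 (.node 0 1062532 .leaf (.node 2 4391815 (.node 2 12657133 .leaf .leaf) .leaf)) (.node 2 462474 (.node 0 4196563 .leaf (.node 2 7127331 (.node 0 3836945 (.node 0 11730959 .leaf .leaf) .leaf) .leaf)) .leaf)) (.node 2 76553 (.node 0 8389175 .leaf (.node 2 5788240 (.node 2 12747587 .leaf .leaf) .leaf)) .leaf)) (.node 2 1223189 (.node 0 2440456 (.node 0 134684 (.node 2 6818137 .leaf .leaf) (.node 2 6322240 .leaf .leaf)) .leaf) .leaf)) (.node 2 9467544 (.node 0 614248 .leaf (.node 2 2893876 (.node 2 3152092 (.node 0 4392971 (.node 0 47600 (.node 2 9470628 .leaf .leaf) (.node 2 5425363 .leaf .leaf)) .leaf) .leaf) .leaf)) .leaf)) (.node 2 1074800 (.node 0 9241642 (.node 0 1075784 (.node 0 9241865 (.node 2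 3152014 .leaf .leaf) (.node 2 4915215 (.node 0 9471030 .leaf .leaf) .leaf)) .leaf) (.node 2 13893647 (.node 0 4311330 (.node 0 11043107 (.node 0 3566609 (.node 2 8675481 (.node 0 543800 .leaf (.node 2 1313411 .leaf .leaf)) .leaf) (.node 2 13369615 (.node 2 1087062 (.node 2 1064032 .leaf .leaf) .leaf) .leaf)) .leaf) (.node 2 1099313 (.node 0 6885480 (.node 0 1223828 (.node 2 39314 (.node 2 1075856 .leaf .leaf) .leaf) (.node 2 68651 (.node 2 7375059 .leaf .leaf) .leaf)) (.node 2 154714 .leaf .leaf)) .leaf)) .leaf)) .leaf)) .leaf)) (.node 2 4237361 (.node 0 2136560 (.node 0 2228427 (.node 0 4339932 .leaf (.node 2 1542276 (.node 2 203660 (.node 0 272308 (.node 0 4463110 .leaf (.node 2 13770780 (.node 0 8503587 (.node 0 2640913 .leaf .leaf) .leaf) .leaf)) .leaf) .leaf) .leaf)) (.node 2 10109448 (.node 0 1916938 (.node 0 1642049 (.node 2 8423348 (.node 2 4196670 (.node 2 4250096 (.node 0 2669844 .leaf .leaf) .leaf) .leaf) .leaf) .leaf) (.node 2 549985 (.node 0 5767243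 (.node 0 1149443 (.node 2 8410538 (.node 0 9193240 (.node 0 5788216 .leaf .leaf) (.node 2 2530562 (.node 0 2236509 .leaf .leaf) .leaf)) .leaf) (.node 2 1155685 (.node 2 45488 (.node 2 9471634 (.node 2 4217106 .leaf .leaf) .leaf) .leaf) .leaf)) (.node 2 13120276 (.node 0 1100978 (.node 0 6885710 (.node 0 1221328 .leaf (.node 2 236546 .leaf .leaf)) (.node 2 154002 (.node 2 11100416 .leaf .leaf) .leaf)) (.node 2 69480 (.node 0 4203132 (.node 0 304405 (.node 0 6299801 .leaf (.node 2 8619202 .leaf .leaf)) (.node 2 599393 (.node 2 4875025 .leaf .leaf) .leaf)) (.node 2 6887754 (.node 0 1222848 (.node 0 2439336 .leaf .leaf) (.node 2 4298786 .leaf .leaf)) .leaf)) .leaf)) .leaf)) .leaf)) .leaf)) (.node 2 2263251 (.node 0 6684933 (.node 0 166099 (.node 0 10495224 (.node 0 4344019 (.node 0 4754034 .leaf (.node 2 539168 (.node 0 9437287 .leaf .leaf) .leaf)) (.node 2 2441507 (.node 0 666641 (.node 2 612426 (.node 2 4311683 .leaf .leaf) .leaf) (.node 2 6684943 .leaf .leaf))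 .leaf)) (.node 2 8397473 (.node 0 8677016 .leaf (.node 2 10555844 (.node 0 154184 (.node 2 4915456 (.node 2 14254085 .leaf .leaf) .leaf) (.node 2 2154609 (.node 2 577089 .leaf .leaf) .leaf)) .leaf)) .leaf)) (.node 2 12878115 (.node 2 14745871 (.node 2 1087574 (.node 2 1063652 (.node 0 4522406 .leaf (.node 2 10495188 .leaf .leaf)) .leaf) .leaf) .leaf) .leaf)) (.node 2 657923 (.node 0 1320600 (.node 0 73861 (.node 2 6885700 (.node 0 1223825 .leaf .leaf) .leaf) (.node 2 2895140 (.node 2 1189377 .leaf .leaf) .leaf)) (.node 2 10556842 (.node 0 153368 (.node 0 4985400 (.node 0 1088660 (.node 2 1063064 (.node 2 4483728 .leaf .leaf) .leaf) .leaf) (.node 2 2776154 (.node 2 6529029 (.node 0 2261335 (.node 2 659012 .leaf .leaf) (.node 2 11043921 .leaf .leaf)) .leaf) .leaf)) (.node 2 2527254 (.node 0 2238593 (.node 2 10556772 (.node 2 295479 .leaf .leaf) .leaf) .leaf) .leaf)) .leaf)) .leaf)) .leaf)) .leaf)) (.node 2 153106 (.node 0 4985620 (.node 0 1088690 (.node 0 10556576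 (.node 0 152272 (.node 0 4985374 (.node 2 691207 (.node 2 8783630 .leaf .leaf) .leaf) (.node 2 14717184 (.node 0 10666368 (.node 2 4718695 .leaf .leaf) .leaf) .leaf)) (.node 2 234054 (.node 0 2103458 (.node 2 10556526 (.node 2 2195559 (.node 2 667201 (.node 0 13893676 .leaf .leaf) .leaf) .leaf) .leaf) .leaf) .leaf)) (.node 2 1063092 (.node 0 4524586 (.node 0 40486 (.node 0 14950572 (.node 0 195664 .leaf .leaf) (.node 2 1074856 (.node 2 2883599 .leaf .leaf) .leaf)) (.node 2 4759873 (.node 0 11576548 (.node 2 4887120 .leaf .leaf) (.node 2 2400565 .leaf .leaf)) .leaf)) (.node 2 11100457 (.node 0 10109520 (.node 0 1916963 (.node 0 1639981 (.node 0 9774760 .leaf .leaf) (.node 2 15335690 (.node 0 5423297 .leaf .leaf) .leaf)) (.node 2 11576417 (.node 0 2310219 (.node 2 1158721 .leaf .leaf) (.node 2 4887316 .leaf .leaf)) .leaf)) (.node 2 1202704 .leaf .leaf)) .leaf)) .leaf)) (.node 2 12747600 (.node 0 2156929 (.node 0 2762005 (.node 0 1191492 (.node 0 66371 .leaf (.node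 2 1312402 (.node 0 12649158 .leaf (.node 2 5244951 (.node 0 8499396 .leaf (.node 2 9241095 (.node 0 1076448 .leaf .leaf) .leaf)) .leaf)) .leaf)) (.node 2 12656872 (.node 0 52034 .leaf (.node 2 469377 (.node 0 8398101 .leaf (.node 2 11011425 (.node 0 1202882 (.node 0 599396 .leaf .leaf) .leaf) .leaf)) .leaf)) .leaf)) (.node 2 574817 (.node 0 12324902 (.node 0 1262786 .leaf (.node 2 10493996 (.node 0 4344451 (.node 0 4751654 .leaf .leaf) .leaf) .leaf)) (.node 2 271121 (.node 2 14950428 (.node 0 194240 (.node 0 11011093 .leaf .leaf) (.node 2 18787 .leaf .leaf)) .leaf) .leaf)) .leaf)) (.node 2 6441290 (.node 0 9347328 (.node 0 3164328 (.node 2 4472995 (.node 2 13119848 (.node 2 89960 (.node 2 6887532 .leaf .leaf) .leaf) .leaf) .leaf) (.node 2 4554757 (.node 2 2165961 .leaf .leaf) .leaf)) (.node 2 4297346 (.node 0 6326627 (.node 2 2639161 (.node 0 6160389 .leaf (.node 2 3161144 (.node 0 8593857 .leaf .leaf) .leaf)) .leaf) (.node 2 3277006 (.node 0 462720 .leaf (.node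 2 387201 (.node 0 2628664 (.node 0 9830547 .leaf .leaf) (.node 2 99684 (.node 0 6559896 (.node 0 4623110 .leaf .leaf) .leaf) .leaf)) .leaf)) .leaf)) .leaf)) .leaf)) .leaf)) (.node 2 13062400 (.node 0 576288 (.node 0 12324874 (.node 0 1265217 (.node 0 8982572 (.node 2 27321 (.node 0 13119576 (.node 0 1097969 (.node 2 155274 .leaf .leaf) .leaf) (.node 2 6162965 .leaf .leaf)) .leaf) (.node 2 296884 (.node 0 10486855 (.node 0 8545417 (.node 2 3566600 .leaf .leaf) .leaf) (.node 2 224520 (.node 2 6322672 (.node 0 688707 .leaf .leaf) .leaf) .leaf)) .leaf)) (.node 2 173521 (.node 0 6293671 (.node 0 174673 (.node 0 6291865 (.node 0 174277 (.node 2 50546 .leaf .leaf) (.node 2 1332250 (.node 0 591371 .leaf .leaf) .leaf)) .leaf) .leaf) (.node 2 52354 (.node 0 2895117 (.node 0 1182787 (.node 0 12657569 .leaf .leaf) (.node 2 7477468 (.node 2 4524046 (.node 2 4235713 .leaf .leaf) .leaf) .leaf)) (.node 2 132682 (.node 2 2719782 (.node 0 3278877 .leaf (.node 2 790291 .leaf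 .leaf)) .leaf) .leaf)) .leaf)) .leaf)) (.node 2 271525 (.node 0 4460938 (.node 0 8430353 (.node 0 10507720 (.node 2 2438560 (.node 2 12599875 (.node 0 8966992 .leaf (.node 2 8655260 .leaf .leaf)) .leaf) .leaf) (.node 2 12640848 (.node 0 7127075 .leaf .leaf) .leaf)) (.node 2 316210 (.node 0 6816015 (.node 0 9606802 .leaf (.node 2 1088194 .leaf .leaf)) (.node 2 1117764 (.node 0 332546 (.node 0 265100 (.node 2 4986898 .leaf .leaf) (.node 2 14950569 .leaf .leaf)) (.node 2 9750162 (.node 2 4274436 .leaf .leaf) .leaf)) .leaf)) .leaf)) (.node 2 13120352 (.node 0 1099456 (.node 0 6887428 .leaf .leaf) (.node 2 16531 (.node 0 529020 (.node 2 599597 (.node 0 1062568 .leaf (.node 2 3687475 .leaf .leaf)) .leaf) .leaf) .leaf)) .leaf)) .leaf)) (.node 2 9347077 (.node 0 3162235 (.node 0 9109775 (.node 0 1066642 (.node 0 5054761 (.node 0 5276240 (.node 2 10630472 (.node 0 410139 .leaf .leaf) .leaf) (.node 2 1203330 (.node 0 601357 (.node 2 7475350 .leaf .leaf) .leaf) .leaf))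 .leaf) (.node 2 1086130 (.node 0 10555598 (.node 0 155520 (.node 2 8505059 (.node 0 2640168 (.node 2 4337860 .leaf .leaf) .leaf) .leaf) (.node 2 385569 (.node 0 2627618 .leaf .leaf) .leaf)) .leaf) .leaf)) (.node 2 1150532 (.node 0 2171201 (.node 0 4598668 .leaf (.node 2 14950709 (.node 0 193680 .leaf .leaf) .leaf)) (.node 2 8410770 (.node 0 9192978 (.node 2 1203280 .leaf .leaf) (.node 2 89346 (.node 2 9242157 (.node 2 3688459 .leaf .leaf) .leaf) .leaf)) .leaf)) .leaf)) (.node 2 4555046 (.node 0 2403620 (.node 0 10880159 (.node 0 8536968 (.node 0 13123594 (.node 0 1633857 (.node 0 3735596 .leaf .leaf) (.node 2 173632 (.node 2 49842 .leaf .leaf) .leaf)) (.node 2 922630 .leaf .leaf)) (.node 2 3440645 .leaf .leaf)) (.node 2 632321 (.node 0 3410987 (.node 0 467469 .leaf (.node 2 7372981 .leaf .leaf)) (.node 2 445457 .leaf .leaf)) .leaf)) (.node 2 2166214 (.node 0 8782236 (.node 0 4481065 (.node 2 1182234 (.node 0 12657253 .leaf (.node 2 4754260 (.node 2 10764554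 .leaf .leaf) .leaf)) .leaf) (.node 2 408460 (.node 0 6068 (.node 0 12587590 .leaf .leaf) (.node 2 4987160 (.node 2 4331662 .leaf .leaf) .leaf)) .leaf)) (.node 2 1181273 (.node 2 3738700 (.node 0 5440141 .leaf .leaf) .leaf) .leaf)) .leaf)) .leaf)) .leaf)) .leaf)) .leaf)) (.node 2 4246 (.node 0 12587644 (.node 0 4247890 (.node 0 2667536 (.node 0 7477322 (.node 2 4309921 (.node 0 11044210 (.node 0 3563545 (.node 0 4915471 .leaf .leaf) (.node 2 13369638 (.node 0 9750050 .leaf (.node 2 9961513 .leaf .leaf)) .leaf)) (.node 2 2122177 (.node 0 923922 .leaf (.node 2 6291799 (.node 0 173893 (.node 0 6291642 .leaf (.node 2 50065 .leaf .leaf)) .leaf) .leaf)) .leaf)) .leaf) (.node 2 1870865 (.node 0 7667727 .leaf (.node 2 333966 (.node 0 263047 (.node 0 8663472 (.node 0 12599571 (.node 2 9242146 .leaf .leaf) (.node 2 11011354 (.node 2 2136338 (.node 0 2229704 .leaf .leaf) .leaf) .leaf)) (.node 2 6291949 .leaf .leaf)) (.node 2 4622979 (.node 0 14717222 (.node 2 7872553 .leaf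 .leaf) (.node 2 2172360 .leaf .leaf)) .leaf)) .leaf)) .leaf)) (.node 2 11535554 (.node 0 13062410 (.node 2 194752 (.node 0 11010171 (.node 0 1201728 (.node 2 12878514 (.node 2 14745891 .leaf .leaf) .leaf) .leaf) .leaf) .leaf) (.node 2 9437820 (.node 0 95560 (.node 0 4719131 (.node 0 5552672 (.node 2 3265696 (.node 0 3080197 .leaf (.node 2 1577542 (.node 0 1382562 .leaf .leaf) .leaf)) .leaf) (.node 2 1633297 (.node 2 8687766 (.node 2 5442179 .leaf .leaf) .leaf) .leaf)) (.node 2 2299074 (.node 0 12714709 (.node 0 316832 (.node 2 1114691 .leaf .leaf) (.node 2 196096 (.node 0 11011182 .leaf (.node 2 1222276 (.node 0 2439592 .leaf .leaf) .leaf)) .leaf)) .leaf) .leaf)) (.node 2 598860 (.node 0 1064012 (.node 0 4522637 (.node 0 37972 .leaf (.node 2 1844233 (.node 0 9508068 (.node 2 8946256 .leaf .leaf) .leaf) .leaf)) (.node 2 6373673 (.node 2 1203290 (.node 2 6531264 .leaf .leaf) .leaf) .leaf)) (.node 2 612130 (.node 0 1577018 (.node 2 165522 .leaf .leaf) (.node 2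 12657293 .leaf .leaf)) .leaf)) .leaf)) .leaf)) .leaf)) (.node 2 600169 (.node 0 1062136 (.node 0 4524199 (.node 0 39538 (.node 0 14950809 (.node 2 1333282 (.node 2 2892812 .leaf .leaf) .leaf) (.node 2 1075809 (.node 0 9241637 (.node 2 8966914 .leaf .leaf) (.node 2 10880400 (.node 0 8537370 .leaf .leaf) .leaf)) .leaf)) (.node 2 537928 (.node 0 9437723 (.node 0 95688 (.node 2 2438304 .leaf .leaf) (.node 2 1630800 (.node 2 8689442 .leaf .leaf) .leaf)) (.node 2 2298190 (.node 0 12714255 (.node 0 317074 (.node 0 6817878 .leaf .leaf) (.node 2 1089024 .leaf .leaf)) (.node 2 237124 (.node 0 2101586 (.node 2 14950784 .leaf .leaf) .leaf) .leaf)) .leaf)) .leaf)) (.node 2 2444418 (.node 0 664144 (.node 0 13893667 (.node 2 9191690 (.node 0 5787752 .leaf .leaf) .leaf) .leaf) (.node 2 1201738 (.node 0 599592 (.node 0 1062100 .leaf .leaf) (.node 2 2720005 (.node 0 3279059 .leaf (.node 2 786723 (.node 0 1313809 (.node 0 12649440 .leaf (.node 2 821271 .leaf .leaf)) .leaf) .leaf))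 .leaf)) .leaf)) .leaf)) (.node 2 5333665 (.node 0 634436 (.node 0 3407891 (.node 0 469900 (.node 0 8398772 .leaf (.node 2 4987680 (.node 2 8430757 (.node 0 10506634 .leaf .leaf) .leaf) .leaf)) (.node 2 14950581 (.node 0 195008 (.node 0 11010391 .leaf .leaf) (.node 2 8525464 (.node 2 2893853 (.node 0 1183365 .leaf (.node 2 5251617 .leaf .leaf)) .leaf) .leaf)) .leaf)) (.node 2 444050 (.node 0 2883881 (.node 0 13771344 (.node 0 8505280 .leaf .leaf) (.node 2 1200338 (.node 2 15335685 .leaf .leaf) .leaf)) (.node 2 8471811 (.node 0 817176 (.node 0 1846328 (.node 2 6293892 .leaf .leaf) .leaf) (.node 2 9241387 (.node 0 1076425 (.node 0 9242382 .leaf .leaf) (.node 2 1612294 (.node 0 3220645 .leaf .leaf) .leaf)) .leaf)) .leaf)) .leaf)) (.node 2 12657092 (.node 0 51809 (.node 0 2892837 (.node 0 1181270 .leaf (.node 2 4330242 (.node 0 8422451 .leaf (.node 2 4522153 (.node 0 40704 .leaf (.node 2 1320073 .leaf .leaf)) .leaf)) .leaf)) .leaf) (.node 2 9969777 (.node 0 5335041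 (.node 0 632901 (.node 0 3411000 (.node 2 6293834 (.node 2 4299424 .leaf .leaf) .leaf) (.node 2 445059 (.node 0 2883878 .leaf (.node 2 8472008 .leaf .leaf)) .leaf)) .leaf) (.node 2 11011149 (.node 0 1202888 (.node 0 600869 (.node 2 2311555 .leaf .leaf) .leaf) (.node 2 3220708 (.node 0 203270 (.node 2 2438284 .leaf .leaf) .leaf) .leaf)) .leaf)) .leaf)) .leaf)) .leaf)) .leaf)) (.node 2 6887714 (.node 0 1221716 (.node 0 2440484 (.node 0 132255 (.node 0 8655926 (.node 0 27784 (.node 2 6684682 (.node 0 167489 .leaf .leaf) .leaf) (.node 2 924948 (.node 2 8946036 (.node 0 15745065 (.node 0 772416 .leaf .leaf) .leaf) .leaf) .leaf)) (.node 2 3443857 .leaf .leaf)) (.node 2 8676865 (.node 0 543787 (.node 0 9970189 (.node 2 1705037 (.node 2 3219521 .leaf .leaf) .leaf) (.node 2 7374950 (.node 0 6531269 (.node 0 2263428 .leaf .leaf) .leaf) .leaf)) (.node 2 8655746 (.node 0 25289 .leaf .leaf) .leaf)) .leaf)) (.node 2 40390 (.node 0 14950812 (.node 0 195472 (.node 0 11010420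 .leaf (.node 2 1223184 (.node 0 2440228 (.node 0 134931 .leaf (.node 2 8664580 .leaf .leaf)) (.node 2 39764 .leaf .leaf)) .leaf)) (.node 2 407812 .leaf .leaf)) (.node 2 1074777 (.node 0 9241862 .leaf (.node 2 3738720 (.node 0 5441550 (.node 0 4555043 (.node 2 2162959 (.node 0 8783506 (.node 2 9466896 .leaf .leaf) (.node 2 1087088 .leaf .leaf)) .leaf) (.node 2 4237808 .leaf .leaf)) (.node 2 1099282 (.node 2 154960 .leaf .leaf) .leaf)) .leaf)) .leaf)) .leaf)) (.node 2 8594441 (.node 0 4217328 (.node 0 822548 (.node 0 3159072 (.node 2 4522532 (.node 2 5550208 (.node 0 2196708 .leaf (.node 2 3264610 (.node 0 3080463 (.node 0 1447570 .leaf .leaf) .leaf) .leaf)) .leaf) .leaf) (.node 2 346536 (.node 0 13369385 (.node 0 9748656 (.node 0 11100201 .leaf (.node 2 4275084 (.node 0 8689588 .leaf (.node 2 4986932 .leaf .leaf)) .leaf)) .leaf) (.node 2 4463500 (.node 0 8431540 (.node 0 10507330 (.node 2 8655390 .leaf .leaf) (.node 2 12640560 (.node 2 6326768 .leaf .leaf) .leaf))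 (.node 2 4985650 (.node 2 12600144 .leaf .leaf) .leaf)) .leaf)) .leaf)) (.node 2 8946468 (.node 0 15745265 (.node 0 773697 (.node 0 7872556 (.node 0 1542787 .leaf .leaf) (.node 2 264203 .leaf .leaf)) (.node 2 175749 (.node 2 51136 (.node 0 2893113 .leaf (.node 2 131797 .leaf .leaf)) .leaf) .leaf)) (.node 2 4595845 (.node 0 296323 (.node 0 10487012 (.node 2 9605712 (.node 2 13636202 .leaf .leaf) .leaf) (.node 2 222025 (.node 2 1785412 .leaf .leaf) .leaf)) .leaf) .leaf)) .leaf)) (.node 2 3164371 (.node 0 9111114 (.node 0 1067219 (.node 0 5054725 (.node 2 13123875 .leaf .leaf) (.node 2 2762753 (.node 0 1189957 .leaf (.node 2 10556678 (.node 0 154434 .leaf .leaf) .leaf)) .leaf)) (.node 2 2720035 (.node 2 790064 (.node 2 1087600 (.node 2 1063624 .leaf .leaf) .leaf) .leaf) .leaf)) (.node 2 10485923 (.node 0 8544577 (.node 0 552808 (.node 0 5767804 (.node 0 1147975 (.node 0 2172041 (.node 0 4598537 .leaf .leaf) (.node 2 8409912 .leaf .leaf)) (.node 2 601352 (.node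 0 1064476 .leaf (.node 2 6320560 .leaf .leaf)) .leaf)) .leaf) (.node 2 2892085 (.node 0 1180816 (.node 2 14254115 .leaf .leaf) .leaf) .leaf)) (.node 2 10555752 .leaf .leaf)) .leaf)) .leaf)) .leaf)) .leaf)) .leaf)) (.node 2 9111365 (.node 0 1068609 (.node 0 5054508 (.node 0 5278339 (.node 0 10846502 (.node 2 4803394 (.node 0 1869876 (.node 0 7667753 (.node 2 1182796 (.node 2 6373411 .leaf .leaf) .leaf) (.node 2 334732 (.node 2 4987434 (.node 0 1089062 (.node 0 10555564 .leaf .leaf) (.node 2 4760400 (.node 0 11575429 .leaf .leaf) .leaf)) .leaf) .leaf)) (.node 2 1180831 (.node 0 12657544 .leaf (.node 2 3443860 (.node 0 2299276 (.node 0 12714970 .leaf (.node 2 2382904 (.node 0 9048402 .leaf (.node 2 6293609 .leaf .leaf)) .leaf)) (.node 2 8982794 (.node 0 5521577 (.node 2 1319441 (.node 2 14950425 .leaf .leaf) .leaf) .leaf) .leaf)) .leaf)) .leaf)) .leaf) (.node 2 10630600 (.node 0 410755 (.node 2 13120332 (.node 0 1100867 .leaf .leaf) .leaf) (.node 2 2438540 (.node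 2 2382850 (.node 0 9048912 (.node 0 9466504 (.node 2 935177 (.node 0 9963097 .leaf (.node 2 3149906 .leaf .leaf)) .leaf) (.node 2 10667330 .leaf .leaf)) (.node 2 8656424 (.node 0 26065 (.node 0 13120036 (.node 0 1100369 .leaf (.node 2 94336 .leaf .leaf)) .leaf) (.node 2 2764052 (.node 2 9519336 .leaf .leaf) .leaf)) .leaf)) .leaf) .leaf)) .leaf)) .leaf) (.node 2 305076 (.node 0 6301765 (.node 2 8656144 (.node 0 25568 (.node 0 13119792 (.node 0 1099491 (.node 0 6887720 .leaf (.node 2 152538 (.node 2 892454 (.node 0 11534508 .leaf .leaf) .leaf) .leaf)) (.node 2 593768 (.node 0 13636220 .leaf .leaf) .leaf)) .leaf) .leaf) .leaf) (.node 2 8619270 (.node 0 10764579 (.node 0 936977 (.node 0 9963120 (.node 0 9520170 (.node 0 4800803 .leaf (.node 2 2157040 .leaf .leaf)) .leaf) (.node 2 8966226 (.node 0 3689528 (.node 0 1783872 (.node 0 1117191 .leaf (.node 2 11011126 (.node 0 1203336 .leaf .leaf) .leaf)) .leaf) (.node 2 5524099 (.node 0 889126 (.node 0 11535470 (.node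 2 2196611 .leaf .leaf) .leaf) (.node 2 8545736 .leaf .leaf)) .leaf)) .leaf)) (.node 2 10879247 (.node 0 8537746 (.node 0 13123881 .leaf (.node 2 9507846 (.node 0 8470731 .leaf (.node 2 9241096 (.node 0 1073368 .leaf (.node 2 551689 (.node 0 5767735 .leaf .leaf) .leaf)) .leaf)) .leaf)) .leaf) .leaf)) (.node 2 4205040 (.node 0 303777 (.node 0 6301916 (.node 0 12746771 (.node 2 6441171 (.node 0 9347333 .leaf (.node 2 8524418 .leaf .leaf)) .leaf) (.node 2 4524289 (.node 0 37856 (.node 0 14950704 (.node 2 9832088 .leaf .leaf) (.node 2 1073393 .leaf .leaf)) (.node 2 820483 (.node 2 344875 (.node 2 1613380 .leaf .leaf) .leaf) .leaf)) .leaf)) (.node 2 8618436 (.node 0 10764329 (.node 0 936216 (.node 2 4332428 .leaf .leaf) .leaf) (.node 2 4205452 (.node 2 4987404 (.node 0 1088228 .leaf (.node 2 4875088 (.node 2 13771340 .leaf .leaf) .leaf)) .leaf) .leaf)) .leaf)) (.node 2 1706508 (.node 0 5315300 (.node 0 101953 (.node 2 8388683 (.node 0 4475395 .leaf (.node 2 1158180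 .leaf .leaf)) .leaf) (.node 2 173268 (.node 0 6291572 (.node 0 174932 .leaf (.node 2 5552800 .leaf .leaf)) (.node 2 52641 (.node 0 2892060 (.node 2 5922 .leaf .leaf) (.node 2 132933 (.node 0 8655034 .leaf .leaf) .leaf)) .leaf)) .leaf)) (.node 2 4874305 (.node 0 1610818 (.node 2 1446430 (.node 0 8716559 .leaf (.node 2 691780 .leaf .leaf)) .leaf) .leaf) .leaf)) .leaf)) .leaf)) .leaf)) .leaf)) (.node 2 172945 (.node 0 6291662 (.node 0 176000 (.node 0 6293822 (.node 0 172692 (.node 0 6293533 (.node 2 5251165 .leaf .leaf) (.node 2 53011 (.node 0 2894081 (.node 0 1180361 (.node 0 12657504 .leaf .leaf) .leaf) (.node 2 133206 (.node 0 8655672 (.node 0 26161 (.node 2 13062154 .leaf .leaf) (.node 2 529002 .leaf .leaf)) .leaf) .leaf)) .leaf)) .leaf) (.node 2 50915 (.node 0 2894120 (.node 0 1182229 (.node 0 12657481 .leaf (.node 2 10846243 (.node 0 6439321 .leaf (.node 2 4803169 (.node 0 1868837 (.node 0 7667750 .leaf .leaf) (.node 2 193936 .leaf .leaf)) .leaf)) .leaf))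 .leaf) (.node 2 132058 (.node 0 8656012 (.node 0 26736 (.node 0 13120312 (.node 2 528406 (.node 0 5251708 .leaf (.node 2 6887744 .leaf .leaf)) .leaf) .leaf) (.node 2 2362644 .leaf .leaf)) (.node 2 892672 (.node 2 9773100 (.node 0 346755 .leaf .leaf) .leaf) .leaf)) .leaf)) .leaf)) (.node 2 387744 (.node 0 2626586 (.node 0 9831947 (.node 0 86634 (.node 0 8921633 (.node 2 10555814 .leaf .leaf) .leaf) (.node 2 3834901 (.node 0 11730949 .leaf (.node 2 818232 (.node 0 1845297 .leaf .leaf) .leaf)) .leaf)) (.node 2 2149393 (.node 0 15335439 (.node 0 5425170 (.node 2 2103792 (.node 0 406152 .leaf .leaf) .leaf) .leaf) (.node 2 8921181 (.node 0 1334328 .leaf (.node 2 1264259 (.node 0 8982822 (.node 0 5524010 .leaf .leaf) (.node 2 2311624 (.node 0 656455 .leaf .leaf) .leaf)) .leaf)) .leaf)) .leaf)) (.node 2 101157 (.node 0 6559924 (.node 0 4620677 (.node 0 14716966 (.node 0 10667202 (.node 0 2773258 .leaf (.node 2 4719228 .leaf .leaf)) .leaf) .leaf) .leaf) (.node 2 8389244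 (.node 0 4475552 (.node 0 4760081 (.node 2 2403345 .leaf .leaf) (.node 2 9606338 (.node 0 6373642 (.node 0 4886852 .leaf (.node 2 195920 .leaf .leaf)) .leaf) .leaf)) (.node 2 598857 (.node 0 1064496 (.node 0 4522882 (.node 0 37574 .leaf (.node 2 5243083 (.node 0 8500452 (.node 0 2123825 .leaf .leaf) .leaf) .leaf)) (.node 2 8716585 .leaf .leaf)) (.node 2 1783300 (.node 2 12657316 (.node 2 9507042 .leaf .leaf) .leaf) .leaf)) .leaf)) .leaf)) .leaf)) .leaf)) (.node 2 52784 (.node 0 2893072 (.node 0 1180358 (.node 0 12657228 (.node 2 592227 (.node 0 13635606 (.node 2 9242369 (.node 0 1074817 .leaf (.node 2 8422279 .leaf .leaf)) .leaf) (.node 2 11011385 (.node 0 1202714 .leaf (.node 2 3160088 (.node 0 8594888 (.node 0 4215010 .leaf (.node 2 2439556 .leaf .leaf)) (.node 2 4342352 .leaf .leaf)) .leaf)) .leaf)) .leaf) (.node 2 15745240 (.node 0 771841 (.node 0 7872517 (.node 0 1540615 (.node 2 201098 .leaf .leaf) (.node 2 12648742 (.node 0 12641120 (.node 0 7127296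 .leaf (.node 2 6324371 .leaf .leaf)) .leaf) .leaf)) .leaf) (.node 2 459018 (.node 0 4194797 (.node 0 12878737 (.node 0 2147522 (.node 2 8921724 .leaf .leaf) (.node 2 14745644 (.node 2 26969 .leaf .leaf) .leaf)) (.node 2 1380866 .leaf .leaf)) (.node 2 194496 (.node 2 1221333 .leaf .leaf) .leaf)) .leaf)) .leaf)) (.node 2 5245148 (.node 0 8500256 (.node 0 2124272 .leaf (.node 2 5277907 (.node 0 10846469 .leaf (.node 2 10629248 (.node 0 411288 (.node 0 540520 .leaf .leaf) (.node 2 10555490 (.node 2 2379834 (.node 0 9048578 .leaf .leaf) .leaf) .leaf)) .leaf)) .leaf)) (.node 2 4524456 .leaf .leaf)) .leaf)) (.node 2 133465 (.node 0 8656298 (.node 0 26392 (.node 0 13119812 (.node 0 1100945 (.node 0 6885474 (.node 2 12587066 .leaf .leaf) (.node 2 153752 (.node 0 4987654 .leaf (.node 2 4483769 .leaf .leaf)) .leaf)) (.node 2 540691 (.node 0 9970300 (.node 0 5335712 (.node 2 9520322 .leaf .leaf) (.node 2 600864 .leaf .leaf)) (.node 2 6887526 (.node 0 1222853 (.node 2 38258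 .leaf .leaf) .leaf) .leaf)) .leaf)) (.node 2 2776400 (.node 0 1707585 (.node 0 5312556 (.node 2 25848 (.node 0 13119604 (.node 0 1100402 .leaf .leaf) (.node 2 2444705 .leaf .leaf)) .leaf) .leaf) (.node 2 174528 (.node 2 50257 (.node 2 134345 (.node 0 8656654 .leaf .leaf) .leaf) .leaf) .leaf)) .leaf)) (.node 2 2530580 (.node 0 2238684 (.node 0 8524826 (.node 0 18928 (.node 2 3835908 (.node 2 816160 .leaf .leaf) .leaf) (.node 2 2148563 .leaf .leaf)) (.node 2 4524837 (.node 0 39092 (.node 0 14950789 .leaf (.node 2 1075897 (.node 0 9241380 .leaf (.node 2 6162960 .leaf .leaf)) .leaf)) .leaf) .leaf)) (.node 2 1640556 (.node 0 9774724 .leaf (.node 2 4393868 (.node 0 47168 (.node 0 2362375 .leaf .leaf) (.node 2 4987198 (.node 0 1086100 (.node 0 10556428 .leaf .leaf) (.node 2 4249762 (.node 0 2668804 .leaf .leaf) .leaf)) .leaf)) .leaf)) .leaf)) .leaf)) (.node 2 5315272 .leaf .leaf)) .leaf)) .leaf)) .leaf)) .leaf))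

/-- The root of the suborbit of length 2688. -/
def rootB : ℕ := 2637882

/-- Its spanning tree. -/
def treeB : Tree := (.node 0 6162461 (.node 0 1158789 (.node 0 14746093 (.node 0 443281 (.node 0 2885937 (.node 0 13771400 (.node 0 8505122 (.node 2 12714322 (.node 0 316432 (.node 0 6816053 (.node 0 9605702 (.node 0 6375586 .leaf (.node 2 13635770 .leaf .leaf)) (.node 2 4311746 (.node 0 11044196 .leaf .leaf) .leaf)) (.node 2 1117385 (.node 0 333582 (.node 0 264889 (.node 0 8663844 .leaf (.node 2 6160909 .leaf .leaf)) (.node 2 2669664 .leaf .leaf)) (.node 2 7669902 (.node 0 8618887 .leaf .leaf) .leaf)) .leaf)) (.node 2 1846784 (.node 0 9507950 (.node 0 8471905 (.node 0 817952 (.node 0 1845769 .leaf .leaf) (.node 2 9347857 .leaf .leaf)) (.node 2 2197696 (.node 0 10629336 .leaf .leaf) .leaf)) (.node 2 9438852 (.node 2 1147590 (.node 2 8409304 .leaf .leaf) .leaf) .leaf)) .leaf)) .leaf) (.node 2 935435 (.node 0 9962090 (.node 0 9519649 (.node 0 4801353 (.node 0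 1871408 .leaf (.node 2 1782796 .leaf .leaf)) (.node 2 10846630 (.node 2 4800587 .leaf .leaf) .leaf)) (.node 2 773187 (.node 0 7874609 (.node 0 1541126 (.node 0 2166052 .leaf .leaf) (.node 2 8594121 .leaf .leaf)) (.node 2 263960 (.node 0 8663608 .leaf .leaf) .leaf)) .leaf)) (.node 2 3833938 (.node 0 11732108 (.node 2 2361662 (.node 2 4250434 (.node 0 2668596 (.node 0 7475288 .leaf (.node 2 1870357 .leaf .leaf)) .leaf) .leaf) .leaf) (.node 2 818944 (.node 2 8545921 .leaf .leaf) .leaf)) .leaf)) .leaf)) (.node 2 10666194 (.node 0 2774042 (.node 0 1705483 (.node 0 5313130 (.node 0 101830 (.node 0 6558108 (.node 0 4623248 (.node 2 2173224 .leaf .leaf) .leaf) .leaf) (.node 2 771138 (.node 2 265633 (.node 2 689989 .leaf .leaf) .leaf) .leaf)) (.node 2 3833921 (.node 2 815408 .leaf .leaf) .leaf)) (.node 2 2147379 (.node 0 15335767 .leaf (.node 2 8922193 (.node 0 1331890 (.node 0 591136 (.node 0 13636260 (.node 2 8503522 .leaf .leaf) (.node 2 14254625 .leaf .leaf)) (.node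 2 6302001 (.node 0 12747650 (.node 2 6439115 .leaf .leaf) (.node 2 8716974 (.node 0 8410080 .leaf .leaf) .leaf)) .leaf)) (.node 2 9049160 (.node 0 9466032 (.node 0 612906 (.node 2 4762133 .leaf .leaf) (.node 2 11101449 .leaf .leaf)) .leaf) .leaf)) .leaf)) .leaf)) (.node 2 4721445 (.node 0 5552308 (.node 0 2195845 (.node 0 10630156 (.node 0 413322 (.node 0 539728 .leaf .leaf) (.node 2 2237836 .leaf .leaf)) (.node 2 667164 (.node 0 13894318 (.node 0 4309984 .leaf .leaf) .leaf) .leaf)) (.node 2 3266722 (.node 0 3082500 (.node 0 1446038 (.node 0 8717869 .leaf (.node 2 15335699 (.node 0 5423186 .leaf (.node 2 8595136 .leaf .leaf)) .leaf)) .leaf) (.node 2 1579536 (.node 0 1383460 .leaf (.node 2 2197829 (.node 2 664853 .leaf .leaf) .leaf)) .leaf)) .leaf)) (.node 2 8504707 (.node 0 2640992 (.node 0 6162446 (.node 2 4237905 (.node 2 2263109 (.node 2 656656 .leaf .leaf) .leaf) .leaf) (.node 2 9606674 (.node 2 13635700 (.node 2 9348865 .leaf .leaf) .leaf) .leaf)) (.node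 2 12714825 (.node 0 319024 (.node 0 6816082 (.node 0 9605830 .leaf .leaf) (.node 2 1116265 (.node 0 333226 .leaf .leaf) .leaf)) .leaf) .leaf)) .leaf)) .leaf)) .leaf)) (.node 2 8472104 (.node 0 816400 (.node 0 1843748 (.node 0 9507404 (.node 0 8472291 (.node 0 817448 (.node 2 4338008 (.node 2 97504 (.node 0 4721266 (.node 2 9466464 .leaf .leaf) (.node 2 538224 .leaf .leaf)) .leaf) .leaf) (.node 2 8524762 (.node 0 19657 (.node 2 7669764 (.node 0 8618754 .leaf .leaf) .leaf) .leaf) .leaf)) (.node 2 592456 (.node 0 13635800 (.node 0 386817 .leaf (.node 2 460942 (.node 2 4621191 (.node 0 14717360 .leaf .leaf) .leaf) .leaf)) (.node 2 4918025 (.node 0 9470519 (.node 0 2444552 .leaf (.node 2 4217458 .leaf .leaf)) .leaf) .leaf)) .leaf)) (.node 2 15745152 (.node 0 771648 (.node 0 7874665 (.node 0 1541251 (.node 0 2164040 (.node 2 2299208 .leaf .leaf) (.node 2 203906 (.node 2 611914 .leaf .leaf) .leaf)) .leaf) (.node 2 262834 (.node 0 8664352 .leaf (.node 2 7477266 (.node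 0 234370 (.node 2 1068592 .leaf .leaf) .leaf) .leaf)) .leaf)) (.node 2 1146978 (.node 0 2171373 (.node 0 4596625 (.node 0 297265 .leaf .leaf) .leaf) (.node 2 8411072 (.node 0 9192761 .leaf (.node 2 164565 (.node 0 10494045 (.node 0 4344153 .leaf .leaf) .leaf) .leaf)) .leaf)) .leaf)) .leaf)) (.node 2 13123928 (.node 0 1631264 (.node 0 3736585 (.node 0 5441733 (.node 2 8947058 (.node 2 4598148 (.node 0 296482 (.node 2 221832 .leaf .leaf) .leaf) .leaf) .leaf) (.node 2 3163162 (.node 0 9109828 (.node 0 1065578 (.node 0 5055009 .leaf (.node 2 772097 .leaf .leaf)) (.node 2 3833875 (.node 2 818736 .leaf .leaf) .leaf)) .leaf) .leaf)) (.node 2 8688164 (.node 0 2382104 (.node 0 9049686 (.node 0 9466088 .leaf .leaf) (.node 2 4332104 (.node 2 4918022 (.node 0 9471489 (.node 2 4215682 .leaf .leaf) .leaf) .leaf) .leaf)) (.node 2 5439616 (.node 0 4555428 (.node 0 2403745 .leaf (.node 2 2162914 .leaf .leaf)) .leaf) .leaf)) .leaf)) (.node 2 96680 (.node 0 4720745 (.node 0 5550256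 .leaf (.node 2 5333600 (.node 0 633952 .leaf (.node 2 13893782 (.node 0 4311649 (.node 0 11043154 .leaf .leaf) .leaf) .leaf)) .leaf)) (.node 2 4461234 (.node 0 8430293 (.node 0 10507680 (.node 0 4876633 .leaf (.node 2 8503875 (.node 0 2640217 .leaf .leaf) .leaf)) .leaf) (.node 2 12587826 (.node 0 4248450 .leaf .leaf) .leaf)) .leaf)) .leaf)) .leaf)) (.node 2 2763097 (.node 0 1191113 (.node 0 67342 (.node 0 4205241 (.node 2 6160403 .leaf .leaf) (.node 2 2669904 (.node 0 7477440 (.node 2 8430676 (.node 0 10507634 .leaf (.node 2 12640705 (.node 2 6324567 .leaf .leaf) .leaf)) .leaf) (.node 2 1869858 (.node 0 7669928 (.node 0 8619845 (.node 2 4204652 .leaf .leaf) (.node 2 4475176 .leaf .leaf)) (.node 2 332812 (.node 2 2239689 (.node 0 8525582 .leaf .leaf) .leaf) .leaf)) .leaf)) .leaf)) (.node 2 7669805 (.node 0 8618694 (.node 0 10765338 (.node 2 2148707 (.node 0 15335446 (.node 2 9508544 .leaf .leaf) .leaf) .leaf) (.node 2 4205349 (.node 0 305332 .leaf (.node 2 460163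 (.node 0 4197092 .leaf (.node 2 4875081 .leaf .leaf)) .leaf)) .leaf)) (.node 2 5245036 (.node 0 8500868 (.node 0 2122833 .leaf (.node 2 5277745 (.node 0 10847238 .leaf .leaf) .leaf)) .leaf) .leaf)) .leaf)) (.node 2 5315078 (.node 0 101186 (.node 0 6558090 (.node 0 4621073 (.node 2 2174028 (.node 2 6375779 .leaf .leaf) .leaf) .leaf) (.node 2 8389791 (.node 0 4473736 .leaf (.node 2 3440787 (.node 0 2301186 (.node 0 12714077 (.node 0 316034 (.node 2 1114318 .leaf .leaf) (.node 2 1261771 .leaf .leaf)) .leaf) (.node 2 8984068 (.node 0 5523984 (.node 0 889602 .leaf .leaf) .leaf) .leaf)) .leaf)) .leaf)) (.node 2 468108 (.node 2 2362785 (.node 0 4329756 (.node 0 8422756 (.node 2 4194871 .leaf .leaf) (.node 2 5368 (.node 0 12587784 .leaf .leaf) .leaf)) (.node 2 8431429 (.node 0 10506426 (.node 0 4874328 .leaf .leaf) (.node 2 12641169 (.node 2 6326324 .leaf .leaf) .leaf)) .leaf)) .leaf) .leaf)) .leaf)) .leaf)) .leaf)) (.node 2 1382414 (.node 0 4272488 (.node 0 8689170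 (.node 0 2381200 (.node 0 9049370 (.node 0 9467040 (.node 0 610912 (.node 2 14717078 .leaf .leaf) (.node 2 9110086 (.node 0 1067170 (.node 2 3736686 .leaf .leaf) (.node 2 3150010 .leaf .leaf)) .leaf)) (.node 2 2136244 (.node 0 2231386 (.node 0 4340236 .leaf (.node 2 6529345 (.node 0 2264518 .leaf (.node 2 11043125 .leaf .leaf)) .leaf)) (.node 2 10109467 (.node 2 1632784 .leaf .leaf) .leaf)) .leaf)) (.node 2 12747158 (.node 2 6441362 (.node 0 9348609 (.node 0 3165227 (.node 0 9110029 .leaf (.node 2 7372963 .leaf .leaf)) (.node 2 4555650 .leaf .leaf)) .leaf) .leaf) .leaf)) (.node 2 5441605 (.node 0 4557600 (.node 0 2402689 (.node 2 632161 (.node 0 3410087 (.node 0 469513 .leaf .leaf) .leaf) .leaf) (.node 2 2163877 (.node 0 8782218 (.node 0 4481809 (.node 2 4475418 (.node 2 4753763 .leaf .leaf) .leaf) .leaf) .leaf) .leaf)) (.node 2 9348368 (.node 0 3162338 (.node 0 9110787 (.node 0 1066723 (.node 0 5056808 .leaf .leaf) (.node 2 590635 (.node 0 13635790 (.node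 0 388992 .leaf .leaf) (.node 2 1613360 (.node 0 3221549 .leaf .leaf) .leaf)) .leaf)) (.node 2 15745112 .leaf .leaf)) (.node 2 4557188 (.node 0 2401312 (.node 0 10880009 (.node 2 3165362 .leaf .leaf) (.node 2 631332 .leaf .leaf)) (.node 2 2163783 (.node 2 4461368 (.node 0 8430020 .leaf (.node 2 531532 .leaf .leaf)) .leaf) .leaf)) .leaf)) .leaf)) .leaf)) (.node 2 89312 (.node 0 8922736 (.node 0 1333904 (.node 2 2156849 (.node 0 2764040 (.node 0 1191452 .leaf .leaf) (.node 2 576114 (.node 2 273189 .leaf .leaf) .leaf)) .leaf) (.node 2 9466952 (.node 0 612642 (.node 2 11101193 (.node 0 10110033 (.node 2 8946785 .leaf .leaf) (.node 2 3164209 (.node 0 9110345 (.node 2 1782280 .leaf .leaf) .leaf) .leaf)) .leaf) (.node 2 2311433 (.node 0 656985 (.node 0 1322132 (.node 2 9969689 (.node 2 1190544 .leaf .leaf) .leaf) .leaf) (.node 2 3152986 (.node 0 4393484 .leaf (.node 2 6531136 (.node 0 2264071 .leaf .leaf) .leaf)) .leaf)) .leaf)) .leaf)) (.node 2 8967792 (.node 0 3687466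 (.node 0 1784392 .leaf (.node 2 2154689 (.node 2 573778 (.node 2 274304 (.node 2 9438947 .leaf .leaf) .leaf) .leaf) .leaf)) (.node 2 5523467 (.node 0 890372 (.node 0 11535444 (.node 0 13062914 (.node 0 574515 (.node 2 273553 .leaf .leaf) .leaf) .leaf) (.node 2 9773732 .leaf .leaf)) (.node 2 5423633 (.node 0 2720865 (.node 0 3280020 (.node 0 461315 (.node 0 4195290 .leaf .leaf) .leaf) .leaf) (.node 2 2104410 (.node 0 406928 (.node 2 4876568 .leaf .leaf) .leaf) .leaf)) .leaf)) .leaf)) .leaf)) .leaf)) (.node 2 4238052 (.node 0 2134438 (.node 0 2230674 (.node 0 4340424 (.node 0 4238117 (.node 2 2262403 (.node 2 656201 (.node 0 1322544 .leaf .leaf) .leaf) .leaf) (.node 2 5055240 (.node 0 5275781 (.node 0 10847619 .leaf (.node 2 10629444 (.node 0 412817 (.node 2 8966192 .leaf .leaf) (.node 2 10878995 .leaf .leaf)) .leaf)) (.node 2 539940 (.node 2 9111041 .leaf .leaf) .leaf)) .leaf)) (.node 2 3221636 (.node 0 204230 (.node 0 270748 (.node 0 4463504 .leaf (.node 2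 409472 (.node 2 18147 (.node 0 530728 .leaf .leaf) .leaf) .leaf)) (.node 2 550489 (.node 0 5769302 (.node 2 9970277 (.node 2 10494384 .leaf .leaf) .leaf) .leaf) .leaf)) (.node 2 11732034 (.node 0 223168 (.node 0 788998 (.node 0 1311909 .leaf (.node 2 3159180 .leaf .leaf)) (.node 2 13771477 (.node 2 8537611 .leaf .leaf) .leaf)) .leaf) .leaf)) .leaf)) (.node 2 10109003 (.node 0 1919491 (.node 0 1640010 (.node 0 9773189 (.node 0 345475 (.node 2 13124425 .leaf .leaf) .leaf) (.node 2 2723108 (.node 0 3277983 .leaf (.node 2 788798 .leaf .leaf)) .leaf)) (.node 2 10487210 (.node 2 2528390 (.node 2 1639018 (.node 2 773888 .leaf .leaf) .leaf) .leaf) .leaf)) (.node 2 1156193 (.node 0 14745675 (.node 0 443792 (.node 0 2884890 (.node 2 2137380 .leaf .leaf) .leaf) (.node 2 1157189 (.node 2 47844 .leaf .leaf) .leaf)) (.node 2 45844 (.node 0 2362546 .leaf (.node 2 9471600 (.node 0 2443649 .leaf (.node 2 4217162 .leaf .leaf)) .leaf)) .leaf)) .leaf)) .leaf)) (.node 2 2262228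 (.node 0 6687115 (.node 0 166740 (.node 0 10495304 (.node 0 4342299 (.node 0 4751703 (.node 0 7372903 (.node 0 6529152 .leaf .leaf) .leaf) (.node 2 1631313 (.node 0 3735655 .leaf .leaf) .leaf)) (.node 2 2301064 (.node 0 12714131 (.node 0 318722 .leaf (.node 2 613888 .leaf .leaf)) (.node 2 6686749 .leaf .leaf)) .leaf)) (.node 2 8397644 (.node 0 8676617 .leaf (.node 2 611370 (.node 0 1578038 .leaf (.node 2 2157713 (.node 2 575537 .leaf .leaf) .leaf)) .leaf)) .leaf)) (.node 2 5550740 (.node 0 2195938 (.node 0 10630284 .leaf (.node 2 663645 (.node 0 13894274 .leaf (.node 2 1263233 .leaf .leaf)) .leaf)) .leaf) .leaf)) (.node 2 658701 (.node 2 7475268 (.node 0 235268 (.node 0 2102520 (.node 0 408724 (.node 0 6770 .leaf .leaf) (.node 2 2444331 (.node 0 664077 (.node 0 13894305 .leaf (.node 2 1706058 .leaf .leaf)) .leaf) .leaf)) (.node 2 1068122 (.node 2 6529476 .leaf .leaf) .leaf)) (.node 2 12877846 (.node 2 14746049 (.node 0 444690 .leaf (.node 2 8421719 (.node 0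 6320488 .leaf .leaf) .leaf)) .leaf) .leaf)) .leaf) .leaf)) .leaf)) .leaf)) .leaf)) (.node 2 47040 (.node 0 2360633 (.node 0 4329924 (.node 0 8421989 (.node 0 6322456 (.node 0 690433 (.node 0 3150056 (.node 0 4393794 (.node 2 9831583 (.node 0 86920 (.node 2 925212 .leaf .leaf) .leaf) .leaf) (.node 2 467333 (.node 0 8398381 .leaf .leaf) .leaf)) (.node 2 8783107 (.node 0 4483096 (.node 2 4342209 .leaf .leaf) (.node 2 9192235 (.node 2 1612880 (.node 2 1448078 (.node 0 8717191 .leaf .leaf) .leaf) .leaf) .leaf)) .leaf)) (.node 2 4331606 (.node 0 8422534 (.node 0 6320176 (.node 0 688916 (.node 0 3153074 .leaf (.node 2 8783640 (.node 2 2775370 .leaf .leaf) .leaf)) (.node 2 13063048 (.node 2 923662 .leaf .leaf) .leaf)) .leaf) (.node 2 924422 (.node 2 10495113 (.node 0 4344585 (.node 0 4751927 (.node 2 10765363 (.node 0 937747 .leaf .leaf) .leaf) (.node 2 5790240 .leaf .leaf)) (.node 2 3566728 .leaf .leaf)) .leaf) .leaf)) .leaf)) (.node 2 4194736 (.node 0 12878500 (.node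 0 2149793 (.node 2 8922949 (.node 0 1331386 (.node 2 304772 .leaf .leaf) (.node 2 8545169 (.node 0 551217 .leaf (.node 2 2313224 .leaf .leaf)) .leaf)) .leaf) (.node 2 14745826 (.node 0 443651 (.node 0 2885656 (.node 0 13770968 .leaf .leaf) (.node 2 8471339 (.node 2 1612402 .leaf .leaf) .leaf)) .leaf) .leaf)) (.node 2 14254594 (.node 0 3267714 (.node 0 3083533 (.node 2 7477262 (.node 0 234818 .leaf .leaf) .leaf) (.node 2 1578570 (.node 0 1381928 (.node 0 4272580 .leaf (.node 2 2763852 .leaf .leaf)) .leaf) .leaf)) (.node 2 6560018 (.node 0 4622359 (.node 2 2173125 .leaf .leaf) (.node 2 412560 .leaf .leaf)) .leaf)) .leaf)) .leaf)) (.node 2 4751473 (.node 0 7374849 (.node 0 6531141 (.node 0 2264400 (.node 0 6687105 (.node 2 8430945 (.node 2 12641041 .leaf .leaf) .leaf) (.node 2 657738 (.node 2 4296772 (.node 0 6324533 (.node 2 2640986 .leaf .leaf) (.node 2 3276822 .leaf .leaf)) .leaf) .leaf)) (.node 2 11042919 (.node 2 13369628 (.node 0 9749536 .leaf (.node 2 6568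 (.node 2 4462882 (.node 2 9192457 .leaf .leaf) .leaf) .leaf)) .leaf) .leaf)) (.node 2 2626822 (.node 0 9830919 (.node 2 10879370 (.node 0 8536849 .leaf (.node 2 318642 (.node 2 1116327 (.node 0 334378 .leaf .leaf) .leaf) .leaf)) .leaf) (.node 2 12648973 (.node 0 12640929 (.node 0 7129106 .leaf .leaf) .leaf) .leaf)) .leaf)) (.node 2 10765449 (.node 0 936713 (.node 2 5787730 (.node 0 14254628 (.node 0 3266624 (.node 0 3083271 .leaf .leaf) (.node 2 6560062 (.node 0 4620948 .leaf .leaf) .leaf)) (.node 2 13124419 (.node 0 1630321 .leaf .leaf) .leaf)) .leaf) (.node 2 3564688 (.node 0 4917766 (.node 0 9471141 (.node 0 2441610 .leaf (.node 2 4215648 (.node 2 12877971 (.node 0 2146545 .leaf .leaf) .leaf) .leaf)) (.node 2 9507980 (.node 0 8470626 (.node 2 12324922 .leaf .leaf) (.node 2 2361496 .leaf .leaf)) .leaf)) (.node 2 13770905 (.node 0 8504480 (.node 2 12714566 .leaf .leaf) (.node 2 1312948 (.node 2 3835927 (.node 2 817680 .leaf .leaf) .leaf) .leaf)) .leaf)) .leaf))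 .leaf)) .leaf)) (.node 2 3161164 (.node 0 8594061 (.node 0 4214872 (.node 0 819509 (.node 0 3160172 (.node 0 8595076 (.node 0 4217256 .leaf .leaf) (.node 2 4393355 .leaf .leaf)) (.node 2 347786 (.node 0 13369363 .leaf (.node 2 7129345 (.node 2 3081475 (.node 0 1447960 (.node 2 4344520 .leaf .leaf) (.node 2 12600107 .leaf .leaf)) .leaf) .leaf)) .leaf)) (.node 2 77001 (.node 0 8390414 (.node 0 4475577 (.node 2 6162443 (.node 0 1156612 .leaf .leaf) .leaf) (.node 2 2669604 (.node 2 1869316 (.node 2 332452 .leaf .leaf) .leaf) .leaf)) (.node 2 7667845 (.node 2 12747076 (.node 2 6438931 (.node 0 9347860 .leaf .leaf) .leaf) .leaf) .leaf)) .leaf)) (.node 2 1845781 (.node 0 9508426 (.node 2 2721856 (.node 0 3277016 (.node 2 460558 .leaf .leaf) (.node 2 787510 (.node 0 1311287 .leaf (.node 2 5789808 (.node 0 14254148 .leaf (.node 2 8946499 (.node 0 15745137 .leaf .leaf) .leaf)) .leaf)) .leaf)) .leaf) (.node 2 10485883 (.node 0 8544665 (.node 0 551017 (.node 0 5767291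 (.node 0 1149095 .leaf .leaf) (.node 2 5333096 (.node 2 69062 (.node 0 4202908 .leaf .leaf) .leaf) .leaf)) .leaf) (.node 2 1149537 (.node 0 2171941 (.node 0 4596500 (.node 2 13894200 .leaf .leaf) .leaf) (.node 2 8409706 (.node 0 9191969 .leaf (.node 2 773378 (.node 2 263725 .leaf .leaf) .leaf)) .leaf)) .leaf)) .leaf)) .leaf)) (.node 2 6375819 (.node 0 4889428 (.node 0 3443714 (.node 0 2300352 (.node 2 10667089 .leaf .leaf) (.node 2 8984104 (.node 0 5521555 (.node 0 889380 .leaf .leaf) (.node 2 2762781 (.node 0 1187928 (.node 0 66029 .leaf (.node 2 75712 .leaf .leaf)) (.node 2 5253653 (.node 0 4299586 .leaf .leaf) .leaf)) .leaf)) .leaf)) (.node 2 3409934 (.node 0 468233 (.node 2 3153120 (.node 2 8431216 (.node 2 12640577 .leaf .leaf) .leaf) .leaf) (.node 2 4235445 (.node 0 2135094 .leaf (.node 2 2264209 (.node 0 6684819 .leaf .leaf) .leaf)) .leaf)) .leaf)) (.node 2 5552180 (.node 0 2196833 (.node 0 10629572 .leaf (.node 2 666700 (.node 0 13894285 (.node 0 4309057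 (.node 2 2125001 .leaf .leaf) .leaf) (.node 2 6375498 (.node 2 4311395 .leaf .leaf) .leaf)) .leaf)) (.node 2 3266752 (.node 0 3082251 (.node 2 5425667 (.node 0 2721090 .leaf (.node 2 2102698 (.node 2 2527616 (.node 0 2239824 .leaf .leaf) .leaf) .leaf)) .leaf) (.node 2 1579562 (.node 0 1383974 (.node 0 4272300 .leaf (.node 2 8677032 .leaf .leaf)) (.node 2 4761925 (.node 0 11576532 (.node 0 2312587 .leaf (.node 2 4888836 (.node 2 3408933 .leaf .leaf) .leaf)) .leaf) .leaf)) .leaf)) .leaf)) .leaf)) .leaf)) .leaf)) (.node 2 9470677 (.node 0 2443275 (.node 0 665945 (.node 0 13894164 (.node 0 4309762 (.node 0 11043140 (.node 0 3566737 (.node 0 4915779 .leaf .leaf) .leaf) (.node 2 2121897 (.node 0 925440 (.node 0 5245634 (.node 2 9438456 .leaf .leaf) (.node 2 8431233 (.node 0 10506450 .leaf (.node 2 12641248 .leaf .leaf)) .leaf)) (.node 2 1321128 .leaf .leaf)) .leaf)) (.node 2 9750065 (.node 0 11100264 (.node 0 10109978 (.node 0 1918475 (.node 2 3836930 (.node 0 11731137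 .leaf .leaf) .leaf) (.node 2 2148754 (.node 0 15335499 .leaf (.node 2 8921876 .leaf .leaf)) .leaf)) (.node 2 68389 .leaf .leaf)) (.node 2 4274284 (.node 0 8689284 (.node 0 2382248 .leaf (.node 2 5440198 (.node 0 4557318 .leaf .leaf) .leaf)) (.node 2 4393157 (.node 0 46704 (.node 0 2360362 .leaf .leaf) (.node 2 8967538 (.node 0 3686425 .leaf (.node 2 5523618 .leaf .leaf)) .leaf)) .leaf)) .leaf)) .leaf)) (.node 2 5313188 (.node 0 101793 (.node 0 6559906 (.node 0 4622596 .leaf (.node 2 5230 (.node 0 12587380 (.node 2 9348868 .leaf .leaf) (.node 2 2197794 (.node 2 666452 .leaf .leaf) .leaf)) .leaf)) (.node 2 8390469 (.node 0 4473018 (.node 0 4759668 .leaf (.node 2 306593 (.node 0 6299932 .leaf .leaf) .leaf)) (.node 2 304017 .leaf .leaf)) .leaf)) (.node 2 4309218 (.node 0 11044099 .leaf (.node 2 2125217 (.node 0 921884 .leaf (.node 2 75589 (.node 2 4473745 (.node 0 4761905 (.node 2 2402484 .leaf .leaf) (.node 2 12747284 .leaf .leaf)) .leaf) .leaf)) .leaf)) .leaf))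 .leaf)) (.node 2 5423683 (.node 0 2722117 (.node 0 3278859 (.node 0 460292 (.node 0 4197204 (.node 0 12878594 (.node 2 14745769 .leaf .leaf) (.node 2 9748994 .leaf .leaf)) (.node 2 5550756 (.node 0 2198945 (.node 2 665413 (.node 0 13893818 .leaf .leaf) .leaf) .leaf) .leaf)) (.node 2 5425281 (.node 0 2722849 (.node 2 788509 (.node 2 5251725 .leaf .leaf) .leaf) .leaf) .leaf)) (.node 2 787733 (.node 0 1314342 (.node 2 1312424 (.node 0 12649259 (.node 2 1609844 .leaf .leaf) (.node 2 2885655 .leaf .leaf)) .leaf) (.node 2 4761712 .leaf .leaf)) .leaf)) (.node 2 2101660 (.node 0 406540 (.node 0 7818 (.node 0 12587218 (.node 2 9049860 (.node 2 8503969 (.node 2 12714523 .leaf .leaf) .leaf) .leaf) (.node 2 7129378 (.node 2 3081225 .leaf .leaf) .leaf)) (.node 2 2238744 (.node 0 8525398 .leaf (.node 2 4332372 (.node 2 297734 (.node 0 10487049 (.node 0 8545881 .leaf .leaf) .leaf) .leaf) .leaf)) .leaf)) (.node 2 409116 (.node 0 7504 (.node 2 821538 (.node 0 3159124 .leaf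 (.node 2 345097 (.node 0 13369653 .leaf (.node 2 3165385 .leaf .leaf)) .leaf)) .leaf) (.node 2 6815847 .leaf .leaf)) .leaf)) .leaf)) .leaf)) (.node 2 4217386 (.node 0 822822 (.node 0 3158188 (.node 0 8594509 (.node 0 4217544 (.node 0 822053 (.node 0 3160244 (.node 0 8593797 .leaf .leaf) .leaf) (.node 2 5055268 (.node 0 5278214 .leaf (.node 2 13770885 .leaf .leaf)) .leaf)) (.node 2 3221701 (.node 0 202314 (.node 2 2720839 .leaf .leaf) (.node 2 10487154 (.node 2 9831558 (.node 0 87586 (.node 2 13062792 .leaf .leaf) .leaf) .leaf) .leaf)) .leaf)) (.node 2 412043 (.node 0 539476 (.node 0 9438794 .leaf (.node 2 10486094 (.node 0 8544976 .leaf (.node 2 234630 .leaf .leaf)) .leaf)) (.node 2 5550128 (.node 0 2198595 (.node 0 10630544 (.node 0 410906 .leaf .leaf) (.node 2 665368 .leaf .leaf)) (.node 2 3267808 (.node 0 3083266 (.node 0 1448592 (.node 2 10666259 .leaf .leaf) (.node 2 9467432 .leaf .leaf)) (.node 2 1578608 (.node 0 1381418 .leaf .leaf) .leaf)) .leaf)) .leaf))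 .leaf)) (.node 2 345768 (.node 0 13370155 (.node 0 9749635 (.node 0 11101512 .leaf (.node 2 4272972 (.node 0 8688902 (.node 0 2382114 .leaf .leaf) (.node 2 613472 (.node 2 8967698 .leaf .leaf) .leaf)) .leaf)) (.node 2 1611350 (.node 0 3219688 (.node 0 203586 (.node 0 272436 .leaf (.node 2 2360479 .leaf .leaf)) (.node 2 470784 (.node 2 9832065 (.node 2 8430560 .leaf .leaf) .leaf) .leaf)) (.node 2 1448962 (.node 0 8717217 .leaf (.node 2 9193000 (.node 2 2763856 .leaf .leaf) .leaf)) .leaf)) .leaf)) (.node 2 2886925 (.node 0 13770817 (.node 0 8504386 (.node 2 12714433 .leaf .leaf) (.node 2 9191728 (.node 0 5788266 .leaf .leaf) .leaf)) (.node 2 7475410 (.node 0 235840 (.node 2 1067720 (.node 2 5056513 (.node 2 9049350 .leaf .leaf) .leaf) .leaf) (.node 2 12600225 .leaf .leaf)) .leaf)) .leaf)) .leaf)) (.node 2 4760356 (.node 0 11575537 (.node 0 2313417 (.node 0 657166 (.node 0 1321657 .leaf (.node 2 2666564 (.node 0 7475228 (.node 2 19546 .leaf .leaf) .leaf) .leaf))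 (.node 2 7669771 (.node 0 8619524 (.node 0 10765584 (.node 0 934658 .leaf (.node 2 9749648 .leaf .leaf)) (.node 2 4204889 .leaf .leaf)) .leaf) .leaf)) .leaf) (.node 2 2400389 (.node 0 10880387 (.node 0 8537792 (.node 0 13124113 (.node 2 8500800 (.node 0 2123152 .leaf (.node 2 5276338 .leaf .leaf)) .leaf) .leaf) (.node 2 17225 (.node 0 532016 .leaf (.node 2 1783812 (.node 2 11101216 (.node 2 9507364 (.node 0 8471369 .leaf .leaf) .leaf) .leaf) .leaf)) .leaf)) (.node 2 631108 (.node 0 3411089 (.node 2 8421557 (.node 2 4197049 .leaf .leaf) .leaf) (.node 2 446336 .leaf .leaf)) .leaf)) .leaf)) .leaf)) .leaf)) .leaf)) .leaf)) (.node 2 5251244 (.node 0 4298854 (.node 0 6326469 (.node 0 2529668 (.node 0 2237512 (.node 0 8524182 (.node 0 18986 (.node 2 4761604 (.node 0 11575344 .leaf .leaf) .leaf) (.node 2 11101472 (.node 0 10110465 (.node 0 1920043 (.node 0 1638925 (.node 0 9774092 (.node 2 2236868 .leaf .leaf) .leaf) (.node 2 7375010 (.node 0 6531332 .leaf .leaf) .leaf))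 (.node 2 8504194 (.node 0 2637899 .leaf (.node 2 12714772 .leaf .leaf)) .leaf)) .leaf) .leaf)) (.node 2 2310282 (.node 0 657437 (.node 0 1322629 (.node 2 8546240 (.node 2 1188565 (.node 0 66976 .leaf (.node 2 6301741 (.node 2 5243566 (.node 2 819719 .leaf .leaf) .leaf) .leaf)) .leaf) .leaf) (.node 2 5253817 (.node 0 4297508 (.node 0 6324465 (.node 0 2530452 .leaf (.node 2 2640939 .leaf .leaf)) (.node 2 3279962 (.node 2 6529348 .leaf .leaf) .leaf)) (.node 2 6160406 (.node 0 1157249 .leaf (.node 2 5769809 (.node 0 1148545 .leaf .leaf) .leaf)) .leaf)) .leaf)) (.node 2 298771 (.node 0 10486844 (.node 0 8545552 (.node 0 549728 (.node 2 15745171 .leaf .leaf) (.node 2 1920008 (.node 2 6302120 (.node 2 4461230 .leaf .leaf) .leaf) .leaf)) (.node 2 2230617 (.node 0 4338196 .leaf .leaf) .leaf)) (.node 2 223296 (.node 0 787256 (.node 0 1312910 .leaf (.node 2 530190 .leaf .leaf)) (.node 2 12325942 (.node 0 1262147 (.node 0 8983372 .leaf (.node 2 6685084 .leaf .leaf)) (.node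 2 8537553 .leaf .leaf)) .leaf)) .leaf)) .leaf)) .leaf)) (.node 2 1639495 (.node 0 9774217 (.node 0 346889 (.node 0 13369911 (.node 0 9748643 (.node 0 11100481 (.node 2 10486069 .leaf .leaf) .leaf) .leaf) (.node 2 5790280 (.node 0 14254145 (.node 2 6559886 .leaf .leaf) (.node 2 4916035 (.node 0 9470065 .leaf (.node 2 12599705 .leaf .leaf)) .leaf)) .leaf)) (.node 2 3563648 (.node 0 4915788 (.node 0 9471715 (.node 0 2443560 .leaf (.node 2 4215770 (.node 0 820018 .leaf (.node 2 891906 .leaf .leaf)) .leaf)) (.node 2 593165 (.node 2 7477400 .leaf .leaf) .leaf)) (.node 2 15745122 (.node 0 770883 (.node 0 7872625 (.node 0 1542145 .leaf .leaf) (.node 2 265766 (.node 0 8663212 .leaf .leaf) .leaf)) (.node 2 1310778 (.node 0 12648941 (.node 2 1380524 .leaf .leaf) (.node 2 165824 .leaf .leaf)) .leaf)) .leaf)) .leaf)) (.node 2 13124408 (.node 0 1632320 (.node 0 3738631 (.node 0 5441678 (.node 0 4555655 .leaf .leaf) .leaf) (.node 2 8688694 (.node 0 2382984 (.node 0 9048908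 (.node 2 611650 .leaf .leaf) .leaf) .leaf) .leaf)) (.node 2 530750 (.node 0 5253225 (.node 0 4297186 (.node 0 6326439 (.node 0 2529298 .leaf (.node 2 2639176 (.node 0 6160923 .leaf .leaf) .leaf)) .leaf) (.node 2 5335561 (.node 0 633089 .leaf .leaf) .leaf)) (.node 2 4248242 (.node 0 2667808 (.node 2 1868321 .leaf .leaf) (.node 2 11535411 (.node 2 8717443 (.node 0 8409778 .leaf .leaf) .leaf) .leaf)) .leaf)) .leaf)) .leaf)) .leaf)) (.node 2 2639218 (.node 0 6162950 (.node 0 1156261 (.node 0 14745994 (.node 0 445570 (.node 2 8472138 (.node 0 816680 .leaf (.node 2 2722147 .leaf .leaf)) .leaf) (.node 2 317714 (.node 0 6816104 (.node 2 88770 .leaf .leaf) (.node 2 1116900 (.node 0 332198 .leaf .leaf) .leaf)) .leaf)) (.node 2 48276 (.node 0 2360716 (.node 0 4330458 (.node 0 8422194 .leaf (.node 2 889888 .leaf .leaf)) (.node 2 2379952 (.node 2 14717334 .leaf .leaf) .leaf)) (.node 2 9470099 (.node 0 2441385 (.node 2 1320493 (.node 0 75432 .leaf .leaf) .leaf) (.node 2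 4217488 (.node 0 821776 (.node 0 3158232 (.node 0 8595201 .leaf .leaf) .leaf) (.node 2 8500004 (.node 0 2125064 .leaf .leaf) .leaf)) .leaf)) .leaf)) .leaf)) .leaf) (.node 2 13770948 (.node 0 8503745 (.node 0 2640146 (.node 0 6160904 (.node 0 1155268 (.node 2 49024 .leaf .leaf) (.node 2 551505 (.node 0 5769318 .leaf (.node 2 10506344 .leaf .leaf)) .leaf)) (.node 2 11731140 (.node 0 221633 .leaf (.node 2 11575412 (.node 0 2312522 .leaf (.node 2 4889410 (.node 0 3442740 .leaf .leaf) .leaf)) .leaf)) .leaf)) (.node 2 12714632 (.node 0 317218 (.node 2 1114765 (.node 2 1846812 (.node 2 6818052 .leaf .leaf) .leaf) .leaf) (.node 2 937472 (.node 0 9962606 (.node 0 9520225 .leaf .leaf) (.node 2 9606788 (.node 2 13636294 (.node 2 8544472 .leaf .leaf) .leaf) .leaf)) .leaf)) .leaf)) (.node 2 9961588 (.node 0 9519722 (.node 0 4801057 (.node 2 4297126 (.node 0 6326674 (.node 0 2530434 .leaf .leaf) .leaf) .leaf) (.node 2 772930 (.node 0 7874612 (.node 0 1541633 (.node 0 2165803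 .leaf .leaf) (.node 2 9519817 (.node 0 4802571 .leaf (.node 2 1919530 .leaf .leaf)) .leaf)) (.node 2 263327 (.node 0 8663944 (.node 0 12599434 .leaf (.node 2 922906 (.node 0 5245095 .leaf .leaf) .leaf)) .leaf) .leaf)) .leaf)) (.node 2 3836995 (.node 0 11732099 (.node 0 222536 (.node 0 786971 .leaf .leaf) (.node 2 8594252 (.node 2 613186 .leaf .leaf) .leaf)) (.node 2 816920 (.node 0 1843768 (.node 2 544512 .leaf .leaf) .leaf) .leaf)) .leaf)) .leaf)) .leaf)) .leaf)) (.node 2 3279045 (.node 0 461188 (.node 0 4194922 (.node 0 12878369 (.node 0 2148386 (.node 0 15335768 (.node 0 5425745 (.node 2 2103404 .leaf .leaf) (.node 2 96552 (.node 0 4721173 (.node 0 5552656 .leaf (.node 2 8499808 .leaf .leaf)) (.node 2 4338384 .leaf .leaf)) .leaf)) (.node 2 8922124 (.node 0 1334922 (.node 0 592963 (.node 0 13636274 (.node 0 386336 .leaf .leaf) (.node 2 9049880 .leaf .leaf)) (.node 2 7129393 (.node 2 3082254 .leaf .leaf) .leaf)) .leaf) .leaf)) (.node 2 14746022 (.node 0 443905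 (.node 0 2886699 (.node 0 13771277 .leaf .leaf) (.node 2 8471426 (.node 0 815624 (.node 0 1843228 (.node 2 20352 .leaf .leaf) (.node 2 549208 .leaf .leaf)) (.node 2 11731147 (.node 0 224457 .leaf .leaf) .leaf)) .leaf)) (.node 2 9519179 (.node 0 4800872 (.node 0 1869330 .leaf (.node 2 87466 (.node 0 8922904 .leaf .leaf) .leaf)) (.node 2 1157860 (.node 2 46292 (.node 0 2361739 .leaf .leaf) .leaf) .leaf)) .leaf)) .leaf)) (.node 2 770562 (.node 0 7874589 (.node 0 1543813 (.node 0 2163181 (.node 0 8782737 .leaf .leaf) (.node 2 202688 (.node 0 271673 (.node 0 4463130 .leaf (.node 2 3161312 .leaf .leaf)) (.node 2 4235989 .leaf .leaf)) .leaf)) .leaf) (.node 2 266003 (.node 0 8664124 (.node 0 12600009 (.node 0 8967008 .leaf (.node 2 1918498 (.node 0 1640966 .leaf .leaf) .leaf)) (.node 2 2230469 (.node 0 4340100 (.node 2 9110599 .leaf .leaf) (.node 2 2135410 (.node 2 10110018 .leaf .leaf) .leaf)) .leaf)) (.node 2 411666 (.node 0 537400 (.node 0 9437390 (.node 0 98176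 .leaf .leaf) .leaf) .leaf) .leaf)) .leaf)) .leaf)) (.node 2 3834951 (.node 0 11732105 (.node 0 224009 (.node 0 789768 (.node 0 1314332 (.node 0 12648769 .leaf .leaf) (.node 2 6322288 .leaf .leaf)) (.node 2 5790322 (.node 0 14254659 .leaf (.node 2 8536899 (.node 0 13123697 (.node 0 1631856 .leaf .leaf) (.node 2 10879385 (.node 2 1331720 (.node 0 590158 (.node 0 13636304 .leaf .leaf) .leaf) .leaf) .leaf)) .leaf)) .leaf)) (.node 2 3565592 (.node 0 4917578 (.node 0 9470178 (.node 0 2442499 .leaf .leaf) (.node 2 4299140 (.node 2 3277895 .leaf .leaf) .leaf)) (.node 2 4344642 (.node 0 4753460 (.node 0 7372913 (.node 2 2628684 .leaf .leaf) (.node 2 10764697 (.node 0 935947 .leaf (.node 2 1333802 .leaf .leaf)) .leaf)) (.node 2 1311903 .leaf .leaf)) .leaf)) .leaf)) (.node 2 815928 (.node 0 1844785 (.node 0 9506920 (.node 0 8471978 (.node 2 2529682 .leaf .leaf) (.node 2 68296 .leaf .leaf)) (.node 2 12599419 (.node 0 8967744 (.node 0 3688553 (.node 0 1782856 .leaf .leaf)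 .leaf) (.node 2 1149125 (.node 0 2173316 .leaf (.node 2 8410482 .leaf .leaf)) .leaf)) .leaf)) (.node 2 532006 (.node 2 95912 (.node 2 2884659 .leaf .leaf) .leaf) .leaf)) .leaf)) .leaf)) (.node 2 2147698 (.node 0 15335449 (.node 0 5423251 (.node 0 2723074 (.node 0 3280002 (.node 0 462093 (.node 2 7475406 (.node 0 237440 .leaf .leaf) .leaf) (.node 2 1263178 (.node 2 2721124 .leaf .leaf) .leaf)) (.node 2 788013 (.node 2 3688560 (.node 0 1781828 (.node 0 1115693 .leaf .leaf) (.node 2 11575489 (.node 2 4886866 .leaf .leaf) .leaf)) .leaf) .leaf)) (.node 2 2104468 (.node 0 408080 (.node 0 5082 .leaf .leaf) (.node 2 8499584 (.node 2 5275751 (.node 0 10846336 .leaf (.node 2 10629404 (.node 0 412936 .leaf .leaf) .leaf)) .leaf) .leaf)) .leaf)) (.node 2 1189917 (.node 0 69253 (.node 0 4205072 (.node 2 1382924 (.node 0 4274916 .leaf .leaf) .leaf) (.node 2 8501184 (.node 0 2123065 .leaf (.node 2 5276373 (.node 0 10847648 (.node 0 6441305 .leaf (.node 2 4802856 .leaf .leaf))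 .leaf) .leaf)) .leaf)) (.node 2 5251792 (.node 0 4297414 (.node 0 6326358 .leaf .leaf) (.node 2 5245449 (.node 2 5767687 (.node 0 1150176 (.node 2 8409482 .leaf .leaf) (.node 2 12648842 .leaf .leaf)) .leaf) .leaf)) .leaf)) .leaf)) (.node 2 8922468 (.node 0 1333400 (.node 0 592646 (.node 0 13636104 (.node 0 385408 (.node 0 2628944 .leaf (.node 2 98407 .leaf .leaf)) (.node 2 550657 (.node 2 12649351 (.node 0 12640688 .leaf .leaf) .leaf) .leaf)) .leaf) (.node 2 4481672 (.node 0 8947490 (.node 2 4596365 (.node 0 295957 .leaf .leaf) .leaf) (.node 2 936474 (.node 0 9962522 (.node 0 9520651 (.node 0 4801130 .leaf (.node 2 3835990 (.node 0 11732102 .leaf .leaf) .leaf)) (.node 2 2146736 .leaf .leaf)) (.node 2 4754213 (.node 0 7375028 (.node 2 2627902 (.node 0 9831060 .leaf .leaf) .leaf) (.node 2 10765699 (.node 2 8545097 (.node 0 552496 .leaf .leaf) .leaf) .leaf)) .leaf)) .leaf)) .leaf)) (.node 2 9962039 (.node 0 9519267 (.node 0 4803114 (.node 0 1871398 (.node 0 7667884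 .leaf (.node 2 333480 (.node 0 265364 .leaf .leaf) .leaf)) (.node 2 4759861 (.node 0 11576464 (.node 0 2313346 .leaf .leaf) (.node 2 2403476 .leaf .leaf)) .leaf)) (.node 2 11100520 (.node 0 10110482 (.node 0 1918465 .leaf .leaf) (.node 2 88864 (.node 0 8921929 (.node 0 1334832 .leaf .leaf) (.node 2 10847397 (.node 0 6439306 .leaf .leaf) .leaf)) .leaf)) .leaf)) (.node 2 2313283 (.node 0 659219 (.node 0 1319996 (.node 0 77092 .leaf (.node 2 2231750 (.node 0 4338076 .leaf (.node 2 1189465 .leaf .leaf)) .leaf)) (.node 2 8593476 (.node 2 12324886 (.node 2 10487249 .leaf .leaf) .leaf) .leaf)) (.node 2 8664856 (.node 0 12599864 .leaf (.node 2 2775104 (.node 0 1707015 (.node 2 9111310 (.node 0 1067705 .leaf .leaf) .leaf) .leaf) .leaf)) .leaf)) .leaf)) .leaf)) .leaf)) .leaf)) .leaf)) (.node 2 412169 (.node 0 538904 (.node 0 9437353 (.node 0 98048 (.node 0 4721474 (.node 2 9438367 (.node 0 97376 (.node 2 923154 (.node 0 5243605 .leaf .leaf) .leaf) (.node 2 3440790 (.node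 0 2301004 (.node 2 6375529 .leaf .leaf) .leaf) .leaf)) .leaf) (.node 2 468609 (.node 0 8397525 (.node 0 8676768 (.node 0 543065 .leaf (.node 2 9962051 .leaf .leaf)) (.node 2 10507306 (.node 0 4876872 .leaf (.node 2 2155936 (.node 2 574019 (.node 0 12324892 .leaf .leaf) .leaf) .leaf)) .leaf)) (.node 2 12588000 (.node 0 4247856 (.node 0 2667876 (.node 2 1868343 (.node 0 7667875 .leaf .leaf) .leaf) (.node 2 11535608 (.node 0 13062920 .leaf .leaf) .leaf)) (.node 2 8429809 (.node 0 10507512 (.node 0 4875016 (.node 2 537164 .leaf .leaf) .leaf) .leaf) .leaf)) .leaf)) .leaf)) (.node 2 1322017 (.node 0 76876 (.node 0 8390002 (.node 0 4472857 .leaf (.node 2 1846308 (.node 0 9508386 (.node 2 8716936 .leaf .leaf) (.node 2 9963012 .leaf .leaf)) .leaf)) (.node 2 6373825 (.node 0 4888850 (.node 0 3441824 (.node 0 2298052 (.node 2 14717044 (.node 0 10666322 .leaf .leaf) .leaf) (.node 2 8983110 .leaf .leaf)) (.node 2 3410100 (.node 2 11575477 (.node 0 2312640 (.node 2 11576401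 .leaf .leaf) .leaf) .leaf) .leaf)) (.node 2 12747095 (.node 0 2155873 (.node 2 574225 (.node 0 12325900 .leaf (.node 2 273948 (.node 2 6818147 (.node 0 9605142 .leaf .leaf) .leaf) .leaf)) .leaf) (.node 2 6441152 (.node 2 9606228 .leaf .leaf) .leaf)) .leaf)) .leaf)) (.node 2 9193250 (.node 0 5787706 .leaf (.node 2 1188493 (.node 2 1845293 (.node 0 9507526 (.node 2 10485976 (.node 2 461577 .leaf .leaf) .leaf) (.node 2 5243003 .leaf .leaf)) .leaf) .leaf)) .leaf)) .leaf)) (.node 2 4332176 (.node 0 8422096 (.node 0 6320344 (.node 2 461831 (.node 0 4196494 (.node 0 12878727 .leaf (.node 2 4620802 .leaf .leaf)) (.node 2 923406 (.node 0 5245625 (.node 2 6162456 (.node 2 4342154 (.node 0 4752145 .leaf (.node 2 317984 .leaf .leaf)) .leaf) .leaf) (.node 2 2666868 .leaf .leaf)) .leaf)) .leaf) (.node 2 4197129 (.node 0 12878391 (.node 0 2149712 (.node 0 15335745 (.node 0 5425858 .leaf (.node 2 8429877 (.node 2 12640976 (.node 0 7127059 .leaf .leaf) .leaf) .leaf)) .leaf)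 (.node 2 14745703 (.node 0 446227 (.node 0 2884668 .leaf .leaf) (.node 2 8663324 (.node 0 12599656 .leaf (.node 2 6884 (.node 0 12587430 .leaf .leaf) .leaf)) .leaf)) .leaf)) (.node 2 5788162 (.node 0 14254599 .leaf (.node 2 12648620 (.node 0 12640369 (.node 0 7129089 .leaf .leaf) (.node 2 410009 (.node 0 538732 (.node 2 4391246 .leaf .leaf) .leaf) .leaf)) .leaf)) .leaf)) .leaf)) (.node 2 236294 (.node 0 2104584 (.node 2 6320512 (.node 0 691536 .leaf (.node 2 12648551 .leaf .leaf)) .leaf) (.node 2 1066121 (.node 0 5057289 (.node 0 5276215 (.node 0 10846371 (.node 0 6439233 .leaf .leaf) (.node 2 10630228 (.node 2 8664460 (.node 2 2381082 .leaf .leaf) .leaf) .leaf)) (.node 2 5789730 (.node 0 14254688 (.node 0 3267680 .leaf (.node 2 6560040 .leaf .leaf)) (.node 2 9110540 (.node 0 1065073 .leaf (.node 2 2236825 (.node 0 8523982 .leaf .leaf) .leaf)) .leaf)) .leaf)) (.node 2 3565569 (.node 0 4917317 (.node 2 8967440 (.node 2 5523608 (.node 2 4483496 .leaf .leaf) .leaf)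 .leaf) (.node 2 10880262 (.node 2 1311245 (.node 0 12649121 (.node 2 233924 .leaf .leaf) (.node 2 1706007 (.node 0 5315114 .leaf .leaf) .leaf)) .leaf) .leaf)) .leaf)) .leaf)) .leaf)) .leaf)) (.node 2 5767216 (.node 0 1147556 (.node 0 2174369 (.node 0 4595996 (.node 0 298276 (.node 0 10486943 (.node 0 8545361 (.node 0 551944 .leaf (.node 2 924680 (.node 2 6300020 (.node 0 12746962 .leaf .leaf) .leaf) .leaf)) (.node 2 3442737 (.node 0 2298886 (.node 2 13062664 .leaf .leaf) .leaf) .leaf)) (.node 2 222721 (.node 0 789547 (.node 2 7374960 .leaf .leaf) (.node 2 13063042 (.node 2 8536267 (.node 0 13123707 .leaf .leaf) .leaf) .leaf)) .leaf)) (.node 2 7622 (.node 0 12587420 (.node 0 4247650 (.node 2 11534394 (.node 0 13062658 .leaf .leaf) .leaf) (.node 2 407704 (.node 2 4481697 (.node 0 8947286 (.node 2 4598017 .leaf .leaf) .leaf) .leaf) .leaf)) (.node 2 542297 (.node 0 9970772 .leaf .leaf) .leaf)) .leaf)) (.node 2 8595269 (.node 0 4214970 (.node 0 820278 (.node 0 3158132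 .leaf (.node 2 347553 (.node 2 8947525 .leaf .leaf) .leaf)) (.node 2 306321 (.node 2 8618117 .leaf .leaf) .leaf)) (.node 2 8676241 (.node 0 542282 (.node 0 9971240 (.node 0 5333185 .leaf (.node 2 2761805 (.node 0 1190600 (.node 2 5056557 .leaf .leaf) .leaf) .leaf)) (.node 2 2721894 (.node 2 789285 (.node 2 2147715 (.node 0 15335492 .leaf .leaf) .leaf) .leaf) .leaf)) .leaf) .leaf)) .leaf)) (.node 2 8410904 (.node 0 9192707 (.node 0 5789720 (.node 0 14254178 (.node 0 3264738 (.node 2 1580582 .leaf .leaf) (.node 2 6557754 (.node 2 164935 .leaf .leaf) .leaf)) (.node 2 4343960 (.node 2 4481433 (.node 2 1332384 (.node 0 590437 .leaf .leaf) .leaf) .leaf) .leaf)) (.node 2 541483 (.node 0 9970765 (.node 0 5335752 (.node 0 633637 (.node 2 444944 .leaf .leaf) (.node 2 5056772 (.node 0 5278305 .leaf .leaf) .leaf)) (.node 2 3220557 (.node 0 203464 (.node 2 5054989 .leaf .leaf) (.node 2 3222624 .leaf .leaf)) .leaf)) (.node 2 1611878 (.node 2 1446938 (.node 2 2149600 .leaf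 .leaf) .leaf) .leaf)) .leaf)) (.node 2 2773080 (.node 0 1704029 (.node 0 5314668 (.node 0 99972 (.node 0 6557718 .leaf (.node 2 8389945 .leaf .leaf)) (.node 2 4391118 (.node 2 388513 (.node 0 2625820 .leaf .leaf) .leaf) .leaf)) (.node 2 1265290 (.node 2 7127344 (.node 2 3083528 (.node 0 1449500 .leaf (.node 2 6322472 .leaf .leaf)) .leaf) .leaf) .leaf)) (.node 2 75309 (.node 0 8390312 (.node 0 4473643 (.node 2 1610260 (.node 0 3220492 (.node 0 201028 .leaf .leaf) .leaf) .leaf) (.node 2 2886692 (.node 2 9606660 (.node 0 6375744 .leaf .leaf) .leaf) .leaf)) (.node 2 3687505 (.node 0 1784840 (.node 0 1115296 .leaf .leaf) (.node 2 12746945 (.node 0 2154672 (.node 2 577299 .leaf .leaf) .leaf) .leaf)) .leaf)) .leaf)) .leaf)) .leaf)) (.node 2 14254693 (.node 0 3267586 (.node 0 3082497 (.node 0 1446536 (.node 0 8718114 (.node 2 9831053 (.node 2 1844245 .leaf .leaf) .leaf) (.node 2 934163 (.node 2 15335506 (.node 2 9467584 .leaf .leaf) .leaf) .leaf)) (.node 2 10667267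 (.node 0 2775064 (.node 0 1707098 (.node 0 5312738 .leaf (.node 2 6531460 (.node 2 11043911 .leaf .leaf) .leaf)) .leaf) (.node 2 4719403 (.node 2 1610336 .leaf .leaf) .leaf)) .leaf)) (.node 2 1579094 (.node 0 1381510 (.node 0 4272676 (.node 0 8688404 (.node 0 2383026 (.node 0 9048398 (.node 0 9466576 .leaf .leaf) .leaf) .leaf) .leaf) (.node 2 13124202 (.node 0 1630753 (.node 0 3737634 .leaf (.node 2 8688038 .leaf .leaf)) .leaf) .leaf)) (.node 2 2763077 (.node 0 1189076 (.node 0 67979 (.node 0 4202665 .leaf (.node 2 5552784 (.node 2 3266594 .leaf .leaf) .leaf)) (.node 2 5769261 .leaf .leaf)) (.node 2 10495253 (.node 2 470152 .leaf .leaf) .leaf)) .leaf)) .leaf)) (.node 2 6558128 (.node 0 4620563 (.node 0 14717010 (.node 0 10667408 (.node 2 4720958 (.node 2 4250002 (.node 2 11534486 .leaf .leaf) .leaf) .leaf) (.node 2 7874629 (.node 0 1543680 (.node 0 2165121 (.node 0 8783125 .leaf .leaf) (.node 2 202372 .leaf .leaf)) .leaf) .leaf)) (.node 2 2174176 (.node 0 4598416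 (.node 0 297616 .leaf (.node 2 9466424 .leaf .leaf)) (.node 2 9467504 .leaf .leaf)) .leaf)) (.node 2 4238224 (.node 0 2137218 (.node 0 2231565 (.node 0 4340032 (.node 0 4236193 .leaf (.node 2 9192499 .leaf .leaf)) (.node 2 7477380 (.node 0 236998 .leaf .leaf) .leaf)) (.node 2 10110538 (.node 0 1918504 .leaf .leaf) .leaf)) .leaf) .leaf)) .leaf)) .leaf)) .leaf)) .leaf)) .leaf)) (.node 2 167699 (.node 0 10494401 (.node 0 4344082 (.node 0 4752224 (.node 0 7372996 (.node 0 6529473 (.node 0 2263314 (.node 0 6686743 (.node 2 8663700 (.node 0 12599778 (.node 0 8967714 (.node 0 3688466 .leaf .leaf) .leaf) (.node 2 10507546 (.node 2 2136150 (.node 2 10109507 .leaf .leaf) .leaf) .leaf)) .leaf) (.node 2 658260 (.node 0 1319093 .leaf (.node 2 11575364 (.node 2 4886550 (.node 0 3441718 (.node 2 8983908 .leaf .leaf) .leaf) .leaf) .leaf)) .leaf)) (.node 2 11043872 (.node 0 3564553 (.node 0 4917573 (.node 0 9471188 (.node 0 2442272 .leaf .leaf) (.node 2 8946965 (.node 2 4597912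 (.node 2 4483457 .leaf .leaf) .leaf) .leaf)) (.node 2 3162265 .leaf .leaf)) (.node 2 13369892 (.node 0 9749009 (.node 0 11101281 (.node 2 8524564 (.node 2 10847520 (.node 0 6441345 .leaf .leaf) .leaf) .leaf) (.node 2 4274760 (.node 0 8689040 .leaf .leaf) .leaf)) (.node 2 9605248 (.node 0 6373608 (.node 2 470285 .leaf .leaf) (.node 2 13635682 (.node 0 385953 (.node 2 101926 .leaf .leaf) (.node 2 9191482 (.node 2 164743 .leaf .leaf) .leaf)) .leaf)) .leaf)) .leaf)) .leaf)) (.node 2 2625652 (.node 0 9830942 (.node 0 88394 (.node 0 8921448 (.node 0 1332754 (.node 0 591685 (.node 2 12747665 .leaf .leaf) .leaf) (.node 2 87112 (.node 0 8921397 (.node 2 11101256 .leaf .leaf) .leaf) .leaf)) (.node 2 4299492 (.node 0 6324646 .leaf .leaf) .leaf)) (.node 2 691010 (.node 0 3151924 (.node 0 4391753 (.node 0 48688 .leaf (.node 2 1784908 .leaf .leaf)) .leaf) (.node 2 8783007 (.node 2 3442855 (.node 0 2299978 .leaf .leaf) .leaf) .leaf)) .leaf)) (.node 2 14717410 (.node 0 10667139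 (.node 0 2774344 (.node 0 1704475 (.node 0 5312718 (.node 2 386208 .leaf .leaf) (.node 2 1633840 (.node 0 3736642 .leaf .leaf) .leaf)) .leaf) (.node 2 4719436 (.node 0 5552132 (.node 2 3265568 (.node 2 1580122 .leaf .leaf) .leaf) .leaf) .leaf)) (.node 2 7872605 (.node 0 1540738 (.node 0 2165091 .leaf (.node 2 200910 (.node 2 386689 (.node 2 99296 .leaf .leaf) .leaf) .leaf)) (.node 2 1264642 .leaf .leaf)) .leaf)) .leaf)) .leaf)) (.node 2 10764435 (.node 0 937218 (.node 0 9961565 (.node 0 9519746 (.node 0 4802915 (.node 0 1867798 (.node 0 7669889 .leaf (.node 2 335744 (.node 0 264510 .leaf (.node 2 8423139 .leaf .leaf)) .leaf)) (.node 2 550201 .leaf .leaf)) (.node 2 11731150 (.node 0 225152 (.node 2 9520867 (.node 2 8537050 .leaf .leaf) .leaf) (.node 2 387872 (.node 0 2627914 (.node 0 9830538 .leaf .leaf) .leaf) .leaf)) .leaf)) .leaf) (.node 2 9963053 (.node 0 9520808 (.node 0 4802624 (.node 0 1870855 .leaf (.node 2 1610806 (.node 0 3222664 (.node 2 6686994 .leaf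 .leaf) (.node 2 1449108 (.node 0 8717708 (.node 0 8410144 .leaf .leaf) .leaf) .leaf)) .leaf)) (.node 2 2885950 (.node 0 13771412 (.node 0 8504833 .leaf .leaf) (.node 2 4250400 (.node 0 2668864 .leaf .leaf) .leaf)) .leaf)) (.node 2 3689539 (.node 0 1785344 (.node 0 1115246 (.node 0 335140 .leaf .leaf) .leaf) (.node 2 8546072 (.node 0 549432 (.node 0 5769245 (.node 2 5253272 .leaf .leaf) (.node 2 544531 .leaf .leaf)) (.node 2 2773330 (.node 0 1704976 .leaf .leaf) .leaf)) .leaf)) .leaf)) .leaf)) (.node 2 10507408 (.node 0 4876816 (.node 0 1612836 (.node 0 3222561 (.node 0 203852 (.node 0 270989 .leaf .leaf) .leaf) (.node 2 1447428 (.node 0 8718084 (.node 0 8410360 .leaf (.node 2 9749153 .leaf .leaf)) .leaf) .leaf)) .leaf) (.node 2 8500640 (.node 0 2124121 (.node 0 922132 (.node 0 5243422 (.node 0 8499524 .leaf .leaf) (.node 2 14717300 (.node 2 7874668 (.node 0 1541764 (.node 2 204040 .leaf .leaf) .leaf) .leaf) .leaf)) (.node 2 5313094 (.node 0 100514 (.node 0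 6560004 (.node 2 304165 .leaf .leaf) .leaf) .leaf) .leaf)) (.node 2 5277876 (.node 0 10846597 (.node 0 6440971 (.node 0 9348612 (.node 0 3165264 .leaf .leaf) (.node 2 5423746 (.node 2 2101454 .leaf .leaf) .leaf)) .leaf) (.node 2 10629532 .leaf .leaf)) .leaf)) .leaf)) .leaf)) .leaf)) (.node 2 1919520 (.node 0 1638503 (.node 0 9774637 (.node 2 3686498 (.node 0 1782348 (.node 0 1115875 (.node 0 334120 (.node 0 263594 .leaf .leaf) (.node 2 12600282 (.node 0 8966962 .leaf (.node 2 891140 (.node 2 9773704 .leaf .leaf) .leaf)) .leaf)) (.node 2 593446 (.node 0 13635756 (.node 0 388129 .leaf (.node 2 411393 (.node 0 538372 .leaf .leaf) .leaf)) (.node 2 9508520 .leaf .leaf)) .leaf)) (.node 2 15745082 (.node 2 164178 (.node 2 8398784 (.node 0 8676665 (.node 0 542049 .leaf (.node 2 3160256 .leaf .leaf)) (.node 2 9437909 .leaf .leaf)) .leaf) .leaf) .leaf)) .leaf) (.node 2 15335708 (.node 0 5425216 (.node 0 2722823 (.node 0 3277905 (.node 0 459655 (.node 2 6300141 .leaf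 .leaf) (.node 2 4622465 (.node 2 2172260 .leaf .leaf) .leaf)) (.node 2 788238 (.node 0 1313465 (.node 0 12648651 (.node 0 12640497 .leaf (.node 2 1540229 (.node 0 2164844 .leaf .leaf) .leaf)) .leaf) (.node 2 2668656 (.node 2 1870339 (.node 0 7667850 .leaf .leaf) .leaf) .leaf)) .leaf)) (.node 2 2102326 (.node 2 13062528 (.node 2 8945767 .leaf .leaf) .leaf) .leaf)) (.node 2 6462 (.node 0 12587668 (.node 0 4250128 (.node 2 11534429 (.node 0 13062786 (.node 0 575843 .leaf .leaf) .leaf) .leaf) (.node 2 8500996 (.node 0 2123000 .leaf (.node 2 5277782 (.node 0 10847366 .leaf .leaf) .leaf)) .leaf)) (.node 2 4248272 (.node 0 2667604 (.node 0 7477334 (.node 2 8676257 (.node 0 542066 .leaf .leaf) .leaf) .leaf) (.node 2 11535369 (.node 2 3163267 (.node 0 9110856 (.node 0 1065499 (.node 0 5057056 .leaf .leaf) .leaf) (.node 2 12649292 .leaf .leaf)) .leaf) .leaf)) .leaf)) .leaf)) .leaf)) (.node 2 11576480 (.node 0 2310337 (.node 0 655902 (.node 0 1320989 (.node 0 74088 (.node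 0 8389101 .leaf (.node 2 88000 (.node 0 8922425 .leaf .leaf) .leaf)) (.node 2 5253860 .leaf .leaf)) (.node 2 691987 (.node 0 3150908 (.node 0 4391625 .leaf .leaf) (.node 2 8781846 (.node 0 4481848 (.node 0 8947249 .leaf (.node 2 529764 .leaf .leaf)) (.node 2 12325904 (.node 2 8422865 .leaf .leaf) .leaf)) .leaf)) .leaf)) (.node 2 14717266 (.node 0 10667024 (.node 0 2774288 (.node 2 4311488 .leaf .leaf) (.node 2 4720985 (.node 0 5550612 (.node 0 2196742 .leaf .leaf) (.node 2 5314702 (.node 0 99207 .leaf (.node 2 4620438 .leaf .leaf)) .leaf)) .leaf)) (.node 2 7874624 (.node 0 1543175 (.node 0 2164878 .leaf .leaf) (.node 2 9438262 (.node 0 95072 .leaf .leaf) .leaf)) .leaf)) .leaf)) (.node 2 4887110 (.node 0 3442850 (.node 0 2300164 (.node 2 10847269 (.node 0 6439250 (.node 0 9348112 (.node 0 3164234 .leaf .leaf) .leaf) (.node 2 4801282 (.node 0 1868851 (.node 0 7669927 .leaf .leaf) (.node 2 5333161 .leaf .leaf)) .leaf)) .leaf) (.node 2 8983662 (.node 0 5523505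 (.node 0 891680 (.node 0 11534539 .leaf (.node 2 9774245 (.node 0 344458 .leaf .leaf) .leaf)) (.node 2 9347601 .leaf .leaf)) (.node 2 2197671 (.node 0 10629208 (.node 2 76385 (.node 0 8389594 .leaf .leaf) .leaf) (.node 2 664904 (.node 0 13894171 .leaf .leaf) .leaf)) .leaf)) .leaf)) (.node 2 3408058 (.node 2 306944 (.node 0 6302144 .leaf (.node 2 8619649 (.node 2 4203488 (.node 0 303408 .leaf .leaf) .leaf) .leaf)) .leaf) .leaf)) .leaf)) .leaf)) .leaf)) (.node 2 2228567 (.node 0 4338508 (.node 0 4237637 (.node 0 2135252 (.node 0 2229332 (.node 0 4340564 (.node 2 8676104 (.node 0 543346 (.node 0 9971289 (.node 0 5335232 (.node 0 633441 .leaf .leaf) .leaf) (.node 2 3151974 (.node 2 10880026 .leaf .leaf) .leaf)) (.node 2 537660 (.node 2 2231441 (.node 2 235652 (.node 0 2104774 .leaf .leaf) .leaf) .leaf) .leaf)) .leaf) (.node 2 5552260 (.node 0 2198982 (.node 2 665860 (.node 2 3736613 (.node 0 5440070 (.node 0 4556962 .leaf .leaf) .leaf) .leaf) .leaf) (.node 2 3265602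 (.node 0 3081478 (.node 0 1448454 (.node 0 8717477 .leaf .leaf) .leaf) (.node 2 1580128 (.node 2 689682 .leaf .leaf) .leaf)) .leaf)) .leaf)) (.node 2 10109961 (.node 0 1920033 (.node 0 1641548 (.node 0 9774112 .leaf (.node 2 6375848 (.node 0 4888640 (.node 0 3443719 .leaf .leaf) (.node 2 4462910 (.node 2 4249792 .leaf .leaf) .leaf)) .leaf)) .leaf) (.node 2 3163233 (.node 0 9109579 (.node 2 1155745 (.node 0 14745806 .leaf .leaf) .leaf) (.node 2 12878612 (.node 0 2146625 .leaf (.node 2 14745960 (.node 0 444801 (.node 0 2884885 .leaf .leaf) .leaf) .leaf)) .leaf)) .leaf)) .leaf)) (.node 2 2262293 (.node 0 6684825 (.node 0 167060 (.node 0 10494065 (.node 0 4342746 (.node 0 4753477 .leaf .leaf) .leaf) (.node 2 8397209 (.node 0 8675497 .leaf .leaf) .leaf)) (.node 2 1313835 (.node 2 7374871 (.node 0 6531329 (.node 0 2261441 (.node 2 655703 .leaf .leaf) .leaf) (.node 2 2627670 (.node 2 10506722 .leaf .leaf) .leaf)) .leaf) .leaf)) (.node 2 658522 (.node 0 1321484 (.node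 0 76516 (.node 0 8389030 (.node 2 3735627 .leaf .leaf) (.node 2 3151060 .leaf .leaf)) (.node 2 4874265 (.node 2 1191057 (.node 0 67299 (.node 2 12587994 .leaf .leaf) (.node 2 591917 .leaf .leaf)) .leaf) .leaf)) (.node 2 6531457 (.node 2 11042838 (.node 0 3565697 (.node 0 4917769 .leaf .leaf) (.node 2 13370129 .leaf .leaf)) .leaf) .leaf)) .leaf)) .leaf)) (.node 2 611080 (.node 0 1577996 (.node 0 1384074 (.node 0 4274368 (.node 0 8688306 (.node 0 2381088 .leaf (.node 2 5442051 (.node 2 8717738 .leaf .leaf) .leaf)) (.node 2 9049172 (.node 2 8967490 (.node 0 3689562 .leaf .leaf) .leaf) .leaf)) (.node 2 7129122 (.node 0 3837008 .leaf (.node 2 3081228 (.node 0 1449610 (.node 2 7127315 .leaf .leaf) (.node 2 2239757 (.node 0 8525122 (.node 2 9191963 .leaf .leaf) (.node 2 7475338 (.node 2 295841 .leaf .leaf) .leaf)) .leaf)) .leaf)) .leaf)) (.node 2 2238789 (.node 0 8525012 (.node 0 18032 (.node 0 531284 (.node 0 5253704 (.node 0 4299200 .leaf .leaf) (.node 2 2156864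 (.node 0 2761993 .leaf .leaf) .leaf)) .leaf) (.node 2 8967456 (.node 0 3689505 .leaf (.node 2 5521953 (.node 0 890914 .leaf (.node 2 12878246 .leaf .leaf)) .leaf)) .leaf)) (.node 2 10880277 (.node 0 8536217 .leaf (.node 2 298162 (.node 2 223617 (.node 2 11101537 .leaf .leaf) .leaf) .leaf)) .leaf)) .leaf)) (.node 2 540188 (.node 0 9438289 (.node 0 95200 (.node 0 4718896 .leaf (.node 2 6299889 (.node 0 12747477 .leaf (.node 2 12587694 (.node 0 4248544 (.node 0 2666800 .leaf (.node 2 11534577 .leaf .leaf)) (.node 2 820996 (.node 0 3159288 .leaf .leaf) .leaf)) .leaf)) .leaf)) (.node 2 822305 (.node 2 345890 (.node 0 13369402 .leaf .leaf) .leaf) .leaf)) (.node 2 6817841 (.node 0 9605840 (.node 0 6373579 (.node 0 4888662 .leaf .leaf) .leaf) (.node 2 236226 (.node 0 2102628 .leaf (.node 2 1066232 (.node 2 2442666 (.node 2 2528518 .leaf .leaf) .leaf) .leaf)) .leaf)) .leaf)) .leaf)) .leaf)) (.node 2 6686852 (.node 0 167366 (.node 0 10494364 (.node 0 4341835 (.node 0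 4753923 (.node 0 7373010 (.node 2 2628900 .leaf .leaf) (.node 2 10765738 (.node 2 2528400 (.node 0 2239636 (.node 2 9506954 .leaf .leaf) (.node 2 1641515 .leaf .leaf)) .leaf) .leaf)) (.node 2 1157664 (.node 2 47956 (.node 2 9470534 (.node 0 2443426 (.node 2 3150958 .leaf .leaf) .leaf) .leaf) .leaf) .leaf)) (.node 2 406292 (.node 0 4940 (.node 0 12587342 .leaf .leaf) (.node 2 6687000 (.node 0 166273 (.node 2 8398177 (.node 2 9192209 .leaf .leaf) .leaf) (.node 2 4331850 (.node 0 8421858 (.node 0 6322344 .leaf .leaf) (.node 2 4299526 (.node 0 6326529 (.node 2 2639107 .leaf .leaf) (.node 2 3277961 .leaf .leaf)) .leaf)) .leaf)) .leaf)) .leaf)) (.node 2 8398425 (.node 0 8676752 (.node 0 543329 (.node 0 9970725 (.node 2 9110274 (.node 2 3219625 .leaf .leaf) .leaf) (.node 2 2135440 .leaf .leaf)) (.node 2 9970748 (.node 0 5333705 (.node 0 631648 (.node 2 442515 (.node 2 8472193 (.node 2 8500192 .leaf .leaf) .leaf) .leaf) (.node 2 1920002 (.node 0 1641057 .leaf .leaf)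 .leaf)) .leaf) .leaf)) (.node 2 3737669 (.node 0 5442120 (.node 0 4557185 (.node 0 2401557 .leaf .leaf) .leaf) (.node 2 2155792 (.node 0 2761028 (.node 2 15745043 (.node 2 470661 (.node 0 8397293 .leaf (.node 2 8525760 (.node 0 17721 .leaf .leaf) .leaf)) .leaf) .leaf) (.node 2 576848 (.node 0 12325920 (.node 0 1262601 (.node 2 3163384 .leaf .leaf) .leaf) (.node 2 272808 (.node 0 4462760 (.node 2 4473650 .leaf .leaf) (.node 2 4460572 .leaf .leaf)) .leaf)) .leaf)) .leaf)) .leaf)) .leaf)) (.node 2 9606210 (.node 0 6373858 (.node 0 4889094 (.node 0 3441829 (.node 0 2298250 .leaf (.node 2 8983392 (.node 0 5522056 (.node 0 890658 .leaf (.node 2 934417 (.node 0 9962014 .leaf .leaf) .leaf)) (.node 2 10666131 .leaf .leaf)) .leaf)) (.node 2 3409036 (.node 0 468996 (.node 0 8397624 .leaf .leaf) (.node 2 2359477 (.node 0 4330014 .leaf (.node 2 14717104 .leaf .leaf)) .leaf)) .leaf)) (.node 2 13770845 (.node 0 8504673 (.node 0 2640227 (.node 2 10495289 .leaf .leaf) (.node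 2 12714190 (.node 0 319360 (.node 0 6818110 .leaf .leaf) (.node 2 388608 (.node 0 2626670 .leaf .leaf) .leaf)) .leaf)) (.node 2 1263808 (.node 0 8983146 (.node 2 772611 (.node 0 7872600 .leaf .leaf) .leaf) (.node 2 3834964 (.node 0 11732039 (.node 0 222345 .leaf .leaf) (.node 2 818440 (.node 2 6320472 .leaf .leaf) .leaf)) .leaf)) .leaf)) .leaf)) (.node 2 13636126 (.node 0 387329 (.node 0 2625896 (.node 0 9831954 (.node 2 9831445 (.node 2 9348117 .leaf .leaf) .leaf) (.node 2 86498 (.node 0 8922669 (.node 0 1332904 .leaf (.node 2 3687496 .leaf .leaf)) (.node 2 15335517 (.node 2 1263627 .leaf .leaf) .leaf)) .leaf)) (.node 2 99587 (.node 0 6558118 (.node 0 4622738 (.node 0 14717154 .leaf .leaf) .leaf) (.node 2 8389844 (.node 0 4475275 (.node 0 4762452 (.node 2 2402564 (.node 0 10879126 .leaf .leaf) .leaf) .leaf) .leaf) .leaf)) .leaf)) (.node 2 690262 (.node 0 3150982 (.node 0 4391431 (.node 2 13062538 (.node 2 317602 .leaf .leaf) .leaf) (.node 2 12649066 (.node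 0 12640801 .leaf (.node 2 770369 (.node 2 262453 (.node 0 8664208 .leaf .leaf) .leaf) .leaf)) .leaf)) (.node 2 8782727 (.node 0 4481456 (.node 0 8945939 (.node 0 15745193 .leaf .leaf) (.node 2 5769754 (.node 0 1150082 (.node 0 2174221 .leaf (.node 2 8410698 .leaf .leaf)) (.node 2 4753682 (.node 2 10764720 .leaf .leaf) .leaf)) .leaf)) (.node 2 10494445 (.node 0 4342673 (.node 0 4751942 (.node 2 10764474 .leaf .leaf) (.node 2 4311584 .leaf .leaf)) (.node 2 1383560 (.node 2 6686862 .leaf .leaf) .leaf)) .leaf)) .leaf)) .leaf)) .leaf)) .leaf)) .leaf)) .leaf)) (.node 2 8396916 (.node 0 8676152 (.node 0 543050 (.node 0 9969768 (.node 0 5335208 (.node 0 632645 .leaf (.node 2 4475282 (.node 0 4762209 (.node 0 11576357 (.node 0 2311490 .leaf (.node 2 4887298 (.node 2 3408041 .leaf .leaf) .leaf)) (.node 2 2401680 (.node 0 10879109 (.node 0 8537475 .leaf .leaf) (.node 2 634148 (.node 0 3409055 .leaf .leaf) .leaf)) .leaf)) (.node 2 9970196 (.node 0 5333512 (.node 2 552272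 (.node 0 5769825 (.node 0 1147941 .leaf (.node 2 8430992 .leaf .leaf)) .leaf) .leaf) (.node 2 11732045 (.node 0 223944 (.node 2 5057317 .leaf .leaf) (.node 2 3221612 .leaf .leaf)) .leaf)) .leaf)) .leaf)) (.node 2 66637 (.node 0 4202805 (.node 0 305957 (.node 0 6301876 (.node 0 12747141 (.node 0 2157601 (.node 2 575266 .leaf .leaf) .leaf) (.node 2 9507502 (.node 0 8471520 .leaf .leaf) .leaf)) (.node 2 8619395 (.node 0 10765472 .leaf (.node 2 4203337 (.node 0 306736 (.node 2 8618305 .leaf .leaf) (.node 2 1784332 .leaf .leaf)) .leaf)) .leaf)) (.node 2 5057036 (.node 0 5278436 (.node 2 10630356 (.node 2 8525196 (.node 0 17370 .leaf .leaf) .leaf) .leaf) (.node 2 4876545 .leaf .leaf)) .leaf)) (.node 2 3222729 (.node 0 202510 (.node 0 273081 (.node 0 4461348 (.node 2 12877957 (.node 2 14745924 .leaf .leaf) .leaf) (.node 2 6162947 (.node 0 1156800 (.node 0 14745733 .leaf (.node 2 48420 .leaf .leaf)) (.node 2 17834 .leaf .leaf)) .leaf)) .leaf) (.node 2 7669794 (.node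 0 8619968 (.node 0 10765625 .leaf (.node 2 4203221 (.node 0 305685 (.node 0 6302041 .leaf (.node 2 8618563 .leaf .leaf)) .leaf) .leaf)) (.node 2 9831436 (.node 0 89738 (.node 2 7129137 (.node 0 3834886 .leaf .leaf) .leaf) (.node 2 2237461 (.node 2 13062282 .leaf .leaf) .leaf)) .leaf)) .leaf)) .leaf)) .leaf)) .leaf) (.node 2 531266 (.node 0 5253172 (.node 0 4297568 (.node 0 6324676 (.node 0 2529284 (.node 2 1639456 .leaf .leaf) (.node 2 2637937 (.node 0 6160926 (.node 2 689414 (.node 2 8782349 .leaf .leaf) .leaf) (.node 2 14717124 (.node 0 10666433 (.node 0 2775314 .leaf .leaf) (.node 2 7872628 (.node 0 1542662 .leaf (.node 2 13771465 .leaf .leaf)) .leaf)) .leaf)) .leaf)) (.node 2 3279948 (.node 0 459405 (.node 0 4194397 (.node 0 12878133 .leaf (.node 2 1264841 (.node 0 8984334 (.node 0 5524153 .leaf .leaf) .leaf) .leaf)) (.node 2 1844781 (.node 2 3686523 (.node 0 1783360 (.node 2 12599986 .leaf .leaf) .leaf) .leaf) .leaf)) (.node 2 6375553 (.node 0 4889104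 (.node 2 3409949 .leaf .leaf) (.node 2 8500580 (.node 0 2123928 .leaf .leaf) .leaf)) .leaf)) .leaf)) (.node 2 1919497 (.node 0 1640459 (.node 0 9773225 (.node 0 347904 (.node 0 13370114 (.node 0 9749555 .leaf .leaf) (.node 2 9750145 (.node 0 11100225 (.node 2 10506544 .leaf .leaf) .leaf) .leaf)) (.node 2 1319588 (.node 0 77217 (.node 0 8390371 .leaf .leaf) (.node 2 15745250 (.node 0 771331 (.node 0 7874584 .leaf .leaf) .leaf) .leaf)) .leaf)) (.node 2 5425808 (.node 2 2103614 (.node 0 408840 (.node 0 7708 (.node 2 6815837 .leaf .leaf) .leaf) (.node 2 4250226 .leaf .leaf)) .leaf) .leaf)) (.node 2 5769770 (.node 0 1150502 (.node 0 2171052 (.node 0 4597789 (.node 0 298629 (.node 0 10486253 .leaf .leaf) (.node 2 5253317 .leaf .leaf)) (.node 2 413459 (.node 2 8675376 (.node 2 12325948 .leaf .leaf) .leaf) .leaf)) (.node 2 8409426 (.node 2 2886914 .leaf .leaf) .leaf)) (.node 2 4760165 (.node 0 11576341 (.node 0 2312449 (.node 2 10847491 (.node 0 6440984 .leaf .leaf)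 .leaf) .leaf) (.node 2 2400688 (.node 0 10880140 (.node 0 8536146 (.node 2 12325894 (.node 2 8544776 .leaf .leaf) .leaf) .leaf) (.node 2 634624 (.node 0 3411074 .leaf .leaf) .leaf)) .leaf)) .leaf)) .leaf)) .leaf)) (.node 2 2229407 (.node 0 4338568 (.node 0 4237444 (.node 0 2137542 (.node 0 2228636 (.node 0 4340624 (.node 0 4235636 .leaf (.node 2 8594184 .leaf .leaf)) (.node 2 407320 (.node 2 2774082 .leaf .leaf) .leaf)) (.node 2 10110553 .leaf .leaf)) (.node 2 2262082 (.node 0 6685078 (.node 0 166406 (.node 0 10495141 .leaf (.node 2 8397964 .leaf .leaf)) .leaf) .leaf) .leaf)) (.node 2 922376 (.node 0 5245554 .leaf (.node 2 536948 (.node 0 9438765 .leaf (.node 2 15335758 (.node 0 5423824 .leaf (.node 2 235200 (.node 2 1068075 .leaf .leaf) .leaf)) .leaf)) .leaf)) .leaf)) (.node 2 3441715 (.node 0 2301382 (.node 0 12714396 (.node 0 318352 (.node 0 6817803 .leaf (.node 2 1116714 (.node 0 335398 (.node 2 8664744 .leaf .leaf) .leaf) .leaf)) (.node 2 405916 (.node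 2 407172 .leaf .leaf) .leaf)) (.node 2 8537689 (.node 0 13123922 (.node 0 1632865 .leaf (.node 2 9971264 (.node 0 5335145 .leaf (.node 2 9437874 (.node 0 96968 .leaf .leaf) .leaf)) .leaf)) (.node 2 3737705 (.node 0 5439691 (.node 0 4556967 (.node 0 2402353 .leaf .leaf) (.node 2 1543298 .leaf .leaf)) .leaf) .leaf)) .leaf)) (.node 2 8983618 (.node 0 5522098 (.node 0 891398 (.node 0 11535525 (.node 2 8504160 .leaf .leaf) (.node 2 9773601 (.node 0 346146 (.node 0 13370168 .leaf .leaf) (.node 2 2359718 (.node 0 4331922 .leaf (.node 2 15745099 .leaf .leaf)) .leaf)) .leaf)) (.node 2 13771281 (.node 2 8717835 (.node 2 3835973 (.node 0 11732040 .leaf .leaf) .leaf) .leaf) .leaf)) (.node 2 9048606 (.node 0 9465944 (.node 0 610664 (.node 0 1579116 (.node 2 4393285 (.node 2 9348373 .leaf .leaf) .leaf) .leaf) .leaf) (.node 2 690709 (.node 2 8782363 .leaf .leaf) .leaf)) .leaf)) .leaf)) .leaf)) .leaf)) .leaf)) (.node 2 12325930 (.node 0 1264200 (.node 0 8983880 (.node 0 5521947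 (.node 0 890118 (.node 0 11534439 (.node 0 13062272 (.node 0 575088 (.node 2 273677 .leaf .leaf) (.node 2 8966242 .leaf .leaf)) (.node 2 10879260 (.node 0 8537416 (.node 0 13124123 (.node 2 1632305 .leaf .leaf) .leaf) .leaf) .leaf)) (.node 2 9773581 (.node 0 344737 (.node 0 13369886 (.node 0 9748499 .leaf .leaf) (.node 2 14717380 .leaf .leaf)) (.node 2 1704518 (.node 0 5314722 (.node 0 100067 .leaf (.node 2 590958 .leaf .leaf)) (.node 2 15745210 .leaf .leaf)) .leaf)) .leaf)) (.node 2 1633376 (.node 0 3737614 (.node 0 5439563 (.node 0 4557315 (.node 2 2164138 (.node 2 2528528 .leaf .leaf) .leaf) (.node 2 1158368 .leaf .leaf)) (.node 2 4236052 (.node 0 2134340 (.node 2 10108947 .leaf .leaf) .leaf) .leaf)) .leaf) .leaf)) (.node 2 2300046 (.node 0 12714887 (.node 0 315824 (.node 0 6817900 (.node 2 4393666 (.node 0 46436 .leaf (.node 2 9467128 .leaf .leaf)) .leaf) (.node 2 1117834 (.node 0 334978 (.node 2 9049674 .leaf .leaf) (.node 2 7129362 .leaf .leaf)) .leaf))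 (.node 2 74221 (.node 0 8389521 (.node 0 4475185 (.node 0 4762400 (.node 2 2401445 .leaf .leaf) (.node 2 9347604 (.node 2 4557605 .leaf .leaf) .leaf)) (.node 2 2198564 (.node 0 10630416 (.node 0 410498 .leaf .leaf) .leaf) .leaf)) (.node 2 1382020 (.node 0 4274600 (.node 0 8688800 .leaf (.node 2 4462772 .leaf .leaf)) (.node 2 12747462 (.node 0 2157648 .leaf (.node 2 6439128 .leaf .leaf)) .leaf)) .leaf)) .leaf)) (.node 2 4622869 (.node 2 2173033 (.node 0 4596121 (.node 0 297127 .leaf (.node 2 1334402 .leaf .leaf)) (.node 2 5335649 (.node 0 631845 (.node 0 3408950 (.node 2 13893813 .leaf .leaf) (.node 2 443138 (.node 2 8470697 .leaf .leaf) .leaf)) .leaf) .leaf)) .leaf) .leaf)) .leaf)) (.node 2 4916044 (.node 0 9471047 (.node 0 2442377 (.node 0 666377 (.node 0 13894199 (.node 0 4309155 (.node 0 11043894 .leaf (.node 2 2122088 (.node 2 88232 .leaf .leaf) .leaf)) (.node 2 8676913 .leaf .leaf)) (.node 2 5789770 (.node 0 14254662 .leaf (.node 2 4309827 (.node 0 11042929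 .leaf (.node 2 2124896 .leaf .leaf)) .leaf)) .leaf)) .leaf) (.node 2 4215608 (.node 0 820785 (.node 0 3161236 (.node 0 8594828 (.node 2 2382226 (.node 2 10486166 .leaf .leaf) .leaf) .leaf) (.node 2 347179 (.node 0 13369869 (.node 2 1705558 .leaf .leaf) (.node 2 7375045 (.node 2 2626930 (.node 0 9830425 .leaf .leaf) .leaf) .leaf)) .leaf)) (.node 2 531546 (.node 0 5251313 (.node 2 4876809 (.node 0 1611794 .leaf (.node 2 5767756 (.node 0 1148643 .leaf .leaf) .leaf)) .leaf) (.node 2 6529157 .leaf .leaf)) .leaf)) .leaf)) (.node 2 613640 (.node 0 1580572 (.node 0 1381038 (.node 0 4273120 (.node 0 8687920 (.node 0 2381226 .leaf (.node 2 5442248 .leaf .leaf)) (.node 2 12599537 .leaf .leaf)) .leaf) (.node 2 6815802 (.node 0 9606356 .leaf (.node 2 165141 (.node 0 10495332 .leaf (.node 2 8398072 .leaf .leaf)) .leaf)) .leaf)) (.node 2 6322328 (.node 0 689233 (.node 0 3152904 (.node 0 4391296 (.node 0 45732 .leaf (.node 2 14254183 (.node 0 3264640 .leaf .leaf) .leaf)) (.node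 2 6300037 (.node 0 12747271 (.node 0 2157792 .leaf .leaf) .leaf) .leaf)) (.node 2 8782985 (.node 0 4483849 (.node 0 8946231 (.node 2 4598293 .leaf .leaf) (.node 2 5790234 .leaf .leaf)) (.node 2 3564560 (.node 0 4917322 (.node 2 4311425 (.node 0 11044117 .leaf .leaf) .leaf) (.node 2 13893785 .leaf .leaf)) .leaf)) .leaf)) (.node 2 4483121 (.node 0 8946694 (.node 0 15745227 .leaf (.node 2 4596232 (.node 0 295318 .leaf .leaf) .leaf)) (.node 2 924186 (.node 0 5243493 (.node 2 12878256 .leaf .leaf) .leaf) .leaf)) .leaf)) .leaf)) .leaf)) .leaf)) (.node 2 2155985 (.node 0 2761048 (.node 0 1189004 (.node 0 67686 (.node 0 4204741 (.node 0 305540 (.node 0 6299752 (.node 2 66222 (.node 2 823059 .leaf .leaf) .leaf) (.node 2 8619079 .leaf .leaf)) (.node 2 529778 (.node 2 4876608 (.node 0 1611298 .leaf (.node 2 9962547 .leaf .leaf)) .leaf) .leaf)) (.node 2 12325914 .leaf .leaf)) (.node 2 2361389 (.node 0 4330182 (.node 0 8422998 (.node 0 6320360 (.node 2 467848 .leaf .leaf)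 (.node 2 4196707 .leaf .leaf)) (.node 2 4329688 (.node 0 8423169 (.node 2 4195207 .leaf .leaf) (.node 2 459913 (.node 2 3564681 (.node 2 3563673 .leaf .leaf) .leaf) .leaf)) .leaf)) (.node 2 5243056 (.node 0 8499876 (.node 2 5275874 .leaf .leaf) .leaf) .leaf)) .leaf)) .leaf) (.node 2 576514 (.node 0 12324912 (.node 0 1262216 (.node 0 8984354 (.node 0 5521466 (.node 0 892196 (.node 0 11535519 .leaf (.node 2 9774593 .leaf .leaf)) .leaf) .leaf) (.node 2 935704 (.node 0 9962567 (.node 0 9520265 (.node 0 4803337 .leaf (.node 2 3565720 (.node 2 4483872 .leaf .leaf) .leaf)) (.node 2 541496 (.node 0 9971249 .leaf (.node 2 530200 .leaf .leaf)) .leaf)) (.node 2 2776328 (.node 0 1707548 (.node 0 5314624 .leaf .leaf) (.node 2 6322624 (.node 0 688471 (.node 2 8783492 .leaf .leaf) .leaf) .leaf)) .leaf)) .leaf)) (.node 2 10667473 (.node 0 2776066 (.node 0 1706577 (.node 0 5313160 (.node 0 100549 .leaf (.node 2 934938 .leaf .leaf)) (.node 2 10666049 .leaf .leaf)) (.node 2 95784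 (.node 0 4718935 (.node 0 5550628 .leaf (.node 2 13124192 (.node 2 9605270 .leaf .leaf) .leaf)) (.node 2 2761809 (.node 2 12587240 (.node 2 468740 .leaf .leaf) .leaf) .leaf)) .leaf)) (.node 2 4720654 (.node 2 4235872 (.node 0 2137184 (.node 0 2230286 .leaf .leaf) (.node 2 2261142 .leaf .leaf)) .leaf) .leaf)) .leaf)) (.node 2 271912 (.node 0 4460950 (.node 0 8430116 (.node 0 10506584 (.node 0 4876881 (.node 2 8524364 .leaf .leaf) (.node 2 96840 .leaf .leaf)) (.node 2 12640384 (.node 0 7127088 .leaf (.node 2 6324322 (.node 0 2527638 (.node 0 2237905 (.node 0 8524120 .leaf .leaf) (.node 2 1642022 .leaf .leaf)) .leaf) .leaf)) .leaf)) (.node 2 13124402 (.node 0 1631745 (.node 0 3738667 (.node 0 5440013 (.node 0 4555425 .leaf .leaf) (.node 2 7372822 .leaf .leaf)) (.node 2 8688514 (.node 0 2379914 (.node 0 9048092 (.node 2 19129 .leaf .leaf) .leaf) .leaf) .leaf)) (.node 2 9520704 (.node 2 9749170 (.node 2 4274976 .leaf .leaf) .leaf) .leaf)) .leaf)) (.node 2 2760732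 (.node 2 20243 .leaf .leaf) .leaf)) .leaf)) .leaf)) .leaf)) .leaf)) .leaf)) .leaf))

/-- The root of the suborbit of length 56. -/
def rootC : ℕ := 175380

/-- Its spanning tree. -/
def treeC : Tree := (.node 0 6291747 (.node 0 175121 (.node 0 6294000 (.node 2 1100448 (.node 0 6885386 (.node 0 1224257 .leaf .leaf) (.node 2 152770 (.node 2 13120124 .leaf .leaf) .leaf)) .leaf) (.node 2 51411 (.node 0 2894904 (.node 0 1181907 (.node 0 12656901 (.node 2 9240867 .leaf .leaf) (.node 2 11010083 .leaf .leaf)) .leaf) (.node 2 133763 (.node 0 8655142 .leaf (.node 2 10556872 (.node 2 2437164 .leaf .leaf) .leaf)) .leaf)) .leaf)) (.node 2 4522255 (.node 0 38546 (.node 0 14950697 (.node 0 193104 .leaf (.node 2 1201816 (.node 0 598021 .leaf .leaf) .leaf)) (.node 2 1076241 (.node 0 9240591 (.node 0 1076280 .leaf .leaf) .leaf) .leaf)) (.node 2 1086658 (.node 0 10555658 (.node 0 153032 (.node 2 2437376 .leaf .leaf) .leaf) (.node 2 1061500 (.node 2 601668 (.node 0 1061456 .leaf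 (.node 2 1201810 .leaf .leaf)) .leaf) .leaf)) .leaf)) .leaf)) (.node 2 51696 (.node 0 2891817 (.node 0 1181916 (.node 0 12656681 .leaf (.node 2 4524940 (.node 0 38836 (.node 0 14950405 .leaf .leaf) (.node 2 4985098 (.node 0 1086692 .leaf (.node 2 193360 (.node 0 11010319 .leaf (.node 2 1224260 .leaf .leaf)) .leaf)) .leaf)) .leaf)) .leaf) (.node 2 134028 (.node 0 8656820 (.node 0 28225 .leaf .leaf) (.node 2 4984870 (.node 2 13119532 (.node 0 1100419 (.node 0 6885670 .leaf .leaf) (.node 2 28520 .leaf .leaf)) .leaf) .leaf)) .leaf)) .leaf))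

/-- The root of the suborbit of length 42. -/
def rootD : ℕ := 1200138

/-- Its spanning tree. -/
def treeD : Tree := (.node 0 601665 (.node 0 1060908 (.node 0 4524675 (.node 0 37158 (.node 0 14950700 (.node 0 192768 (.node 2 1220613 .leaf .leaf) .leaf) (.node 2 1073193 (.node 0 9240876 .leaf .leaf) .leaf)) (.node 2 13768 (.node 0 13540 .leaf (.node 2 2437420 .leaf .leaf)) .leaf)) (.node 2 24873 (.node 0 13120080 (.node 0 1097763 (.node 0 6885676 .leaf .leaf) (.node 2 16232 .leaf .leaf)) .leaf) .leaf)) (.node 2 14260 (.node 0 15940 (.node 0 13136 (.node 0 15244 (.node 2 4985132 .leaf .leaf) .leaf) (.node 2 8656530 (.node 2 15636 .leaf .leaf) .leaf)) (.node 2 12656940 (.node 2 14832 (.node 2 11010348 .leaf .leaf) .leaf) .leaf)) .leaf)) (.node 2 172293 (.node 0 6293715 (.node 2 15008 (.node 0 13976 .leaf (.node 2 10556610 (.node 0 151818 .leaf (.node 2 12924 .leaf .leaf)) .leaf)) .leaf) (.node 2 49443 (.node 0 2894865 (.node 0 1179663 .leaf (.node 2 14556 (.node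 0 15416 .leaf .leaf) .leaf)) (.node 2 131343 (.node 2 1085478 .leaf .leaf) .leaf)) .leaf)) .leaf))

end CfsgLib.Sporadic.TrioData
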