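import Cfsg.Agent.Lib.Sporadic.M24Orbits

/-!
Data for the quotient of a trio stabiliser by its normal subgroup of order 64.
-/

set_option autoImplicit false

namespace CfsgLib.Sporadic.TrioQuotData

/-- Representatives of the seven refining sextets, indexed by non-zero vectors of length three. -/
def reps : List ℕ := [0, 8519683, 8921089, 8683521, 8429570, 9175042, 8790016, 9076736]

/-- Elements inducing transvections, with the pair of indices. -/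
def transv : List (ℕ × ℕ × List ℕ) := [(0, 1, [0, 1, 14, 5, 6, 3, 4, 10, 8, 12, 7, 22, 9, 15, 2, 13, 16, 17, 19, 18, 20, 21, 11, 23]), (0, 2, [1, 0, 14, 5, 12, 3, 9, 11, 16, 6, 22, 7, 4, 15, 2, 13, 8, 23, 19, 18, 21, 20, 10, 17]), (1, 0, [0, 15, 2, 16, 7, 5, 12, 4, 8, 10, 9, 22, 6, 13, 21, 1, 3, 18, 17, 19, 20, 14, 11, 23]), (1, 2, [15, 13, 2, 14, 6, 5, 9, 11, 8, 12, 22, 10, 4, 17, 3, 23, 21, 19, 0, 1, 20, 16, 7, 18]), (2, 0, [19, 1, 20, 14, 22, 2, 4, 11, 5, 12, 6, 9, 7, 13, 16, 15, 21, 18, 17, 0, 8, 3, 10, 23]), (2, 1, [17, 1, 3, 14, 7, 2, 10, 12, 16, 11, 9, 6, 22, 13, 5, 15, 21, 0, 19, 18, 8, 20, 4, 23])]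

/-- Elements inducing adjacent transpositions of the octads. -/
def swaps : List (List ℕ) := [[8, 16, 19, 15, 4, 13, 6, 7, 0, 9, 10, 11, 12, 5, 18, 3, 1, 21, 14, 2, 23, 17, 22, 20], [1, 0, 4, 6, 3, 9, 2, 21, 10, 14, 16, 20, 5, 18, 12, 19, 22, 23, 13, 15, 7, 11, 8, 17]]

end CfsgLib.Sporadic.TrioQuotData
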