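import Mathlib.Data.Matrix.Mul
import Mathlib.Data.ZMod.Basic
import Mathlib.Algebra.BigOperators.Ring.Finset
import Mathlib.Algebra.Ring.GeomSum
import Mathlib.Data.Nat.Bitwise
import Mathlib.Data.List.GetD
import Mathlib.Algebra.BigOperators.Fin
import Mathlib.Tactic.NormNum

/-!
# Square matrices over the field with five elements packed into one number each

An entry takes 32 bits. A product needs one multiplication of large numbers for each index of the sum, and
the reduction modulo five is one multiplication, one bitwise `and`, one division and one subtraction.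
-/

set_option autoImplicit false

namespace CfsgLib.Sporadic.WideMatrix

/-- The base of a lane. -/
def B : ℕ := 4294967296

/-- Pack lanes. -/
def P (L : ℕ) (f : ℕ → ℕ) : ℕ := ∑ l ∈ Finset.range L, f l * B ^ l

theorem B_pos : 0 < B := by norm_num [B]

theorem P_succ (L : ℕ) (f : ℕ → ℕ) : P (L + 1) f = f 0 + B * P L (fun l => f (l + 1)) := by
  rw [P, P, Finset.sum_range_succ', Finset.mul_sum, add_comm]
  simp only [pow_zero, mul_one, add_right_inj]
  exact Finset.sum_congr rfl fun k _ => by ring

theorem P_lt : ∀ (L : ℕ) (f : ℕ → ℕ), (∀ l < L, f l < B) → P L f < B ^ L := by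
  intro L
  induction L with
  | zero => intro f _; simp [P]
  | succ L ih =>
    intro f hf
    have h := ih (fun l => f (l + 1)) (fun l hl => hf _ (by omega))
    have h0 := hf 0 (by omega)
    rw [P_succ, pow_succ']
    calc f 0 + B * P L (fun l => f (l + 1)) < B + B * P L (fun l => f (l + 1)) := by omega
      _ = B * (P L (fun l => f (l + 1)) + 1) := by ring
      _ ≤ B * B ^ L := Nat.mul_le_mul_left _ h

theorem P_add (m k : ℕ) (f : ℕ → ℕ) : P (m + k) f = P m f + B ^ m * P k (fun l => f (m + l)) := by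
  rw [P, P, P, Finset.sum_range_add, Finset.mul_sum]
  congr 1
  exact Finset.sum_congr rfl fun l _ => by ring

theorem P_congr {L : ℕ} {f g : ℕ → ℕ} (h : ∀ l < L, f l = g l) : P L f = P L g :=
  Finset.sum_congr rfl fun l hl => by rw [h l (Finset.mem_range.1 hl)]

theorem P_add_fun (L : ℕ) (f g : ℕ → ℕ) : P L (fun l => f l + g l) = P L f + P L g := by
  simp only [P, add_mul, Finset.sum_add_distrib]

theorem P_const_mul (L c : ℕ) (f : ℕ → ℕ) : P L (fun l => c * f l) = c * P L f := by
  simp only [P, Finset.mul_sum, mul_assoc]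

theorem P_grid (m n : ℕ) (h : ℕ → ℕ) :
    P (m * n) h = ∑ i ∈ Finset.range m, P n (fun j => h (i * n + j)) * B ^ (i * n) := by
  induction m with
  | zero => simp [P]
  | succ m ih =>
    rw [add_mul, one_mul, P_add, ih, Finset.sum_range_succ]
    congr 1
    ring

theorem P_mod {m L : ℕ} (hm : m ≤ L) {f : ℕ → ℕ} (hf : ∀ l < m, f l < B) : P L f % B ^ m = P m f := by
  obtain ⟨k, rfl⟩ := Nat.exists_eq_add_of_le hm
  rw [P_add, Nat.add_mul_mod_self_left, Nat.mod_eq_of_lt (P_lt m f hf)]

theorem P_div {m L : ℕ} {f : ℕ → ℕ} (hf : ∀ l < m, f l < B) (hz : ∀ l, L ≤ l → f l = 0) :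
    P L f / B ^ m = P L (fun l => f (m + l)) := by
  have e : P (m + L) f = P L f := by
    rw [add_comm m L, P_add]
    simp [P, hz]
  rw [← e, P_add, Nat.add_mul_div_left _ _ (pow_pos B_pos m), Nat.div_eq_of_lt (P_lt m f hf), Nat.zero_add]

theorem land_P : ∀ (L : ℕ) (f g : ℕ → ℕ), (∀ l < L, f l < B) → (∀ l < L, g l < B) →
    P L f &&& P L g = P L (fun l => f l &&& g l) := by
  intro L
  induction L with
  | zero => intro f g _ _; simp [P]
  | succ L ih =>
    intro f g hf hg
    have hf0 := hf 0 (by omega)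
    have hg0 := hg 0 (by omega)
    have h := ih (fun l => f (l + 1)) (fun l => g (l + 1)) (fun l hl => hf _ (by omega)) (fun l hl => hg _ (by omega))
    have hB : B = 2 ^ 32 := by norm_num [B]
    rw [P_succ, P_succ, P_succ, ← h]
    have e1 : ((f 0 + B * P L fun l => f (l + 1)) &&& (g 0 + B * P L fun l => g (l + 1))) / B =
        (P L fun l => f (l + 1)) &&& (P L fun l => g (l + 1)) := by
      rw [hB] at hf0 hg0 ⊢
      rw [Nat.and_div_two_pow, Nat.add_mul_div_left _ _ (by norm_num), Nat.add_mul_div_left _ _ (by norm_num),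
        Nat.div_eq_of_lt hf0, Nat.div_eq_of_lt hg0, Nat.zero_add, Nat.zero_add]
    have e2 : ((f 0 + B * P L fun l => f (l + 1)) &&& (g 0 + B * P L fun l => g (l + 1))) % B =
        f 0 &&& g 0 := by
      rw [hB] at hf0 hg0 ⊢
      rw [Nat.and_mod_two_pow, Nat.add_mul_mod_self_left, Nat.add_mul_mod_self_left,
        Nat.mod_eq_of_lt hf0, Nat.mod_eq_of_lt hg0]
    rw [← Nat.mod_add_div ((f 0 + B * P L fun l => f (l + 1)) &&& (g 0 + B * P L fun l => g (l + 1))) B, e1, e2]

theorem geom_P (L : ℕ) : (B ^ L - 1) / (B - 1) = P L (fun _ => 1) := by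
  rw [← Nat.geomSum_eq (by norm_num [B])]
  simp [P]

/-- The upper halves of all lanes. -/
def highMask (L : ℕ) : ℕ := Nat.mul 4294901760 (Nat.div (Nat.sub (B ^ L) 1) (Nat.sub B 1))

theorem highMask_eq (L : ℕ) : highMask L = P L (fun _ => 4294901760) := by
  show 4294901760 * ((B ^ L - 1) / (B - 1)) = _
  rw [geom_P, ← P_const_mul]

theorem and_high {y : ℕ} (hy : y < B) : y &&& 4294901760 = 65536 * (y / 65536) := by
  have h1 : (y &&& 4294901760) % 2 ^ 16 = 0 := by rw [Nat.and_mod_two_pow]; simp
  have h2 : (y &&& 4294901760) / 2 ^ 16 = y / 65536 := by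
    rw [Nat.and_div_two_pow]
    have hy' : y / 65536 < 2 ^ 16 := by unfold B at hy; omega
    rw [show (4294901760 : ℕ) / 2 ^ 16 = 2 ^ 16 - 1 by norm_num, Nat.and_two_pow_sub_one_eq_mod,
      show (2 : ℕ) ^ 16 = 65536 by norm_num]
    exact Nat.mod_eq_of_lt hy'
  conv_lhs => rw [← Nat.mod_add_div (y &&& 4294901760) (2 ^ 16), h1, h2]
  norm_num

/-- Reduce all lanes modulo five. -/
def red (M x : ℕ) : ℕ := Nat.sub x (Nat.mul 5 (Nat.div (Nat.land (Nat.mul x 13108) M) 65536))

theorem red_P {L : ℕ} {f : ℕ → ℕ} (hf : ∀ l < L, f l < 16380) :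
    red (highMask L) (P L f) = P L (fun l => f l % 5) := by
  show P L f - 5 * ((P L f * 13108 &&& highMask L) / 65536) = _
  have e1 : P L f * 13108 = P L (fun l => 13108 * f l) := by rw [P_const_mul]; ring
  rw [e1, highMask_eq, land_P L _ _ (fun l hl => by have := hf l hl; show _ < B; unfold B; omega)
    (fun l _ => by norm_num [B])]
  rw [P_congr (f := fun l => 13108 * f l &&& 4294901760) (g := fun l => 65536 * (f l / 5)) (fun l hl => by
    have := hf l hl
    rw [and_high (show 13108 * f l < B by unfold B; omega)]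
    congr 1
    omega)]
  rw [P_const_mul, Nat.mul_div_cancel_left _ (by norm_num), ← P_const_mul]
  have e2 : P L f = P L (fun l => f l % 5) + P L (fun l => 5 * (f l / 5)) := by
    rw [← P_add_fun]
    exact P_congr fun l _ => (Nat.mod_add_div _ _).symm
  rw [e2, Nat.add_sub_cancel_right]

/-- Feed a numeral to a function. -/
noncomputable def forced (g : ℕ → ℕ) (m : ℕ) : ℕ :=
  Nat.rec (motive := fun _ => ℕ) (g 0) (fun k _ => g (k + 1)) m

theorem forced_eq (g : ℕ → ℕ) (m : ℕ) : forced g m = g m := by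
  cases m <;> rfl

variable (n : ℕ)

/-- The first column. -/
def colMask : ℕ := Nat.mul 4294967295 (Nat.div (Nat.sub ((B ^ n) ^ n) 1) (Nat.sub (B ^ n) 1))

theorem colMask_eq (hn : 0 < n) :
    colMask n = P (n * n) (fun l => if l % n = 0 then 4294967295 else 0) := by
  show 4294967295 * (((B ^ n) ^ n - 1) / (B ^ n - 1)) = _
  rw [← Nat.geomSum_eq (Nat.le_trans (show 2 ≤ B by norm_num [B]) (Nat.le_pow hn)), P_grid, Finset.mul_sum]
  refine Finset.sum_congr rfl fun i _ => ?_
  rw [← pow_mul, mul_comm i n]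
  congr 1
  rw [P, Finset.sum_eq_single 0]
  · simp
  · intro j hj hj0
    rw [if_neg, zero_mul]
    rw [Nat.mul_add_mod, Nat.mod_eq_of_lt (Finset.mem_range.1 hj)]
    exact hj0
  · simp [hn.ne']

/-- The product of a packed matrix with a list of packed rows, before reduction. -/
noncomputable def mulGo (A M : ℕ) (G : List ℕ) : ℕ → ℕ :=
  List.rec (motive := fun _ => ℕ → ℕ) (fun _ => 0)
    (fun g _ ih k => Nat.add (Nat.mul (Nat.land (Nat.div A (B ^ k)) M) g) (ih (Nat.succ k))) G

theorem mulGo_eq : ∀ (G : List ℕ) (A M k : ℕ),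
    mulGo A M G k = ∑ i ∈ Finset.range G.length, (A / B ^ (k + i) &&& M) * G.getD i 0 := by
  intro G
  induction G with
  | nil => intro A M k; rfl
  | cons g t ih =>
    intro A M k
    show (A / B ^ k &&& M) * g + mulGo A M t (Nat.succ k) = _
    rw [ih, List.length_cons, Finset.sum_range_succ', add_comm]
    congr 1
    exact Finset.sum_congr rfl fun i _ => by
      rw [List.getD_cons_succ, show k + (i + 1) = Nat.succ k + i by omega]

/-- The reduced product. -/
noncomputable def mul (A : ℕ) (G : List ℕ) : ℕ :=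
  forced (fun cm => forced (red (highMask (Nat.mul n n))) (mulGo A cm G 0)) (colMask n)

theorem mul_eq (A : ℕ) (G : List ℕ) :
    mul n A G = red (highMask (n * n)) (mulGo A (colMask n) G 0) := by
  rw [mul, forced_eq, forced_eq]
  rfl

/-- The product of a list of matrices, from the left. -/
noncomputable def prodW (L : List (List ℕ)) : ℕ → ℕ :=
  List.rec (motive := fun _ => ℕ → ℕ) (fun acc => acc) (fun G _ ih acc => forced ih (mul n acc G)) L

/-- The packed identity. -/
noncomputable def oneW : ℕ :=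
  Nat.rec (motive := fun _ => ℕ) 0 (fun i ih => Nat.add ih (B ^ Nat.add (Nat.mul i n) i)) n

/-- An entry of a row. -/
def lane (r j : ℕ) : ℕ := Nat.mod (Nat.div r (B ^ j)) B

/-- Reduced rows. -/
noncomputable def okRows (G : List ℕ) : Bool :=
  Nat.beq G.length n && G.all fun r =>
    Nat.beq (Nat.rec (motive := fun _ => ℕ) 0
      (fun j ih => Nat.add ih (Nat.mul (Nat.mod (lane r j) 5) (B ^ j))) n) r

/-- The matrix of packed rows. -/
def dec (G : List ℕ) : Matrix (Fin n) (Fin n) (ZMod 5) :=
  fun k j => ((lane (G.getD k 0) j : ℕ) : ZMod 5)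

/-- A number packing a matrix. -/
def Good (A : ℕ) (M : Matrix (Fin n) (Fin n) (ZMod 5)) : Prop :=
  ∃ f : ℕ → ℕ, (∀ l, f l < 5) ∧ (∀ l, n * n ≤ l → f l = 0) ∧ A = P (n * n) f ∧
    ∀ i j : Fin n, M i j = (f ((i : ℕ) * n + j) : ZMod 5)

theorem rec_P (h : ℕ → ℕ) : ∀ m, Nat.rec (motive := fun _ => ℕ) 0
    (fun j ih => Nat.add ih (Nat.mul (h j) (B ^ j))) m = P m h := by
  intro m
  induction m with
  | zero => rfl
  | succ m ih =>
    show _ + h m * B ^ m = _
    rw [ih, P, P, Finset.sum_range_succ]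

theorem row_of_ok {G : List ℕ} (h : okRows n G = true) :
    G.length = n ∧ ∀ k < n, G.getD k 0 = P n (fun j => lane (G.getD k 0) j % 5) ∧
      ∀ j < n, lane (G.getD k 0) j < 5 := by
  rw [okRows, Bool.and_eq_true, Nat.beq_eq] at h
  refine ⟨h.1, fun k hk => ?_⟩
  have hk' : k < G.length := by omega
  have := List.all_eq_true.1 h.2 _ (List.getElem_mem hk')
  rw [Nat.beq_eq] at this
  replace this := (rec_P (fun j => lane (G[k]) j % 5) n).symm.trans this
  rw [← List.getD_eq_getElem _ 0 hk'] at this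
  refine ⟨this.symm, fun j hj => ?_⟩
  set g : ℕ → ℕ := fun j => if j < n then lane (G.getD k 0) j % 5 else 0 with hg
  have e : G.getD k 0 = P n g := this.symm.trans (P_congr fun l hl => (if_pos hl).symm)
  have hb : ∀ l, g l < B := fun l => by
    simp only [hg]; split <;> simp only [B] <;> omega
  show G.getD k 0 / B ^ j % B < 5
  rw [e, P_div (fun l _ => hb l) (fun l hl => if_neg (by omega))]
  have h1 := P_mod (L := n) (f := fun l => g (j + l)) (m := 1) (by omega) (fun l _ => hb _)
  rw [pow_one] at h1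
  rw [h1]
  simp only [P, Finset.sum_range_one, pow_zero, mul_one, Nat.add_zero, hg, if_pos hj]
  exact Nat.mod_lt _ (by norm_num)

variable {n}

theorem Good.mul (hn : 0 < n) (hn' : n ≤ 1000) {A : ℕ} {M : Matrix (Fin n) (Fin n) (ZMod 5)} (hA : Good n A M)
    {G : List ℕ} (hG : okRows n G = true) : Good n (WideMatrix.mul n A G) (M * dec n G) := by
  obtain ⟨f, hf5, hfz, rfl, hM⟩ := hA
  obtain ⟨hlen, hrow⟩ := row_of_ok n hG
  have hfB : ∀ l, f l < B := fun l => lt_trans (hf5 l) (by norm_num [B])
  let h : ℕ → ℕ := fun l => ∑ k ∈ Finset.range n, f (l / n * n + k) * lane (G.getD k 0) (l % n)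
  have hb : ∀ l < n * n, h l < 16380 := fun l hl => by
    refine lt_of_le_of_lt (Finset.sum_le_card_nsmul _ _ 16 fun k hk => ?_) (by simp; omega)
    exact Nat.mul_le_mul (Nat.le_of_lt_succ (hf5 _))
      (Nat.le_of_lt_succ ((hrow k (Finset.mem_range.1 hk)).2 _ (Nat.mod_lt _ hn)))
  have hcol : ∀ k < n, P (n * n) f / B ^ k &&& colMask n =
      ∑ i ∈ Finset.range n, f (i * n + k) * B ^ (i * n) := by
    intro k hk
    rw [P_div (fun l _ => hfB l) hfz, colMask_eq n hn,
      land_P _ _ _ (fun l _ => hfB _) (fun l _ => by split <;> norm_num [B]), P_grid]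
    refine Finset.sum_congr rfl fun i _ => ?_
    congr 1
    rw [P, Finset.sum_eq_single 0]
    · simp only [Nat.add_zero, Nat.mul_mod_left, if_true, pow_zero, mul_one]
      rw [show (4294967295 : ℕ) = 2 ^ 32 - 1 by norm_num, Nat.and_two_pow_sub_one_eq_mod,
        Nat.mod_eq_of_lt (show f (k + i * n) < 2 ^ 32 from hfB _), add_comm]
    · intro j hj hj0
      rw [if_neg, Nat.and_zero, zero_mul]
      rw [Nat.mul_add_mod_self_right, Nat.mod_eq_of_lt (Finset.mem_range.1 hj)]
      exact hj0
    · simp [hn.ne']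
  have e : mulGo (P (n * n) f) (colMask n) G 0 = P (n * n) h := by
    rw [mulGo_eq, hlen]
    have : ∀ k ∈ Finset.range n, (P (n * n) f / B ^ (0 + k) &&& colMask n) * G.getD k 0 =
        ∑ i ∈ Finset.range n, (∑ j ∈ Finset.range n,
          f (i * n + k) * lane (G.getD k 0) j * B ^ j) * B ^ (i * n) := by
      intro k hk
      have hk' := Finset.mem_range.1 hk
      rw [Nat.zero_add, hcol k hk', Finset.sum_mul]
      refine Finset.sum_congr rfl fun i _ => ?_
      conv_lhs => rw [(hrow k hk').1, P, Finset.mul_sum]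
      rw [Finset.sum_mul]
      refine Finset.sum_congr rfl fun j hj => ?_
      rw [Nat.mod_eq_of_lt ((hrow k hk').2 j (Finset.mem_range.1 hj))]
      ring
    rw [Finset.sum_congr rfl this, Finset.sum_comm, P_grid n n h]
    refine Finset.sum_congr rfl fun i _ => ?_
    rw [← Finset.sum_mul, Finset.sum_comm, P]
    congr 1
    refine Finset.sum_congr rfl fun j hj => ?_
    have hj' := Finset.mem_range.1 hj
    simp only [h, Finset.sum_mul, Nat.mul_add_mod_self_right, Nat.mod_eq_of_lt hj']
    rw [mul_comm i n, Nat.mul_add_div hn, Nat.div_eq_of_lt hj', Nat.add_zero]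
    simp only [mul_comm n i]
  refine ⟨fun l => if l < n * n then h l % 5 else 0, fun l => ?_, fun l hl => if_neg (by omega), ?_,
    fun i j => ?_⟩
  · dsimp only
    split
    · exact Nat.mod_lt _ (by norm_num)
    · norm_num
  · rw [mul_eq, e, red_P hb]
    exact P_congr fun l hl => (if_pos hl).symm
  · have hl : (i : ℕ) * n + j < n * n := by
      have := Nat.mul_le_mul_right n (Nat.succ_le_of_lt i.2)
      rw [Nat.succ_mul] at this
      have := j.2
      omega
    dsimp only
    rw [if_pos hl, ZMod.natCast_mod, Matrix.mul_apply]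
    simp only [h, Nat.cast_sum, Nat.cast_mul, dec, hM]
    rw [mul_comm (i : ℕ) n, Nat.mul_add_div hn, Nat.div_eq_of_lt j.2, Nat.add_zero, Nat.mul_add_mod,
      Nat.mod_eq_of_lt j.2, Finset.sum_range]
    simp only [mul_comm n (i : ℕ)]

theorem Good.prodW (hn : 0 < n) (hn' : n ≤ 1000) : ∀ (L : List (List ℕ)), (∀ G ∈ L, okRows n G = true) →
    ∀ {A : ℕ} {M : Matrix (Fin n) (Fin n) (ZMod 5)}, Good n A M →
      Good n (WideMatrix.prodW n L A) (M * (L.map (dec n)).prod) := by
  intro L
  induction L with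
  | nil => intro _ A M hA; show Good n A _; simpa using hA
  | cons G t ih =>
    intro hL A M hA
    show Good n (forced (WideMatrix.prodW n t) (WideMatrix.mul n A G)) _
    rw [forced_eq, List.map_cons, List.prod_cons, ← mul_assoc]
    exact ih (fun H hH => hL H (List.mem_cons_of_mem _ hH)) (hA.mul hn hn' (hL G List.mem_cons_self))

theorem good_one : Good n (oneW n) 1 := by
  have e : ∀ m, Nat.rec (motive := fun _ => ℕ) 0 (fun i ih => Nat.add ih (B ^ Nat.add (Nat.mul i n) i)) m =
      ∑ i ∈ Finset.range m, B ^ (i * n + i) := by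
    intro m
    induction m with
    | zero => rfl
    | succ m ih => show _ + B ^ (m * n + m) = _; rw [ih, Finset.sum_range_succ]
  refine ⟨fun l => if l < n * n ∧ l / n = l % n then 1 else 0, fun l => by dsimp only; split <;> norm_num,
    fun l hl => if_neg (by omega), ?_, fun i j => ?_⟩
  · rw [show oneW n = _ from e n, P_grid]
    refine Finset.sum_congr rfl fun i hi => ?_
    have hi' := Finset.mem_range.1 hi
    have hn : 0 < n := by omega
    rw [P, Finset.sum_eq_single i]
    · rw [if_pos, one_mul, ← pow_add, add_comm]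
      refine ⟨?_, by rw [mul_comm i n, Nat.mul_add_div hn, Nat.div_eq_of_lt hi', Nat.add_zero, Nat.mul_add_mod,
        Nat.mod_eq_of_lt hi']⟩
      have := Nat.mul_le_mul_right n (Nat.succ_le_of_lt hi')
      rw [Nat.succ_mul] at this
      omega
    · intro j hj hji
      have hj' := Finset.mem_range.1 hj
      rw [if_neg, zero_mul]
      rintro ⟨-, h⟩
      rw [mul_comm i n, Nat.mul_add_div hn, Nat.div_eq_of_lt hj', Nat.add_zero, Nat.mul_add_mod,
        Nat.mod_eq_of_lt hj'] at h
      exact hji h.symm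
    · intro h; exact absurd hi h
  · have hn : 0 < n := lt_of_le_of_lt (Nat.zero_le _) i.2
    have hl : (i : ℕ) * n + j < n * n := by
      have := Nat.mul_le_mul_right n (Nat.succ_le_of_lt i.2)
      rw [Nat.succ_mul] at this
      have := j.2
      omega
    dsimp only
    rw [Matrix.one_apply]
    rw [mul_comm (i : ℕ) n, Nat.mul_add_div hn, Nat.div_eq_of_lt j.2, Nat.add_zero, Nat.mul_add_mod,
      Nat.mod_eq_of_lt j.2]
    by_cases h : i = j
    · subst h; rw [if_pos rfl, if_pos ⟨by rw [mul_comm]; exact hl, rfl⟩, Nat.cast_one]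
    · rw [if_neg h, if_neg (fun c => h (Fin.ext c.2)), Nat.cast_zero]

/-- The check that a product of matrices is one. -/
noncomputable def isOne (n : ℕ) (L : List (List ℕ)) : Bool :=
  Nat.beq (forced (WideMatrix.prodW n L) (oneW n)) (oneW n)

theorem isOne_spec (hn : 0 < n) (hn' : n ≤ 1000) {L : List (List ℕ)} (hL : ∀ G ∈ L, okRows n G = true)
    (h : isOne n L = true) : (L.map (dec n)).prod = 1 := by
  rw [isOne, Nat.beq_eq, forced_eq] at h
  obtain ⟨f, hf5, hfz, hP, hM⟩ := good_one (n := n)
  obtain ⟨g, hg5, hgz, hgP, hgM⟩ := (good_one (n := n)).prodW hn hn' L hL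
  rw [one_mul] at hgM
  rw [h, hP] at hgP
  have hfg : ∀ l < n * n, f l = g l := by
    intro l hl
    have key : ∀ (F : ℕ → ℕ), (∀ m, F m < 5) → (∀ m, n * n ≤ m → F m = 0) →
        P (n * n) F / B ^ l % B = F l := by
      intro F h5 hz
      have hb : ∀ m, F m < B := fun m => lt_trans (h5 m) (by norm_num [B])
      rw [P_div (fun m _ => hb m) hz]
      have h1 := P_mod (L := n * n) (f := fun m => F (l + m)) (m := 1) (by omega) (fun m _ => hb _)
      rw [pow_one] at h1
      rw [h1]
      simp [P]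
    rw [← key f hf5 hfz, ← key g hg5 hgz, hgP]
  ext i j
  have hl : (i : ℕ) * n + j < n * n := by
    have := Nat.mul_le_mul_right n (Nat.succ_le_of_lt i.2)
    rw [Nat.succ_mul] at this
    have := j.2
    omega
  rw [hgM i j, hM i j, hfg _ hl]

end CfsgLib.Sporadic.WideMatrix
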